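import Groth.Agent.Dual22Lib.BCModule
import Groth.Agent.TorB16.Balance
import Mathlib.AlgebraicGeometry.Morphisms.Flat

/-!
# Tor independence conditions for base change
-/

set_option autoImplicit false
set_option backward.isDefEq.respectTransparency false
set_option linter.style.haveILetI false
set_option synthInstance.maxHeartbeats 100000

universe u

open CategoryTheory CategoryTheory.Limits MonoidalCategory AlgebraicGeometry

namespace Groth.Agent.Dual22Lib.BCTor

variable {A B C : CommRingCat.{u}}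

theorem torZero_congr (φ : A →+* B) {N N' : ModuleCat.{u} A} (e : N ≅ N') (h : BCModule.TorZero φ N) :
    BCModule.TorZero φ N' := by
  intro i hi
  letI := φ.toModule
  haveI : Subsingleton (((CategoryTheory.Tor (ModuleCat.{u} A) i).obj (ModuleCat.of A B)).obj N) := h i hi
  exact (((CategoryTheory.Tor (ModuleCat.{u} A) i).obj (ModuleCat.of A B)).mapIso e).toLinearEquiv.symm.toEquiv.subsingleton

theorem torZero_of_flat_right (φ : A →+* B) (N : ModuleCat.{u} A) [Module.Flat A N] :
    BCModule.TorZero φ N := by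
  intro i hi
  letI := φ.toModule
  obtain ⟨n, rfl⟩ : ∃ n, i = n + 1 := ⟨i - 1, by omega⟩
  let P := projectiveResolution (ModuleCat.of A B)
  obtain ⟨e⟩ := TorB16.balance P (n + 1) N
  haveI := ModuleCat.subsingleton_of_isZero (TorB16.isZero_of_flat P N n)
  exact e.toEquiv.subsingleton

theorem torZero_of_flat_left (φ : A →+* B) (hφ : φ.Flat) (N : ModuleCat.{u} A) :
    BCModule.TorZero φ N := by
  intro i hi
  letI := φ.toModule
  haveI : Module.Flat A (ModuleCat.of A B) := hφ
  obtain ⟨n, rfl⟩ : ∃ n, i = n + 1 := ⟨i - 1, by omega⟩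
  let P := ProjectiveResolution.of N
  have hz : IsZero ((((tensorLeft (ModuleCat.of A B)).mapHomologicalComplex _).obj P.complex).homology (n + 1)) := by
    rw [← HomologicalComplex.exactAt_iff_isZero_homology,
      HomologicalComplex.exactAt_iff' _ (n + 2) (n + 1) n (by simp) (by simp)]
    exact (ShortComplex.ShortExact.moduleCat_exact_iff_function_exact _).2
      (Module.Flat.lTensor_exact (ModuleCat.of A B) (TorB16.exact_succ' P n))
  exact ModuleCat.subsingleton_of_isZero (hz.of_iso (P.isoLeftDerivedObj (tensorLeft (ModuleCat.of A B)) (n + 1)))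

/-- Tor independence of a map to an affine scheme against a ring map. -/
def TorSrc {Z : Scheme.{u}} (φ : A ⟶ B) (f : Z ⟶ Spec A) : Prop :=
  ∀ (C : CommRingCat.{u}) (c : Spec C ⟶ Z) [IsOpenImmersion c] (ψ : A ⟶ C), Spec.map ψ = c ≫ f →
    BCModule.TorZero φ.hom ((ModuleCat.restrictScalars.{u} ψ.hom).obj (ModuleCat.of C C))

theorem torSrc_of_comp {Z U : Scheme.{u}} (φ : A ⟶ B) {f : Z ⟶ Spec A} (j : U ⟶ Z) [IsOpenImmersion j]
    (h : TorSrc φ f) : TorSrc φ (j ≫ f) :=
  fun C c _ ψ hψ => h C (c ≫ j) ψ (by rw [hψ, Category.assoc])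

theorem torSrc_of_flat {Z : Scheme.{u}} (φ : A ⟶ B) (f : Z ⟶ Spec A) [Flat f] : TorSrc φ f := by
  intro C c _ ψ hψ
  haveI : Flat (Spec.map ψ) := hψ ▸ inferInstance
  have hf : ψ.hom.Flat := (HasRingHomProperty.Spec_iff (P := @Flat)).1 inferInstance
  haveI : Module.Flat A ((ModuleCat.restrictScalars.{u} ψ.hom).obj (ModuleCat.of C C)) := hf
  exact torZero_of_flat_right _ _

theorem torSrc_of_flat_base {Z : Scheme.{u}} (φ : A ⟶ B) (hφ : φ.hom.Flat) (f : Z ⟶ Spec A) : TorSrc φ f :=
  fun _ _ _ _ _ => torZero_of_flat_left _ hφ _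

/-- Transport of Tor vanishing along an algebra isomorphism. -/
theorem torZero_of_iso {C' : CommRingCat.{u}} (φ : A →+* B) (ψ : A ⟶ C) (σ : C ⟶ C') [IsIso σ]
    (h : BCModule.TorZero φ ((ModuleCat.restrictScalars.{u} ψ.hom).obj (ModuleCat.of C C))) :
    BCModule.TorZero φ ((ModuleCat.restrictScalars.{u} (ψ ≫ σ).hom).obj (ModuleCat.of C' C')) := by
  letI := ψ.hom.toAlgebra
  letI := (ψ ≫ σ).hom.toAlgebra
  let e : C ≃ₗ[A] C' := LinearEquiv.ofBijective
    { toFun := fun x => σ.hom x
      map_add' := fun x y => map_add σ.hom x y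
      map_smul' := fun a x => by
        show σ.hom (ψ.hom a * x) = σ.hom (ψ.hom a) * σ.hom x
        exact map_mul σ.hom _ _ } (ConcreteCategory.bijective_of_isIso σ)
  exact torZero_congr φ (LinearEquiv.toModuleIso e) h

theorem torSrc_pullback_of_appLE {X Y : Scheme.{u}} {B : CommRingCat.{u}} (f : X ⟶ Y) {U : Y.Opens} (hU : IsAffineOpen U)
    (φ : Γ(Y, U) ⟶ B)
    (h : ∀ (V : X.Opens), IsAffineOpen V → ∀ hV : V ≤ f ⁻¹ᵁ U,
      BCModule.TorZero φ.hom ((ModuleCat.restrictScalars.{u} (f.appLE U V hV).hom).obj (ModuleCat.of Γ(X, V) Γ(X, V))))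
    {XU : Scheme.{u}} {aX : XU ⟶ X} {fU : XU ⟶ Spec Γ(Y, U)} [IsOpenImmersion aX]
    (w : aX ≫ f = fU ≫ hU.fromSpec) : TorSrc φ fU := by
  intro C c _ ψ hψ
  let c' := c ≫ aX
  have hV : IsAffineOpen c'.opensRange := isAffineOpen_opensRange c'
  have hle : c'.opensRange ≤ f ⁻¹ᵁ U := by
    rintro x ⟨z, rfl⟩
    show f.base (c'.base z) ∈ U
    rw [← Scheme.Hom.comp_apply, show c' ≫ f = c ≫ fU ≫ hU.fromSpec by simp only [c', Category.assoc, w],
      Scheme.Hom.comp_apply]
    have hm : hU.fromSpec ((c ≫ fU) z) ∈ hU.fromSpec.opensRange := ⟨_, rfl⟩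
    rw [IsAffineOpen.opensRange_fromSpec] at hm
    exact hm
  have hr : Set.range c' ⊆ Set.range hV.fromSpec := by rw [hV.range_fromSpec]; rfl
  let cL := IsOpenImmersion.lift hV.fromSpec c' hr
  haveI : IsIso cL := by
    haveI : IsOpenImmersion (cL ≫ hV.fromSpec) := by rw [IsOpenImmersion.lift_fac]; infer_instance
    haveI : IsOpenImmersion cL := IsOpenImmersion.of_comp cL hV.fromSpec
    haveI : Epi cL.base := by
      rw [TopCat.epi_iff_surjective]
      intro y
      obtain ⟨z, hz⟩ : hV.fromSpec y ∈ Set.range c' := by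
        rw [show Set.range c' = Set.range hV.fromSpec by rw [hV.range_fromSpec]; rfl]
        exact ⟨y, rfl⟩
      refine ⟨z, hV.fromSpec.isOpenEmbedding.injective ?_⟩
      rw [← hz]
      exact congrArg (fun t => t.base z) (IsOpenImmersion.lift_fac hV.fromSpec c' hr)
    exact IsOpenImmersion.isIso cL
  let σ := Spec.preimage cL
  haveI : IsIso σ := by
    haveI : IsIso (Spec.map σ) := by rw [Spec.map_preimage]; infer_instance
    haveI : IsIso (Scheme.Spec.map σ.op) := ‹IsIso (Spec.map σ)›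
    haveI : IsIso σ.op := isIso_of_reflects_iso σ.op Scheme.Spec
    exact isIso_of_op σ
  have hψ' : ψ = f.appLE U c'.opensRange hle ≫ σ := by
    refine Spec.map_injective ((cancel_mono hU.fromSpec).1 ?_)
    rw [Spec.map_comp, Category.assoc, IsAffineOpen.SpecMap_appLE_fromSpec f hU hV, Spec.map_preimage,
      IsOpenImmersion.lift_fac_assoc, hψ, Category.assoc, ← w]
    simp [c']
  rw [hψ']
  exact torZero_of_iso _ _ σ (h _ hV hle)

end Groth.Agent.Dual22Lib.BCTor
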