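import Mathlib.AlgebraicGeometry.Morphisms.QuasiSeparated
import Mathlib.AlgebraicGeometry.Morphisms.Affine

/-!
# Induction on quasi-compact quasi-separated schemes
-/

set_option autoImplicit false
set_option linter.style.haveILetI false
set_option linter.unusedSectionVars false

universe u

open CategoryTheory CategoryTheory.Limits AlgebraicGeometry TopologicalSpace

namespace Groth.Agent.Dual22Lib.OpenInduct

/-- The gluing step. -/
def SupStep (P : Scheme.{u} → Prop) : Prop :=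
  ∀ (T : Scheme.{u}) [QuasiSeparatedSpace T] {U V : T.Opens} (_ : U ⊔ V = ⊤) [QuasiCompact U.ι] [QuasiCompact V.ι]
    [QuasiCompact (U ⊓ V).ι], P (U : Scheme.{u}) → P (V : Scheme.{u}) → P ((U ⊓ V : T.Opens) : Scheme.{u}) → P T

variable {P : Scheme.{u} → Prop} {X : Scheme.{u}}

/-- The property, for all open subschemes with a given range. -/
def At (P : Scheme.{u} → Prop) {X : Scheme.{u}} (O : X.Opens) : Prop :=
  ∀ (T : Scheme.{u}) (j : T ⟶ X) [IsOpenImmersion j], j.opensRange = O → P T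

theorem at_of_isAffineOpen (haff : ∀ (T : Scheme.{u}), IsAffine T → P T) {O : X.Opens} (hO : IsAffineOpen O) :
    At P O := by
  intro T j _ hj
  haveI : IsAffine T := by
    haveI : IsAffine j.opensRange := hj ▸ hO
    exact .of_isIso j.isoOpensRange.hom
  exact haff T inferInstance

theorem at_bot (hbot : ∀ (T : Scheme.{u}), IsEmpty T → P T) : At P (⊥ : X.Opens) := by
  intro T j _ hj
  exact hbot T ⟨fun t => by
    have : j t ∈ (⊥ : X.Opens) := hj ▸ ⟨t, rfl⟩
    exact this⟩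

theorem at_sup (hsup : SupStep P) [QuasiSeparatedSpace X] {O₁ O₂ : X.Opens} (h₁c : IsCompact (O₁ : Set X))
    (h₂c : IsCompact (O₂ : Set X)) (h₁ : At P O₁) (h₂ : At P O₂) (h₁₂ : At P (O₁ ⊓ O₂)) :
    At P (O₁ ⊔ O₂) := by
  intro T j _ hj
  haveI : QuasiSeparatedSpace T := QuasiSeparatedSpace.of_isOpenEmbedding j.isOpenEmbedding
  have hr : ∀ O : X.Opens, O ≤ O₁ ⊔ O₂ → ((j ⁻¹ᵁ O).ι ≫ j).opensRange = O := fun O hO => by
    rw [Scheme.Hom.opensRange_comp, Scheme.Opens.opensRange_ι, Scheme.Hom.image_preimage_eq_opensRange_inf, hj]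
    exact inf_eq_right.2 hO
  have hc : ∀ O : X.Opens, O ≤ O₁ ⊔ O₂ → IsCompact (O : Set X) → QuasiCompact (j ⁻¹ᵁ O).ι := fun O hO hOc => by
    haveI : CompactSpace (j ⁻¹ᵁ O) := isCompact_iff_compactSpace.1 (j.isOpenEmbedding.isInducing.isCompact_iff.2 (by
      rwa [show (⇑j '' ((j ⁻¹ᵁ O : T.Opens) : Set T)) = (O : Set X) from Set.image_preimage_eq_iff.2 (by
        change (O : Set X) ⊆ (j.opensRange : Set X)
        rw [hj]
        exact hO)]))
    infer_instance
  have h12c : IsCompact ((O₁ ⊓ O₂ : X.Opens) : Set X) :=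
    QuasiSeparatedSpace.inter_isCompact _ _ O₁.2 h₁c O₂.2 h₂c
  have he : (j ⁻¹ᵁ O₁) ⊓ (j ⁻¹ᵁ O₂) = j ⁻¹ᵁ (O₁ ⊓ O₂) := rfl
  haveI := hc O₁ le_sup_left h₁c
  haveI := hc O₂ le_sup_right h₂c
  haveI : QuasiCompact ((j ⁻¹ᵁ O₁) ⊓ (j ⁻¹ᵁ O₂)).ι := he ▸ hc _ (inf_le_left.trans le_sup_left) h12c
  refine hsup _ (U := j ⁻¹ᵁ O₁) (V := j ⁻¹ᵁ O₂) ?_ (h₁ _ _ (hr _ le_sup_left)) (h₂ _ _ (hr _ le_sup_right))
    (he.symm ▸ h₁₂ _ _ (hr _ (inf_le_left.trans le_sup_left)))
  rw [← Scheme.Hom.preimage_sup, ← hj, Scheme.Hom.preimage_opensRange]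

theorem at_of_affine (haff : ∀ (T : Scheme.{u}), IsAffine T → P T) (hbot : ∀ (T : Scheme.{u}), IsEmpty T → P T) (hsup : SupStep P) [IsAffine X] {O : X.Opens} (hO : IsCompact (O : Set X)) : At P O := by
  obtain ⟨s, hs, he⟩ := isCompact_and_isOpen_iff_finite_and_eq_biUnion_basicOpen.1 ⟨hO, O.2⟩
  obtain rfl : O = ⨆ i ∈ s, X.basicOpen i := Opens.ext (by simpa using he)
  clear he hO
  suffices H : ∀ g : Γ(X, ⊤), At P ((⨆ i ∈ s, X.basicOpen i) ⊓ X.basicOpen g) by
    simpa using H 1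
  induction s, hs using Set.Finite.induction_on with
  | empty => exact fun g => by simpa using at_bot hbot
  | @insert a s _ hs ih =>
    intro g
    rw [iSup_insert, inf_sup_right]
    have hc : IsCompact (((⨆ i ∈ s, X.basicOpen i) ⊓ X.basicOpen g : X.Opens) : Set X) := by
      refine QuasiSeparatedSpace.inter_isCompact _ _ (Opens.isOpen _) ?_ (Opens.isOpen _)
        ((isAffineOpen_top X).basicOpen g).isCompact
      simp only [Opens.coe_iSup]
      exact hs.isCompact_biUnion fun i _ => ((isAffineOpen_top X).basicOpen i).isCompact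
    refine at_sup hsup ?_ hc ?_ (ih g) ?_
    · rw [← Scheme.basicOpen_mul]
      exact ((isAffineOpen_top X).basicOpen _).isCompact
    · rw [← Scheme.basicOpen_mul]
      exact at_of_isAffineOpen haff ((isAffineOpen_top X).basicOpen _)
    · have := ih (a * g)
      rw [Scheme.basicOpen_mul] at this
      convert this using 1
      ext x
      simp
      tauto

theorem at_of_le_affine (haff : ∀ (T : Scheme.{u}), IsAffine T → P T) (hbot : ∀ (T : Scheme.{u}), IsEmpty T → P T) (hsup : SupStep P) [QuasiSeparatedSpace X] {W O : X.Opens} (hW : IsAffineOpen W) (hOW : O ≤ W)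
    (hO : IsCompact (O : Set X)) : At P O := by
  intro T j _ hj
  haveI : IsAffine W := hW
  have hle : Set.range j ⊆ Set.range W.ι := by
    rw [Scheme.Opens.range_ι]
    intro x hx
    exact hOW (hj ▸ hx)
  let j' := IsOpenImmersion.lift W.ι j hle
  haveI : IsOpenImmersion j' := by
    have : IsOpenImmersion (j' ≫ W.ι) := by rw [IsOpenImmersion.lift_fac]; infer_instance
    exact IsOpenImmersion.of_comp j' W.ι
  refine at_of_affine haff hbot hsup (O := W.ι ⁻¹ᵁ O) ?_ T j' ?_
  · refine W.ι.isOpenEmbedding.isInducing.isCompact_iff.2 ?_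
    rwa [show (⇑W.ι '' ((W.ι ⁻¹ᵁ O : (W : Scheme.{u}).Opens) : Set W)) = (O : Set X) from
      Set.image_preimage_eq_iff.2 (by rw [Scheme.Opens.range_ι]; exact hOW)]
  · refine (W.ι.preimage_image_eq j'.opensRange).symm.trans (congrArg (W.ι ⁻¹ᵁ ·) ?_)
    rw [← Scheme.Hom.opensRange_comp]
    simp [j', hj]

/-- Induction on quasi-compact quasi-separated schemes. -/
theorem scheme_induction (haff : ∀ (T : Scheme.{u}), IsAffine T → P T) (hbot : ∀ (T : Scheme.{u}), IsEmpty T → P T)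
    (hsup : SupStep P) [CompactSpace X] [QuasiSeparatedSpace X] : P X := by
  have h : ∀ O : X.Opens, IsCompact (O : Set X) → At P O := fun O hO => by
    refine compact_open_induction_on (P := At P) O hO (at_bot hbot) fun S hS U ih => ?_
    exact at_sup hsup hS U.2.isCompact ih (at_of_isAffineOpen haff U.2)
        (at_of_le_affine haff hbot hsup U.2 inf_le_right (QuasiSeparatedSpace.inter_isCompact _ _ S.2 hS U.1.2 U.2.isCompact))
  exact h ⊤ isCompact_univ X (𝟙 X) (Scheme.Hom.opensRange_of_isIso _)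

end Groth.Agent.Dual22Lib.OpenInduct
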