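import Groth.Agent.Dual22Lib.BCAffine
import Groth.Agent.Dual22Lib.BCTor
import Groth.Agent.Dual22Lib.OpenInduct

/-!
# Base change for tor independent squares
-/

set_option autoImplicit false
set_option backward.isDefEq.respectTransparency false
set_option linter.style.haveILetI false
set_option linter.unusedSectionVars false
set_option synthInstance.maxHeartbeats 100000

universe u

open CategoryTheory CategoryTheory.Limits AlgebraicGeometry TopologicalSpace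
open Groth.Agent.DCat Groth.Agent.DCat.PerfLocal Groth.Agent.Dual22Lib.BCSquare Groth.Agent.Dual22Lib.BCTor

attribute [local instance] HasDerivedCategory.standard

namespace Groth.Agent.Dual22Lib.BCMain

/-- Base change holds for all tor independent squares over affine bases with the given source. -/
def GoodSrc (Z : Scheme.{u}) : Prop :=
  ∀ (A B : CommRingCat.{u}) (φ : A ⟶ B) (f : Z ⟶ Spec A) (X' : Scheme.{u}) (f' : X' ⟶ Spec B) (g' : X' ⟶ Z),
    IsPullback g' f' f (Spec.map φ) → TorSrc φ f → Good f (Spec.map φ) f' g'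

theorem goodSrc_affine (Z : Scheme.{u}) [IsAffine Z] : GoodSrc Z := by
  intro A B φ f X' f' g' hsq htor
  let j : Spec Γ(Z, ⊤) ⟶ Z := Z.isoSpec.inv
  let ψ : A ⟶ Γ(Z, ⊤) := Spec.preimage (j ≫ f)
  have hψ : Spec.map ψ = j ≫ f := Spec.map_preimage _
  have hj : IsPullback (pullback.fst j g') (pullback.snd j g') j g' := IsPullback.of_hasPullback j g'
  refine good_of_iso j hj.w ?_ ?_
  · rw [← hψ]
    exact BCAffine.good_affine φ ψ (hψ.symm ▸ hj.paste_vert hsq) (htor _ j ψ hψ)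
  · refine good_of_cover hj fun y => ?_
    obtain ⟨W, hW, hy, -⟩ := exists_isAffineOpen_mem_and_subset (show y ∈ (⊤ : X'.Opens) from trivial)
    let θ : Γ(Z, ⊤) ⟶ Γ(X', W) := Spec.preimage (IsAffineOpen.fromSpec hW ≫ g' ≫ Z.isoSpec.hom)
    refine ⟨Spec Γ(Z, ⊤), Spec Γ(X', W), j, IsAffineOpen.fromSpec hW, Spec.map θ, inferInstance, inferInstance,
      Spec Γ(Z, ⊤), _, 𝟙 _, 𝟙 _, pullback.fst (𝟙 _) (Spec.map θ), pullback.snd (𝟙 _) (Spec.map θ),
      ?_, ?_, ?_, IsPullback.of_hasPullback _ _, ?_⟩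
    · simp [θ, j]
    · rw [hW.opensRange_fromSpec]
      exact hy
    · exact IsPullback.of_horiz_isIso ⟨by simp⟩
    · rw [← Spec.map_id]
      refine BCAffine.good_affine θ (𝟙 _) (by rw [Spec.map_id]; exact IsPullback.of_hasPullback _ _) ?_
      haveI : Module.Flat Γ(Z, ⊤) ((ModuleCat.restrictScalars.{u} (𝟙 Γ(Z, ⊤) : _ ⟶ _).hom).obj
          (ModuleCat.of Γ(Z, ⊤) Γ(Z, ⊤))) := Module.Flat.self
      exact torZero_of_flat_right _ _

/-- Base change for an open immersion along any map. -/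
theorem good_openImm {U Z X' : Scheme.{u}} (j : U ⟶ Z) [IsOpenImmersion j] (g : X' ⟶ Z) {U' : Scheme.{u}}
    {j' : U' ⟶ X'} {g'' : U' ⟶ U} (hsq : IsPullback g'' j' j g)
    (hloc : ∀ z : Z, ∃ (C : CommRingCat.{u}) (a : Spec C ⟶ Z) (_ : IsOpenImmersion a),
      z ∈ a.opensRange ∧ GoodSrc (pullback j a)) :
    Good j g j' g'' := by
  refine good_of_cover hsq fun y => ?_
  obtain ⟨C, a, _, hz, hgood⟩ := hloc (g y)
  obtain ⟨W, hW, hy, hWa⟩ := exists_isAffineOpen_mem_and_subset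
    (show y ∈ g ⁻¹ᵁ a.opensRange from hz)
  have hle : Set.range (IsAffineOpen.fromSpec hW ≫ g) ⊆ Set.range a := by
    rintro _ ⟨x, rfl⟩
    have hx : hW.fromSpec x ∈ W := by
      have h1 : hW.fromSpec x ∈ hW.fromSpec.opensRange := ⟨x, rfl⟩
      rwa [hW.opensRange_fromSpec] at h1
    exact hWa hx
  let θ : C ⟶ Γ(X', W) := Spec.preimage (IsOpenImmersion.lift a (hW.fromSpec ≫ g) hle)
  refine ⟨Spec C, Spec Γ(X', W), a, IsAffineOpen.fromSpec hW, Spec.map θ, inferInstance, inferInstance,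
    pullback j a, _, pullback.fst j a, pullback.snd j a, pullback.fst (pullback.snd j a) (Spec.map θ),
    pullback.snd (pullback.snd j a) (Spec.map θ), ?_, ?_, IsPullback.of_hasPullback _ _,
    IsPullback.of_hasPullback _ _, ?_⟩
  · simp [θ]
  · rw [hW.opensRange_fromSpec]
    exact hy
  · exact hgood _ _ θ _ _ _ _ (IsPullback.of_hasPullback _ _) (torSrc_of_flat θ _)

/-- The gluing step. -/
theorem goodSrc_step {Z U₁ U₂ : Scheme.{u}} (j₁ : U₁ ⟶ Z) (j₂ : U₂ ⟶ Z) [IsOpenImmersion j₁] [IsOpenImmersion j₂]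
    [QuasiCompact j₁] [QuasiCompact j₂] (hcov : ∀ x : Z, x ∈ j₁.opensRange ∨ x ∈ j₂.opensRange)
    (h₁ : GoodSrc U₁) (h₂ : GoodSrc U₂)
    (hloc : ∀ z : Z, ∃ (C : CommRingCat.{u}) (a : Spec C ⟶ Z) (_ : IsOpenImmersion a),
      z ∈ a.opensRange ∧ GoodSrc (pullback j₁ a) ∧ GoodSrc (pullback j₂ a)) : GoodSrc Z := by
  intro A B φ f X' f' g' hsq htor
  have e₁ := IsPullback.of_hasPullback j₁ g'
  have e₂ := IsPullback.of_hasPullback j₂ g'
  exact good_of_two j₁ j₂ hcov e₁.w e₂.w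
    (h₁ _ _ φ _ _ _ _ (e₁.paste_vert hsq) (torSrc_of_comp φ j₁ htor))
    (h₂ _ _ φ _ _ _ _ (e₂.paste_vert hsq) (torSrc_of_comp φ j₂ htor))
    (good_openImm j₁ g' e₁ fun z => let ⟨C, a, ha, hz, h, _⟩ := hloc z; ⟨C, a, ha, hz, h⟩)
    (good_openImm j₂ g' e₂ fun z => let ⟨C, a, ha, hz, _, h⟩ := hloc z; ⟨C, a, ha, hz, h⟩)

variable {X : Scheme.{u}}

theorem at_sup [QuasiSeparatedSpace X] {O₁ O₂ : X.Opens} (h₁c : IsCompact (O₁ : Set X))
    (h₂c : IsCompact (O₂ : Set X)) (h₁ : OpenInduct.At GoodSrc O₁) (h₂ : OpenInduct.At GoodSrc O₂)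
    (m₁ : ∀ W : X.Opens, IsAffineOpen W → W ≤ O₁ → OpenInduct.At GoodSrc (W ⊓ O₂))
    (m₂ : ∀ W : X.Opens, IsAffineOpen W → W ≤ O₂ → OpenInduct.At GoodSrc (W ⊓ O₁)) :
    OpenInduct.At GoodSrc (O₁ ⊔ O₂) := by
  intro T k _ hk
  haveI : QuasiSeparatedSpace T := QuasiSeparatedSpace.of_isOpenEmbedding k.isOpenEmbedding
  have hr : ∀ O : X.Opens, O ≤ O₁ ⊔ O₂ → ((k ⁻¹ᵁ O).ι ≫ k).opensRange = O := fun O hO => by
    rw [Scheme.Hom.opensRange_comp, Scheme.Opens.opensRange_ι, Scheme.Hom.image_preimage_eq_opensRange_inf, hk]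
    exact inf_eq_right.2 hO
  have hc : ∀ O : X.Opens, O ≤ O₁ ⊔ O₂ → IsCompact (O : Set X) → QuasiCompact (k ⁻¹ᵁ O).ι := fun O hO hOc => by
    haveI : CompactSpace (k ⁻¹ᵁ O) := isCompact_iff_compactSpace.1 (k.isOpenEmbedding.isInducing.isCompact_iff.2 (by
      rwa [show (⇑k '' ((k ⁻¹ᵁ O : T.Opens) : Set T)) = (O : Set X) from Set.image_preimage_eq_iff.2 (by
        change (O : Set X) ⊆ (k.opensRange : Set X)
        rw [hk]
        exact hO)]))
    infer_instance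
  haveI := hc O₁ le_sup_left h₁c
  haveI := hc O₂ le_sup_right h₂c
  have hmem : ∀ t : T, t ∈ k ⁻¹ᵁ O₁ ∨ t ∈ k ⁻¹ᵁ O₂ := fun t => by
    have : k t ∈ O₁ ⊔ O₂ := hk ▸ ⟨t, rfl⟩
    exact this
  refine goodSrc_step (k ⁻¹ᵁ O₁).ι (k ⁻¹ᵁ O₂).ι (by simpa using hmem) (h₁ _ _ (hr _ le_sup_left))
    (h₂ _ _ (hr _ le_sup_right)) fun t => ?_
  have key : ∀ (O : X.Opens) (W₀ : T.Opens) (hW₀ : IsAffineOpen W₀),
      OpenInduct.At GoodSrc (k ''ᵁ W₀ ⊓ O) → GoodSrc (pullback (k ⁻¹ᵁ O).ι hW₀.fromSpec) := by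
    intro O W₀ hW₀ h
    refine h _ (pullback.snd _ _ ≫ hW₀.fromSpec ≫ k) ?_
    rw [Scheme.Hom.opensRange_comp, Scheme.Hom.opensRange_pullbackSnd, Scheme.Opens.opensRange_ι,
      Scheme.Hom.comp_image, Scheme.Hom.image_preimage_eq_opensRange_inf, hW₀.opensRange_fromSpec]
    ext x
    constructor
    · rintro ⟨y, ⟨hy₁, hy₂⟩, rfl⟩
      exact ⟨⟨y, hy₁, rfl⟩, hy₂⟩
    · rintro ⟨⟨y, hy₁, rfl⟩, hy₂⟩
      exact ⟨y, ⟨hy₁, hy₂⟩, rfl⟩
  rcases hmem t with ht | ht
  · obtain ⟨W₀, hW₀, htW, hle⟩ := exists_isAffineOpen_mem_and_subset ht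
    have hW := hW₀.image_of_isOpenImmersion k
    have hle' : k ''ᵁ W₀ ≤ O₁ := by rintro _ ⟨x, hx, rfl⟩; exact hle hx
    refine ⟨_, hW₀.fromSpec, inferInstance, by rw [hW₀.opensRange_fromSpec]; exact htW,
      key _ _ hW₀ ?_, key _ _ hW₀ (m₁ _ hW hle')⟩
    rw [inf_eq_left.2 hle']
    exact OpenInduct.at_of_isAffineOpen (fun T hT => @goodSrc_affine T hT) hW
  · obtain ⟨W₀, hW₀, htW, hle⟩ := exists_isAffineOpen_mem_and_subset ht
    have hW := hW₀.image_of_isOpenImmersion k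
    have hle' : k ''ᵁ W₀ ≤ O₂ := by rintro _ ⟨x, hx, rfl⟩; exact hle hx
    refine ⟨_, hW₀.fromSpec, inferInstance, by rw [hW₀.opensRange_fromSpec]; exact htW,
      key _ _ hW₀ (m₂ _ hW hle'), key _ _ hW₀ ?_⟩
    rw [inf_eq_left.2 hle']
    exact OpenInduct.at_of_isAffineOpen (fun T hT => @goodSrc_affine T hT) hW

theorem at_bot' : OpenInduct.At GoodSrc (⊥ : X.Opens) :=
  OpenInduct.at_bot fun T hT => @goodSrc_affine T (@isAffine_of_isEmpty T hT)

theorem at_aff {O : X.Opens} (hO : IsAffineOpen O) : OpenInduct.At GoodSrc O :=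
  OpenInduct.at_of_isAffineOpen (fun T hT => @goodSrc_affine T hT) hO

theorem at_of_affine [IsAffine X] (O : X.Opens) (hO : IsCompact (O : Set X)) : OpenInduct.At GoodSrc O := by
  suffices H : ∀ W : X.Opens, IsAffineOpen W → OpenInduct.At GoodSrc (O ⊓ W) by
    simpa using H ⊤ (isAffineOpen_top X)
  refine compact_open_induction_on
    (P := fun O => ∀ W : X.Opens, IsAffineOpen W → OpenInduct.At GoodSrc (O ⊓ W)) O hO ?_ ?_
  · intro W _
    rw [bot_inf_eq]
    exact at_bot'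
  · intro S hS U ih W hW
    rw [inf_sup_right]
    refine at_sup (QuasiSeparatedSpace.inter_isCompact _ _ S.2 hS W.2 hW.isCompact) (U.2.inf hW).isCompact
      (ih W hW) (at_aff (U.2.inf hW)) (fun V hV _ => at_aff (hV.inf (U.2.inf hW))) fun V hV _ => ?_
    rw [inf_left_comm]
    exact ih _ (hV.inf hW)

theorem at_of_le_affine {W O : X.Opens} (hW : IsAffineOpen W) (hOW : O ≤ W) (hO : IsCompact (O : Set X)) :
    OpenInduct.At GoodSrc O := by
  intro T k _ hk
  have hle : Set.range k ⊆ Set.range hW.fromSpec := by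
    rw [hW.range_fromSpec]
    intro x hx
    exact hOW (hk ▸ hx)
  let k' := IsOpenImmersion.lift hW.fromSpec k hle
  haveI : IsOpenImmersion k' := by
    have : IsOpenImmersion (k' ≫ hW.fromSpec) := by rw [IsOpenImmersion.lift_fac]; infer_instance
    exact IsOpenImmersion.of_comp k' hW.fromSpec
  refine at_of_affine (hW.fromSpec ⁻¹ᵁ O) ?_ T k' ?_
  · refine hW.fromSpec.isOpenEmbedding.isInducing.isCompact_iff.2 ?_
    rwa [show (⇑hW.fromSpec '' ((hW.fromSpec ⁻¹ᵁ O : (Spec Γ(X, W)).Opens) : Set (Spec Γ(X, W)))) = (O : Set X) from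
      Set.image_preimage_eq_iff.2 (by rw [hW.range_fromSpec]; exact hOW)]
  · refine (hW.fromSpec.preimage_image_eq k'.opensRange).symm.trans (congrArg (hW.fromSpec ⁻¹ᵁ ·) ?_)
    rw [← Scheme.Hom.opensRange_comp]
    simp [k', hk]

/-- Base change for quasi-compact quasi-separated sources over affine bases. -/
theorem goodSrc_qcqs [CompactSpace X] [QuasiSeparatedSpace X] : GoodSrc X := by
  have h : ∀ O : X.Opens, IsCompact (O : Set X) → OpenInduct.At GoodSrc O := fun O hO => by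
    refine compact_open_induction_on (P := OpenInduct.At GoodSrc) O hO at_bot' fun S hS U ih => ?_
    exact at_sup hS U.2.isCompact ih (at_aff U.2)
      (fun W hW _ => at_of_le_affine hW inf_le_left
        (QuasiSeparatedSpace.inter_isCompact _ _ W.2 hW.isCompact U.1.2 U.2.isCompact))
      (fun W hW _ => at_of_le_affine hW inf_le_left
        (QuasiSeparatedSpace.inter_isCompact _ _ W.2 hW.isCompact S.2 hS))
  exact h ⊤ isCompact_univ X (𝟙 X) (Scheme.Hom.opensRange_of_isIso _)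

/-- Tor independence over pairs of affine opens. -/
def TorInd {Y Y' : Scheme.{u}} (f : X ⟶ Y) (g : Y' ⟶ Y) : Prop :=
  ∀ (U : Y.Opens), IsAffineOpen U → ∀ (U' : Y'.Opens), IsAffineOpen U' → ∀ (hU' : U' ≤ g ⁻¹ᵁ U) (V : X.Opens),
    IsAffineOpen V → ∀ hV : V ≤ f ⁻¹ᵁ U,
      BCModule.TorZero (g.appLE U U' hU').hom
        ((ModuleCat.restrictScalars.{u} (f.appLE U V hV).hom).obj (ModuleCat.of Γ(X, V) Γ(X, V)))

/-- Base change for tor independent squares. -/
theorem good_main {Y X' Y' : Scheme.{u}} (f : X ⟶ Y) [QuasiCompact f] [QuasiSeparated f] (g : Y' ⟶ Y)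
    {f' : X' ⟶ Y'} {g' : X' ⟶ X} (hsq : IsPullback g' f' f g) (htor : TorInd f g) : Good f g f' g' := by
  refine good_of_cover hsq fun y => ?_
  obtain ⟨U, hU, hgy, -⟩ := exists_isAffineOpen_mem_and_subset (show g y ∈ (⊤ : Y.Opens) from trivial)
  obtain ⟨U', hU', hy, hle⟩ := exists_isAffineOpen_mem_and_subset (show y ∈ g ⁻¹ᵁ U from hgy)
  haveI : CompactSpace (pullback f hU.fromSpec : Scheme.{u}) :=
    QuasiCompact.compactSpace_of_compactSpace (pullback.snd f hU.fromSpec)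
  haveI : QuasiSeparatedSpace (pullback f hU.fromSpec : Scheme.{u}) :=
    quasiSeparatedSpace_of_quasiSeparated (pullback.snd f hU.fromSpec)
  refine ⟨_, _, hU.fromSpec, hU'.fromSpec, Spec.map (g.appLE U U' hle), inferInstance, inferInstance,
    pullback f hU.fromSpec, _, pullback.fst f hU.fromSpec, pullback.snd f hU.fromSpec,
    pullback.fst (pullback.snd f hU.fromSpec) (Spec.map (g.appLE U U' hle)),
    pullback.snd (pullback.snd f hU.fromSpec) (Spec.map (g.appLE U U' hle)),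
    IsAffineOpen.SpecMap_appLE_fromSpec g hU hU' hle, ?_, IsPullback.of_hasPullback _ _,
    IsPullback.of_hasPullback _ _, ?_⟩
  · rw [hU'.opensRange_fromSpec]
    exact hy
  · exact goodSrc_qcqs _ _ _ _ _ _ _ (IsPullback.of_hasPullback _ _)
      (torSrc_pullback_of_appLE f hU _ (fun V hV hV' => htor U hU U' hU' hle V hV hV') pullback.condition)

theorem torInd_of_flat_base {Y Y' : Scheme.{u}} (f : X ⟶ Y) (g : Y' ⟶ Y) [Flat g] : TorInd f g :=
  fun U hU U' hU' h _ _ _ => torZero_of_flat_left _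
    (HasRingHomProperty.appLE (P := @Flat) g inferInstance ⟨U, hU⟩ ⟨U', hU'⟩ h) _

theorem torInd_of_flat {Y Y' : Scheme.{u}} (f : X ⟶ Y) [Flat f] (g : Y' ⟶ Y) : TorInd f g :=
  fun U hU _ _ _ V hV h => by
    haveI : Module.Flat Γ(Y, U) ((ModuleCat.restrictScalars.{u} (f.appLE U V h).hom).obj
        (ModuleCat.of Γ(X, V) Γ(X, V))) :=
      HasRingHomProperty.appLE (P := @Flat) f inferInstance ⟨U, hU⟩ ⟨V, hV⟩ h
    exact torZero_of_flat_right _ _

theorem torInd_of_subsingleton_tor {Y Y' : Scheme.{u}} (f : X ⟶ Y) (g : Y' ⟶ Y)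
    (htor : ∀ (U : Y.Opens), IsAffineOpen U → ∀ (U' : Y'.Opens), IsAffineOpen U' → ∀ (hU' : U' ≤ g ⁻¹ᵁ U)
      (V : X.Opens), IsAffineOpen V → ∀ (hV : V ≤ f ⁻¹ᵁ U) (i : ℕ), 0 < i →
      Subsingleton (@DRing.Tor Γ(Y, U) _ i Γ(Y', U') Γ(X, V) _ (g.appLE U U' hU').hom.toModule _
        (f.appLE U V hV).hom.toModule)) : TorInd f g :=
  fun U hU U' hU' h V hV h' i hi => htor U hU U' hU' h V hV h' i hi

/-- Base change for flat base or flat source. -/
theorem good_of_flat {Y X' Y' : Scheme.{u}} (f : X ⟶ Y) [QuasiCompact f] [QuasiSeparated f] (g : Y' ⟶ Y)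
    {f' : X' ⟶ Y'} {g' : X' ⟶ X} (hsq : IsPullback g' f' f g) (hflat : Flat f ∨ Flat g) : Good f g f' g' :=
  good_main f g hsq (hflat.elim (fun _ => torInd_of_flat f g) fun _ => torInd_of_flat_base f g)

end Groth.Agent.Dual22Lib.BCMain
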