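import Groth.Agent.Dual22Lib.CohAdj
import Groth.Agent.DQCoh.PerfectTor
import Groth.Agent.DQCoh.RelTorBC
import Groth.Agent.DQCoh.BettiRank
import Groth.Agent.Coherent.CohBC.PushStructure

/-!
# Lifting maps between perfect objects from an open of an affine scheme
-/

set_option autoImplicit false
set_option backward.isDefEq.respectTransparency false
set_option backward.defeqAttrib.useBackward true
set_option linter.style.haveILetI false
set_option linter.unusedSectionVars false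
set_option synthInstance.maxHeartbeats 100000

universe u

open CategoryTheory CategoryTheory.Limits CategoryTheory.Pretriangulated AlgebraicGeometry Opposite
open Groth.Agent.DCat
open scoped ZeroObject

attribute [local instance] HasDerivedCategory.standard
attribute [-instance] Int.instConditionallyCompleteLinearOrder

namespace Groth.Agent.Dual22Lib.PerfLift

variable {X : Scheme.{u}}

/-- Perfect objects have quasi-coherent cohomology. -/
theorem isQCohD_perfect {P : DCoh.D X} (hP : DCoh.IsPerfect P) : DCoh.IsQCohD P :=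
  DQCoh.isQCohD_of_psc (DQCoh.psc_of_perfect hP)

theorem isPerfect_single {M : X.Modules} (hM : FlatMod.IsFinLocFree M) :
    DCoh.IsPerfect ((DerivedCategory.singleFunctor X.Modules 0).obj M) := by
  refine (PerfLocal.isPerfect_iff _).2 fun x => ⟨X, 𝟙 X, inferInstance, ⟨x, rfl⟩,
    ((Scheme.Modules.restrictFunctor (𝟙 X)).mapHomologicalComplex (ComplexShape.up ℤ)).obj
      ((HomologicalComplex.single X.Modules (ComplexShape.up ℤ) 0).obj M),
    PerfLocal.strictlyPerfect_restrict (𝟙 X) (DQCoh.strictlyPerfect_single hM), ⟨?_⟩⟩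
  exact (PerfLocal.rd (𝟙 X)).mapIso ((DerivedCategory.singleFunctorIsoCompQ X.Modules 0).app M) ≪≫
    (Scheme.Modules.restrictFunctor (𝟙 X)).mapDerivedCategoryFactors.app _

theorem isPerfect_pt_top : DCoh.IsPerfect ((DQCoh.sec X).pt.obj (⊤ : X.Opens)) :=
  PCTriangle.perfect_iso ((DerivedCategory.singleFunctor X.Modules 0).mapIso (DQCoh.topStructIso X).symm)
    (isPerfect_single (Coherent.CohBC.isFinLocFree_structureModule X))

theorem isPerfect_restrictD {W : Scheme.{u}} (j : W ⟶ X) [IsOpenImmersion j] {P : DCoh.D X}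
    (hP : DCoh.IsPerfect P) : DCoh.IsPerfect ((DCoh.restrictD j).obj P) := by
  refine (PerfLocal.isPerfect_iff _).2 fun w => ?_
  obtain ⟨V, k, hk, hx, hV⟩ := (PerfLocal.isPerfect_iff P).1 hP (j w)
  let O := j ⁻¹ᵁ k.opensRange
  refine ⟨O, O.ι, inferInstance, by simpa [O] using hx, ?_⟩
  obtain ⟨E, hE, ⟨e⟩⟩ := PerfLocal.perfAt_of_range_le hV (O.ι ≫ j) (by
    rintro _ ⟨z, rfl⟩
    exact z.2)
  obtain ⟨c⟩ := PerfLocal.rd_comp O.ι j P
  exact ⟨E, hE, ⟨c.symm ≪≫ e⟩⟩

theorem isPerfect_isZero {K : DCoh.D X} (h : IsZero K) : DCoh.IsPerfect K :=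
  (PerfLocal.isPerfect_iff _).2 fun x => ⟨X, 𝟙 X, inferInstance, ⟨x, rfl⟩,
    PerfLocal.perfAt_of_isZero ((PerfLocal.rd (𝟙 X)).map_isZero h)⟩

theorem isPerfect_fibre {T : Triangle (DCoh.D X)} (hT : T ∈ distTriang _) (h₂ : DCoh.IsPerfect T.obj₂)
    (h₃ : DCoh.IsPerfect T.obj₃) : DCoh.IsPerfect T.obj₁ :=
  (PCTriangle.perfect_two_out_of_three hT).2.2 h₂ h₃

theorem isUnit_map_homOfLE (f : Γ(X, ⊤)) {W : X.Opens} (hW : W ≤ X.basicOpen f) (e : W ≤ ⊤) :
    IsUnit ((X.presheaf.map (homOfLE e).op).hom f) := by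
  have h := (RingedSpace.isUnit_res_basicOpen X.toRingedSpace f).map (X.presheaf.map (homOfLE hW).op).hom
  erw [← CommRingCat.comp_apply, ← X.presheaf.map_comp] at h
  exact h

/-- Maps into objects killed on finitely many basic opens factor through perfect objects killed there. -/
theorem exists_killing [IsAffine X] (s : Finset Γ(X, ⊤)) {N : DCoh.D X} (hN : DCoh.IsQCohD N)
    (hk : ∀ f ∈ s, AdjGeom.killed (X.basicOpen f).ι N) {P : DCoh.D X} (hP : DCoh.IsPerfect P) (g : P ⟶ N) :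
    ∃ (C : DCoh.D X) (u : P ⟶ C) (g' : C ⟶ N), DCoh.IsPerfect C ∧
      (∀ f ∈ s, AdjGeom.killed (X.basicOpen f).ι C) ∧ u ≫ g' = g ∧
      ∀ O : X.Opens, AdjGeom.killed O.ι P → AdjGeom.killed O.ι C := by
  classical
  induction s using Finset.induction_on with
  | empty => exact ⟨P, 𝟙 P, g, hP, fun f hf => absurd hf (Finset.notMem_empty f), Category.id_comp g,
      fun O h => h⟩
  | insert f s hfs ih =>
    obtain ⟨C, u, g', hC, hkC, hu, hO⟩ := ih fun f' hf' => hk f' (Finset.mem_insert_of_mem hf')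
    let R : CommRingCat.{u} := Γ(X, ⊤)
    letI oX : X.Over (Spec (CommRingCat.of R)) := ⟨X.isoSpec.hom⟩
    obtain ⟨a, ha⟩ := CohAdj.surjective_toGlobal_isoSpec X rfl f
    have hsupp : ∀ i : ℤ, CohB1.support (DCoh.HD N i) ⊆
        (X.zeroLocus (U := ⊤) {Coh.toGlobal (X ↘ Spec (CommRingCat.of R)) a} : Set X) := fun i x hx => by
      refine (X.mem_zeroLocus_iff _ x).2 fun r hr hxr => ?_
      obtain rfl : r = Coh.toGlobal (X ↘ Spec (CommRingCat.of R)) a := hr
      refine hx ((AdjGeom.killed_iff (X.basicOpen f).ι N).1 (hk f (Finset.mem_insert_self f s)) i x ?_)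
      rw [Scheme.Opens.opensRange_ι]
      rwa [← ha]
    obtain ⟨n, hn⟩ := Torsion.exists_pow_smul_eq_zero R a hC hN hsupp g'
    obtain ⟨C', v, δ, hT⟩ := distinguished_cocone_triangle ((a ^ n) • 𝟙 C)
    obtain ⟨g'', hg''⟩ := Triangle.yoneda_exact₂ _ hT g' (by
      show ((a ^ n) • 𝟙 C) ≫ g' = 0
      rw [Linear.smul_comp, Category.id_comp, hn])
    refine ⟨C', u ≫ v, g'', PCTriangle.perfect_cone hT hC hC, fun f' hf' => ?_, by
      rw [Category.assoc, ← hu]
      exact congrArg (u ≫ ·) hg''.symm, fun O hP' => by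
      haveI := PullPerf.preservesFiniteLimits_restrict O.ι
      exact Triangle.isZero₃_of_isZero₁₂ _ ((DCoh.restrictD O.ι).map_distinguished _ hT) (hO O hP') (hO O hP')⟩
    rcases Finset.mem_insert.1 hf' with rfl | hf'
    · let W := X.basicOpen f'
      haveI := PullPerf.preservesFiniteLimits_restrict W.ι
      letI : (W : Scheme.{u}).Over (Spec (CommRingCat.of R)) := ⟨W.ι ≫ X ↘ Spec (CommRingCat.of R)⟩
      haveI : W.ι.IsOver (Spec (CommRingCat.of R)) := ⟨rfl⟩
      haveI : IsIso ((DCoh.restrictD W.ι).map ((a ^ n) • 𝟙 C)) := by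
        rw [ScalarD.restrictD_map_smul_id]
        refine ScalarD.isIso_smul_id _ _ ?_
        rw [map_pow]
        refine IsUnit.pow n ?_
        rw [show Coh.toGlobal ((W : Scheme.{u}) ↘ Spec (CommRingCat.of R)) a =
          W.ι.appTop (Coh.toGlobal (X ↘ Spec (CommRingCat.of R)) a) from
            (KLin.toGlobal_comp W.ι (X ↘ Spec (CommRingCat.of R)) a).symm ▸ rfl, ha]
        rw [Scheme.Opens.ι_appTop]
        exact isUnit_map_homOfLE f' (le_of_eq W.ι_image_top) _
      exact (Triangle.isZero₃_iff_isIso₁ _ ((DCoh.restrictD W.ι).map_distinguished _ hT)).2 ‹_›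
    · haveI := PullPerf.preservesFiniteLimits_restrict (X.basicOpen f').ι
      exact Triangle.isZero₃_of_isIso₁ _ ((DCoh.restrictD (X.basicOpen f').ι).map_distinguished _ hT)
        ⟨⟨0, (hkC f' hf').eq_of_src _ _, (hkC f' hf').eq_of_tgt _ _⟩⟩

/-- Quasi-compact opens of affine schemes are finite unions of basic opens. -/
theorem exists_cover_basic [IsAffine X] (U : X.Opens) (hU : IsCompact (U : Set X)) :
    ∃ s : Finset Γ(X, ⊤), (U : Set X) = ⋃ f ∈ s, (X.basicOpen f : Set X) := by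
  classical
  obtain ⟨s, hs, he⟩ := isCompact_and_isOpen_iff_finite_and_eq_biUnion_basicOpen.1 ⟨hU, U.2⟩
  exact ⟨hs.toFinset, he.trans (by simp)⟩

/-- Roofs lift maps out of perfect objects from quasi-compact opens of affine schemes. -/
theorem exists_lift [IsAffine X] (U : X.Opens) (hU : IsCompact (U : Set X))
    [PreservesFiniteLimits (Scheme.Modules.restrictFunctor U.ι)] (E E' : DCoh.D X) (hE : DCoh.IsPerfect E)
    (hE' : DCoh.IsQCohD E') (α : (DCoh.restrictD U.ι).obj E ⟶ (DCoh.restrictD U.ι).obj E') :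
    ∃ (E₁ : DCoh.D X) (β : E₁ ⟶ E) (γ : E₁ ⟶ E'), DCoh.IsPerfect E₁ ∧ IsIso ((DCoh.restrictD U.ι).map β) ∧
      (DCoh.restrictD U.ι).map β ≫ α = (DCoh.restrictD U.ι).map γ := by
  classical
  haveI : CompactSpace (U : Scheme.{u}) := isCompact_iff_compactSpace.1 hU
  haveI : QuasiCompact U.ι := quasiCompact_of_compactSpace U.ι
  haveI := DCat.hasRpush U.ι
  obtain ⟨adj, hadj⟩ := AdjGeom.exists_adj U.ι
  haveI : IsIso adj.counit := hadj
  obtain ⟨N, δ, c, hT⟩ := distinguished_cocone_triangle (adj.unit.app E')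
  have hN : DCoh.IsQCohD N := DQCoh.isQCohD_obj₃ hT hE'
    (DQCoh.isQCohD_Rpush U.ι _ (AdjGeom.isQCohD_restrictD U.ι hE'))
  have hNk : AdjGeom.killed U.ι N := by
    haveI : IsIso ((DCoh.restrictD U.ι).map (adj.unit.app E')) := by
      rw [show (DCoh.restrictD U.ι).map (adj.unit.app E') = inv (adj.counit.app ((DCoh.restrictD U.ι).obj E')) from
        IsIso.eq_inv_of_inv_hom_id (adj.left_triangle_components E')]
      infer_instance
    exact (Triangle.isZero₃_iff_isIso₁ _ ((DCoh.restrictD U.ι).map_distinguished _ hT)).2 ‹_›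
  -- finitely many basic opens covering `U`
  obtain ⟨s, hs⟩ : ∃ s : Finset Γ(X, ⊤), (U : Set X) = ⋃ f ∈ s, (X.basicOpen f : Set X) := by
    choose f hf hxf using fun x : (U : Set X) =>
      (isAffineOpen_top X).exists_basicOpen_le (V := U) ⟨(x : X), x.2⟩ (Set.mem_univ (x : X))
    obtain ⟨t, ht⟩ := hU.elim_finite_subcover (fun x : (U : Set X) => (X.basicOpen (f x) : Set X))
      (fun x => (X.basicOpen (f x)).2) fun x hx => Set.mem_iUnion.2 ⟨⟨x, hx⟩, hxf ⟨x, hx⟩⟩
    refine ⟨t.image f, Set.Subset.antisymm (ht.trans ?_) ?_⟩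
    · exact Set.iUnion₂_subset fun x hx =>
        Set.subset_biUnion_of_mem (u := fun f => (X.basicOpen f : Set X)) (Finset.mem_image_of_mem f hx)
    · intro y hy
      obtain ⟨g, hg, hyg⟩ := Set.mem_iUnion₂.1 hy
      obtain ⟨x, -, rfl⟩ := Finset.mem_image.1 hg
      exact hf x hyg
  obtain ⟨C, u, g', hC, hkC, hu, -⟩ := exists_killing s hN (fun f hf => AdjGeom.killed_mono U.ι _ (by
      intro y hy
      rw [Scheme.Opens.opensRange_ι] at hy ⊢
      show y ∈ (U : Set X)
      rw [hs]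
      exact Set.mem_iUnion₂.2 ⟨f, hf, hy⟩) hNk) hE (adj.homEquiv _ _ α ≫ δ)
  have hCk : AdjGeom.killed U.ι C := (AdjGeom.killed_iff U.ι C).2 fun i x hx => by
    rw [Scheme.Opens.opensRange_ι] at hx
    obtain ⟨f, hf, hxf⟩ := Set.mem_iUnion₂.1 (hs.le hx)
    exact (AdjGeom.killed_iff _ C).1 (hkC f hf) i x (by rw [Scheme.Opens.opensRange_ι]; exact hxf)
  obtain ⟨E₁, β, w, hT₁⟩ := distinguished_cocone_triangle₁ u
  have hβu : β ≫ u = 0 := comp_distTriang_mor_zero₁₂ _ hT₁
  obtain ⟨γ, hγ⟩ := Triangle.coyoneda_exact₂ _ hT (β ≫ adj.homEquiv _ _ α) (by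
    show (β ≫ adj.homEquiv _ _ α) ≫ δ = 0
    rw [Category.assoc, ← hu, ← Category.assoc, hβu, zero_comp])
  refine ⟨E₁, β, γ, isPerfect_fibre hT₁ hE hC,
    (Triangle.isZero₃_iff_isIso₁ _ ((DCoh.restrictD U.ι).map_distinguished _ hT₁)).1 hCk, ?_⟩
  apply (adj.homEquiv _ _).injective
  rw [Adjunction.homEquiv_naturality_left]
  refine hγ.trans ?_
  rw [Adjunction.homEquiv_unit]
  exact adj.unit.naturality γ

end Groth.Agent.Dual22Lib.PerfLift
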