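import Groth.Agent.DCat.GPBrown

/-!
# Brown's adjoint functor theorem for standard derived categories
-/

set_option autoImplicit false
set_option backward.isDefEq.respectTransparency false
set_option backward.defeqAttrib.useBackward true
set_option linter.style.haveILetI false

universe w w' v u u'

open CategoryTheory CategoryTheory.Limits

namespace Groth.Agent.Dual22Lib

/-- The comparison of two derived categories of the same abelian category is an equivalence. -/
theorem isEquivalence_mapDerivedCategory_id (A : Type u) [Category.{v} A] [Abelian A]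
    (s : HasDerivedCategory.{w} A) (t : HasDerivedCategory.{w'} A) :
    (@Functor.mapDerivedCategory A _ _ s A _ _ t (𝟭 A) _ _ _).IsEquivalence := by
  let Qs := @DerivedCategory.Q A _ _ s
  let Qt := @DerivedCategory.Q A _ _ t
  let W := HomologicalComplex.quasiIso A (ComplexShape.up ℤ)
  haveI : Qs.IsLocalization W := inferInstance
  haveI : Qt.IsLocalization W := inferInstance
  let I := @Functor.mapDerivedCategory A _ _ s A _ _ t (𝟭 A) _ _ _
  let E := Localization.uniq Qs Qt W
  let e : Qs ⋙ E.functor ≅ Qs ⋙ I :=
    Localization.compUniqFunctor Qs Qt W ≪≫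
      (Functor.leftUnitor Qt).symm ≪≫
      Functor.isoWhiskerRight (Functor.mapHomologicalComplexIdIso A (ComplexShape.up ℤ)).symm Qt ≪≫
      (@Functor.mapDerivedCategoryFactors A _ _ s A _ _ t (𝟭 A) _ _ _).symm
  letI : Localization.Lifting Qs W (Qs ⋙ E.functor) E.functor := ⟨Iso.refl _⟩
  letI : Localization.Lifting Qs W (Qs ⋙ I) I := ⟨Iso.refl _⟩
  exact Functor.isEquivalence_of_iso (Localization.liftNatIso Qs W _ _ E.functor I e)

/-- Transport of the adjoint functor theorem along comparisons of derived categories. -/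
theorem isLeftAdjoint_of_comparison {A : Type u} [Category.{v} A] [Abelian A] [IsGrothendieckAbelian.{v} A]
    [HasDerivedCategory.{v} A] {A₁ : Type u} [Category.{v} A₁] [Abelian A₁] [HasDerivedCategory.{w} A₁]
    {B : Type u'} [Category.{v} B] [Abelian B] [HasDerivedCategory.{v} B]
    {B₁ : Type u'} [Category.{v} B₁] [Abelian B₁] [HasDerivedCategory.{w'} B₁]
    (P : A ⥤ A₁) [P.Additive] [PreservesFiniteLimits P] [PreservesFiniteColimits P]
    (hP : P.mapDerivedCategory.IsEquivalence)
    (Q : B₁ ⥤ B) [Q.Additive] [PreservesFiniteLimits Q] [PreservesFiniteColimits Q]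
    (hQ : Q.mapDerivedCategory.IsEquivalence)
    (G : DerivedCategory A₁ ⥤ DerivedCategory B₁) [G.CommShift ℤ] [G.IsTriangulated]
    [∀ J : Type v, PreservesColimitsOfShape (Discrete J) G] : G.IsLeftAdjoint := by
  let I := P.mapDerivedCategory
  let J := Q.mapDerivedCategory
  haveI : I.IsEquivalence := hP
  haveI : J.IsEquivalence := hQ
  haveI : ∀ T : Type v, PreservesColimitsOfShape (Discrete T) (I ⋙ G ⋙ J) := fun T => inferInstance
  haveI : (I ⋙ G ⋙ J).IsLeftAdjoint := DCat.isLeftAdjoint_derived (I ⋙ G ⋙ J)
  haveI : (I.inv ⋙ (I ⋙ G ⋙ J) ⋙ J.inv).IsLeftAdjoint := inferInstance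
  exact Functor.isLeftAdjoint_of_iso
    (show I.inv ⋙ (I ⋙ G ⋙ J) ⋙ J.inv ≅ G from
      Functor.isoWhiskerLeft I.inv (Functor.associator _ _ _ ≪≫ Functor.isoWhiskerLeft I
          (Functor.associator _ _ _ ≪≫ Functor.isoWhiskerLeft G J.asEquivalence.unitIso.symm ≪≫
            G.rightUnitor)) ≪≫
        (Functor.associator _ _ _).symm ≪≫ Functor.isoWhiskerRight I.asEquivalence.counitIso _ ≪≫
        G.leftUnitor)

attribute [local instance] HasDerivedCategory.standard

/-- A triangulated functor preserving small sums between derived categories of Grothendieck abelian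
categories is a left adjoint. -/
theorem isLeftAdjoint_standard {A : Type u} [Category.{v} A] [Abelian A] [IsGrothendieckAbelian.{v} A]
    {B : Type u'} [Category.{v} B] [Abelian B] [IsGrothendieckAbelian.{v} B]
    (G : DerivedCategory A ⥤ DerivedCategory B) [G.CommShift ℤ] [G.IsTriangulated]
    [∀ J : Type v, PreservesColimitsOfShape (Discrete J) G] : G.IsLeftAdjoint :=
  @isLeftAdjoint_of_comparison A _ _ _ (DCat.smallDerivedCategory A DCat.enoughKInj_of_isGrothendieckAbelian)
    A _ _ (HasDerivedCategory.standard A)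
    B _ _ (DCat.smallDerivedCategory B DCat.enoughKInj_of_isGrothendieckAbelian)
    B _ _ (HasDerivedCategory.standard B)
    (𝟭 A) _ _ _ (isEquivalence_mapDerivedCategory_id A _ _) (𝟭 B) _ _ _
    (isEquivalence_mapDerivedCategory_id B _ _) G _ _ _

end Groth.Agent.Dual22Lib
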