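import Groth.Agent.Dual22Lib.AdjGeom
import Groth.Agent.Dual22Lib.AdjBrown
import Groth.Agent.DCat.MVTriangles
import Groth.Agent.DQCoh.RpushSum
import Groth.Agent.DQCoh.Tilde
import Groth.Agent.DQCoh.Local

/-!
# The right adjoint of `Rf_*` on objects with quasi-coherent cohomology

Representability of `Hom(Rf_* -, M)` on `D_qc` is proved by Brown representability on affine schemes and by
gluing along two quasi-compact opens in general.
-/

set_option autoImplicit false
set_option backward.isDefEq.respectTransparency false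
set_option backward.defeqAttrib.useBackward true
set_option linter.style.haveILetI false
set_option linter.unusedSectionVars false

universe u

open CategoryTheory CategoryTheory.Limits CategoryTheory.Pretriangulated AlgebraicGeometry TopologicalSpace

attribute [local instance] HasDerivedCategory.standard
open scoped ZeroObject

namespace Groth.Agent.Dual22Lib.AdjGeom

open AdjGlue

/-- `Hom(Rf_* -, M)` is representable on `D_qc(T)` for all `f` and `M`. -/
def HasRep (T : Scheme.{u}) : Prop :=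
  ∀ ⦃Y : Scheme.{u}⦄ (f : T ⟶ Y) [QuasiCompact f] [QuasiSeparated f] [DCoh.HasRpush f] (M : DCoh.D Y),
    ∃ (A : DCoh.D T) (ε : (DCoh.Rpush f).obj A ⟶ M),
      DCoh.IsQCohD A ∧ ∀ K, DCoh.IsQCohD K → Rep (DCoh.Rpush f) M ε K

/-- Brown representability on an affine scheme. -/
theorem hasRep_spec (R : CommRingCat.{u}) : HasRep (Spec R) := by
  intro Y f _ _ _ M
  haveI : PreservesFiniteLimits (tilde.functor R) := AffSchLib.preservesFiniteLimits_tilde R
  obtain ⟨hfull, hfaith, hess⟩ := DQCoh.tildeD_main R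
  obtain ⟨_, _⟩ := DCat.exists_commShift_Rpush f
  let T := DCoh.tildeD R
  let G : DerivedCategory (ModuleCat.{u} R) ⥤ DCoh.D Y := T ⋙ DCoh.Rpush f
  haveI : ∀ J : Type u, PreservesColimitsOfShape (Discrete J) T := fun J => by
    haveI : PreservesColimitsOfShape (Discrete J) ((tilde.functor R).mapHomologicalComplex (ComplexShape.up ℤ)) :=
      haveI := (tilde.adjunction (R := R)).leftAdjoint_preservesColimits
      inferInstance
    haveI := DCat.RHomExist.preservesCoproducts_Q (A := (Spec (CommRingCat.of R)).Modules) J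
    haveI : PreservesColimitsOfShape (Discrete J) (DerivedCategory.Q ⋙ T) :=
      preservesColimitsOfShape_of_natIso (tilde.functor R).mapDerivedCategoryFactors.symm
    exact DCat.RHomExist.preservesCoproducts_of_fac T J
  haveI : ∀ J : Type u, PreservesColimitsOfShape (Discrete J) G := fun J => ⟨fun {K} => by
    haveI : HasColimitsOfShape (Discrete J) (DCoh.D (Spec R)) :=
      DCat.hasCoproductsOfShape_derived (DCat.modules_enoughKInj (Spec R)) J
    haveI : HasColimitsOfShape (Discrete J) (DCoh.D Y) :=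
      DCat.hasCoproductsOfShape_derived (DCat.modules_enoughKInj Y) J
    let F := DCoh.Rpush f
    let K' : J → DCoh.D (Spec R) := fun t => T.obj (K.obj ⟨t⟩)
    haveI : IsIso (sigmaComparison F K') :=
      DQCoh.isIso_sigmaDesc_Rpush f K' fun t => DQCoh.isQCohD_tildeD R _
    haveI : PreservesColimit (Discrete.functor K') F := PreservesCoproduct.of_iso_comparison F K'
    haveI : PreservesColimit (K ⋙ T) F := preservesColimit_of_iso_diagram F
      (Discrete.natIso fun _ => Iso.refl _ : Discrete.functor K' ≅ K ⋙ T)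
    exact inferInstanceAs (PreservesColimit K (T ⋙ F))⟩
  haveI : G.IsLeftAdjoint := Dual22Lib.isLeftAdjoint_standard G
  let adj := Adjunction.ofIsLeftAdjoint G
  refine ⟨T.obj (G.rightAdjoint.obj M), adj.counit.app M, DQCoh.isQCohD_tildeD R _, fun K hK => ?_⟩
  obtain ⟨K₀, ⟨e⟩⟩ := (hess K).1 hK
  refine Rep.of_iso ?_ e
  haveI : T.Full := hfull
  haveI : T.Faithful := hfaith
  refine (Function.Bijective.of_comp_iff _ ((Functor.FullyFaithful.ofFullyFaithful T).map_bijective _ _)).1 ?_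
  have hcomp : ((fun g => (DCoh.Rpush f).map g ≫ adj.counit.app M) ∘ fun g : K₀ ⟶ G.rightAdjoint.obj M => T.map g) =
      (adj.homEquiv K₀ M).symm := by
    funext g
    exact (adj.homEquiv_counit ..).symm
  rw [hcomp]
  exact (adj.homEquiv K₀ M).symm.bijective

variable {X T : Scheme.{u}}

theorem isZero_of_killed_top (j : T ⟶ X) [IsOpenImmersion j] (hj : j.opensRange = ⊤) {K : DCoh.D X}
    (h : killed j K) : IsZero K :=
  DCat.SuppOpen.isZero_of_hd _ fun i => ModStalk.isZero_of_stalks fun x =>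
    haveI := (killed_iff j K).1 h i x (hj ▸ trivial)
    DCat.SuppOpen.isZero_stalkFunctor _ x

theorem hasRep_of_cover (j : T ⟶ X) [IsOpenImmersion j] [QuasiCompact j] (hj : j.opensRange = ⊤) (h : HasRep T) :
    HasRep X := by
  intro Y f _ _ _ M
  haveI := DCat.hasRpush j
  haveI := DCat.hasRpush (j ≫ f)
  obtain ⟨_, _⟩ := DCat.exists_commShift_Rpush f
  obtain ⟨r⟩ := exists_locRep j f M (h (j ≫ f) M)
  exact ⟨r.A, r.ε, r.mem, fun K hK => r.rep K hK fun N _ hN g => (isZero_of_killed_top j hj hN).eq_of_src _ _⟩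

theorem isZero_Rpush_obj {Y : Scheme.{u}} (f : X ⟶ Y) [DCoh.HasRpush f] {K : DCoh.D X} (h : IsZero K) :
    IsZero ((DCoh.Rpush f).obj K) :=
  haveI : (DCoh.Rpush f).IsRightAdjoint := DCat.isRightAdjoint_Rpush f
  (DCoh.Rpush f).map_isZero h

/-- An object killed on one of two covering opens is local for the other. -/
theorem loc_of_killed {U V : X.Opens} (hUV : U ⊔ V = ⊤) [DCoh.HasRpush V.ι] {K : DCoh.D X}
    (hK : killed U.ι K) : Loc (qcD X) (killed V.ι) K := by
  haveI := DCat.hasRpush U.ι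
  haveI := DCat.hasRpush (U ⊓ V).ι
  obtain ⟨a, b, c, hT⟩ := DCat.MV.exists_triangle_id hUV K
  have hW : killed (U ⊓ V).ι K := killed_mono U.ι _ (by simp) hK
  haveI : IsIso a := (Triangle.isZero₃_iff_isIso₁ _ hT).1 (isZero_Rpush_obj _ hW)
  exact (loc_Rpush V.ι _).of_iso (asIso a ≪≫ (isoZeroBiprod (isZero_Rpush_obj _ hK)).symm).symm

/-- An object local on `U` and killed on `U ∩ V` is killed on `V`. -/
theorem killed_of_loc {U V : X.Opens} [DCoh.HasRpush U.ι] [QuasiCompact U.ι] {K : DCoh.D X}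
    (hK : DCoh.IsQCohD K) (hl : Loc (qcD X) (killed U.ι) K) (hW : killed (U ⊓ V).ι K) : killed V.ι K := by
  obtain ⟨e⟩ := nonempty_iso_of_loc U.ι hK hl
  haveI := DCat.hasRpush (U.ι ∣_ V)
  refine IsZero.of_iso ?_ ((DCoh.restrictD V.ι).mapIso e ≪≫
    (DCat.OpenDerived.rpushRestrictIso U.ι V).app _)
  refine isZero_Rpush_obj (U.ι ∣_ V) ((killed_iff (U.ι ⁻¹ᵁ V).ι ((DCoh.restrictD U.ι).obj K)).2 fun i t ht => ?_)
  rw [Scheme.Opens.opensRange_ι] at ht
  haveI := DCat.SuppOpen.subsingleton_stalk_restrict U.ι (DCoh.HD K i) t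
    ((killed_iff (U ⊓ V).ι K).1 hW i _ (by rw [Scheme.Opens.opensRange_ι]; exact ⟨t.2, ht⟩))
  exact DCat.SuppOpen.subsingleton_of_isZero_stalkFunctor _ t ((DCat.SuppOpen.isZero_stalkFunctor _ t).of_iso
    ((DerSch.stalkFunctor _ t).mapIso (DCat.SuppOpen.hdMapIso (Scheme.Modules.restrictFunctor U.ι) K i)))

/-- Gluing. -/
theorem hasRep_sup {U V : X.Opens} (hUV : U ⊔ V = ⊤) [QuasiCompact U.ι] [QuasiCompact V.ι]
    [QuasiCompact (U ⊓ V).ι] (hU : HasRep (U : Scheme.{u})) (hV : HasRep (V : Scheme.{u}))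
    (hW : HasRep ((U ⊓ V : X.Opens) : Scheme.{u})) : HasRep X := by
  intro Y f _ _ _ M
  haveI := DCat.hasRpush U.ι
  haveI := DCat.hasRpush V.ι
  haveI := DCat.hasRpush (U ⊓ V).ι
  haveI := DCat.hasRpush (U.ι ≫ f)
  haveI := DCat.hasRpush (V.ι ≫ f)
  haveI := DCat.hasRpush ((U ⊓ V).ι ≫ f)
  obtain ⟨_, _⟩ := DCat.exists_commShift_Rpush f
  obtain ⟨rU⟩ := exists_locRep U.ι f M (hU (U.ι ≫ f) M)
  obtain ⟨rV⟩ := exists_locRep V.ι f M (hV (V.ι ≫ f) M)
  obtain ⟨rW⟩ := exists_locRep (U ⊓ V).ι f M (hW ((U ⊓ V).ι ≫ f) M)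
  have hloc : ∀ {W : X.Opens} [DCoh.HasRpush W.ι] [QuasiCompact W.ι] (K : DCoh.D X), DCoh.IsQCohD K →
      ∃ (N L : DCoh.D X) (a : N ⟶ K) (b : K ⟶ L) (c : L ⟶ N⟦(1 : ℤ)⟧),
        Triangle.mk a b c ∈ distTriang (DCoh.D X) ∧ DCoh.IsQCohD N ∧ killed W.ι N ∧ DCoh.IsQCohD L ∧
          Loc (qcD X) (killed W.ι) L := fun {W} _ _ K hK => by
    obtain ⟨N, L, a, b, c, h1, h2, h3, h4, h5, -⟩ := exists_loc W.ι K hK
    exact ⟨N, L, a, b, c, h1, h2, h3, h4, h5⟩
  exact AdjGlue.exists_rep (hloc (W := U)) (hloc (W := U ⊓ V))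
    (fun K _ h => killed_mono U.ι _ (by simp) h) (fun K _ h => killed_mono V.ι _ (by simp) h)
    (fun K _ h => loc_of_killed hUV h) (fun K _ h => loc_of_killed (by rw [sup_comm]; exact hUV) h)
    (fun K hK hl hW' => killed_of_loc hK hl hW') rU rV rW

/-- The property, for all open subschemes with a given range. -/
def HasRepAt (O : X.Opens) : Prop :=
  ∀ (T : Scheme.{u}) (j : T ⟶ X) [IsOpenImmersion j], j.opensRange = O → HasRep T

theorem hasRepAt_of_isAffineOpen {O : X.Opens} (hO : IsAffineOpen O) : HasRepAt O := by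
  intro T j _ hj
  haveI : IsAffine T := by
    haveI : IsAffine j.opensRange := hj ▸ hO
    exact .of_isIso j.isoOpensRange.hom
  exact hasRep_of_cover T.isoSpec.inv (Scheme.Hom.opensRange_of_isIso _) (hasRep_spec _)

theorem hasRepAt_bot : HasRepAt (⊥ : X.Opens) := by
  intro T j _ hj
  haveI : IsEmpty T := ⟨fun t => by
    have : j t ∈ (⊥ : X.Opens) := hj ▸ ⟨t, rfl⟩
    exact this⟩
  intro Y f _ _ _ M
  have hz : ∀ K : DCoh.D T, IsZero K := fun K => DCat.SuppOpen.isZero_of_hd _ fun i =>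
    ModStalk.isZero_of_stalks fun x => isEmptyElim x
  obtain ⟨A, hA⟩ := (⟨0, hz _⟩ : ∃ A : DCoh.D T, IsZero A)
  exact ⟨A, 0, isQCohD_isZero hA, fun K _ => ⟨fun a b _ => (hz K).eq_of_src a b,
    fun z => ⟨0, (isZero_Rpush_obj f (hz K)).eq_of_src _ z⟩⟩⟩

theorem hasRepAt_sup [QuasiSeparatedSpace X] {O₁ O₂ : X.Opens} (h₁c : IsCompact (O₁ : Set X))
    (h₂c : IsCompact (O₂ : Set X)) (h₁ : HasRepAt O₁) (h₂ : HasRepAt O₂) (h₁₂ : HasRepAt (O₁ ⊓ O₂)) :
    HasRepAt (O₁ ⊔ O₂) := by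
  intro T j _ hj
  haveI : QuasiSeparatedSpace T := QuasiSeparatedSpace.of_isOpenEmbedding j.isOpenEmbedding
  have hr : ∀ O : X.Opens, O ≤ O₁ ⊔ O₂ → ((j ⁻¹ᵁ O).ι ≫ j).opensRange = O := fun O hO => by
    rw [Scheme.Hom.opensRange_comp, Scheme.Opens.opensRange_ι, Scheme.Hom.image_preimage_eq_opensRange_inf, hj]
    exact inf_eq_right.2 hO
  have hc : ∀ O : X.Opens, O ≤ O₁ ⊔ O₂ → IsCompact (O : Set X) → QuasiCompact (j ⁻¹ᵁ O).ι := fun O hO hOc => by
    haveI : CompactSpace (j ⁻¹ᵁ O) := isCompact_iff_compactSpace.1 (j.isOpenEmbedding.isInducing.isCompact_iff.2 (by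
      rwa [show (⇑j '' ((j ⁻¹ᵁ O : T.Opens) : Set T)) = (O : Set X) from Set.image_preimage_eq_iff.2 (by
        change (O : Set X) ⊆ (j.opensRange : Set X)
        rw [hj]
        exact hO)]))
    infer_instance
  have h12c : IsCompact ((O₁ ⊓ O₂ : X.Opens) : Set X) :=
    QuasiSeparatedSpace.inter_isCompact _ _ O₁.2 h₁c O₂.2 h₂c
  have he : (j ⁻¹ᵁ O₁) ⊓ (j ⁻¹ᵁ O₂) = j ⁻¹ᵁ (O₁ ⊓ O₂) := rfl
  haveI := hc O₁ le_sup_left h₁c
  haveI := hc O₂ le_sup_right h₂c
  haveI : QuasiCompact ((j ⁻¹ᵁ O₁) ⊓ (j ⁻¹ᵁ O₂)).ι := he ▸ hc _ (inf_le_left.trans le_sup_left) h12c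
  refine hasRep_sup (U := j ⁻¹ᵁ O₁) (V := j ⁻¹ᵁ O₂) ?_ (h₁ _ _ (hr _ le_sup_left)) (h₂ _ _ (hr _ le_sup_right))
    (he.symm ▸ h₁₂ _ _ (hr _ (inf_le_left.trans le_sup_left)))
  rw [← Scheme.Hom.preimage_sup, ← hj, Scheme.Hom.preimage_opensRange]

theorem hasRepAt_of_affine [IsAffine X] {O : X.Opens} (hO : IsCompact (O : Set X)) : HasRepAt O := by
  obtain ⟨s, hs, he⟩ := isCompact_and_isOpen_iff_finite_and_eq_biUnion_basicOpen.1 ⟨hO, O.2⟩
  obtain rfl : O = ⨆ i ∈ s, X.basicOpen i := Opens.ext (by simpa using he)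
  clear he hO
  suffices H : ∀ g : Γ(X, ⊤), HasRepAt ((⨆ i ∈ s, X.basicOpen i) ⊓ X.basicOpen g) by
    simpa using H 1
  induction s, hs using Set.Finite.induction_on with
  | empty => exact fun g => by simpa using hasRepAt_bot
  | @insert a s _ hs ih =>
    intro g
    rw [iSup_insert, inf_sup_right]
    have hc : IsCompact (((⨆ i ∈ s, X.basicOpen i) ⊓ X.basicOpen g : X.Opens) : Set X) := by
      refine QuasiSeparatedSpace.inter_isCompact _ _ (Opens.isOpen _) ?_ (Opens.isOpen _)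
        ((isAffineOpen_top X).basicOpen g).isCompact
      simp only [Opens.coe_iSup]
      exact hs.isCompact_biUnion fun i _ => ((isAffineOpen_top X).basicOpen i).isCompact
    refine hasRepAt_sup ?_ hc ?_ (ih g) ?_
    · rw [← Scheme.basicOpen_mul]
      exact ((isAffineOpen_top X).basicOpen _).isCompact
    · rw [← Scheme.basicOpen_mul]
      exact hasRepAt_of_isAffineOpen ((isAffineOpen_top X).basicOpen _)
    · have := ih (a * g)
      rw [Scheme.basicOpen_mul] at this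
      convert this using 1
      ext x
      simp
      tauto

theorem hasRepAt_of_le_affine [QuasiSeparatedSpace X] {W O : X.Opens} (hW : IsAffineOpen W) (hOW : O ≤ W)
    (hO : IsCompact (O : Set X)) : HasRepAt O := by
  intro T j _ hj
  haveI : IsAffine W := hW
  have hle : Set.range j ⊆ Set.range W.ι := by
    rw [Scheme.Opens.range_ι]
    intro x hx
    exact hOW (hj ▸ hx)
  let j' := IsOpenImmersion.lift W.ι j hle
  haveI : IsOpenImmersion j' := by
    have : IsOpenImmersion (j' ≫ W.ι) := by rw [IsOpenImmersion.lift_fac]; infer_instance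
    exact IsOpenImmersion.of_comp j' W.ι
  refine hasRepAt_of_affine (O := W.ι ⁻¹ᵁ O) ?_ T j' ?_
  · refine W.ι.isOpenEmbedding.isInducing.isCompact_iff.2 ?_
    rwa [show (⇑W.ι '' ((W.ι ⁻¹ᵁ O : (W : Scheme.{u}).Opens) : Set W)) = (O : Set X) from
      Set.image_preimage_eq_iff.2 (by rw [Scheme.Opens.range_ι]; exact hOW)]
  · refine (W.ι.preimage_image_eq j'.opensRange).symm.trans (congrArg (W.ι ⁻¹ᵁ ·) ?_)
    rw [← Scheme.Hom.opensRange_comp]
    simp [j', hj]

/-- Representability on every quasi-compact quasi-separated scheme. -/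
theorem hasRep [CompactSpace X] [QuasiSeparatedSpace X] : HasRep X := by
  have h : ∀ O : X.Opens, IsCompact (O : Set X) → HasRepAt O := fun O hO => by
    refine compact_open_induction_on (P := HasRepAt) O hO hasRepAt_bot fun S hS U ih => ?_
    exact hasRepAt_sup hS U.2.isCompact ih (hasRepAt_of_isAffineOpen U.2)
        (hasRepAt_of_le_affine U.2 inf_le_right (QuasiSeparatedSpace.inter_isCompact _ _ S.2 hS U.1.2 U.2.isCompact))
  exact h ⊤ isCompact_univ X (𝟙 X) (Scheme.Hom.opensRange_of_isIso _)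

end Groth.Agent.Dual22Lib.AdjGeom

namespace Groth.Agent.Dual22Lib.AdjGeom

/-- `Rf_*` on `D_qc` has a right adjoint. -/
theorem isLeftAdjoint_RpushQ {X Y : Scheme.{u}} [CompactSpace X] [QuasiSeparatedSpace X] [QuasiSeparatedSpace Y]
    (f : X ⟶ Y) [DCoh.HasRpush f] (h : ∀ K : DCoh.D X, DCoh.IsQCohD K → DCoh.IsQCohD ((DCoh.Rpush f).obj K)) :
    (ObjectProperty.lift DCoh.IsQCohD (ObjectProperty.ι DCoh.IsQCohD ⋙ DCoh.Rpush f)
      (fun K => h K.obj K.property)).IsLeftAdjoint := by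
  haveI : QuasiSeparated f := inferInstance
  refine Functor.isLeftAdjoint_of_rightAdjointObjIsDefined_eq_top ?_
  ext M
  simp only [Pi.top_apply, Prop.top_eq_true, iff_true]
  obtain ⟨A, ε, hA, hrep⟩ := hasRep f M.obj
  rw [Functor.rightAdjointObjIsDefined_iff]
  let F : DCoh.DQCoh X ⥤ DCoh.DQCoh Y :=
    ObjectProperty.lift DCoh.IsQCohD (ObjectProperty.ι DCoh.IsQCohD ⋙ DCoh.Rpush f) (fun K => h K.obj K.property)
  exact Functor.RepresentableBy.isRepresentable (Y := ⟨A, hA⟩)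
    { homEquiv := fun {K} => (((ObjectProperty.fullyFaithfulι DCoh.IsQCohD).homEquiv (X := K) (Y := ⟨A, hA⟩)).trans
        (Equiv.ofBijective _ (hrep K.obj K.property))).trans
        ((ObjectProperty.fullyFaithfulι DCoh.IsQCohD).homEquiv (X := F.obj K) (Y := M)).symm
      homEquiv_comp := fun {K K'} p g => by
        apply (ObjectProperty.fullyFaithfulι DCoh.IsQCohD).homEquiv.injective
        simp only [Equiv.trans_apply]
        show (DCoh.Rpush f).map (p.hom ≫ g.hom) ≫ ε = _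
        rw [(DCoh.Rpush f).map_comp, Category.assoc]
        rfl }

end Groth.Agent.Dual22Lib.AdjGeom
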