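import Groth.Agent.Dual22Lib.CohTors
import Groth.Agent.Dual22Lib.AdjExists
import Groth.Agent.Coherent.RpushCoh
import Groth.Agent.DQCoh.Bound
import Groth.Agent.DQCoh.PerfectHom
import Groth.Agent.SerreDual.Projective

/-!
# The right adjoint of `Rf_*` for proper `f` respects supports
-/

set_option autoImplicit false
set_option backward.isDefEq.respectTransparency false
set_option backward.defeqAttrib.useBackward true
set_option linter.style.haveILetI false
set_option linter.unusedSectionVars false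
set_option synthInstance.maxHeartbeats 100000

universe u

open CategoryTheory CategoryTheory.Limits CategoryTheory.Pretriangulated AlgebraicGeometry Opposite
open Groth.Agent.DCat Groth.Agent.SiteDer16
open scoped ZeroObject

attribute [local instance] HasDerivedCategory.standard
attribute [-instance] Int.instConditionallyCompleteLinearOrder

namespace Groth.Agent.Dual22Lib.SupportAdj

variable {X Y : Scheme.{u}}

instance isWeakSerre_coh (W : Scheme.{u}) [IsLocallyNoetherian W] : WSerre.IsWeakSerre (DQCoh.coh W) :=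
  haveI : (DQCoh.coh W).ContainsZero := ⟨⟨0, isZero_zero _, (DQCoh.coh_ops W).1 _ (isZero_zero _)⟩⟩
  haveI : (DQCoh.coh W).IsClosedUnderKernels := ⟨by
    rintro K ⟨f, k, hk, hM, hN⟩
    exact Coherent.isCoh_iso ((kernelIsKernel f).conePointUniqueUpToIso hk) ((DQCoh.coh_ops W).2.1 f hM hN)⟩
  haveI : (DQCoh.coh W).IsClosedUnderCokernels := ⟨by
    rintro K ⟨f, k, hk, hM, hN⟩
    exact Coherent.isCoh_iso ((cokernelIsCokernel f).coconePointUniqueUpToIso hk) ((DQCoh.coh_ops W).2.2.1 f hM hN)⟩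
  haveI : (DQCoh.coh W).IsClosedUnderExtensions := ⟨fun {T} hT h₁ h₃ => (DQCoh.coh_ops W).2.2.2 hT h₁ h₃⟩
  ⟨⟩

/-- `Rf_*` of a bounded below coherent object is coherent. -/
theorem isCohD_Rpush [IsLocallyNoetherian Y] (f : X ⟶ Y) [IsProper f] [IsLocallyNoetherian X] [DCoh.HasRpush f]
    (K : DCoh.D X) (a : ℤ) [K.IsGE a] (hK : DCoh.IsCohD K) : DCoh.IsCohD ((DCoh.Rpush f).obj K) := by
  obtain ⟨_, _⟩ := exists_commShift_Rpush f
  haveI : HasInjectiveResolutions X.Modules := Coherent.hasInjectiveResolutions_modules X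
  refine cohIn_obj_of_boundedBelow (DCoh.Rpush f) (DQCoh.coh X) (DQCoh.coh Y) (fun M hM q => ?_)
    (fun Z m hZ => isGE_totalRightDerived (modules_enoughKInj X) (Scheme.Modules.pushforward f) Z m) K a hK
  rcases lt_or_ge q 0 with h | h
  · exact (DQCoh.coh_ops Y).1 _ (DerivedCategory.isZero_of_isGE _ 0 q h
      (hX := isGE_totalRightDerived (modules_enoughKInj X) (Scheme.Modules.pushforward f) _ 0))
  · obtain ⟨p, rfl⟩ := Int.eq_ofNat_of_zero_le h
    obtain ⟨e⟩ := nonempty_iso_homology_single (modules_enoughKInj X) (Scheme.Modules.pushforward f) M p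
    exact Coherent.isCoh_iso e.symm (Coherent.isCoh_rpush f hM p)

/-- `Rf_*` of a bounded above quasi-coherent object is bounded above. -/
theorem exists_isLE_Rpush (f : X ⟶ Y) [QuasiCompact f] [QuasiSeparated f] [DCoh.HasRpush f] [CompactSpace Y] :
    ∃ N : ℤ, ∀ (E : DCoh.D X) (b : ℤ), DCoh.IsQCohD E → E.IsLE b → ((DCoh.Rpush f).obj E).IsLE (b + N) := by
  obtain ⟨_, _⟩ := exists_commShift_Rpush f
  obtain ⟨N, hN⟩ := DQCoh.exists_uniform_bound f
  refine ⟨N, fun E b hE hb => (DerivedCategory.isLE_iff _ _).2 fun i hi => ?_⟩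
  haveI := hb
  haveI : (E⟦b⟧).IsLE 0 := DerivedCategory.TStructure.t.isLE_shift E b b 0 (by omega)
  refine (hN (E⟦b⟧) (DQCoh.isQCohD_shift hE b) ‹_› (i - b) (by omega)).of_iso ?_
  exact (((DerivedCategory.homologyFunctor Y.Modules 0).shiftIso b (i - b) i (by omega)).app _).symm ≪≫
    (DerivedCategory.homologyFunctor Y.Modules (i - b)).mapIso (((DCoh.Rpush f).commShiftIso b).app E).symm

/-- The representing object of a bounded below object is bounded below. -/
theorem exists_isGE_rep (f : X ⟶ Y) [QuasiCompact f] [QuasiSeparated f] [DCoh.HasRpush f] [CompactSpace Y]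
    {Q : DCoh.D Y} (c : ℤ) [hc : Q.IsGE c] {A : DCoh.D X} (ε : (DCoh.Rpush f).obj A ⟶ Q) (hA : DCoh.IsQCohD A)
    (hrep : ∀ K, DCoh.IsQCohD K → AdjGlue.Rep (DCoh.Rpush f) Q ε K) : ∃ c' : ℤ, A.IsGE c' := by
  obtain ⟨_, _⟩ := exists_commShift_Rpush f
  obtain ⟨N, hN⟩ := exists_isLE_Rpush f
  let t : Triangulated.TStructure (DCoh.D X) := DerivedCategory.TStructure.t
  let c' := c - N
  let K := (t.truncLT c').obj A
  have hK : DCoh.IsQCohD K := DQCoh.isQCohD_truncLT A hA c'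
  haveI : K.IsLE (c' - 1) := t.isLE_truncLT_obj A c' (c' - 1) (by omega)
  haveI : ((DCoh.Rpush f).obj K).IsLE (c' - 1 + N) := hN K _ hK inferInstance
  have h0 : (t.truncLTι c').app A = 0 := (hrep K hK).zero
    (DerivedCategory.TStructure.t.zero _ (c' - 1 + N) c (by omega))
  refine ⟨c', (DerivedCategory.isGE_iff A c').2 fun i hi => ?_⟩
  have hT := t.triangleLTGE_distinguished c' A
  haveI : Epi ((DerivedCategory.homologyFunctor X.Modules i).map ((t.truncLTι c').app A)) :=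
    (DerivedCategory.HomologySequence.epi_homologyMap_mor₁_iff _ hT i).2
      ((DerivedCategory.isZero_of_isGE ((t.truncGE c').obj A) c' i hi).eq_of_tgt _ _)
  rw [IsZero.iff_id_eq_zero, ← cancel_epi ((DerivedCategory.homologyFunctor X.Modules i).map ((t.truncLTι c').app A)),
    h0, Functor.map_zero, zero_comp, zero_comp]

section Spec

variable {R : Type u} [CommRing R] {T : Scheme.{u}}

theorem isIso_smul_id_mod {A : Type u} [CommRing A] {T : Scheme.{u}} [T.Over (Spec (CommRingCat.of A))]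
    (M : T.Modules) (a : A) (ha : IsUnit (Coh.toGlobal (T ↘ Spec (CommRingCat.of A)) a)) : IsIso (a • 𝟙 M) := by
  obtain ⟨v, hv⟩ := ha
  rw [KLin.smul_id]
  exact ⟨⟨Formal.smulModΓ M ↑v⁻¹,
    by rw [Formal.smulMod, ← hv, ← KLin.smulModΓ_mul, Units.mul_inv, KLin.smulModΓ_one],
    by rw [Formal.smulMod, ← hv, ← KLin.smulModΓ_mul, Units.inv_mul, KLin.smulModΓ_one]⟩⟩

theorem isUnit_toGlobal_dop {A : Type u} [CommRing A] (a : A) {T : Scheme.{u}} [T.Over (Spec (CommRingCat.of A))]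
    [(CohTors.dop a T : Scheme.{u}).Over (Spec (CommRingCat.of A))]
    [(CohTors.dop a T).ι.IsOver (Spec (CommRingCat.of A))] (n : ℕ) :
    IsUnit (Coh.toGlobal ((CohTors.dop a T : Scheme.{u}) ↘ Spec (CommRingCat.of A)) (a ^ n)) := by
  rw [map_pow]
  refine IsUnit.pow n ?_
  have h : CohTors.dop a (CohTors.dop a T : Scheme.{u}) = ⊤ := by
    rw [← CohTors.preimage_dop a (CohTors.dop a T).ι, Scheme.Opens.ι_preimage_self]
  refine RingedSpace.isUnit_of_isUnit_germ _ ⊤ _ fun x hx => ?_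
  rw [← RingedSpace.mem_basicOpen _ _ x hx]
  exact (h ▸ trivial : x ∈ CohTors.dop a (CohTors.dop a T : Scheme.{u}))

/-- The statement for the locus where a scalar is invertible. -/
theorem killed_dop [IsNoetherian T] (f : X ⟶ T) [IsProper f] [DCoh.HasRpush f]
    (r : R) [T.Over (Spec (CommRingCat.of R))] [X.Over (Spec (CommRingCat.of R))]
    [f.IsOver (Spec (CommRingCat.of R))]
    {Q : DCoh.D T} (c : ℤ) [hc : Q.IsGE c] (hQ : DCoh.IsQCohD Q)
    (hk : AdjGeom.killed (CohTors.dop (A := R) r T).ι Q)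
    {A : DCoh.D X} (ε : (DCoh.Rpush f).obj A ⟶ Q) (hA : DCoh.IsQCohD A)
    (hrep : ∀ K, DCoh.IsQCohD K → AdjGlue.Rep (DCoh.Rpush f) Q ε K) :
    AdjGeom.killed (CohTors.dop (A := R) r X).ι A := by
  haveI : IsLocallyNoetherian X := LocallyOfFiniteType.isLocallyNoetherian f
  haveI : CompactSpace X := QuasiCompact.compactSpace_of_compactSpace f
  haveI : IsNoetherian X := { }
  obtain ⟨_, _⟩ := exists_commShift_Rpush f
  obtain ⟨c', hc'⟩ := exists_isGE_rep f c ε hA hrep
  haveI := hc'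
  let D := CohTors.dop (A := R) r X
  letI : (D : Scheme.{u}).Over (Spec (CommRingCat.of R)) := ⟨D.ι ≫ X ↘ Spec (CommRingCat.of R)⟩
  haveI : D.ι.IsOver (Spec (CommRingCat.of R)) := ⟨rfl⟩
  haveI := PullPerf.preservesFiniteLimits_restrict D.ι
  suffices H : ∀ (k : ℕ) (i : ℤ), i < c' + k → ∀ x ∈ D, Subsingleton ((DCoh.HD A i).presheaf.stalk x) by
    refine (AdjGeom.killed_iff D.ι A).2 fun i x hx => H (i + 1 - c').toNat i (by omega) x ?_
    rwa [Scheme.Opens.opensRange_ι] at hx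
  intro k
  induction k with
  | zero =>
    intro i hi x _
    exact DCat.SuppOpen.subsingleton_of_isZero_stalkFunctor _ x
      ((DerSch.stalkFunctor X x).map_isZero (DerivedCategory.isZero_of_isGE A c' i (by omega)))
  | succ k ih =>
    intro i hi x hx
    rcases lt_or_eq_of_le (show i ≤ c' + k by push_cast at hi; omega) with hlt | heq
    · exact ih i hlt x hx
    let t : Triangulated.TStructure (DCoh.D X) := DerivedCategory.TStructure.t
    let T1 := (t.truncLT (i + 1)).obj A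
    let ι₁ : T1 ⟶ A := (t.truncLTι (i + 1)).app A
    have hT1q : DCoh.IsQCohD T1 := DQCoh.isQCohD_truncLT A hA (i + 1)
    haveI : T1.IsLE i := t.isLE_truncLT_obj A (i + 1) i (by omega)
    have hι₁ : ∀ j : ℤ, j ≤ i → IsIso ((DerivedCategory.homologyFunctor X.Modules j).map ι₁) := fun j hj => by
      have hT := t.triangleLTGE_distinguished (i + 1) A
      haveI := DCat.mono_homology_truncLTι A (i + 1) j
      haveI : Epi ((DerivedCategory.homologyFunctor X.Modules j).map ι₁) :=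
        (DerivedCategory.HomologySequence.epi_homologyMap_mor₁_iff _ hT j).2
          ((DerivedCategory.isZero_of_isGE ((t.truncGE (i + 1)).obj A) (i + 1) j (by omega)).eq_of_tgt _ _)
      exact isIso_of_mono_of_epi _
    let S := (t.truncGE i).obj T1
    let π : T1 ⟶ S := (t.truncGEπ i).app T1
    haveI : S.IsGE i := inferInstanceAs (((t.truncGE i).obj T1).IsGE i)
    let L0 := (t.truncLT i).obj T1
    haveI : L0.IsLE (i - 1) := t.isLE_truncLT_obj T1 i (i - 1) (by omega)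
    have hT := t.triangleLTGE_distinguished i T1
    haveI hπ : IsIso ((DerivedCategory.homologyFunctor X.Modules i).map π) := by
      haveI : Mono ((DerivedCategory.homologyFunctor X.Modules i).map π) :=
        (DerivedCategory.HomologySequence.mono_homologyMap_mor₂_iff _ hT i).2
          ((DerivedCategory.isZero_of_isLE L0 (i - 1) i (by omega)).eq_of_src _ _)
      haveI : Epi ((DerivedCategory.homologyFunctor X.Modules i).map π) := by
        refine (DerivedCategory.HomologySequence.epi_homologyMap_mor₂_iff _ hT i (i + 1) rfl).2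
          ((DerivedCategory.isZero_of_isLE L0 (i - 1) (i + 1) (by omega)).eq_of_tgt _ _)
      exact isIso_of_mono_of_epi _
    haveI : S.IsLE i := by
      rw [DerivedCategory.isLE_iff]
      intro j hj
      exact (DerivedCategory.HomologySequence.exact₂ _ (rot_of_distTriang _ hT) j).isZero_of_both_zeros
        ((DerivedCategory.isZero_of_isLE T1 i j hj).eq_of_src _ _)
        (IsZero.eq_of_tgt ((DerivedCategory.isZero_of_isLE L0 (i - 1) (j + 1) (by omega)).of_iso
          (((DerivedCategory.homologyFunctor X.Modules 0).shiftIso 1 j (j + 1) (by omega)).app L0)) _ _)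
    obtain ⟨Y', ⟨eS⟩⟩ := DerivedCategory.exists_iso_singleFunctor_obj_of_isGE_of_isLE S i
    let H : DCoh.D X ⥤ X.Modules := DerivedCategory.homologyFunctor X.Modules i
    let σ := DerivedCategory.singleFunctorCompHomologyFunctorIso X.Modules i
    let θ₀ : Y' ≅ DCoh.HD A i := (σ.app Y').symm ≪≫ H.mapIso eS.symm ≪≫
      (asIso (H.map π)).symm ≪≫ @asIso _ _ _ _ (H.map ι₁) (hι₁ i le_rfl)
    by_contra hns
    rw [not_subsingleton_iff_nontrivial] at hns
    obtain ⟨z, hz⟩ := exists_ne (0 : (DCoh.HD A i).presheaf.stalk x)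
    obtain ⟨W, hxW, s, rfl⟩ := TopCat.Presheaf.germ_exist (DCoh.HD A i).presheaf z
    haveI : Coh.IsQCoh (DCoh.HD A i) := hA i
    obtain ⟨G, g, _, hG, s', hs'⟩ := SerreDual.exists_coh_sub (M := DCoh.HD A i) s
    let P : DCoh.D X := (DerivedCategory.singleFunctor X.Modules i).obj G
    have hP : DCoh.IsCohD P := fun j => by
      by_cases hj : j = i
      · subst hj
        exact Coherent.isCoh_iso (σ.app G).symm hG
      · refine (DQCoh.coh_ops X).1 _ ?_
        rcases lt_or_gt_of_ne hj with hlt | hlt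
        · exact DerivedCategory.isZero_of_isGE P i j hlt
        · exact DerivedCategory.isZero_of_isLE P i j hlt
    let g' : P ⟶ S := (DerivedCategory.singleFunctor X.Modules i).map (g ≫ θ₀.inv) ≫ eS.inv
    have hL0 : DCoh.IsQCohD L0 := DQCoh.isQCohD_truncLT T1 hT1q i
    haveI : L0.IsGE c' := by
      rw [DerivedCategory.isGE_iff]
      intro j hj
      rcases lt_or_ge j i with hji | hji
      · haveI := DCat.mono_homology_truncLTι T1 i j
        haveI : T1.IsGE c' := (DerivedCategory.isGE_iff _ _).2 fun l hl => by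
          rcases le_or_gt l i with hli | hli
          · haveI := hι₁ l hli
            exact (DerivedCategory.isZero_of_isGE A c' l hl).of_iso
              (asIso ((DerivedCategory.homologyFunctor X.Modules l).map ι₁))
          · exact DerivedCategory.isZero_of_isLE T1 i l hli
        exact IsZero.of_mono ((DerivedCategory.homologyFunctor X.Modules j).map ((t.truncLTι i).app T1))
          (DerivedCategory.isZero_of_isGE T1 c' j hj)
      · exact DerivedCategory.isZero_of_isLE L0 (i - 1) j (by omega)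
    haveI : (L0⟦(1 : ℤ)⟧).IsGE (c' - 1) := t.isGE_shift L0 c' 1 (c' - 1) (by omega)
    have hkill : AdjGeom.killed D.ι (L0⟦(1 : ℤ)⟧) := by
      refine (ObjectProperty.IsStableUnderShift.isStableUnderShiftBy (P := AdjGeom.killed D.ι) (1 : ℤ)).le_shift _
        ((AdjGeom.killed_iff D.ι L0).2 fun j y hy => ?_)
      rcases lt_or_ge j i with hji | hji
      · rw [Scheme.Opens.opensRange_ι] at hy
        haveI := hι₁ j hji.le
        haveI := DCat.mono_homology_truncLTι T1 i j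
        have hzA : IsZero ((DerSch.stalkFunctor X y).obj (DCoh.HD A j)) := by
          haveI := ih j (by omega) y hy
          exact DCat.SuppOpen.isZero_stalkFunctor _ y
        haveI : (DerSch.stalkFunctor X y).PreservesMonomorphisms := inferInstance
        exact DCat.SuppOpen.subsingleton_of_isZero_stalkFunctor _ y (IsZero.of_mono
          ((DerSch.stalkFunctor X y).map ((DerivedCategory.homologyFunctor X.Modules j).map ((t.truncLTι i).app T1) ≫
            (DerivedCategory.homologyFunctor X.Modules j).map ι₁)) hzA)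
      · exact DCat.SuppOpen.subsingleton_of_isZero_stalkFunctor _ y
          ((DerSch.stalkFunctor X y).map_isZero (DerivedCategory.isZero_of_isLE L0 (i - 1) j (by omega)))
    obtain ⟨n, hn⟩ := CohTors.exists_pow_smul_eq_zero (A := R) r i (c' - 1) hP (DQCoh.isQCohD_shift hL0 1) hkill
      (g' ≫ ((t.triangleLTGE i).obj T1).mor₃)
    obtain ⟨ψ₀, hψ₀⟩ := Triangle.coyoneda_exact₃ _ hT ((r ^ n) • g') (by rw [Linear.smul_comp]; exact hn)
    let ψ := ψ₀ ≫ ι₁
    haveI : ((DCoh.Rpush f).obj P).IsLE (i + (exists_isLE_Rpush f).choose) :=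
      (exists_isLE_Rpush f).choose_spec P i (fun j => (hP j).1) inferInstance
    obtain ⟨m, hm⟩ := CohTors.exists_pow_smul_eq_zero (A := R) r (i + (exists_isLE_Rpush f).choose) c
      (isCohD_Rpush f P i hP) hQ hk ((DCoh.Rpush f).map ψ ≫ ε)
    have hψ : (r ^ m) • ψ = 0 := by
      refine (hrep P fun j => (hP j).1).zero ?_
      rw [show (r ^ m) • ψ = ((r ^ m) • 𝟙 P) ≫ ψ by rw [Linear.smul_comp, Category.id_comp], Functor.map_comp,
        ScalarD.Rpush_map_smul_id, Linear.smul_comp, Category.id_comp, Linear.smul_comp, hm]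
    have hr : (DCoh.restrictD D.ι).map ψ = 0 := by
      have h0 : (r ^ m • 𝟙 ((DCoh.restrictD D.ι).obj P)) ≫ (DCoh.restrictD D.ι).map ψ = 0 := by
        rw [← ScalarD.restrictD_map_smul_id, ← Functor.map_comp, Linear.smul_comp, Category.id_comp, hψ,
          Functor.map_zero]
      haveI := ScalarD.isIso_smul_id ((DCoh.restrictD D.ι).obj P) (r ^ m) (isUnit_toGlobal_dop r m)
      rwa [← cancel_epi (r ^ m • 𝟙 ((DCoh.restrictD D.ι).obj P)), comp_zero]
    obtain ⟨η⟩ := DQCoh.nonempty_homology_natIso (Scheme.Modules.restrictFunctor D.ι) i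
    have hH : (Scheme.Modules.restrictFunctor D.ι).map (H.map ψ) = 0 := by
      have hn' := η.hom.naturality ψ
      rw [Functor.comp_map, hr, Functor.map_zero, zero_comp] at hn'
      rw [← cancel_epi (η.hom.app P), comp_zero]
      exact hn'.symm
    have hψπ : H.map ψ = (σ.hom.app G) ≫ (((r ^ n) • 𝟙 G) ≫ g) := by
      have e1 : H.map ψ₀ ≫ H.map π = H.map ((r ^ n) • g') := by rw [← H.map_comp]; exact congrArg H.map hψ₀.symm
      have e2 : H.map ((r ^ n) • g') = σ.hom.app G ≫ ((r ^ n) • 𝟙 G) ≫ (g ≫ θ₀.inv) ≫ σ.inv.app Y' ≫ H.map eS.inv := by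
        rw [show (r ^ n) • g' = ((r ^ n) • 𝟙 P) ≫ g' by rw [Linear.smul_comp, Category.id_comp], H.map_comp,
          Torsion.homologyMap_smul_id, H.map_comp]
        have hn2 := σ.hom.naturality (g ≫ θ₀.inv)
        dsimp at hn2
        simp only [Linear.smul_comp, Category.id_comp, Linear.comp_smul]
        congr 1
        erw [Category.id_comp, Category.id_comp]
        simp only [Category.assoc]
        erw [← reassoc_of% hn2]
        rw [Iso.hom_inv_id_app_assoc]
      haveI := hι₁ i le_rfl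
      have e3 : θ₀.inv ≫ σ.inv.app Y' ≫ H.map eS.inv = inv (H.map ι₁) ≫ H.map π := by
        simp only [θ₀, Iso.trans_inv, Iso.symm_inv, asIso_inv, asIso_hom, Functor.mapIso_hom, Functor.mapIso_inv,
          Iso.app_hom, Iso.app_inv, Category.assoc]
        rw [Iso.hom_inv_id_app_assoc, ← H.map_comp, eS.hom_inv_id, H.map_id, Category.comp_id]
      rw [H.map_comp]
      rw [Category.assoc, e3, ← e1] at e2
      rw [← cancel_mono (inv (H.map ι₁) ≫ H.map π)]
      simpa using e2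
    have hg0 : (Scheme.Modules.restrictFunctor D.ι).map g = 0 := by
      rw [hψπ, Functor.map_comp, Functor.map_comp] at hH
      erw [ScalarD.restrict_map_smul_id (A := R) D.ι G (r ^ n)] at hH
      haveI := isIso_smul_id_mod ((Scheme.Modules.restrictFunctor D.ι).obj G) (r ^ n) (isUnit_toGlobal_dop r n)
      exact (cancel_epi ((Scheme.Modules.restrictFunctor D.ι).map (σ.hom.app G) ≫
        ((r ^ n) • 𝟙 ((Scheme.Modules.restrictFunctor D.ι).obj G)))).1 (by rw [Category.assoc, hH, comp_zero])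
    let W' := D.ι ''ᵁ (D.ι ⁻¹ᵁ W)
    have hW'W : W' ≤ W := D.ι.image_preimage_le W
    have hxW' : x ∈ W' := ⟨⟨x, hx⟩, hxW, rfl⟩
    apply hz
    rw [← hs', ← TopCat.Presheaf.germ_res_apply (DCoh.HD A i).presheaf (homOfLE hW'W) x hxW']
    have hv : (DCoh.HD A i).presheaf.map (homOfLE hW'W).op (g.app W s') = 0 := by
      refine (Coherent.app_resM g hW'W s').symm.trans ?_
      exact congrArg (fun φ : (Scheme.Modules.restrictFunctor D.ι).obj G ⟶ (Scheme.Modules.restrictFunctor D.ι).obj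
        (DCoh.HD A i) => φ.app (D.ι ⁻¹ᵁ W) (Coherent.resM G hW'W s')) hg0
    rw [hv, map_zero]

end Spec


/-- Representing objects are unique. -/
theorem nonempty_iso_of_rep (f : X ⟶ Y) [DCoh.HasRpush f] {Q : DCoh.D Y} {A B : DCoh.D X}
    {ε : (DCoh.Rpush f).obj A ⟶ Q} {ε' : (DCoh.Rpush f).obj B ⟶ Q} (hA : DCoh.IsQCohD A) (hB : DCoh.IsQCohD B)
    (h : ∀ K, DCoh.IsQCohD K → AdjGlue.Rep (DCoh.Rpush f) Q ε K)
    (h' : ∀ K, DCoh.IsQCohD K → AdjGlue.Rep (DCoh.Rpush f) Q ε' K) : Nonempty (A ≅ B) := by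
  obtain ⟨g, hg⟩ := (h' A hA).2 ε
  obtain ⟨g', hg'⟩ := (h B hB).2 ε'
  simp only at hg hg'
  refine ⟨⟨g, g', (h A hA).1 ?_, (h' B hB).1 ?_⟩⟩
  · simp only [Functor.map_comp, Category.assoc]
    erw [hg', hg]
    simp
  · simp only [Functor.map_comp, Category.assoc]
    erw [hg, hg']
    simp

/-- The counit of an adjunction on `D_qc` is a representing map. -/
theorem rep_counit (f : X ⟶ Y) [DCoh.HasRpush f]
    (h : ∀ K : DCoh.D X, DCoh.IsQCohD K → DCoh.IsQCohD ((DCoh.Rpush f).obj K)) (a : DCoh.DQCoh Y ⥤ DCoh.DQCoh X)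
    (adj : (ObjectProperty.lift DCoh.IsQCohD (ObjectProperty.ι DCoh.IsQCohD ⋙ DCoh.Rpush f)
      (fun K => h K.obj K.property)) ⊣ a) (M : DCoh.DQCoh Y) (K : DCoh.D X) (hK : DCoh.IsQCohD K) :
    AdjGlue.Rep (DCoh.Rpush f) M.obj (A := (a.obj M).obj) (adj.counit.app M).hom K := by
  have hb := ((ObjectProperty.fullyFaithfulι DCoh.IsQCohD).homEquiv (X := ⟨K, hK⟩) (Y := a.obj M)).symm.bijective
  have hc := (adj.homEquiv ⟨K, hK⟩ M).symm.bijective
  have hd := ((ObjectProperty.fullyFaithfulι DCoh.IsQCohD).homEquiv (Y := M)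
    (X := (ObjectProperty.lift DCoh.IsQCohD (ObjectProperty.ι DCoh.IsQCohD ⋙ DCoh.Rpush f)
      (fun K => h K.obj K.property)).obj ⟨K, hK⟩)).bijective
  unfold AdjGlue.Rep
  convert hd.comp (hc.comp hb) using 1
  funext g
  simp [Adjunction.homEquiv_counit]
  rfl

/-- The property to be proved by induction on the base. -/
def SuppProp (T : Scheme.{u}) : Prop :=
  IsNoetherian T → ∀ ⦃X : Scheme.{u}⦄ (f : X ⟶ T) [IsProper f] [DCoh.HasRpush f] (V : T.Opens) (Q : DCoh.D T)
    (c : ℤ) [Q.IsGE c], DCoh.IsQCohD Q → AdjGeom.killed V.ι Q → ∀ (A : DCoh.D X)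
      (ε : (DCoh.Rpush f).obj A ⟶ Q), DCoh.IsQCohD A →
      (∀ K, DCoh.IsQCohD K → AdjGlue.Rep (DCoh.Rpush f) Q ε K) → AdjGeom.killed (f ⁻¹ᵁ V).ι A

theorem suppProp_of_isAffine (T : Scheme.{u}) (hT : IsAffine T) : SuppProp T := by
  intro _ X f _ _ V Q c _ hQ hk A ε hA hrep
  letI : T.Over (Spec (CommRingCat.of Γ(T, ⊤))) := ⟨T.isoSpec.hom⟩
  letI : X.Over (Spec (CommRingCat.of Γ(T, ⊤))) := ⟨f ≫ T.isoSpec.hom⟩
  haveI : f.IsOver (Spec (CommRingCat.of Γ(T, ⊤))) := ⟨rfl⟩
  refine (AdjGeom.killed_iff (f ⁻¹ᵁ V).ι A).2 fun i x hx => ?_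
  rw [Scheme.Opens.opensRange_ι] at hx
  obtain ⟨r, hrV, hxr⟩ :=
    (isAffineOpen_top T).exists_basicOpen_le (V := V) (⟨f x, hx⟩ : V) trivial
  replace hrV : T.basicOpen r ≤ V := hrV
  have e : Coh.toGlobal (T ↘ Spec (CommRingCat.of Γ(T, ⊤))) r = r := by
    change (T.isoSpec.hom.appTop) ((Scheme.ΓSpecIso Γ(T, ⊤)).inv r) = r
    rw [Scheme.isoSpec_hom, Scheme.toSpecΓ_appTop, ← CommRingCat.comp_apply, Iso.inv_hom_id]
    rfl
  have hd : CohTors.dop (A := Γ(T, ⊤)) r T = T.basicOpen r := congrArg T.basicOpen e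
  have hA' := killed_dop (R := Γ(T, ⊤)) f r c hQ (AdjGeom.killed_mono V.ι _ (by
    rw [Scheme.Opens.opensRange_ι, Scheme.Opens.opensRange_ι, hd]; exact hrV) hk) ε hA hrep
  refine (AdjGeom.killed_iff _ A).1 hA' i x ?_
  rw [Scheme.Opens.opensRange_ι, ← CohTors.preimage_dop r f, hd]
  exact hxr

theorem suppProp_of_isEmpty (T : Scheme.{u}) (hT : IsEmpty T) : SuppProp T :=
  haveI : IsAffine T := isAffine_of_isEmpty
  suppProp_of_isAffine T ‹_›

/-- The representing object of `Rj_*` of a restriction. -/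
theorem exists_rep_restrict [IsNoetherian Y] (f : X ⟶ Y) [IsProper f] [DCoh.HasRpush f] (Z V : Y.Opens)
    (hP : SuppProp (Z : Scheme.{u})) (Q : DCoh.D Y) (c : ℤ) [hc : Q.IsGE c] (hQ : DCoh.IsQCohD Q)
    (hk : AdjGeom.killed V.ι Q) [DCoh.HasRpush Z.ι] :
    ∃ (B : DCoh.D X) (ε : (DCoh.Rpush f).obj B ⟶ (DCoh.Rpush Z.ι).obj ((DCoh.restrictD Z.ι).obj Q)),
      DCoh.IsQCohD B ∧ (∀ K, DCoh.IsQCohD K →
        AdjGlue.Rep (DCoh.Rpush f) ((DCoh.Rpush Z.ι).obj ((DCoh.restrictD Z.ι).obj Q)) ε K) ∧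
      AdjGeom.killed (f ⁻¹ᵁ V).ι B := by
  haveI : IsLocallyNoetherian X := LocallyOfFiniteType.isLocallyNoetherian f
  haveI : CompactSpace X := QuasiCompact.compactSpace_of_compactSpace f
  haveI : IsNoetherian X := { }
  haveI : CompactSpace (Z : Scheme.{u}) := isCompact_iff_compactSpace.1 (TopologicalSpace.NoetherianSpace.isCompact _)
  haveI : IsNoetherian (Z : Scheme.{u}) := { }
  let Z' := f ⁻¹ᵁ Z
  haveI : CompactSpace (Z' : Scheme.{u}) := isCompact_iff_compactSpace.1 (TopologicalSpace.NoetherianSpace.isCompact _)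
  haveI : IsNoetherian (Z' : Scheme.{u}) := { }
  haveI : IsProper (f ∣_ Z) := inferInstance
  haveI := DCat.hasRpush (f ∣_ Z)
  haveI := DCat.hasRpush Z'.ι
  haveI := PullPerf.preservesFiniteLimits_restrict Z.ι
  haveI := PullPerf.preservesFiniteLimits_restrict Z'.ι
  obtain ⟨A, εZ, hA, hrep⟩ := AdjGeom.hasRep (f ∣_ Z) ((DCoh.restrictD Z.ι).obj Q)
  haveI := CohTors.isGE_restrictD Z.ι c hc
  have hkA : AdjGeom.killed ((f ∣_ Z) ⁻¹ᵁ (Z.ι ⁻¹ᵁ V)).ι A :=
    hP inferInstance (f ∣_ Z) (Z.ι ⁻¹ᵁ V) _ c (AdjGeom.isQCohD_restrictD Z.ι hQ)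
      (GammaZ.killed_restrict Z.ι V hk) A εZ hA hrep
  obtain ⟨adj, -⟩ := AdjGeom.exists_adj Z.ι
  obtain ⟨adj', -⟩ := AdjGeom.exists_adj Z'.ι
  let rr := DCat.OpenDerived.rpushRestrictIso f Z
  let B := (DCoh.Rpush Z'.ι).obj A
  let εB : (DCoh.Rpush f).obj B ⟶ (DCoh.Rpush Z.ι).obj ((DCoh.restrictD Z.ι).obj Q) :=
    adj.homEquiv _ _ (rr.hom.app B ≫ (DCoh.Rpush (f ∣_ Z)).map (adj'.counit.app A) ≫ εZ)
  refine ⟨B, εB, DQCoh.isQCohD_Rpush Z'.ι A hA, fun K hK => ?_, ?_⟩
  · have hbij := (adj.homEquiv _ _).bijective.comp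
      (((Iso.homFromEquiv (rr.app K).symm).bijective).comp
        ((hrep _ (AdjGeom.isQCohD_restrictD Z'.ι hK)).comp (adj'.homEquiv K A).symm.bijective))
    unfold AdjGlue.Rep
    convert hbij using 1
    funext g
    refine (adj.homEquiv _ _).symm.injective ?_
    simp only [Function.comp_apply, Equiv.symm_apply_apply, εB, Adjunction.homEquiv_naturality_left_symm]
    have hn := rr.hom.naturality g
    dsimp at hn
    erw [reassoc_of% hn]
    simp [Adjunction.homEquiv_counit]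
    rfl
  · haveI := DCat.hasRpush (Z'.ι ∣_ (f ⁻¹ᵁ V))
    haveI := PullPerf.preservesFiniteLimits_restrict (f ⁻¹ᵁ V).ι
    haveI := PullPerf.preservesFiniteLimits_restrict (Z'.ι ⁻¹ᵁ (f ⁻¹ᵁ V)).ι
    refine IsZero.of_iso (AdjGeom.isZero_Rpush_obj _ (CohTors.killed_congr ?_ hkA))
      ((DCat.OpenDerived.rpushRestrictIso Z'.ι (f ⁻¹ᵁ V)).app A)
    rw [← Scheme.Hom.comp_preimage, morphismRestrict_ι, Scheme.Hom.comp_preimage]

theorem suppProp_supStep : OpenInduct.SupStep.{u} SuppProp := by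
  intro T _ U W hUW _ _ _ hU hW hUW' hT X f _ _ V Q c _ hQ hk A ε hA hrep
  haveI := hT
  haveI : IsLocallyNoetherian X := LocallyOfFiniteType.isLocallyNoetherian f
  haveI : CompactSpace X := QuasiCompact.compactSpace_of_compactSpace f
  haveI : IsNoetherian X := { }
  haveI := fun Z : T.Opens => DCat.hasRpush Z.ι
  haveI := fun Z : T.Opens => PullPerf.preservesFiniteLimits_restrict Z.ι
  have h := fun K hK => DQCoh.isQCohD_Rpush f K hK
  haveI := AdjGeom.isLeftAdjoint_RpushQ f h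
  obtain ⟨_, _⟩ := DCat.exists_commShift_Rpush f
  let F : (AdjGeom.qcD X).FullSubcategory ⥤ (AdjGeom.qcD T).FullSubcategory :=
    ObjectProperty.lift (AdjGeom.qcD T) (ObjectProperty.ι (AdjGeom.qcD X) ⋙ DCoh.Rpush f)
      (fun K => h K.obj K.property)
  haveI : F.IsLeftAdjoint := AdjGeom.isLeftAdjoint_RpushQ f h
  let G := F.rightAdjoint
  let adj : F ⊣ G := Adjunction.ofIsLeftAdjoint F
  letI : G.CommShift ℤ := adj.rightAdjointCommShift ℤ
  haveI : adj.CommShift ℤ := adj.commShift_of_leftAdjoint ℤ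
  haveI : F.IsTriangulated := inferInstance
  haveI : G.IsTriangulated := adj.isTriangulated_rightAdjoint
  let O := f ⁻¹ᵁ V
  haveI := PullPerf.preservesFiniteLimits_restrict O.ι
  let Φ : DCoh.D T → Prop := fun M => ∀ hM : DCoh.IsQCohD M, AdjGeom.killed O.ι (G.obj ⟨M, hM⟩).obj
  have hrepG : ∀ (M : (AdjGeom.qcD T).FullSubcategory) (K : DCoh.D X), DCoh.IsQCohD K →
      AdjGlue.Rep (DCoh.Rpush f) M.obj (A := (G.obj M).obj) (adj.counit.app M).hom K :=
    fun M K hK => rep_counit f h G adj M K hK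
  have htri : ∀ (L : Triangle (DCoh.D T)), L ∈ distTriang _ → DCoh.IsQCohD L.obj₁ → DCoh.IsQCohD L.obj₃ →
      Φ L.obj₁ → Φ L.obj₃ → Φ L.obj₂ := fun L hL h₁ h₃ p₁ p₃ h₂ => by
    let M₁ : (AdjGeom.qcD T).FullSubcategory := ⟨L.obj₁, h₁⟩
    let M₂ : (AdjGeom.qcD T).FullSubcategory := ⟨L.obj₂, h₂⟩
    let M₃ : (AdjGeom.qcD T).FullSubcategory := ⟨L.obj₃, h₃⟩
    let L' : Triangle (AdjGeom.qcD T).FullSubcategory :=
      Triangle.mk (ObjectProperty.homMk L.mor₁ : M₁ ⟶ M₂) (ObjectProperty.homMk L.mor₂ : M₂ ⟶ M₃)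
        (ObjectProperty.homMk (L.mor₃ ≫ ((ObjectProperty.ι (AdjGeom.qcD T)).commShiftIso (1 : ℤ)).inv.app M₁) :
          M₃ ⟶ M₁⟦(1 : ℤ)⟧)
    have hL' : L' ∈ distTriang _ := by
      refine isomorphic_distinguished _ hL _ (Triangle.isoMk _ _ (Iso.refl _) (Iso.refl _) (Iso.refl _) ?_ ?_ ?_)
      all_goals simp [L']
      all_goals try exact (Category.comp_id _).trans (Category.id_comp _).symm
      all_goals try exact Category.comp_id _
    have hD := (DCoh.restrictD O.ι).map_distinguished _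
      ((ObjectProperty.ι (AdjGeom.qcD X)).map_distinguished _ (G.map_distinguished _ hL'))
    exact (Pretriangulated.Triangle.isZero₂_of_isZero₁₃ _ hD (p₁ h₁) (p₃ h₃))
  have key : ∀ (Z : T.Opens), SuppProp (Z : Scheme.{u}) →
      Φ ((DCoh.Rpush Z.ι).obj ((DCoh.restrictD Z.ι).obj Q)) := fun Z hZ hM => by
    obtain ⟨B, εB, hB, hrepB, hkB⟩ := exists_rep_restrict f Z V hZ Q c hQ hk
    obtain ⟨e⟩ := nonempty_iso_of_rep f hB (G.obj ⟨_, hM⟩).property hrepB (hrepG ⟨_, hM⟩)
    exact hkB.of_iso ((DCoh.restrictD O.ι).mapIso e.symm)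
  have hqc : ∀ Z : T.Opens, DCoh.IsQCohD ((DCoh.Rpush Z.ι).obj ((DCoh.restrictD Z.ι).obj Q)) := fun Z => by
    haveI : CompactSpace (Z : Scheme.{u}) := isCompact_iff_compactSpace.1 (TopologicalSpace.NoetherianSpace.isCompact _)
    exact DQCoh.isQCohD_Rpush Z.ι _ (AdjGeom.isQCohD_restrictD Z.ι hQ)
  obtain ⟨α, β, γ, hMV⟩ := MV.exists_triangle_id hUW Q
  have hmid := htri _ (binaryBiproductTriangle_distinguished _ _) (hqc U) (hqc W) (key U hU) (key W hW)
  have hmidq : DCoh.IsQCohD ((DCoh.Rpush U.ι).obj ((DCoh.restrictD U.ι).obj Q) ⊞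
      (DCoh.Rpush W.ι).obj ((DCoh.restrictD W.ι).obj Q)) :=
    (AdjGeom.qcD T).ext_of_isTriangulatedClosed₂ _ (binaryBiproductTriangle_distinguished _ _) (hqc U) (hqc W)
  have hshift : Φ (((DCoh.Rpush (U ⊓ W).ι).obj ((DCoh.restrictD (U ⊓ W).ι).obj Q))⟦(-1 : ℤ)⟧) := fun hM => by
    refine (ObjectProperty.le_shift (AdjGeom.killed O.ι) (-1 : ℤ) _ (key (U ⊓ W) hUW' (hqc _))).of_iso ?_
    let M : (AdjGeom.qcD T).FullSubcategory := ⟨_, hqc (U ⊓ W)⟩
    let e : (⟨_, hM⟩ : (AdjGeom.qcD T).FullSubcategory) ≅ M⟦(-1 : ℤ)⟧ :=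
      (ObjectProperty.fullyFaithfulι (AdjGeom.qcD T)).preimageIso
        (((ObjectProperty.ι (AdjGeom.qcD T)).commShiftIso (-1 : ℤ)).app M).symm
    exact (DCoh.restrictD O.ι).mapIso
      ((ObjectProperty.ι (AdjGeom.qcD X)).mapIso (G.mapIso e ≪≫ (G.commShiftIso (-1 : ℤ)).app M) ≪≫
        ((ObjectProperty.ι (AdjGeom.qcD X)).commShiftIso (-1 : ℤ)).app (G.obj M))
  have hQ' : Φ Q := htri _ (inv_rot_of_distTriang _ hMV) (DQCoh.isQCohD_shift (hqc _) _) hmidq hshift hmid
  obtain ⟨e⟩ := nonempty_iso_of_rep f hA (G.obj ⟨Q, hQ⟩).property hrep (hrepG ⟨Q, hQ⟩)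
  exact (hQ' hQ).of_iso ((DCoh.restrictD O.ι).mapIso e)

/-- The representing object respects supports. -/
theorem killed_rep [IsNoetherian Y] (f : X ⟶ Y) [IsProper f] [DCoh.HasRpush f] (V : Y.Opens) (Q : DCoh.D Y)
    (c : ℤ) [Q.IsGE c] (hQ : DCoh.IsQCohD Q) (hk : AdjGeom.killed V.ι Q) (A : DCoh.D X)
    (ε : (DCoh.Rpush f).obj A ⟶ Q) (hA : DCoh.IsQCohD A)
    (hrep : ∀ K, DCoh.IsQCohD K → AdjGlue.Rep (DCoh.Rpush f) Q ε K) : AdjGeom.killed (f ⁻¹ᵁ V).ι A :=
  OpenInduct.scheme_induction (P := SuppProp) suppProp_of_isAffine suppProp_of_isEmpty suppProp_supStep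
    inferInstance f V Q c hQ hk A ε hA hrep

end Groth.Agent.Dual22Lib.SupportAdj
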