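import Groth.Agent.Dual22Lib.PerfSupp
import Groth.Agent.Dual22Lib.SupportAdj
import Groth.Agent.DQCoh.TildePush
import Groth.Agent.DQCoh.PerfectTor
import Groth.Agent.DQCoh.PerfectAffine
import Groth.Agent.DCat.MVTriangles

/-!
# Direct images of perfect objects under flat proper morphisms of Noetherian schemes
-/

set_option autoImplicit false
set_option backward.isDefEq.respectTransparency false
set_option backward.defeqAttrib.useBackward true
set_option linter.style.haveILetI false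
set_option linter.unusedSectionVars false
set_option synthInstance.maxHeartbeats 100000

universe u

open CategoryTheory CategoryTheory.Limits CategoryTheory.Pretriangulated AlgebraicGeometry Opposite
open Groth.Agent.DCat Groth.Agent.DCat.PerfLocal Groth.Agent.Dual22Lib.AdjGeom
open scoped ZeroObject

attribute [local instance] HasDerivedCategory.standard
attribute [-instance] Int.instConditionallyCompleteLinearOrder

namespace Groth.Agent.Dual22Lib.PushPerf

variable {X S : Scheme.{u}}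

/-- Finite tor amplitude. -/
def FinAmp (K : DCoh.D X) : Prop := ∃ a b : ℤ, a ≤ b ∧ DCoh.HasFlatAmplitudeIn a b K

theorem flatAmp_mono {a b a' b' : ℤ} (ha : a' ≤ a) (hb : b ≤ b') {K : DCoh.D X}
    (h : DCoh.HasFlatAmplitudeIn a b K) : DCoh.HasFlatAmplitudeIn a' b' K := by
  obtain ⟨E, hE, hf, e⟩ := h
  exact ⟨E, fun i hi => hE i (by rcases hi with hi | hi; exacts [Or.inl (by omega), Or.inr (by omega)]), hf, e⟩

theorem finAmp_iso {K L : DCoh.D X} (e : K ≅ L) : FinAmp K → FinAmp L := by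
  rintro ⟨a, b, hab, E, hE, hf, ⟨eE⟩⟩
  exact ⟨a, b, hab, E, hE, hf, ⟨eE ≪≫ e⟩⟩

theorem finAmp_fibre {T : Triangle (DCoh.D X)} (hT : T ∈ distTriang _) (h₂ : FinAmp T.obj₂) (h₃ : FinAmp T.obj₃) :
    FinAmp T.obj₁ := by
  obtain ⟨a₂, b₂, hab₂, h₂⟩ := h₂
  obtain ⟨a₃, b₃, hab₃, h₃⟩ := h₃
  refine ⟨min a₂ a₃, max b₂ b₃ + 1, by omega, DCat.flatAmp_of_torAmp (by omega) fun F _ i hi => ?_⟩
  obtain ⟨i, rfl⟩ : ∃ j, i = j + 1 := ⟨i - 1, by omega⟩
  exact (DCat.torAmp_vanish hT F).2.2 i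
    (DCat.torAmp_of_flatAmp h₃ F i (by rcases hi with hi | hi; exacts [Or.inl (by omega), Or.inr (by omega)]))
    (DCat.torAmp_of_flatAmp h₂ F (i + 1) (by rcases hi with hi | hi; exacts [Or.inl (by omega), Or.inr (by omega)]))

theorem finAmp_biprod {K L : DCoh.D X} (hK : FinAmp K) (hL : FinAmp L) : FinAmp (K ⊞ L) := by
  obtain ⟨a₁, b₁, hab₁, h₁⟩ := hK
  obtain ⟨a₂, b₂, hab₂, h₂⟩ := hL
  refine ⟨min a₁ a₂, max b₁ b₂, by omega, DCat.flatAmp_of_torAmp (by omega) fun F _ i hi => ?_⟩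
  exact (DCat.torAmp_vanish (binaryBiproductTriangle_distinguished K L) F).2.1 i
    (DCat.torAmp_of_flatAmp h₁ F i (by rcases hi with hi | hi; exacts [Or.inl (by omega), Or.inr (by omega)]))
    (DCat.torAmp_of_flatAmp h₂ F i (by rcases hi with hi | hi; exacts [Or.inl (by omega), Or.inr (by omega)]))

/-- Direct image under an isomorphism. -/
theorem isPerfect_rpush_iso {T T' : Scheme.{u}} (e : T ⟶ T') [IsIso e] [DCoh.HasRpush e] {G : DCoh.D T}
    (hG : DCoh.IsPerfect G) : DCoh.IsPerfect ((DCoh.Rpush e).obj G) := by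
  refine PerfSupp.isPerfect_rpush e ⊥ (fun x => Or.inl ?_) hG
    ((killed_iff _ _).2 fun i x hx => ?_)
  · rw [Scheme.Hom.opensRange_of_isIso]
    exact trivial
  · rw [Scheme.Opens.opensRange_ι] at hx
    exact hx.elim

theorem finAmp_affine (R : CommRingCat.{u}) {T : Scheme.{u}} [IsAffine T] (g : T ⟶ Spec R) [Flat g]
    [DCoh.HasRpush g] {G : DCoh.D T} (hG : DCoh.IsPerfect G) : FinAmp ((DCoh.Rpush g).obj G) := by
  let B := Γ(T, ⊤)
  let e := T.isoSpec
  obtain ⟨φ, hφ⟩ : ∃ φ : R ⟶ B, Spec.map φ = e.inv ≫ g := ⟨Spec.preimage (e.inv ≫ g), Spec.map_preimage _⟩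
  have hg : g = e.hom ≫ Spec.map φ := by rw [hφ, e.hom_inv_id_assoc]
  subst hg
  haveI := AffSchLib.preservesFiniteLimits_tilde R
  haveI := AffSchLib.preservesFiniteLimits_tilde B
  haveI := DCat.hasRpush e.hom
  haveI := DCat.hasRpush (Spec.map φ)
  obtain ⟨c⟩ := DCat.nonempty_RpushComp e.hom (Spec.map φ)
  refine finAmp_iso (c.app G) ?_
  have hG' := isPerfect_rpush_iso e.hom hG
  obtain ⟨M, ⟨eM⟩⟩ := ((DQCoh.tildeD_main B).2.2 _).1 (PerfLift.isQCohD_perfect hG')
  obtain ⟨P, a, b, hP, hp, ⟨eP⟩⟩ := DQCoh.perfect_of_isPerfect_tildeD (PCTriangle.perfect_iso eM.symm hG')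
  obtain ⟨d⟩ := DQCoh.nonempty_tildeD_Rpush φ
  refine finAmp_iso ((d.app M).symm ≪≫ (DCoh.Rpush (Spec.map φ)).mapIso eM) ?_
  have hφf : φ.hom.Flat := by
    haveI : Flat (Spec.map φ) := by rw [hφ]; infer_instance
    exact (HasRingHomProperty.Spec_iff (P := @Flat)).1 ‹_›
  refine ⟨a, max a b, le_max_left _ _, (DQCoh.flatAmp_tildeD_iff _ a (max a b)).2
    ⟨((ModuleCat.restrictScalars.{u} φ.hom).mapHomologicalComplex (ComplexShape.up ℤ)).obj P,
      fun i hi => (ModuleCat.restrictScalars φ.hom).map_isZero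
        (hP i (by rcases hi with hi | hi; exacts [Or.inl hi, Or.inr (by omega)])), fun i => ?_,
      ⟨((ModuleCat.restrictScalars.{u} φ.hom).mapDerivedCategoryFactors.app P).symm ≪≫
        (DRing.restrictD φ.hom).mapIso eP⟩⟩⟩
  letI := φ.hom.toAlgebra
  haveI : Module.Flat R B := hφf
  haveI := (hp i).2
  haveI : Module.Flat B (P.X i) := Module.Flat.of_projective
  letI : Module R (P.X i) := Module.compHom _ φ.hom
  haveI : IsScalarTower R B (P.X i) := IsScalarTower.of_algebraMap_smul fun _ _ => rfl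
  exact Module.Flat.trans R B (P.X i)

/-- The induction hypothesis. -/
def PushAmp (R : CommRingCat.{u}) (T : Scheme.{u}) : Prop :=
  ∀ (g : T ⟶ Spec R) [Flat g] [DCoh.HasRpush g] (G : DCoh.D T), DCoh.IsPerfect G → FinAmp ((DCoh.Rpush g).obj G)

theorem pushAmp (R : CommRingCat.{u}) [CompactSpace X] [QuasiSeparatedSpace X] : PushAmp R X := by
  refine OpenInduct.scheme_induction (P := PushAmp R) (fun T hT g _ _ G hG => finAmp_affine R g hG)
    (fun T hT g _ _ G hG => ?_) ?_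
  · haveI : IsAffine T := inferInstance
    exact finAmp_affine R g hG
  intro T _ U V hUV _ _ _ hU hV hW g _ _ G hG
  haveI := DCat.hasRpush (U.ι ≫ g)
  haveI := DCat.hasRpush (V.ι ≫ g)
  haveI := DCat.hasRpush ((U ⊓ V).ι ≫ g)
  haveI := PullPerf.preservesFiniteLimits_restrict U.ι
  haveI := PullPerf.preservesFiniteLimits_restrict V.ι
  haveI := PullPerf.preservesFiniteLimits_restrict (U ⊓ V).ι
  obtain ⟨a, b, c, hT⟩ := DCat.MV.exists_triangle_push g hUV G
  exact finAmp_fibre hT (finAmp_biprod (hU _ _ (PerfLift.isPerfect_restrictD U.ι hG))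
    (hV _ _ (PerfLift.isPerfect_restrictD V.ι hG))) (hW _ _ (PerfLift.isPerfect_restrictD (U ⊓ V).ι hG))

theorem exists_isGE_perfect [CompactSpace X] {G : DCoh.D X} (hG : DCoh.IsPerfect G) : ∃ a : ℤ, G.IsGE a := by
  choose V a b hx hV using ((DQCoh.isPerfect_iff_psc_torDim G).1 hG).2
  obtain ⟨t, ht⟩ := isCompact_univ.elim_finite_subcover (fun x => (V x : Set X)) (fun x => (V x).2)
    fun x _ => Set.mem_iUnion.2 ⟨x, hx x⟩
  obtain ⟨m, hm⟩ : ∃ m : ℤ, ∀ x ∈ t, m ≤ a x := by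
    classical
    clear ht
    induction t using Finset.induction_on with
    | empty => exact ⟨0, fun x hx => absurd hx (Finset.notMem_empty x)⟩
    | insert x s _ ih =>
      obtain ⟨m, hm⟩ := ih
      exact ⟨min m (a x), fun y hy => by
        rcases Finset.mem_insert.1 hy with rfl | hy
        · exact min_le_right _ _
        · exact (min_le_left _ _).trans (hm y hy)⟩
  refine ⟨m, (DerivedCategory.isGE_iff _ _).2 fun i hi => ModStalk.isZero_of_stalks fun y => ?_⟩
  obtain ⟨x, hxt, hy⟩ := Set.mem_iUnion₂.1 (ht (Set.mem_univ y))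
  haveI := PullPerf.preservesFiniteLimits_restrict (V x).ι
  have hz := DQCoh.isZero_HD_of_flatAmp (hV x _ ⟨DerivedCategory.Q.objObjPreimageIso G⟩) i
    (Or.inl (lt_of_lt_of_le hi (hm x hxt)))
  let y' : (V x : Scheme.{u}) := ⟨y, hy⟩
  haveI : Subsingleton ((DCoh.HD G i).presheaf.stalk y) :=
    DCat.SuppOpen.subsingleton_stalk_of_restrict (V x).ι (DCoh.HD G i) y'
    (DCat.SuppOpen.subsingleton_of_isZero_stalkFunctor _ _ ((DerSch.stalkFunctor _ y').map_isZero
      (hz.of_iso ((DCat.SuppOpen.hdMapIso (Scheme.Modules.restrictFunctor (V x).ι) G i).symm ≪≫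
        (DerivedCategory.homologyFunctor _ i).mapIso ((PerfLocal.rd (V x).ι).mapIso
          (DerivedCategory.Q.objObjPreimageIso G).symm ≪≫
          (Scheme.Modules.restrictFunctor (V x).ι).mapDerivedCategoryFactors.app _)))))
  exact DCat.SuppOpen.isZero_stalkFunctor _ y

/-- Over an affine Noetherian base. -/
theorem isPerfect_rpush_spec (R : CommRingCat.{u}) [IsNoetherianRing R] {T : Scheme.{u}} (g : T ⟶ Spec R)
    [IsProper g] [Flat g] [IsLocallyNoetherian T] [CompactSpace T] [QuasiSeparatedSpace T] [DCoh.HasRpush g]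
    {G : DCoh.D T} (hG : DCoh.IsPerfect G) : DCoh.IsPerfect ((DCoh.Rpush g).obj G) := by
  obtain ⟨a, b, hab, hamp⟩ := pushAmp R g G hG
  obtain ⟨c, _⟩ := exists_isGE_perfect hG
  obtain ⟨d, hd⟩ := DQCoh.exists_isLE_perfect G hG
  obtain ⟨N, hN⟩ := SupportAdj.exists_isLE_Rpush g
  have hq := PerfLift.isQCohD_perfect hG
  have hc : DCoh.IsCohD G := fun i => DQCoh.isCoh_HD_of_psc G hq i (DQCoh.psc_of_perfect hG i) i le_rfl
  have hcoh := SupportAdj.isCohD_Rpush g G c hc
  haveI := hN G d hq hd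
  exact DQCoh.isPerfect_of_flatAmp _ a b hab hamp
    (DQCoh.psc_of_isCoh _ (DQCoh.isQCohD_Rpush g _ hq) (d + N) _ fun i _ => hcoh i)

/-- Direct images of perfect objects under flat proper morphisms of Noetherian schemes are perfect. -/
theorem isPerfect_rpush [IsNoetherian X] [IsLocallyNoetherian S] (f : X ⟶ S) [IsProper f] [Flat f] [DCoh.HasRpush f]
    {G : DCoh.D X} (hG : DCoh.IsPerfect G) : DCoh.IsPerfect ((DCoh.Rpush f).obj G) := by
  refine DQCoh.isPerfect_of_local _ fun s => ?_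
  obtain ⟨W, hW, hsW, -⟩ := exists_isAffineOpen_mem_and_subset (x := s) (U := (⊤ : S.Opens)) trivial
  refine ⟨W, W.ι, inferInstance, by simpa using hsW, ?_⟩
  haveI := PullPerf.preservesFiniteLimits_restrict W.ι
  haveI := PullPerf.preservesFiniteLimits_restrict (f ⁻¹ᵁ W).ι
  haveI := DCat.hasRpush (f ∣_ W)
  let G' := (DCoh.restrictD (f ⁻¹ᵁ W).ι).obj G
  refine PCTriangle.perfect_iso ((OpenDerived.rpushRestrictIso f W).app G).symm ?_
  let R : CommRingCat.{u} := Γ(S, W)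
  haveI : IsNoetherianRing R := IsLocallyNoetherian.component_noetherian ⟨W, hW⟩
  let e := hW.isoSpec
  haveI : IsLocallyNoetherian (f ⁻¹ᵁ W : Scheme.{u}) := inferInstance
  haveI : CompactSpace (f ⁻¹ᵁ W : Scheme.{u}) := isCompact_iff_compactSpace.1 (f.isCompact_preimage hW.isCompact)
  haveI : QuasiSeparatedSpace (f ⁻¹ᵁ W : Scheme.{u}) :=
    QuasiSeparatedSpace.of_isOpenEmbedding (f ⁻¹ᵁ W).ι.isOpenEmbedding
  haveI := DCat.hasRpush e.hom
  haveI := DCat.hasRpush ((f ∣_ W) ≫ e.hom)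
  have hp := isPerfect_rpush_spec R ((f ∣_ W) ≫ e.hom) (PerfLift.isPerfect_restrictD (f ⁻¹ᵁ W).ι hG)
  obtain ⟨c⟩ := DCat.nonempty_RpushComp (f ∣_ W) e.hom
  obtain ⟨r⟩ := PerfLocal.nonempty_rd_rpush e.hom ((DCoh.Rpush (f ∣_ W)).obj G')
  exact PCTriangle.perfect_iso r (PerfLift.isPerfect_restrictD e.hom (PCTriangle.perfect_iso (c.app G').symm hp))

end Groth.Agent.Dual22Lib.PushPerf
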