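import Groth.Agent.Dual22Lib.AdjGeom
import Groth.Agent.Dual22Lib.OpenInduct
import Groth.Agent.DCat.MVTriangles
import Groth.Agent.DCat.PerfLocal
import Groth.Agent.DQCoh.PerfectAffine
import Groth.Agent.DQCoh.Tilde
import Groth.Agent.Props12.TildeFin
import Groth.Agent.AffSchLib.TildeExact
import Groth.Prelude.Def_DCoh2

/-!
# Uniform vanishing of maps out of finite locally free sheaves
-/

set_option autoImplicit false
set_option backward.isDefEq.respectTransparency false
set_option backward.defeqAttrib.useBackward true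
set_option linter.style.haveILetI false
set_option linter.unusedSectionVars false

universe u

open CategoryTheory CategoryTheory.Limits CategoryTheory.Pretriangulated DerivedCategory AlgebraicGeometry
open Groth.Agent.DCat Groth.Agent.Coherent

attribute [local instance] HasDerivedCategory.standard
attribute [-instance] Int.instConditionallyCompleteLinearOrder

namespace Groth.Agent.Dual22Lib.LocFreeExt

/-- Maps from finite locally free sheaves into objects of `D_qc` far to the left vanish. -/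
def Bd (T : Scheme.{u}) : Prop :=
  ∃ N : ℤ, ∀ (F : T.Modules), FlatMod.IsFinLocFree F → ∀ E : DCoh.D T, DCoh.IsQCohD E → E.IsLE (-N) →
    ∀ φ : DCoh.inD T F ⟶ E, φ = 0

theorem eq_zero_of_spec (R : CommRingCat.{u}) (F : (Spec R).Modules) (hF : FlatMod.IsFinLocFree F)
    (E : DCoh.D (Spec R)) (hE : DCoh.IsQCohD E) (hb : E.IsLE (-1)) (φ : DCoh.inD (Spec R) F ⟶ E) : φ = 0 := by
  haveI : PreservesFiniteLimits (tilde.functor R) := AffSchLib.preservesFiniteLimits_tilde R
  obtain ⟨hfull, hfaith, hess⟩ := DQCoh.tildeD_main R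
  obtain ⟨Y, ⟨eY⟩⟩ := (hess E).1 hE
  haveI : Coh.IsQCoh F := DCat.PullPerf.isQCoh_of_finLocFree hF
  haveI : IsIso F.fromTildeΓ := (isQuasicoherent_iff_isIso_fromTildeΓ F).1 ‹_›
  let M : ModuleCat.{u} R := (moduleSpecΓFunctor (R := R)).obj F
  let eF : (tilde.functor R).obj M ≅ F := asIso F.fromTildeΓ
  haveI : Module.Projective R M :=
    ((Props12.isFinLocFree_tilde_iff M).1 (DCat.PerfTensor.isFinLocFree_of_iso eF.symm hF)).2
  haveI : Projective M := M.projective_of_categoryTheory_projective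
  let eM : (DCoh.tildeD R).obj ((singleFunctor _ 0).obj M) ≅ DCoh.inD (Spec R) F :=
    ((tilde.functor R).mapDerivedCategorySingleFunctor 0).app M ≪≫ (singleFunctor _ 0).mapIso eF
  haveI : ((DCoh.tildeD R).obj Y).IsLE (-1) := TStructure.t.isLE_of_iso eY.symm (-1)
  haveI : Y.IsLE (-1) := DQCoh.isLE_of_isLE_tildeD ‹_›
  obtain ⟨K, hK, ⟨eK⟩⟩ := Y.exists_iso_Q_obj_of_isLE (-1)
  let ψ := eM.hom ≫ φ ≫ eY.inv
  obtain ⟨g, hg⟩ := hfull.map_surjective ψ
  have h0 : g = 0 := by
    rw [← cancel_mono eK.hom, zero_comp]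
    haveI := hK
    exact DerivedCategory.from_singleFunctor_obj_eq_zero_of_projective (g ≫ eK.hom) (-1) (by omega)
  rw [← cancel_epi eM.hom, ← cancel_mono eY.inv, Category.assoc]
  show ψ = _
  rw [← hg, h0, Functor.map_zero]
  simp

theorem bd_of_isAffine (T : Scheme.{u}) (hT : IsAffine T) : Bd T := by
  refine ⟨1, fun F hF E hE hb φ => ?_⟩
  let j : Spec Γ(T, ⊤) ⟶ T := T.isoSpec.inv
  haveI := PullPerf.preservesFiniteLimits_restrict j
  haveI : DCoh.HasRpush j := DCat.hasRpush j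
  obtain ⟨adj, -⟩ := AdjGeom.exists_adj j
  have hu : IsIso (adj.unit.app E) := by
    obtain ⟨adj', hc⟩ := AdjGeom.exists_adj j
    haveI : IsIso adj.counit := by
      haveI : IsIso adj'.counit := hc
      exact adj.isIso_counit_of_iso (asIso adj'.counit)
    obtain ⟨C, g, δ, hT'⟩ := distinguished_cocone_triangle (adj.unit.app E)
    have hk : AdjGeom.killed j C := by
      haveI : IsIso ((DCoh.restrictD j).map (adj.unit.app E)) := by
        rw [show (DCoh.restrictD j).map (adj.unit.app E) = inv (adj.counit.app ((DCoh.restrictD j).obj E)) from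
          IsIso.eq_inv_of_inv_hom_id (adj.left_triangle_components E)]
        infer_instance
      exact (Triangle.isZero₃_iff_isIso₁ _ ((DCoh.restrictD j).map_distinguished _ hT')).2 ‹_›
    refine (Triangle.isZero₃_iff_isIso₁ _ hT').1 (DCat.SuppOpen.isZero_of_hd _ fun i => ModStalk.isZero_of_stalks fun t => ?_)
    haveI : Subsingleton (((homologyFunctor T.Modules i).obj (Triangle.mk (adj.unit.app E) g δ).obj₃).presheaf.stalk t) := (AdjGeom.killed_iff j C).1 hk i t (by
      rw [Scheme.Hom.opensRange_of_isIso]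
      trivial)
    exact DCat.SuppOpen.isZero_stalkFunctor _ t
  rw [← cancel_mono (adj.unit.app E), zero_comp]
  refine (adj.homEquiv _ _).symm.injective ?_
  have hz : ∀ ψ : (DCoh.restrictD j).obj (DCoh.inD T F) ⟶ (DCoh.restrictD j).obj E, ψ = 0 := fun ψ => by
    let e := ((Scheme.Modules.restrictFunctor j).mapDerivedCategorySingleFunctor 0).app F
    rw [← cancel_epi e.inv, comp_zero]
    exact eq_zero_of_spec _ _ (DCat.PerfTensor.isFinLocFree_of_iso ((Scheme.Modules.restrictFunctorIsoPullback j).app F).symm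
      (PullPerf.isFinLocFree_pullback j hF)) _ (AdjGeom.isQCohD_restrictD j hE) (PerfLocal.isLE_rd j E (-1) hb) _
  exact (hz _).trans (hz _).symm

theorem bd_of_isEmpty (T : Scheme.{u}) (hT : IsEmpty T) : Bd T := by
  haveI : IsAffine T := isAffine_of_isEmpty
  exact bd_of_isAffine T ‹_›

theorem bd_supStep : OpenInduct.SupStep.{u} Bd := by
  intro T _ U V hUV _ _ _ ⟨N₁, h₁⟩ ⟨N₂, h₂⟩ ⟨N₃, h₃⟩
  haveI := fun W : T.Opens => DCat.hasRpush W.ι
  haveI := fun W : T.Opens => PullPerf.preservesFiniteLimits_restrict W.ι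
  refine ⟨max (max N₁ N₂) (N₃ + 1), fun F hF E hE hb φ => ?_⟩
  have key : ∀ (W : T.Opens) (N : ℤ),
      (∀ (F : (W : Scheme.{u}).Modules), FlatMod.IsFinLocFree F → ∀ E : DCoh.D (W : Scheme.{u}), DCoh.IsQCohD E →
        E.IsLE (-N) → ∀ φ : DCoh.inD (W : Scheme.{u}) F ⟶ E, φ = 0) →
      ∀ (n : ℤ), N ≤ max (max N₁ N₂) (N₃ + 1) + n →
      ∀ ψ : DCoh.inD T F ⟶ ((DCoh.Rpush W.ι).obj ((DCoh.restrictD W.ι).obj E))⟦n⟧, n ≤ 0 → ψ = 0 := by
    intro W N hW n hn ψ hn0
    obtain ⟨adj, -⟩ := AdjGeom.exists_adj W.ι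
    refine (shiftFunctor (DCoh.D T) (-n)).map_injective ?_
    rw [Functor.map_zero, ← cancel_mono ((shiftFunctorCompIsoId (DCoh.D T) n (-n) (by omega)).hom.app
      ((DCoh.Rpush W.ι).obj ((DCoh.restrictD W.ι).obj E))), zero_comp]
    refine (adj.homEquiv _ _).symm.injective ?_
    let e := ((Scheme.Modules.restrictFunctor W.ι).mapDerivedCategorySingleFunctor 0).app F
    have hLE : (((DCoh.restrictD W.ι).obj E)⟦n⟧).IsLE (-N) := by
      haveI := PerfLocal.isLE_rd W.ι E _ hb
      haveI : (((DCoh.restrictD W.ι).obj E)⟦n⟧).IsLE (-(max (max N₁ N₂) (N₃ + 1)) - n) :=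
        TStructure.t.isLE_shift _ (-(max (max N₁ N₂) (N₃ + 1))) n _ (by omega)
      exact TStructure.t.isLE_of_le _ (-(max (max N₁ N₂) (N₃ + 1)) - n) (-N) (by omega)
    have hz : ∀ χ : (DCoh.restrictD W.ι).obj ((DCoh.inD T F)⟦-n⟧) ⟶ (DCoh.restrictD W.ι).obj E, χ = 0 := fun χ => by
      rw [← cancel_epi ((shiftFunctor (DCoh.D (W : Scheme.{u})) (-n)).map e.inv ≫
        ((DCoh.restrictD W.ι).commShiftIso (-n)).inv.app (DCoh.inD T F)), comp_zero]
      refine (shiftFunctor (DCoh.D (W : Scheme.{u})) n).map_injective ?_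
      rw [Functor.map_zero]
      rw [← cancel_epi ((shiftFunctorCompIsoId (DCoh.D (W : Scheme.{u})) (-n) n (by omega)).inv.app _), comp_zero]
      exact hW _ (DCat.PerfTensor.isFinLocFree_of_iso ((Scheme.Modules.restrictFunctorIsoPullback W.ι).app F).symm
        (PullPerf.isFinLocFree_pullback W.ι hF)) _
        (DQCoh.isQCohD_shift (AdjGeom.isQCohD_restrictD W.ι hE) n) hLE _
    exact (hz _).trans (hz _).symm
  obtain ⟨a, b, c, hT⟩ := MV.exists_triangle_id hUV E
  have key0 : ∀ (W : T.Opens) (N : ℤ),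
      (∀ (F : (W : Scheme.{u}).Modules), FlatMod.IsFinLocFree F → ∀ E : DCoh.D (W : Scheme.{u}), DCoh.IsQCohD E →
        E.IsLE (-N) → ∀ φ : DCoh.inD (W : Scheme.{u}) F ⟶ E, φ = 0) → N ≤ max (max N₁ N₂) (N₃ + 1) →
      ∀ ψ : DCoh.inD T F ⟶ (DCoh.Rpush W.ι).obj ((DCoh.restrictD W.ι).obj E), ψ = 0 := fun W N hW hN ψ => by
    rw [← cancel_mono ((shiftFunctorZero (DCoh.D T) ℤ).inv.app _), zero_comp]
    exact key W N hW 0 (by omega) _ le_rfl
  have hφ : φ ≫ a = 0 := biprod.hom_ext _ _ (by simp only [zero_comp]; exact key0 U N₁ h₁ (by omega) _)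
    (by simp only [zero_comp]; exact key0 V N₂ h₂ (by omega) _)
  obtain ⟨ψ, rfl⟩ := Triangle.coyoneda_exact₂ _ (inv_rot_of_distTriang _ hT) φ hφ
  rw [show ψ = 0 from key (U ⊓ V) N₃ h₃ (-1) (by omega) ψ (by omega)]
  exact zero_comp

theorem bd (T : Scheme.{u}) [CompactSpace T] [QuasiSeparatedSpace T] : Bd T :=
  OpenInduct.scheme_induction bd_of_isAffine bd_of_isEmpty bd_supStep

end Groth.Agent.Dual22Lib.LocFreeExt
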