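import Groth.Agent.Dual22Lib.PerfSupp
import Groth.Agent.DQCoh.AffinePush

/-!
# Perfect generators of `D_qc` with supports
-/

set_option autoImplicit false
set_option backward.isDefEq.respectTransparency false
set_option backward.defeqAttrib.useBackward true
set_option linter.style.haveILetI false
set_option linter.unusedSectionVars false
set_option synthInstance.maxHeartbeats 100000

universe u

open CategoryTheory CategoryTheory.Limits CategoryTheory.Pretriangulated AlgebraicGeometry Opposite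
open Groth.Agent.DCat Groth.Agent.DCat.PerfLocal Groth.Agent.Dual22Lib.AdjGeom Groth.Agent.Dual22Lib.PerfSupp
open scoped ZeroObject

attribute [local instance] HasDerivedCategory.standard
attribute [-instance] Int.instConditionallyCompleteLinearOrder

namespace Groth.Agent.Dual22Lib.PerfGen

variable {X : Scheme.{u}}

/-- Maps out of `O` compute cohomology on affine schemes. -/
theorem isZero_HD_of_pt_top [IsAffine X] {E : DCoh.D X} (hE : DCoh.IsQCohD E) (j : ℤ)
    (h : ∀ φ : ((DQCoh.sec X).pt.obj (⊤ : X.Opens))⟦-j⟧ ⟶ E, φ = 0) : IsZero (DCoh.HD E j) := by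
  haveI := PullPerf.preservesFiniteLimits_restrict (⊤ : X.Opens).ι
  haveI : Coh.IsQCoh (DCoh.HD E j) := hE j
  refine DQCoh.isZero_of_restrict_cover _ (fun _ : PUnit.{u + 1} => (⊤ : X.Opens)) (fun x => ⟨⟨⟩, trivial⟩) fun _ => ?_
  refine DQCoh.isZero_restrict_of_sections _ (isAffineOpen_top X) ?_
  intro y
  let e := ((DerivedCategory.homologyFunctor X.Modules 0).shiftIso j 0 j (by omega)).app E
  refine (cancel_mono e.inv).1 ?_
  obtain ⟨z, hz⟩ := (DQCoh.bijective_θ (E⟦j⟧) (DQCoh.isQCohD_shift hE j) (isAffineOpen_top X)).2 (y ≫ e.inv)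
  rw [zero_comp, ← hz]
  have hz0 : z = 0 := by
    apply (shiftFunctor (DCoh.D X) (-j)).map_injective
    rw [Functor.map_zero, ← cancel_mono ((shiftFunctorCompIsoId (DCoh.D X) j (-j) (by omega)).hom.app E), zero_comp]
    exact h _
  show (DQCoh.sec X).θ z = 0
  rw [hz0]
  simp [SiteDer16.Sections.θ]

/-- `O` generates on affine schemes. -/
theorem isZero_of_pt_top [IsAffine X] {E : DCoh.D X} (hE : DCoh.IsQCohD E)
    (h : ∀ (n : ℤ) (φ : ((DQCoh.sec X).pt.obj (⊤ : X.Opens))⟦n⟧ ⟶ E), φ = 0) : IsZero E :=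
  DCat.SuppOpen.isZero_of_hd _ fun j => isZero_HD_of_pt_top hE j (h (-j))

/-- The detection property. -/
def Detects (O : X.Opens) (P : DCoh.D X) : Prop :=
  ∀ E : DCoh.D X, DCoh.IsQCohD E → killed O.ι E → (∀ (n : ℤ) (φ : P⟦n⟧ ⟶ E), φ = 0) → IsZero E

/-- Perfect generators killed on an open. -/
def Gen (X : Scheme.{u}) : Prop :=
  ∀ O : X.Opens, IsCompact (O : Set X) → ∃ P : DCoh.D X, DCoh.IsPerfect P ∧ killed O.ι P ∧ Detects O P

theorem exists_gen_basic_deg [IsAffine X] (s : Finset Γ(X, ⊤)) :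
    ∃ P : DCoh.D X, DCoh.IsPerfect P ∧ (∀ f ∈ s, killed (X.basicOpen f).ι P) ∧
      ∀ E : DCoh.D X, DCoh.IsQCohD E → (∀ f ∈ s, killed (X.basicOpen f).ι E) →
        ∀ n : ℤ, (∀ φ : P⟦n⟧ ⟶ E, φ = 0) → ∀ φ : ((DQCoh.sec X).pt.obj (⊤ : X.Opens))⟦n⟧ ⟶ E, φ = 0 := by
  classical
  induction s using Finset.induction_on with
  | empty => exact ⟨_, PerfLift.isPerfect_pt_top, fun f hf => absurd hf (Finset.notMem_empty f),
      fun E hE _ n h => h⟩
  | insert f s hfs ih =>
    obtain ⟨C, hC, hkC, hdet⟩ := ih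
    let R : CommRingCat.{u} := Γ(X, ⊤)
    letI oX : X.Over (Spec (CommRingCat.of R)) := ⟨X.isoSpec.hom⟩
    obtain ⟨a, ha⟩ := CohAdj.surjective_toGlobal_isoSpec X rfl f
    obtain ⟨C', v, δ, hT⟩ := distinguished_cocone_triangle (a • 𝟙 C)
    refine ⟨C', PCTriangle.perfect_cone hT hC hC, fun f' hf' => ?_, fun E hE hkE n h => ?_⟩
    · rcases Finset.mem_insert.1 hf' with rfl | hf'
      · let W := X.basicOpen f'
        haveI := PullPerf.preservesFiniteLimits_restrict W.ι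
        letI : (W : Scheme.{u}).Over (Spec (CommRingCat.of R)) := ⟨W.ι ≫ X ↘ Spec (CommRingCat.of R)⟩
        haveI : W.ι.IsOver (Spec (CommRingCat.of R)) := ⟨rfl⟩
        haveI : IsIso ((DCoh.restrictD W.ι).map (a • 𝟙 C)) := by
          rw [ScalarD.restrictD_map_smul_id]
          refine ScalarD.isIso_smul_id _ _ ?_
          rw [show Coh.toGlobal ((W : Scheme.{u}) ↘ Spec (CommRingCat.of R)) a =
            W.ι.appTop (Coh.toGlobal (X ↘ Spec (CommRingCat.of R)) a) from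
              (KLin.toGlobal_comp W.ι (X ↘ Spec (CommRingCat.of R)) a).symm ▸ rfl, ha]
          rw [Scheme.Opens.ι_appTop]
          exact PerfLift.isUnit_map_homOfLE f' (le_of_eq W.ι_image_top) _
        exact (Triangle.isZero₃_iff_isIso₁ _ ((DCoh.restrictD W.ι).map_distinguished _ hT)).2 ‹_›
      · haveI := PullPerf.preservesFiniteLimits_restrict (X.basicOpen f').ι
        exact Triangle.isZero₃_of_isIso₁ _ ((DCoh.restrictD (X.basicOpen f').ι).map_distinguished _ hT)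
          ⟨⟨0, (hkC f' hf').eq_of_src _ _, (hkC f' hf').eq_of_tgt _ _⟩⟩
    · refine hdet E hE (fun f' hf' => hkE f' (Finset.mem_insert_of_mem hf')) n fun φ => ?_
      have hsupp : ∀ i : ℤ, CohB1.support (DCoh.HD E i) ⊆
          (X.zeroLocus (U := ⊤) {Coh.toGlobal (X ↘ Spec (CommRingCat.of R)) a} : Set X) := fun i x hx => by
        refine (X.mem_zeroLocus_iff _ x).2 fun r hr hxr => ?_
        obtain rfl : r = Coh.toGlobal (X ↘ Spec (CommRingCat.of R)) a := hr
        refine hx ((killed_iff (X.basicOpen f).ι E).1 (hkE f (Finset.mem_insert_self f s)) i x ?_)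
        rw [Scheme.Opens.opensRange_ι]
        rwa [← ha]
      obtain ⟨m, hm⟩ := Torsion.exists_pow_smul_eq_zero R a (PCTriangle.perfect_shift hC n) hE hsupp φ
      have hT' := Triangle.shift_distinguished _ hT n
      have key : ∀ ψ : C⟦n⟧ ⟶ E, a • ψ = 0 → ψ = 0 := fun ψ hψ => by
        obtain ⟨χ, hχ⟩ := Triangle.yoneda_exact₂ _ hT' ψ (by
          show (n.negOnePow • (shiftFunctor (DCoh.D X) n).map (a • 𝟙 C)) ≫ ψ = 0
          rw [Functor.map_smul, CategoryTheory.Functor.map_id, Linear.units_smul_comp, Linear.smul_comp]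
          erw [Category.id_comp, hψ, smul_zero])
        rw [hχ, h χ]
        exact comp_zero
      have hpow : ∀ m : ℕ, ∀ ψ : C⟦n⟧ ⟶ E, a ^ m • ψ = 0 → ψ = 0 := fun m => by
        induction m with
        | zero => intro ψ hψ; simpa using hψ
        | succ m ihm => intro ψ hψ; exact ihm ψ (key _ (by rwa [pow_succ', mul_smul] at hψ))
      exact hpow m φ hm

theorem exists_gen_affine_deg [IsAffine X] (O : X.Opens) (hO : IsCompact (O : Set X)) :
    ∃ P : DCoh.D X, DCoh.IsPerfect P ∧ killed O.ι P ∧ ∀ E : DCoh.D X, DCoh.IsQCohD E → killed O.ι E →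
      ∀ i : ℤ, (∀ φ : P⟦-i⟧ ⟶ E, φ = 0) → IsZero (DCoh.HD E i) := by
  classical
  obtain ⟨s, hs, he⟩ := isCompact_and_isOpen_iff_finite_and_eq_biUnion_basicOpen.1 ⟨hO, O.2⟩
  obtain ⟨P, hP, hk, hd⟩ := exists_gen_basic_deg (X := X) hs.toFinset
  refine ⟨P, hP, killed_of_cover fun x hx => ?_, fun E hE hkE i h =>
    isZero_HD_of_pt_top hE i (hd E hE (fun f hf => killed_mono O.ι _ ?_ hkE) (-i) h)⟩
  · obtain ⟨f, hf, hxf⟩ := Set.mem_iUnion₂.1 (he.le hx)
    exact ⟨_, (X.basicOpen f).ι, inferInstance, by simpa using hxf, hk f (hs.mem_toFinset.2 hf)⟩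
  · rw [Scheme.Opens.opensRange_ι, Scheme.Opens.opensRange_ι]
    exact fun x hx => he.ge (Set.mem_iUnion₂.2 ⟨f, hs.mem_toFinset.1 hf, hx⟩)

theorem gen_affine [IsAffine X] : Gen X := fun O hO => by
  obtain ⟨P, hP, hk, hd⟩ := exists_gen_affine_deg O hO
  exact ⟨P, hP, hk, fun E hE hkE h => DCat.SuppOpen.isZero_of_hd _ fun i => hd E hE hkE i (h (-i))⟩

theorem gen_step [QuasiSeparatedSpace X] (U V : X.Opens) (hUV : U ⊔ V = ⊤) (hU : IsCompact (U : Set X))
    (hV : IsAffineOpen V) (hG : Gen (U : Scheme.{u})) : Gen X := by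
  intro O hO
  haveI : IsAffine V := hV
  haveI : CompactSpace (U : Scheme.{u}) := isCompact_iff_compactSpace.1 hU
  haveI : CompactSpace (V : Scheme.{u}) := isCompact_iff_compactSpace.1 hV.isCompact
  haveI : QuasiCompact U.ι := quasiCompact_of_compactSpace U.ι
  haveI := DCat.hasRpush U.ι
  haveI := DCat.hasRpush V.ι
  haveI := PullPerf.preservesFiniteLimits_restrict U.ι
  haveI := PullPerf.preservesFiniteLimits_restrict V.ι
  obtain ⟨PU, hPU, hkU, hdU⟩ := hG (U.ι ⁻¹ᵁ O) (isCompact_preimage U.ι hO)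
  obtain ⟨F, hF, hkF, ⟨eF⟩⟩ := exists_extend_step U V hUV hU hV O hO hPU hkU
  obtain ⟨K, hK, hkK, hdK⟩ := gen_affine (X := (V : Scheme.{u})) (V.ι ⁻¹ᵁ (O ⊔ U))
    (isCompact_preimage V.ι (hO.union hU))
  let K' := (DCoh.Rpush V.ι).obj K
  have hcov : ∀ x : X, x ∈ V.ι.opensRange ∨ x ∈ O ⊔ U := fun x => by
    rcases (hUV ▸ trivial : x ∈ U ⊔ V) with hx | hx
    · exact Or.inr (Or.inr hx)
    · exact Or.inl (by simpa using hx)
  have hK' : DCoh.IsPerfect K' := isPerfect_rpush V.ι _ hcov hK hkK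
  have hkK' : killed (O ⊔ U).ι K' := killed_rpush V.ι _ hkK
  have hle : ∀ {A B : X.Opens}, A ≤ B → A.ι.opensRange ≤ B.ι.opensRange := fun h => by
    simpa only [Scheme.Opens.opensRange_ι] using h
  refine ⟨F ⊞ K', (PCTriangle.perfect_two_out_of_three (binaryBiproductTriangle_distinguished _ _)).2.1 hF hK',
    killed_biprod _ hkF (killed_mono (O ⊔ U).ι O.ι (hle le_sup_left) hkK'), fun E hE hkE h => ?_⟩
  have hFE : ∀ (n : ℤ) (φ : F⟦n⟧ ⟶ E), φ = 0 := fun n φ => by
    have := congrArg ((biprod.inl : F ⟶ F ⊞ K')⟦n⟧' ≫ ·) (h n ((biprod.fst : F ⊞ K' ⟶ F)⟦n⟧' ≫ φ))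
    simpa [← Functor.map_comp_assoc] using this
  have hKE : ∀ (n : ℤ) (φ : K'⟦n⟧ ⟶ E), φ = 0 := fun n φ => by
    have := congrArg ((biprod.inr : K' ⟶ F ⊞ K')⟦n⟧' ≫ ·) (h n ((biprod.snd : F ⊞ K' ⟶ K')⟦n⟧' ≫ φ))
    simpa [← Functor.map_comp_assoc] using this
  -- split off the part living on `U`
  obtain ⟨aU, haU⟩ := AdjGeom.exists_adj U.ι
  obtain ⟨aV, haV⟩ := AdjGeom.exists_adj V.ι
  haveI := haU
  haveI := haV
  let EU := (DCoh.restrictD U.ι).obj E
  let L := (DCoh.Rpush U.ι).obj EU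
  obtain ⟨C, c, d, hT⟩ := distinguished_cocone_triangle₁ (aU.unit.app E)
  have hC : DCoh.IsQCohD C := DQCoh.isQCohD_obj₃ (inv_rot_of_distTriang _ (inv_rot_of_distTriang _ hT))
    (DQCoh.isQCohD_shift hE (-1))
    (DQCoh.isQCohD_shift (DQCoh.isQCohD_Rpush U.ι _ (AdjGeom.isQCohD_restrictD U.ι hE)) (-1))
  have hkEU : killed (U.ι ⁻¹ᵁ O).ι EU := (killed_rd_iff _ _ _).2 (killed_mono O.ι _ (by
    rw [Scheme.Hom.opensRange_comp, Scheme.Opens.opensRange_ι, Scheme.Opens.opensRange_ι]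
    rintro _ ⟨y, hy, rfl⟩
    exact hy) hkE)
  have hkC : killed (O ⊔ U).ι C := by
    have hU' : killed U.ι C := by
      haveI : IsIso ((DCoh.restrictD U.ι).map (aU.unit.app E)) := by
        rw [show (DCoh.restrictD U.ι).map (aU.unit.app E) = inv (aU.counit.app EU) from
          IsIso.eq_inv_of_inv_hom_id (aU.left_triangle_components E)]
        infer_instance
      exact (Triangle.isZero₁_iff_isIso₂ _ ((DCoh.restrictD U.ι).map_distinguished _ hT)).2 ‹_›
    haveI := PullPerf.preservesFiniteLimits_restrict O.ι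
    have hO' : killed O.ι C := Triangle.isZero₁_of_isZero₂₃ _
      ((DCoh.restrictD O.ι).map_distinguished _ hT) hkE (killed_rpush U.ι O hkEU)
    exact killed_of_cover fun x hx => hx.elim (fun hx => ⟨_, O.ι, inferInstance, by simpa using hx, hO'⟩)
      (fun hx => ⟨_, U.ι, inferInstance, by simpa using hx, hU'⟩)
  haveI : IsIso (aV.unit.app C) := by
    obtain ⟨N, p, q, hN⟩ := distinguished_cocone_triangle (aV.unit.app C)
    refine (Triangle.isZero₃_iff_isIso₁ _ hN).1 (isZero_of_killed fun x => ?_)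
    rcases hcov x with hx | hx
    · refine ⟨_, V.ι, inferInstance, hx, ?_⟩
      haveI : IsIso ((DCoh.restrictD V.ι).map (aV.unit.app C)) := by
        rw [show (DCoh.restrictD V.ι).map (aV.unit.app C) = inv (aV.counit.app _) from
          IsIso.eq_inv_of_inv_hom_id (aV.left_triangle_components C)]
        infer_instance
      exact (Triangle.isZero₃_iff_isIso₁ _ ((DCoh.restrictD V.ι).map_distinguished _ hN)).2 ‹_›
    · haveI := PullPerf.preservesFiniteLimits_restrict (O ⊔ U).ι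
      refine ⟨_, (O ⊔ U).ι, inferInstance, by simpa using hx, Triangle.isZero₃_of_isZero₁₂ _
        ((DCoh.restrictD (O ⊔ U).ι).map_distinguished _ hN) hkC (killed_rpush V.ι _ ?_)⟩
      refine (killed_rd_iff _ _ _).2 (killed_mono (O ⊔ U).ι _ ?_ hkC)
      rw [Scheme.Hom.opensRange_comp, Scheme.Opens.opensRange_ι, Scheme.Opens.opensRange_ι]
      rintro _ ⟨y, hy, rfl⟩
      exact hy
  have hzC : IsZero C := by
    have hzV : IsZero ((DCoh.restrictD V.ι).obj C) := by
      refine hdK _ (AdjGeom.isQCohD_restrictD V.ι hC) ((killed_rd_iff _ _ _).2 (killed_mono (O ⊔ U).ι _ ?_ hkC))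
        fun n ψ => ?_
      · rw [Scheme.Hom.opensRange_comp, Scheme.Opens.opensRange_ι, Scheme.Opens.opensRange_ι]
        rintro _ ⟨y, hy, rfl⟩
        exact hy
      let i : (DCoh.restrictD V.ι).obj (K'⟦n⟧) ≅ K⟦n⟧ :=
        ((DCoh.restrictD V.ι).commShiftIso n).app K' ≪≫
          (shiftFunctor (DCoh.D (V : Scheme.{u})) n).mapIso (asIso (aV.counit.app K))
      let φ := aV.homEquiv _ _ (i.hom ≫ ψ) ≫ inv (aV.unit.app C)
      have hφ : φ = 0 := by
        obtain ⟨χ, hχ⟩ := Triangle.coyoneda_exact₂ _ (inv_rot_of_distTriang _ hT) φ (hKE n _)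
        rw [hχ]
        suffices hχ0 : χ = 0 by rw [hχ0, zero_comp]
        apply (shiftFunctor (DCoh.D X) (1 : ℤ)).map_injective
        rw [Functor.map_zero]
        rw [← cancel_mono ((shiftFunctorCompIsoId (DCoh.D X) (-1 : ℤ) 1 (by omega)).hom.app L), zero_comp]
        refine (aU.homEquiv _ _).symm.injective ?_
        exact (killed_shift U.ι (killed_shift U.ι (killed_mono (O ⊔ U).ι U.ι (hle le_sup_right) hkK') n) 1).eq_of_src _ _
      have h0 : aV.homEquiv _ _ (i.hom ≫ ψ) = 0 := by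
        rw [← cancel_mono (inv (aV.unit.app C)), zero_comp]
        exact hφ
      rw [← cancel_epi i.hom, comp_zero]
      apply (aV.homEquiv _ _).injective
      rw [h0, Adjunction.homEquiv_unit, Functor.map_zero, comp_zero]
    refine IsZero.of_iso ?_ (asIso (aV.unit.app C))
    exact (DCoh.Rpush V.ι).map_isZero hzV
  haveI : IsIso (aU.unit.app E) := (Triangle.isZero₁_iff_isIso₂ _ hT).1 hzC
  refine IsZero.of_iso ?_ (asIso (aU.unit.app E))
  haveI : (DCoh.Rpush U.ι).IsRightAdjoint := aU.isRightAdjoint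
  refine (DCoh.Rpush U.ι).map_isZero (hdU EU (AdjGeom.isQCohD_restrictD U.ι hE) hkEU fun n ψ => ?_)
  let eF' : (DCoh.restrictD U.ι).obj (F⟦n⟧) ≅ (PU ⊞ PU⟦(1 : ℤ)⟧)⟦n⟧ :=
    ((DCoh.restrictD U.ι).commShiftIso n).app F ≪≫ (shiftFunctor (DCoh.D (U : Scheme.{u})) n).mapIso eF
  let φ := aU.homEquiv _ _ (eF'.hom ≫ (biprod.fst : PU ⊞ PU⟦(1 : ℤ)⟧ ⟶ PU)⟦n⟧' ≫ ψ) ≫ inv (aU.unit.app E)
  have h0 : eF'.hom ≫ (biprod.fst : PU ⊞ PU⟦(1 : ℤ)⟧ ⟶ PU)⟦n⟧' ≫ ψ = 0 := by
    apply (aU.homEquiv _ _).injective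
    rw [← cancel_mono (inv (aU.unit.app E))]
    refine (hFE n φ).trans ?_
    rw [Adjunction.homEquiv_unit, Functor.map_zero, comp_zero, zero_comp]
  have h1 := congrArg (fun z => (biprod.inl : PU ⟶ PU ⊞ PU⟦(1 : ℤ)⟧)⟦n⟧' ≫ eF'.inv ≫ z) h0
  simpa [← Functor.map_comp_assoc] using h1

theorem gen_of_isEmpty [IsEmpty X] : Gen X := by
  haveI : IsAffine X := inferInstance
  exact gen_affine

/-- Perfect generators with supports on quasi-compact quasi-separated schemes. -/
theorem gen [CompactSpace X] [QuasiSeparatedSpace X] : Gen X := by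
  have hat : ∀ O : X.Opens, IsCompact (O : Set X) → OpenInduct.At Gen O := fun O hO => by
    refine compact_open_induction_on (P := OpenInduct.At Gen) O hO ?_ fun S hS U ih => ?_
    · exact OpenInduct.at_bot fun T hT => gen_of_isEmpty
    intro T j hj0 hj
    haveI : QuasiSeparatedSpace T := QuasiSeparatedSpace.of_isOpenEmbedding j.isOpenEmbedding
    haveI : CompactSpace T := by
      refine isCompact_univ_iff.1 (j.isOpenEmbedding.isInducing.isCompact_iff.2 ?_)
      rw [Set.image_univ, show Set.range j = ((S ⊔ U.1 : X.Opens) : Set X) from congrArg SetLike.coe hj]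
      exact hS.union U.2.isCompact
    have hr : ∀ A : X.Opens, A ≤ S ⊔ U.1 → ((j ⁻¹ᵁ A).ι ≫ j).opensRange = A := fun A hA => by
      rw [Scheme.Hom.opensRange_comp, Scheme.Opens.opensRange_ι, Scheme.Hom.image_preimage_eq_opensRange_inf, hj]
      exact inf_eq_right.2 hA
    refine gen_step (j ⁻¹ᵁ S) (j ⁻¹ᵁ U.1) ?_ (isCompact_preimage j hS) ?_ (ih _ _ (hr _ le_sup_left))
    · rw [← Scheme.Hom.preimage_sup, ← hj, Scheme.Hom.preimage_opensRange]
    · haveI : IsAffine ((j ⁻¹ᵁ U.1).ι ≫ j).opensRange := by rw [hr _ le_sup_right]; exact U.2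
      exact IsAffine.of_isIso ((j ⁻¹ᵁ U.1).ι ≫ j).isoOpensRange.hom
  exact hat ⊤ isCompact_univ X (𝟙 X) (Scheme.Hom.opensRange_of_isIso _)

end Groth.Agent.Dual22Lib.PerfGen
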