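import Groth.Agent.Coherent.ProjSpaceFlat
import Mathlib.AlgebraicGeometry.Morphisms.Smooth

/-!
# Projective space is smooth over its base
-/

set_option autoImplicit false
set_option backward.isDefEq.respectTransparency false

universe u

open AlgebraicGeometry CategoryTheory TopologicalSpace MvPolynomial HomogeneousLocalization

namespace Groth.Agent.Dual22Lib.ProjSmooth

variable (n : ℕ) (K : Type u) [CommRing K]

theorem smooth_toAway (i : Fin (n + 1)) : (ProjLib.toAway n K (X i)).Smooth := by
  let e := (ProjLib.awayEquivQuotient (ProjLib.X_mem_polyGrading n K i)).trans (Coherent.dehomAlg n K i).toRingEquiv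
  have he : ∀ r : K, e (ProjLib.toAway n K (X i) r) = C r := fun r => by
    show Coherent.dehomAlg n K i (ProjLib.evalOne (algebraMap _ _ (ProjLib.toAway n K (X i) r))) = _
    rw [HomogeneousLocalization.algebraMap_apply, ProjLib.val_toAway]
    have : ProjLib.evalOne (f := (X i : MvPolynomial (Fin (n + 1)) K))
        (algebraMap _ (Localization.Away (X i : MvPolynomial (Fin (n + 1)) K)) (C r)) =
        Ideal.Quotient.mk _ (C r) := IsLocalization.Away.lift_eq _ _ _
    rw [this]
    exact (Coherent.dehomAlg n K i).commutes r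
  have h1 : (C : K →+* MvPolynomial {j : Fin (n + 1) // j ≠ i} K).Smooth := by
    show (algebraMap K (MvPolynomial {j : Fin (n + 1) // j ≠ i} K)).Smooth
    rw [RingHom.smooth_algebraMap]
    exact ⟨inferInstance, inferInstance⟩
  have h2 : ProjLib.toAway n K (X i) = e.symm.toRingHom.comp C :=
    RingHom.ext fun r => e.injective ((he r).trans (e.apply_symm_apply _).symm)
  rw [h2]
  exact RingHom.Smooth.respectsIso.1 _ e.symm h1

theorem smooth_toSpec : Smooth (CohB1.ProjSpace.toSpec n K) := by
  refine (IsZariskiLocalAtSource.iff_of_iSup_eq_top (P := @AlgebraicGeometry.Smooth) _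
    (ProjLib.iSup_basicOpen_X n K)).2 fun i => ?_
  let j := Proj.awayι (CohB1.polyGrading n K) (X i) (ProjLib.X_mem_polyGrading n K i) one_pos
  have hsm : Smooth (j ≫ CohB1.ProjSpace.toSpec n K) := by
    rw [show j ≫ CohB1.ProjSpace.toSpec n K = Spec.map (CommRingCat.ofHom (ProjLib.toAway n K (X i))) from
      ProjLib.awayι_toSpec n K _ one_pos, HasRingHomProperty.Spec_iff (P := @Smooth)]
    exact smooth_toAway n K i
  have hr : (Proj.basicOpen (CohB1.polyGrading n K) (X i)).ι.opensRange = j.opensRange := by
    rw [Scheme.Opens.opensRange_ι]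
    exact (Proj.opensRange_awayι (CohB1.polyGrading n K) (X i) (ProjLib.X_mem_polyGrading n K i) one_pos).symm
  let e := IsOpenImmersion.isoOfRangeEq (Proj.basicOpen (CohB1.polyGrading n K) (X i)).ι j
    (by simpa using congrArg SetLike.coe hr)
  show Smooth ((Proj.basicOpen (CohB1.polyGrading n K) (X i)).ι ≫ CohB1.ProjSpace.toSpec n K)
  have he : e.hom ≫ j = (Proj.basicOpen (CohB1.polyGrading n K) (X i)).ι :=
    IsOpenImmersion.isoOfRangeEq_hom_fac _ j _
  rw [← he, Category.assoc]
  infer_instance

theorem smooth_toBase (S : Scheme.{u}) : Smooth (CohB1.ProjSpaceOver.toBase n S) :=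
  MorphismProperty.pullback_snd _ _ (smooth_toSpec n (ULift.{u} ℤ))

end Groth.Agent.Dual22Lib.ProjSmooth
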