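import Groth.Agent.Dual22Lib.SupportAdj
import Groth.Agent.DCat.PerfLocal
import Groth.Agent.DQCoh.Local
import Groth.Agent.Coherent.FinitePres

/-!
# Representing objects of `Hom(Rf_* -, Q)`: composition, isomorphisms, restriction to opens, finiteness
-/

set_option autoImplicit false
set_option backward.isDefEq.respectTransparency false
set_option backward.defeqAttrib.useBackward true
set_option linter.style.haveILetI false
set_option linter.unusedSectionVars false
set_option synthInstance.maxHeartbeats 100000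

universe u

open CategoryTheory CategoryTheory.Limits CategoryTheory.Pretriangulated AlgebraicGeometry Opposite
open Groth.Agent.DCat Groth.Agent.SiteDer16
open scoped ZeroObject

attribute [local instance] HasDerivedCategory.standard
attribute [-instance] Int.instConditionallyCompleteLinearOrder

namespace Groth.Agent.Dual22Lib.RepLib

variable {X Y Z : Scheme.{u}}

/-- `A` represents `Hom(Rf_* -, Q)` on `D_qc`. -/
structure RepObj (f : X ⟶ Y) (Q : DCoh.D Y) (A : DCoh.D X) : Prop where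
  out : ∀ [DCoh.HasRpush f], DCoh.IsQCohD A ∧ ∃ ε : (DCoh.Rpush f).obj A ⟶ Q,
    ∀ K, DCoh.IsQCohD K → AdjGlue.Rep (DCoh.Rpush f) Q ε K

variable {f : X ⟶ Y} {Q : DCoh.D Y} {A : DCoh.D X}

theorem RepObj.mem (h : RepObj f Q A) : DCoh.IsQCohD A := by
  haveI := DCat.hasRpush f
  exact h.out.1

theorem isQCohD_of_iso {A' : DCoh.D X} (e : A ≅ A') (h : DCoh.IsQCohD A) : DCoh.IsQCohD A' := fun i =>
  Coherent.isQCoh_of_iso ((DerivedCategory.homologyFunctor X.Modules i).mapIso e) (h := h i)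

theorem isCohD_of_iso [IsLocallyNoetherian X] {A' : DCoh.D X} (e : A ≅ A') (h : DCoh.IsCohD A) : DCoh.IsCohD A' := fun i =>
  Coherent.isCoh_iso ((DerivedCategory.homologyFunctor X.Modules i).mapIso e) (h i)

theorem RepObj.ofIso (h : RepObj f Q A) {A' : DCoh.D X} (e : A ≅ A') : RepObj f Q A' := by
  refine ⟨fun {_} => ?_⟩
  obtain ⟨hA, ε, hε⟩ := h.out
  refine ⟨isQCohD_of_iso e hA, (DCoh.Rpush f).map e.inv ≫ ε, fun K hK => ?_⟩
  have hb := (hε K hK).comp (Iso.homToEquiv e.symm (Z := K)).bijective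
  unfold AdjGlue.Rep
  convert hb using 1
  funext g
  simp

theorem RepObj.ofIsoTarget (h : RepObj f Q A) {Q' : DCoh.D Y} (e : Q ≅ Q') : RepObj f Q' A := by
  refine ⟨fun {_} => ?_⟩
  obtain ⟨hA, ε, hε⟩ := h.out
  refine ⟨hA, ε ≫ e.hom, fun K hK => ?_⟩
  have hb := (Iso.homToEquiv e (Z := (DCoh.Rpush f).obj K)).bijective.comp (hε K hK)
  unfold AdjGlue.Rep
  convert hb using 1
  funext g
  simp

theorem RepObj.congr {f' : X ⟶ Y} (h : RepObj f Q A) (e : f = f') : RepObj f' Q A := e ▸ h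

theorem RepObj.unique (h : RepObj f Q A) {A' : DCoh.D X} (h' : RepObj f Q A') : Nonempty (A ≅ A') := by
  haveI := DCat.hasRpush f
  obtain ⟨hA, ε, hε⟩ := h.out
  obtain ⟨hA', ε', hε'⟩ := h'.out
  exact SupportAdj.nonempty_iso_of_rep f hA hA' hε hε'

theorem exists_repObj [CompactSpace X] [QuasiSeparatedSpace X] (f : X ⟶ Y) [QuasiCompact f] [QuasiSeparated f]
    (Q : DCoh.D Y) : ∃ A, RepObj f Q A := by
  haveI := DCat.hasRpush f
  obtain ⟨A, ε, hA, hε⟩ := AdjGeom.hasRep f Q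
  exact ⟨A, ⟨fun {_} => ⟨hA, ε, hε⟩⟩⟩

/-- Representing objects compose. -/
theorem RepObj.comp [QuasiCompact f] [QuasiSeparated f] (g : Y ⟶ Z) {Q' : DCoh.D Z} {B : DCoh.D Y}
    (hg : RepObj g Q' B) (hf : RepObj f B A) : RepObj (f ≫ g) Q' A := by
  refine ⟨fun {_} => ?_⟩
  haveI := DCat.hasRpush f
  haveI := DCat.hasRpush g
  obtain ⟨hA, ε, hε⟩ := hf.out
  obtain ⟨-, δ, hδ⟩ := hg.out
  obtain ⟨c⟩ := DCat.nonempty_RpushComp f g
  refine ⟨hA, c.inv.app A ≫ (DCoh.Rpush g).map ε ≫ δ, fun K hK => ?_⟩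
  have hb := (Iso.homFromEquiv (c.app K) (Z := Q')).bijective.comp
    ((hδ _ (DQCoh.isQCohD_Rpush f K hK)).comp (hε K hK))
  unfold AdjGlue.Rep
  convert hb using 1
  funext g'
  simp [← c.inv.naturality_assoc]

theorem isIso_unit (j : X ⟶ Y) [IsOpenImmersion j] [DCoh.HasRpush j] (hj : j.opensRange = ⊤)
    (adj : DCoh.restrictD j ⊣ DCoh.Rpush j) (L : DCoh.D Y) : IsIso (adj.unit.app L) := by
  haveI := GammaZ.isIso_counit j adj
  haveI := PullPerf.preservesFiniteLimits_restrict j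
  obtain ⟨C, g, δ, hT'⟩ := distinguished_cocone_triangle (adj.unit.app L)
  refine (Triangle.isZero₃_iff_isIso₁ _ hT').1 (AdjGeom.isZero_of_killed_top j hj ?_)
  haveI : IsIso ((DCoh.restrictD j).map (adj.unit.app L)) := by
    rw [show (DCoh.restrictD j).map (adj.unit.app L) = inv (adj.counit.app ((DCoh.restrictD j).obj L)) from
      IsIso.eq_inv_of_inv_hom_id (adj.left_triangle_components L)]
    infer_instance
  exact (Triangle.isZero₃_iff_isIso₁ _ ((DCoh.restrictD j).map_distinguished _ hT')).2 ‹_›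

/-- The representing object for an isomorphism. -/
theorem repObj_isIso (e : X ⟶ Y) [IsIso e] (hQ : DCoh.IsQCohD Q) : RepObj e Q ((DCoh.restrictD e).obj Q) := by
  refine ⟨fun {_} => ?_⟩
  obtain ⟨adj, hc⟩ := AdjGeom.exists_adj e
  haveI := isIso_unit e (Scheme.Hom.opensRange_of_isIso e) adj Q
  haveI : IsIso adj.counit := hc
  refine ⟨AdjGeom.isQCohD_restrictD e hQ, inv (adj.unit.app Q), fun K hK => ?_⟩
  have hb := (Iso.homToEquiv (asIso (adj.unit.app Q)).symm (Z := (DCoh.Rpush e).obj K)).bijective.comp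
    (adj.fullyFaithfulROfIsIsoCounit.map_bijective K ((DCoh.restrictD e).obj Q))
  exact hb

/-- Restriction along equal morphisms. -/
noncomputable def restrictCongr {j k : X ⟶ Y} [IsOpenImmersion j] [IsOpenImmersion k] (e : j = k) (K : DCoh.D Y) :
    (DCoh.restrictD j).obj K ≅ (DCoh.restrictD k).obj K :=
  eqToIso (by subst e; rfl)

theorem isGE_Rpush (f : X ⟶ Y) [DCoh.HasRpush f] (K : DCoh.D X) (a : ℤ) [K.IsGE a] :
    ((DCoh.Rpush f).obj K).IsGE a :=
  isGE_totalRightDerived (modules_enoughKInj X) (Scheme.Modules.pushforward f) K a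

theorem exists_isGE [QuasiCompact f] [QuasiSeparated f] [CompactSpace Y] (c : ℤ) [Q.IsGE c] (h : RepObj f Q A) :
    ∃ c' : ℤ, A.IsGE c' := by
  haveI := DCat.hasRpush f
  obtain ⟨hA, ε, hε⟩ := h.out
  exact SupportAdj.exists_isGE_rep f c ε hA hε

/-- Representing objects restrict to opens of the base. -/
theorem RepObj.restrictOpen [IsNoetherian Y] [IsProper f] (h : RepObj f Q A) (c : ℤ) [hc : Q.IsGE c]
    (hQ : DCoh.IsQCohD Q) (U : Y.Opens) :
    RepObj (f ∣_ U) ((DCoh.restrictD U.ι).obj Q) ((DCoh.restrictD (f ⁻¹ᵁ U).ι).obj A) := by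
  haveI : IsLocallyNoetherian X := LocallyOfFiniteType.isLocallyNoetherian f
  haveI : CompactSpace X := QuasiCompact.compactSpace_of_compactSpace f
  haveI : IsNoetherian X := { }
  let O := f ⁻¹ᵁ U
  haveI : CompactSpace (U : Scheme.{u}) := isCompact_iff_compactSpace.1 (TopologicalSpace.NoetherianSpace.isCompact _)
  haveI : IsNoetherian (U : Scheme.{u}) := { }
  haveI : CompactSpace (O : Scheme.{u}) := isCompact_iff_compactSpace.1 (TopologicalSpace.NoetherianSpace.isCompact _)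
  haveI : IsNoetherian (O : Scheme.{u}) := { }
  obtain ⟨AU, hAU⟩ := exists_repObj (f ∣_ U) ((DCoh.restrictD U.ι).obj Q)
  suffices Nonempty (AU ≅ (DCoh.restrictD O.ι).obj A) from hAU.ofIso this.some
  haveI := DCat.hasRpush f
  haveI := DCat.hasRpush U.ι
  haveI := DCat.hasRpush O.ι
  haveI := DCat.hasRpush (f ∣_ U)
  haveI := PullPerf.preservesFiniteLimits_restrict U.ι
  haveI := PullPerf.preservesFiniteLimits_restrict O.ι
  obtain ⟨hA, ε, hε⟩ := h.out
  -- the representing object of the direct image of the restriction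
  obtain ⟨adj, hcu⟩ := AdjGeom.exists_adj U.ι
  obtain ⟨adj', hc'⟩ := AdjGeom.exists_adj O.ι
  haveI : IsIso adj.counit := hcu
  haveI : IsIso adj'.counit := hc'
  let RQ := (DCoh.Rpush U.ι).obj ((DCoh.restrictD U.ι).obj Q)
  have hRQ : DCoh.IsQCohD RQ := DQCoh.isQCohD_Rpush U.ι _ (AdjGeom.isQCohD_restrictD U.ι hQ)
  have hB : RepObj f RQ ((DCoh.Rpush O.ι).obj AU) := by
    refine ⟨fun {_} => ?_⟩
    obtain ⟨hqA, δ, hδ⟩ := hAU.out
    let rr := DCat.OpenDerived.rpushRestrictIso f U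
    refine ⟨DQCoh.isQCohD_Rpush O.ι AU hqA,
      adj.homEquiv _ _ (rr.hom.app _ ≫ (DCoh.Rpush (f ∣_ U)).map (adj'.counit.app AU) ≫ δ), fun K hK => ?_⟩
    have hbij := (adj.homEquiv _ _).bijective.comp
      (((Iso.homFromEquiv (rr.app K).symm).bijective).comp
        ((hδ _ (AdjGeom.isQCohD_restrictD O.ι hK)).comp (adj'.homEquiv K AU).symm.bijective))
    unfold AdjGlue.Rep
    convert hbij using 1
    funext g
    refine (adj.homEquiv _ _).symm.injective ?_
    simp only [Function.comp_apply, Equiv.symm_apply_apply, Adjunction.homEquiv_naturality_left_symm]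
    have hn := rr.hom.naturality g
    dsimp at hn
    erw [reassoc_of% hn]
    simp [Adjunction.homEquiv_counit, O]
  obtain ⟨N, a, γ, hT⟩ := distinguished_cocone_triangle₁ (adj.unit.app Q)
  have hN : DCoh.IsQCohD N := DQCoh.isQCohD_obj₃ (inv_rot_of_distTriang _ (inv_rot_of_distTriang _ hT))
    (DQCoh.isQCohD_shift hQ (-1)) (DQCoh.isQCohD_shift hRQ (-1))
  haveI : ((DCoh.restrictD U.ι).obj Q).IsGE c := CohTors.isGE_restrictD U.ι c hc
  haveI : RQ.IsGE c := isGE_Rpush U.ι _ c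
  haveI : N.IsGE c := by
    let t : Triangulated.TStructure (DCoh.D Y) := DerivedCategory.TStructure.t
    haveI : (RQ⟦(-1 : ℤ)⟧).IsGE (c + 1) := t.isGE_shift RQ c (-1) (c + 1) (by omega)
    exact t.isGE₂ _ (inv_rot_of_distTriang _ hT) c (t.isGE_of_ge (RQ⟦(-1 : ℤ)⟧) c (c + 1) (by omega)) hc
  have hNk : AdjGeom.killed U.ι N := by
    haveI : IsIso ((DCoh.restrictD U.ι).map (adj.unit.app Q)) := by
      rw [show (DCoh.restrictD U.ι).map (adj.unit.app Q) = inv (adj.counit.app ((DCoh.restrictD U.ι).obj Q)) from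
        IsIso.eq_inv_of_inv_hom_id (adj.left_triangle_components Q)]
      infer_instance
    exact (Triangle.isZero₁_iff_isIso₂ _ ((DCoh.restrictD U.ι).map_distinguished _ hT)).2 ‹_›
  -- the triangulated adjoint
  have hq := fun K hK => DQCoh.isQCohD_Rpush f K hK
  obtain ⟨_, _⟩ := DCat.exists_commShift_Rpush f
  let F : (AdjGeom.qcD X).FullSubcategory ⥤ (AdjGeom.qcD Y).FullSubcategory :=
    ObjectProperty.lift (AdjGeom.qcD Y) (ObjectProperty.ι (AdjGeom.qcD X) ⋙ DCoh.Rpush f)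
      (fun K => hq K.obj K.property)
  haveI : F.IsLeftAdjoint := AdjGeom.isLeftAdjoint_RpushQ f hq
  let G := F.rightAdjoint
  let ad : F ⊣ G := Adjunction.ofIsLeftAdjoint F
  letI : G.CommShift ℤ := ad.rightAdjointCommShift ℤ
  haveI : ad.CommShift ℤ := ad.commShift_of_leftAdjoint ℤ
  haveI : F.IsTriangulated := inferInstance
  haveI : G.IsTriangulated := ad.isTriangulated_rightAdjoint
  have hG : ∀ M : (AdjGeom.qcD Y).FullSubcategory, RepObj f M.obj (G.obj M).obj := fun M => ⟨fun {_} =>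
    ⟨(G.obj M).property, (ad.counit.app M).hom, fun K hK => SupportAdj.rep_counit f hq G ad M K hK⟩⟩
  let M₁ : (AdjGeom.qcD Y).FullSubcategory := ⟨N, hN⟩
  let M₂ : (AdjGeom.qcD Y).FullSubcategory := ⟨Q, hQ⟩
  let M₃ : (AdjGeom.qcD Y).FullSubcategory := ⟨RQ, hRQ⟩
  let L' : Triangle (AdjGeom.qcD Y).FullSubcategory :=
    Triangle.mk (ObjectProperty.homMk a : M₁ ⟶ M₂) (ObjectProperty.homMk (adj.unit.app Q) : M₂ ⟶ M₃)
      (ObjectProperty.homMk (γ ≫ ((ObjectProperty.ι (AdjGeom.qcD Y)).commShiftIso (1 : ℤ)).inv.app M₁) :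
        M₃ ⟶ M₁⟦(1 : ℤ)⟧)
  have hL' : L' ∈ distTriang _ := by
    refine isomorphic_distinguished _ hT _ (Triangle.isoMk _ _ (Iso.refl _) (Iso.refl _) (Iso.refl _) ?_ ?_ ?_)
    all_goals simp [L']
    all_goals try exact Category.comp_id _
  have hD := (DCoh.restrictD O.ι).map_distinguished _
    ((ObjectProperty.ι (AdjGeom.qcD X)).map_distinguished _ (G.map_distinguished _ hL'))
  have hz : AdjGeom.killed O.ι (G.obj M₁).obj := by
    obtain ⟨hA₁, δ₁, hδ₁⟩ := (hG M₁).out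
    exact SupportAdj.killed_rep f U N c hN hNk _ δ₁ hA₁ hδ₁
  obtain ⟨e₂⟩ := h.unique (hG M₂)
  obtain ⟨e₃⟩ := hB.unique (hG M₃)
  haveI : IsIso ((DCoh.restrictD O.ι).map (G.map L'.mor₂).hom) := (Triangle.isZero₁_iff_isIso₂ _ hD).1 hz
  exact ⟨(asIso (adj'.counit.app AU)).symm ≪≫ (DCoh.restrictD O.ι).mapIso e₃ ≪≫
    (asIso ((DCoh.restrictD O.ι).map ((G.map L'.mor₂).hom))).symm ≪≫ (DCoh.restrictD O.ι).mapIso e₂.symm⟩

/-- Representing objects restrict along base changes by open immersions. -/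
theorem RepObj.restrict {X' Y' : Scheme.{u}} [IsNoetherian Y] [IsProper f] (h : RepObj f Q A) (c : ℤ) [hc : Q.IsGE c]
    (hQ : DCoh.IsQCohD Q) (j : Y' ⟶ Y) [IsOpenImmersion j] (j' : X' ⟶ X) [IsOpenImmersion j'] (f' : X' ⟶ Y')
    (hcomm : j' ≫ f = f' ≫ j) (hrange : j'.opensRange = f ⁻¹ᵁ j.opensRange) :
    RepObj f' ((DCoh.restrictD j).obj Q) ((DCoh.restrictD j').obj A) := by
  let U := j.opensRange
  let O := f ⁻¹ᵁ U
  have h1 : RepObj (f ∣_ U) ((DCoh.restrictD U.ι).obj Q) ((DCoh.restrictD O.ι).obj A) := h.restrictOpen c hQ U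
  let d : Y' ≅ (U : Scheme.{u}) := j.isoOpensRange
  have hj' : Set.range j' = Set.range O.ι := by
    rw [Scheme.Opens.range_ι]
    exact congrArg (fun W : X.Opens => (W : Set X)) hrange
  let w : X' ≅ (O : Scheme.{u}) := IsOpenImmersion.isoOfRangeEq j' O.ι hj'
  have hw : w.hom ≫ O.ι = j' := IsOpenImmersion.isoOfRangeEq_hom_fac _ _ _
  have hd : d.inv ≫ j = U.ι := Scheme.Hom.isoOpensRange_inv_comp j
  have hf : (w.hom ≫ (f ∣_ U)) ≫ d.inv = f' := by
    rw [← cancel_mono j, Category.assoc, hd, Category.assoc, morphismRestrict_ι, ← Category.assoc, hw, hcomm]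
  obtain ⟨eA⟩ := PerfLocal.rd_comp w.hom O.ι A
  obtain ⟨eQ⟩ := PerfLocal.rd_comp d.inv j Q
  have hAr : DCoh.IsQCohD ((DCoh.restrictD O.ι).obj A) := AdjGeom.isQCohD_restrictD O.ι h.mem
  have h2 := RepObj.comp (f ∣_ U) h1 (repObj_isIso w.hom hAr)
  have h3 : RepObj d.inv ((DCoh.restrictD j).obj Q) ((DCoh.restrictD d.inv).obj ((DCoh.restrictD j).obj Q)) :=
    repObj_isIso d.inv (AdjGeom.isQCohD_restrictD j hQ)
  have h4 := RepObj.comp d.inv h3 (RepObj.ofIsoTarget h2 (restrictCongr hd.symm Q ≪≫ eQ))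
  exact (h4.congr hf).ofIso (eA.symm ≪≫ restrictCongr hw A)

end Groth.Agent.Dual22Lib.RepLib
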