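import Groth.Agent.Dual22Lib.AdjGeom

/-!
# Gluing objects of the derived category along two opens
-/

set_option autoImplicit false
set_option backward.isDefEq.respectTransparency false
set_option backward.defeqAttrib.useBackward true
set_option linter.style.haveILetI false
set_option linter.unusedSectionVars false

universe v u

open CategoryTheory CategoryTheory.Limits CategoryTheory.Pretriangulated AlgebraicGeometry

attribute [local instance] HasDerivedCategory.standard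

namespace Groth.Agent.Dual22Lib.AdjGeom

section General

variable {D : Type*} [Category D] [Preadditive D] [HasZeroObject D] [HasShift D ℤ]
  [∀ n : ℤ, (shiftFunctor D n).Additive] [Pretriangulated D]

/-- In a triangle `F → A ⊞ B → C` with `B → C` invertible, `F → A` is invertible. -/
theorem isIso_fst_of_triangle {F A B C : D} [HasBinaryBiproduct A B] {a : F ⟶ A ⊞ B} {b : A ⊞ B ⟶ C}
    {c : C ⟶ F⟦(1 : ℤ)⟧} (hT : Triangle.mk a b c ∈ distTriang D) [IsIso (biprod.inr ≫ b)] :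
    IsIso (a ≫ biprod.fst) := by
  have hab : a ≫ b = 0 := comp_distTriang_mor_zero₁₂ _ hT
  have hc : c = 0 := by
    have h : b ≫ c = 0 := comp_distTriang_mor_zero₂₃ _ hT
    rw [← cancel_epi (biprod.inr ≫ b), comp_zero, Category.assoc, h, comp_zero]
  haveI : Mono a := (Triangle.mor₃_eq_zero_iff_mono₁ _ hT).1 hc
  let y : A ⟶ A ⊞ B := biprod.inl - (biprod.inl ≫ b ≫ inv (biprod.inr ≫ b)) ≫ biprod.inr
  have hy : y ≫ b = 0 := by
    simp only [y, Preadditive.sub_comp, Category.assoc, IsIso.inv_hom_id, Category.comp_id, sub_self]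
  obtain ⟨l, hl⟩ := Triangle.coyoneda_exact₂ _ hT y hy
  change y = l ≫ a at hl
  have hfst : l ≫ a ≫ biprod.fst = 𝟙 A := by
    rw [← Category.assoc, ← hl]
    simp [y]
  refine ⟨l, ?_, hfst⟩
  rw [← cancel_mono a, Category.id_comp, Category.assoc, ← hl]
  refine biprod.hom_ext _ _ (by simp [y]) ?_
  rw [← cancel_mono (biprod.inr ≫ b)]
  have e : biprod.snd ≫ biprod.inr ≫ b = b - (biprod.fst ≫ biprod.inl ≫ b : A ⊞ B ⟶ C) := by
    rw [eq_sub_iff_add_eq']
    simp only [← Category.assoc, ← Preadditive.add_comp, biprod.total, Category.id_comp]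
  simp only [Category.assoc, e, Preadditive.comp_sub, hab, hy]
  simp [y]

end General

variable {X : Scheme.{u}}

theorem isIso_restrictD_Rpush_map (V U : X.Opens) [DCoh.HasRpush V.ι] {B B' : DCoh.D (V : Scheme.{u})}
    (φ : B ⟶ B') {T : Scheme.{u}} (h : T ⟶ (V : Scheme.{u})) [IsOpenImmersion h]
    (hh : V.ι ⁻¹ᵁ U ≤ h.opensRange) [IsIso ((DCoh.restrictD h).map φ)] :
    IsIso ((DCoh.restrictD U.ι).map ((DCoh.Rpush V.ι).map φ)) := by
  haveI := DCat.hasRpush (V.ι ∣_ U)
  obtain ⟨C, v, w, hT⟩ := distinguished_cocone_triangle φ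
  have hz : killed h C := (Triangle.isZero₃_iff_isIso₁ _ ((DCoh.restrictD h).map_distinguished _ hT)).2
    (show IsIso ((DCoh.restrictD h).map φ) from inferInstance)
  have hz' : killed (V.ι ⁻¹ᵁ U).ι C := killed_mono h _ (by rw [Scheme.Opens.opensRange_ι]; exact hh) hz
  haveI : IsIso ((DCoh.restrictD (V.ι ⁻¹ᵁ U).ι).map φ) :=
    (Triangle.isZero₃_iff_isIso₁ _ ((DCoh.restrictD (V.ι ⁻¹ᵁ U).ι).map_distinguished _ hT)).1 hz'
  exact (NatIso.isIso_map_iff (DCat.OpenDerived.rpushRestrictIso V.ι U) φ).2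
    (Functor.map_isIso (DCoh.Rpush (V.ι ∣_ U)) ((DCoh.restrictD (V.ι ⁻¹ᵁ U).ι).map φ))

/-- Gluing two objects along the intersection of two opens. -/
theorem exists_glue (U V : X.Opens) (hUV : U ⊔ V = ⊤) (A : DCoh.D (U : Scheme.{u})) (B : DCoh.D (V : Scheme.{u}))
    (c : (DCoh.restrictD (X.homOfLE (inf_le_left : U ⊓ V ≤ U))).obj A ≅
      (DCoh.restrictD (X.homOfLE (inf_le_right : U ⊓ V ≤ V))).obj B) :
    ∃ F : DCoh.D X, Nonempty ((DCoh.restrictD U.ι).obj F ≅ A) ∧ Nonempty ((DCoh.restrictD V.ι).obj F ≅ B) := by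
  let hu := X.homOfLE (inf_le_left : U ⊓ V ≤ U)
  let hv := X.homOfLE (inf_le_right : U ⊓ V ≤ V)
  haveI := DCat.hasRpush U.ι
  haveI := DCat.hasRpush V.ι
  haveI := DCat.hasRpush (U ⊓ V).ι
  haveI := DCat.hasRpush hu
  haveI := DCat.hasRpush hv
  haveI : DCoh.HasRpush (hu ≫ U.ι) := DCat.hasRpush _
  haveI : DCoh.HasRpush (hv ≫ V.ι) := DCat.hasRpush _
  obtain ⟨au, hau⟩ := exists_adj hu
  obtain ⟨av, hav⟩ := exists_adj hv
  obtain ⟨aU, haU⟩ := exists_adj U.ι
  obtain ⟨aV, haV⟩ := exists_adj V.ι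
  haveI := hau
  haveI := hav
  haveI := haU
  haveI := haV
  obtain ⟨eU⟩ := DCat.nonempty_RpushComp hu U.ι
  obtain ⟨eV⟩ := DCat.nonempty_RpushComp hv V.ι
  have hcomp : hu ≫ U.ι = hv ≫ V.ι := by simp [hu, hv]
  let σ : (DCoh.Rpush (hu ≫ U.ι)).obj ((DCoh.restrictD hu).obj A) ≅
      (DCoh.Rpush (hv ≫ V.ι)).obj ((DCoh.restrictD hv).obj B) :=
    (DCoh.Rpush (hu ≫ U.ι)).mapIso c ≪≫ eqToIso (by simp only [hcomp]; rfl)
  let C := (DCoh.Rpush V.ι).obj ((DCoh.Rpush hv).obj ((DCoh.restrictD hv).obj B))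
  let τ : (DCoh.Rpush U.ι).obj ((DCoh.Rpush hu).obj ((DCoh.restrictD hu).obj A)) ≅ C :=
    eU.app _ ≪≫ σ ≪≫ (eV.app _).symm
  let α : (DCoh.Rpush U.ι).obj A ⟶ C := (DCoh.Rpush U.ι).map (au.unit.app A) ≫ τ.hom
  let β : (DCoh.Rpush V.ι).obj B ⟶ C := (DCoh.Rpush V.ι).map (av.unit.app B)
  haveI : IsIso ((DCoh.restrictD hu).map (au.unit.app A)) := by
    rw [show (DCoh.restrictD hu).map (au.unit.app A) = inv (au.counit.app _) from
      IsIso.eq_inv_of_inv_hom_id (au.left_triangle_components A)]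
    infer_instance
  haveI : IsIso ((DCoh.restrictD hv).map (av.unit.app B)) := by
    rw [show (DCoh.restrictD hv).map (av.unit.app B) = inv (av.counit.app _) from
      IsIso.eq_inv_of_inv_hom_id (av.left_triangle_components B)]
    infer_instance
  have hru : U.ι ⁻¹ᵁ V ≤ hu.opensRange := fun x hx => ⟨⟨x.1, x.2, hx⟩, Subtype.ext (by simp [hu])⟩
  have hrv : V.ι ⁻¹ᵁ U ≤ hv.opensRange := fun x hx => ⟨⟨x.1, hx, x.2⟩, Subtype.ext (by simp [hv])⟩
  haveI : IsIso ((DCoh.restrictD V.ι).map α) := by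
    haveI := isIso_restrictD_Rpush_map U V (au.unit.app A) hu hru
    simp only [α, Functor.map_comp]
    infer_instance
  haveI : IsIso ((DCoh.restrictD U.ι).map β) := isIso_restrictD_Rpush_map V U (av.unit.app B) hv hrv
  let RA := (DCoh.Rpush U.ι).obj A
  let RB := (DCoh.Rpush V.ι).obj B
  obtain ⟨F, a, δ, hT⟩ := distinguished_cocone_triangle₁ (biprod.desc α β : RA ⊞ RB ⟶ C)
  refine ⟨F, ⟨?_⟩, ⟨?_⟩⟩
  · let P := DCoh.restrictD U.ι
    haveI : P.Additive := inferInstance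
    haveI : PreservesBinaryBiproducts P := preservesBinaryBiproducts_of_preservesBiproducts P
    have hT' := P.map_distinguished _ hT
    let m : P.obj (RA ⊞ RB) ≅ P.obj RA ⊞ P.obj RB := P.mapBiprod _ _
    have hT'' : Triangle.mk (P.map a ≫ m.hom) (m.inv ≫ P.map (biprod.desc α β))
        (P.map δ ≫ (P.commShiftIso (1 : ℤ)).hom.app F) ∈ distTriang (DCoh.D (U : Scheme.{u})) :=
      isomorphic_distinguished _ hT' _ (Triangle.isoMk _ _ (Iso.refl _) m.symm (Iso.refl _) (by simp) (by simp) (by simp))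
    haveI : IsIso (biprod.inr ≫ m.inv ≫ P.map (biprod.desc α β)) := by
      rw [show biprod.inr ≫ m.inv ≫ P.map (biprod.desc α β) = P.map β by
        simp [m, ← P.map_comp]]
      infer_instance
    haveI : IsIso ((P.map a ≫ m.hom) ≫ biprod.fst) := isIso_fst_of_triangle hT''
    exact asIso ((P.map a ≫ m.hom) ≫ biprod.fst) ≪≫ asIso (aU.counit.app A)
  · let P := DCoh.restrictD V.ι
    haveI : P.Additive := inferInstance
    haveI : PreservesBinaryBiproducts P := preservesBinaryBiproducts_of_preservesBiproducts P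
    have hT' := P.map_distinguished _ hT
    let m : P.obj (RA ⊞ RB) ≅ P.obj RB ⊞ P.obj RA :=
      P.mapBiprod _ _ ≪≫ biprod.braiding _ _
    have hT'' : Triangle.mk (P.map a ≫ m.hom) (m.inv ≫ P.map (biprod.desc α β))
        (P.map δ ≫ (P.commShiftIso (1 : ℤ)).hom.app F) ∈ distTriang (DCoh.D (V : Scheme.{u})) :=
      isomorphic_distinguished _ hT' _ (Triangle.isoMk _ _ (Iso.refl _) m.symm (Iso.refl _) (by simp) (by simp) (by simp))
    haveI : IsIso (biprod.inr ≫ m.inv ≫ P.map (biprod.desc α β)) := by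
      rw [show biprod.inr ≫ m.inv ≫ P.map (biprod.desc α β) = P.map α by
        simp [m, ← P.map_comp]]
      infer_instance
    haveI : IsIso ((P.map a ≫ m.hom) ≫ biprod.fst) := isIso_fst_of_triangle hT''
    exact asIso ((P.map a ≫ m.hom) ≫ biprod.fst) ≪≫ asIso (aV.counit.app B)

end Groth.Agent.Dual22Lib.AdjGeom
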