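import Groth.Agent.Dual22Lib.PerfExtend
import Groth.Agent.Dual22Lib.OpenInduct

/-!
# Extending perfect objects with supports along an affine piece
-/

set_option autoImplicit false
set_option backward.isDefEq.respectTransparency false
set_option backward.defeqAttrib.useBackward true
set_option linter.style.haveILetI false
set_option linter.unusedSectionVars false
set_option synthInstance.maxHeartbeats 100000

universe u

open CategoryTheory CategoryTheory.Limits CategoryTheory.Pretriangulated AlgebraicGeometry Opposite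
open Groth.Agent.DCat Groth.Agent.DCat.PerfLocal Groth.Agent.Dual22Lib.AdjGeom
open scoped ZeroObject

attribute [local instance] HasDerivedCategory.standard
attribute [-instance] Int.instConditionallyCompleteLinearOrder

namespace Groth.Agent.Dual22Lib.PerfSupp

variable {X W : Scheme.{u}}

theorem killed_iso {j : W ⟶ X} [IsOpenImmersion j] {K L : DCoh.D X} (e : K ≅ L) (h : killed j K) : killed j L :=
  IsZero.of_iso h ((rd j).mapIso e.symm)

theorem killed_rd_iff {W' : Scheme.{u}} (h : W' ⟶ W) [IsOpenImmersion h] (k : W ⟶ X) [IsOpenImmersion k]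
    (K : DCoh.D X) : killed h ((rd k).obj K) ↔ killed (h ≫ k) K :=
  RdComp.isZero_rd_comp_iff h k K

theorem killed_biprod (j : W ⟶ X) [IsOpenImmersion j] {K L : DCoh.D X} (hK : killed j K) (hL : killed j L) :
    killed j (K ⊞ L) := by
  haveI := PullPerf.preservesFiniteLimits_restrict j
  haveI := preservesBinaryBiproducts_of_preservesBiproducts (rd j)
  exact IsZero.of_iso (biprod_isZero_iff _ _ |>.2 ⟨hK, hL⟩) ((rd j).mapBiprod K L)

theorem killed_shift (j : W ⟶ X) [IsOpenImmersion j] {K : DCoh.D X} (hK : killed j K) (n : ℤ) :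
    killed j (K⟦n⟧) :=
  haveI := PullPerf.preservesFiniteLimits_restrict j
  ((shiftFunctor (DCoh.D W) n).map_isZero hK).of_iso (((rd j).commShiftIso n).app K)

/-- Objects killed on the members of an open cover vanish. -/
theorem isZero_of_killed {C : DCoh.D X}
    (h : ∀ x : X, ∃ (T : Scheme.{u}) (j : T ⟶ X) (_ : IsOpenImmersion j), x ∈ j.opensRange ∧ killed j C) :
    IsZero C := by
  refine DCat.SuppOpen.isZero_of_hd _ fun i => ModStalk.isZero_of_stalks fun x => ?_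
  obtain ⟨T, j, hj, hx, hk⟩ := h x
  haveI := (killed_iff j C).1 hk i x hx
  exact DCat.SuppOpen.isZero_stalkFunctor _ x

theorem killed_of_cover {O : X.Opens} {C : DCoh.D X}
    (h : ∀ x ∈ O, ∃ (T : Scheme.{u}) (j : T ⟶ X) (_ : IsOpenImmersion j), x ∈ j.opensRange ∧ killed j C) :
    killed O.ι C := (killed_iff O.ι C).2 fun i x hx => by
  rw [Scheme.Opens.opensRange_ι] at hx
  obtain ⟨T, j, hj, hx', hk⟩ := h x hx
  exact (killed_iff j C).1 hk i x hx'

/-- Direct images of objects killed over an open are killed there. -/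
theorem killed_rpush (f : W ⟶ X) [DCoh.HasRpush f] (V : X.Opens) {E : DCoh.D W} (hE : killed (f ⁻¹ᵁ V).ι E) :
    killed V.ι ((DCoh.Rpush f).obj E) := by
  haveI := PullPerf.preservesFiniteLimits_restrict V.ι
  haveI := PullPerf.preservesFiniteLimits_restrict (f ⁻¹ᵁ V).ι
  haveI := DCat.hasRpush (f ∣_ V)
  haveI : (DCoh.Rpush (f ∣_ V)).PreservesZeroMorphisms := by
    haveI : (DCoh.Rpush (f ∣_ V)).IsRightAdjoint := isRightAdjoint_Rpush (f ∣_ V)
    infer_instance
  exact ((DCoh.Rpush (f ∣_ V)).map_isZero hE).of_iso ((OpenDerived.rpushRestrictIso f V).app E)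

/-- Perfect objects killed near the boundary push forward to perfect objects. -/
theorem isPerfect_rpush (j : W ⟶ X) [IsOpenImmersion j] [DCoh.HasRpush j] (V : X.Opens)
    (hV : ∀ x : X, x ∈ j.opensRange ∨ x ∈ V) {E : DCoh.D W} (hE : DCoh.IsPerfect E)
    (hk : killed (j ⁻¹ᵁ V).ι E) : DCoh.IsPerfect ((DCoh.Rpush j).obj E) := by
  refine (PerfLocal.isPerfect_iff _).2 fun x => ?_
  rcases hV x with hx | hx
  · obtain ⟨e⟩ := PerfLocal.nonempty_rd_rpush j E
    exact PerfLocal.isPerfect_of_rd (j := j) _ (PCTriangle.perfect_iso e.symm hE) x hx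
  · exact ⟨V, V.ι, inferInstance, by simpa using hx, PerfLocal.perfAt_of_isZero (killed_rpush j V hk)⟩

theorem isCompact_preimage (j : W ⟶ X) [IsOpenImmersion j] [CompactSpace W] [QuasiSeparatedSpace X] {O : X.Opens}
    (hO : IsCompact (O : Set X)) : IsCompact ((j ⁻¹ᵁ O : W.Opens) : Set W) := by
  refine j.isOpenEmbedding.isInducing.isCompact_iff.2 ?_
  rw [show (⇑j '' ((j ⁻¹ᵁ O : W.Opens) : Set W)) = (j.opensRange : Set X) ∩ (O : Set X) from
    Set.image_preimage_eq_range_inter]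
  exact QuasiSeparatedSpace.inter_isCompact _ _ j.opensRange.2 (isCompact_range j.continuous) O.2 hO

/-- Perfect objects with supports extend, up to `⊕ [1]`, to affine schemes. -/
theorem exists_extend_supp [IsAffine X] (O : X.Opens) (hO : IsCompact (O : Set X)) (j : W ⟶ X) [IsOpenImmersion j]
    [CompactSpace W] {P : DCoh.D W} (hP : DCoh.IsPerfect P) (hk : killed (j ⁻¹ᵁ O).ι P) :
    ∃ R : DCoh.D X, DCoh.IsPerfect R ∧ killed O.ι R ∧ Nonempty ((rd j).obj R ≅ P ⊞ P⟦(1 : ℤ)⟧) := by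
  let U := j.opensRange ⊔ O
  have hle : Set.range j ⊆ Set.range U.ι := by
    rw [Scheme.Opens.range_ι]
    rintro _ ⟨w, rfl⟩
    exact Or.inl ⟨w, rfl⟩
  let j' := IsOpenImmersion.lift U.ι j hle
  have hj' : j' ≫ U.ι = j := IsOpenImmersion.lift_fac U.ι j hle
  haveI : IsOpenImmersion j' := by
    haveI : IsOpenImmersion (j' ≫ U.ι) := by rw [hj']; infer_instance
    exact IsOpenImmersion.of_comp j' U.ι
  let O' := U.ι ⁻¹ᵁ O
  haveI := DCat.hasRpush j'
  have hk' : killed (j' ⁻¹ᵁ O').ι P := killed_mono (j ⁻¹ᵁ O).ι (j' ⁻¹ᵁ O').ι (by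
    rw [Scheme.Opens.opensRange_ι, Scheme.Opens.opensRange_ι]
    show (j' ≫ U.ι) ⁻¹ᵁ O ≤ j ⁻¹ᵁ O
    rw [hj']) hk
  let P' := (DCoh.Rpush j').obj P
  have hP' : DCoh.IsPerfect P' := isPerfect_rpush j' O' (fun x => by
    rcases x.2 with ⟨w, hw⟩ | h
    · refine Or.inl ⟨w, U.ι.isOpenEmbedding.injective ?_⟩
      show (j' ≫ U.ι) w = _
      rw [hj']
      exact hw
    · exact Or.inr h) hP hk'
  have hPk : killed O'.ι P' := killed_rpush j' O' hk'
  obtain ⟨R, hR, ⟨e⟩⟩ := PerfExtend.exists_extend U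
    ((isCompact_range j.continuous).union hO) hP'
  obtain ⟨c⟩ := PerfLocal.nonempty_rd_rpush j' P
  refine ⟨R, hR, ?_, ⟨?_⟩⟩
  · refine killed_mono (O'.ι ≫ U.ι) O.ι ?_ ((killed_rd_iff _ _ _).1
      (killed_iso e.symm (killed_biprod _ hPk (killed_shift _ hPk 1))))
    rw [Scheme.Hom.opensRange_comp, Scheme.Opens.opensRange_ι, Scheme.Opens.opensRange_ι]
    exact fun x hx => ⟨⟨x, Or.inr hx⟩, hx, rfl⟩
  · haveI := PullPerf.preservesFiniteLimits_restrict j'
    haveI := preservesBinaryBiproducts_of_preservesBiproducts (rd j')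
    exact eqToIso (by simp only [hj']) ≪≫ ((RdComp.rdCompIso j' U.ι).app R).symm ≪≫ (rd j').mapIso e ≪≫
      (rd j').mapBiprod _ _ ≪≫ biprod.mapIso c (((rd j').commShiftIso (1 : ℤ)).app P' ≪≫
        (shiftFunctor (DCoh.D W) (1 : ℤ)).mapIso c)

/-- Extension across an affine open. -/
theorem exists_extend_step [QuasiSeparatedSpace X] (U V : X.Opens) (hUV : U ⊔ V = ⊤) (hU : IsCompact (U : Set X))
    (hV : IsAffineOpen V) (O : X.Opens) (hO : IsCompact (O : Set X)) {P : DCoh.D (U : Scheme.{u})}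
    (hP : DCoh.IsPerfect P) (hk : killed (U.ι ⁻¹ᵁ O).ι P) :
    ∃ F : DCoh.D X, DCoh.IsPerfect F ∧ killed O.ι F ∧ Nonempty ((rd U.ι).obj F ≅ P ⊞ P⟦(1 : ℤ)⟧) := by
  haveI : IsAffine V := hV
  let hu := X.homOfLE (inf_le_left : U ⊓ V ≤ U)
  let hv := X.homOfLE (inf_le_right : U ⊓ V ≤ V)
  haveI : CompactSpace ((U ⊓ V : X.Opens) : Scheme.{u}) := isCompact_iff_compactSpace.1
    (QuasiSeparatedSpace.inter_isCompact _ _ U.2 hU V.2 hV.isCompact)
  haveI : CompactSpace (V : Scheme.{u}) := isCompact_iff_compactSpace.1 hV.isCompact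
  have hcomp : hu ≫ U.ι = hv ≫ V.ι := by simp [hu, hv]
  have hkW : killed (hv ⁻¹ᵁ (V.ι ⁻¹ᵁ O)).ι ((rd hu).obj P) := by
    refine (killed_rd_iff _ _ _).2 (killed_mono (U.ι ⁻¹ᵁ O).ι _ ?_ hk)
    rw [Scheme.Hom.opensRange_comp, Scheme.Opens.opensRange_ι, Scheme.Opens.opensRange_ι]
    rintro _ ⟨y, hy, rfl⟩
    show (hu ≫ U.ι) y ∈ O
    rw [hcomp]
    exact hy
  obtain ⟨R, hR, hRk, ⟨e⟩⟩ := exists_extend_supp (V.ι ⁻¹ᵁ O) (isCompact_preimage V.ι hO) hv
    (PerfLift.isPerfect_restrictD hu hP) hkW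
  haveI := PullPerf.preservesFiniteLimits_restrict hu
  haveI := preservesBinaryBiproducts_of_preservesBiproducts (rd hu)
  obtain ⟨F, ⟨eU⟩, ⟨eV⟩⟩ := AdjGeom.exists_glue U V hUV (P ⊞ P⟦(1 : ℤ)⟧) R
    (show (rd hu).obj (P ⊞ P⟦(1 : ℤ)⟧) ≅ (rd hv).obj R from (rd hu).mapBiprod _ _ ≪≫
      biprod.mapIso (Iso.refl _) (((rd hu).commShiftIso (1 : ℤ)).app P) ≪≫ e.symm)
  have hPP : DCoh.IsPerfect (P ⊞ P⟦(1 : ℤ)⟧) :=
    (PCTriangle.perfect_two_out_of_three (binaryBiproductTriangle_distinguished _ _)).2.1 hP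
      (PCTriangle.perfect_shift hP 1)
  refine ⟨F, (PerfLocal.isPerfect_iff _).2 fun x => ?_, killed_of_cover fun x hxO => ?_, ⟨eU⟩⟩
  · rcases (hUV ▸ trivial : x ∈ U ⊔ V) with hx | hx
    · exact PerfLocal.isPerfect_of_rd (j := U.ι) _ (PCTriangle.perfect_iso eU.symm hPP) x (by simpa using hx)
    · exact PerfLocal.isPerfect_of_rd (j := V.ι) _ (PCTriangle.perfect_iso eV.symm hR) x (by simpa using hx)
  · rcases (hUV ▸ trivial : x ∈ U ⊔ V) with hx | hx
    · exact ⟨_, (U.ι ⁻¹ᵁ O).ι ≫ U.ι, inferInstance, ⟨⟨⟨x, hx⟩, hxO⟩, rfl⟩, (killed_rd_iff _ _ _).1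
        (killed_iso eU.symm (killed_biprod _ hk (killed_shift _ hk 1)))⟩
    · exact ⟨_, (V.ι ⁻¹ᵁ O).ι ≫ V.ι, inferInstance, ⟨⟨⟨x, hx⟩, hxO⟩, rfl⟩, (killed_rd_iff _ _ _).1
        (killed_iso eV.symm hRk)⟩

end Groth.Agent.Dual22Lib.PerfSupp
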