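import Groth.Agent.Dual22Lib.AdjGlue
import Groth.Agent.DCat.GPDerived
import Groth.Agent.DCat.OpenDerived
import Groth.Agent.DCat.SuppOpen
import Groth.Agent.DCat.PullComp
import Groth.Agent.DQCoh.Push
import Groth.Agent.DQCoh.Local
import Groth.Prelude.Def_CxOX

/-!
# Localization of `D_qc` at quasi-compact opens
-/

set_option autoImplicit false
set_option backward.isDefEq.respectTransparency false
set_option backward.defeqAttrib.useBackward true
set_option linter.style.haveILetI false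
set_option linter.unusedSectionVars false

universe u

open CategoryTheory CategoryTheory.Limits CategoryTheory.Pretriangulated AlgebraicGeometry

attribute [local instance] HasDerivedCategory.standard
open scoped ZeroObject

namespace Groth.Agent.Dual22Lib.AdjGeom

open AdjGlue

variable {X T : Scheme.{u}}

/-- The objects with quasi-coherent cohomology. -/
abbrev qcD (X : Scheme.{u}) : ObjectProperty (DCoh.D X) := DCoh.IsQCohD

theorem isQCohD_isZero {K : DCoh.D X} (h : IsZero K) : DCoh.IsQCohD K := fun i =>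
  Coherent.isQCoh_of_isZero ((DerivedCategory.homologyFunctor X.Modules i).map_isZero h)

instance isClosedUnderIsomorphisms_qcD : (qcD X).IsClosedUnderIsomorphisms :=
  ⟨fun e h => DQCoh.isQCohD_of_iso e h⟩

instance isTriangulated_qcD : (qcD X).IsTriangulated := by
  haveI : (qcD X).IsStableUnderShift ℤ :=
    ⟨fun n => ⟨fun K h => DQCoh.isQCohD_shift h n⟩⟩
  haveI : (qcD X).ContainsZero := ⟨⟨0, isZero_zero _, isQCohD_isZero (isZero_zero _)⟩⟩
  haveI : (qcD X).IsTriangulatedClosed₂ := ObjectProperty.IsTriangulatedClosed₂.mk' fun T hT h₁ h₃ =>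
    DQCoh.isQCohD_obj₃ (inv_rot_of_distTriang T hT) (DQCoh.isQCohD_shift h₃ (-1)) h₁
  exact { }

theorem isQCohD_restrictD (j : T ⟶ X) [IsOpenImmersion j] {K : DCoh.D X} (h : DCoh.IsQCohD K) :
    DCoh.IsQCohD ((DCoh.restrictD j).obj K) := fun i =>
  haveI : Coh.IsQCoh (DCoh.HD K i) := h i
  Coherent.isQCoh_of_iso (DCat.SuppOpen.hdMapIso (Scheme.Modules.restrictFunctor j) K i).symm
    (h := (inferInstance : Coh.IsQCoh ((DCoh.HD K i).restrict j)))

/-- `j^* ⊣ Rj_*` for an open immersion, with invertible counit. -/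
theorem exists_adj (j : T ⟶ X) [IsOpenImmersion j] [DCoh.HasRpush j] :
    ∃ adj : DCoh.restrictD j ⊣ DCoh.Rpush j, IsIso adj.counit := by
  haveI : ((Scheme.Modules.pushforward j).mapHomotopyCategory (ComplexShape.up ℤ) ⋙
      DerivedCategory.Qh).HasRightDerivedFunctor
      (HomotopyCategory.quasiIso T.Modules (ComplexShape.up ℤ)) :=
    (inferInstance : DCoh.HasRpush j)
  obtain ⟨⟨a⟩, h⟩ := DCat.derived_localization (DCat.modules_enoughKInj T)
    (Scheme.Modules.restrictAdjunction j)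
  obtain ⟨e⟩ := h inferInstance
  exact ⟨a, a.isIso_counit_of_iso e⟩

/-- The objects killed by restriction. -/
def killed (j : T ⟶ X) [IsOpenImmersion j] : ObjectProperty (DCoh.D X) :=
  fun K => IsZero ((DCoh.restrictD j).obj K)

instance isStableUnderShift_killed (j : T ⟶ X) [IsOpenImmersion j] :
    (killed j).IsStableUnderShift ℤ :=
  ⟨fun n => ⟨fun K h => ((shiftFunctor (DCoh.D T) n).map_isZero h).of_iso
    (((DCoh.restrictD j).commShiftIso n).app K)⟩⟩

/-- Being killed by restriction is seen on stalks. -/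
theorem killed_iff (j : T ⟶ X) [IsOpenImmersion j] (K : DCoh.D X) :
    killed j K ↔ ∀ i : ℤ, ∀ x ∈ j.opensRange, Subsingleton ((DCoh.HD K i).presheaf.stalk x) := by
  refine ⟨fun h i x hx => ?_, fun h => DCat.SuppOpen.isZero_of_hd _ fun i => ?_⟩
  · obtain ⟨t, rfl⟩ := hx
    refine DCat.SuppOpen.subsingleton_stalk_of_restrict j _ t
      (DCat.SuppOpen.subsingleton_of_isZero_stalkFunctor _ t ((DerSch.stalkFunctor T t).map_isZero ?_))
    exact ((DerivedCategory.homologyFunctor T.Modules i).map_isZero h).of_iso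
      (DCat.SuppOpen.hdMapIso (Scheme.Modules.restrictFunctor j) K i).symm
  · refine IsZero.of_iso (ModStalk.isZero_of_stalks fun t => ?_)
      (DCat.SuppOpen.hdMapIso (Scheme.Modules.restrictFunctor j) K i)
    haveI := DCat.SuppOpen.subsingleton_stalk_restrict j (DCoh.HD K i) t (h i _ ⟨t, rfl⟩)
    exact DCat.SuppOpen.isZero_stalkFunctor _ t

theorem killed_mono {T' : Scheme.{u}} (j : T ⟶ X) [IsOpenImmersion j] (j' : T' ⟶ X) [IsOpenImmersion j']
    (h : j'.opensRange ≤ j.opensRange) {K : DCoh.D X} (hK : killed j K) : killed j' K :=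
  (killed_iff j' K).2 fun i x hx => (killed_iff j K).1 hK i x (h hx)

variable (j : T ⟶ X) [IsOpenImmersion j] [DCoh.HasRpush j]

/-- Direct images from an open are local. -/
theorem loc_Rpush (L : DCoh.D T) : Loc (qcD X) (killed j) ((DCoh.Rpush j).obj L) := fun N _ hN g => by
  obtain ⟨adj, -⟩ := exists_adj j
  exact (adj.homEquiv N L).symm.injective (hN.eq_of_src _ _)

variable [QuasiCompact j]

/-- Localization triangles. -/
theorem exists_loc (K : DCoh.D X) (hK : DCoh.IsQCohD K) :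
    ∃ (N L : DCoh.D X) (a : N ⟶ K) (b : K ⟶ L) (c : L ⟶ N⟦(1 : ℤ)⟧),
      Triangle.mk a b c ∈ distTriang (DCoh.D X) ∧ DCoh.IsQCohD N ∧ killed j N ∧ DCoh.IsQCohD L ∧
        Loc (qcD X) (killed j) L ∧ Nonempty (L ≅ (DCoh.Rpush j).obj ((DCoh.restrictD j).obj K)) := by
  obtain ⟨adj, hc⟩ := exists_adj j
  let b := adj.unit.app K
  have hL : DCoh.IsQCohD ((DCoh.Rpush j).obj ((DCoh.restrictD j).obj K)) :=
    DQCoh.isQCohD_Rpush j _ (isQCohD_restrictD j hK)
  obtain ⟨N, a, c, hT⟩ := distinguished_cocone_triangle₁ b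
  refine ⟨N, _, a, b, c, hT, ?_, ?_, hL, loc_Rpush j _, ⟨Iso.refl _⟩⟩
  · exact DQCoh.isQCohD_obj₃ (inv_rot_of_distTriang _ (inv_rot_of_distTriang _ hT))
      (DQCoh.isQCohD_shift hK (-1)) (DQCoh.isQCohD_shift hL (-1))
  · haveI : IsIso adj.counit := hc
    haveI : IsIso ((DCoh.restrictD j).map b) := by
      rw [show (DCoh.restrictD j).map b = inv (adj.counit.app ((DCoh.restrictD j).obj K)) from
        IsIso.eq_inv_of_inv_hom_id (adj.left_triangle_components K)]
      infer_instance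
    exact (Triangle.isZero₁_iff_isIso₂ _ ((DCoh.restrictD j).map_distinguished _ hT)).2
      (show IsIso ((DCoh.restrictD j).map b) from inferInstance)

/-- Local objects are direct images. -/
theorem nonempty_iso_of_loc {K : DCoh.D X} (hK : DCoh.IsQCohD K) (hl : Loc (qcD X) (killed j) K) :
    Nonempty (K ≅ (DCoh.Rpush j).obj ((DCoh.restrictD j).obj K)) := by
  obtain ⟨N, L, a, b, c, hT, hN, hNZ, -, hL, ⟨e⟩⟩ := exists_loc j K hK
  have hz := AdjGlue.isZero_of_loc hT hN hNZ hl hL
  haveI : IsIso b := (Triangle.isZero₁_iff_isIso₂ _ hT).1 hz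
  exact ⟨asIso b ≪≫ e⟩

/-- A representing object upstairs gives one on the local objects. -/
theorem exists_locRep {Y : Scheme.{u}} (f : X ⟶ Y) [DCoh.HasRpush f] [(DCoh.Rpush f).CommShift ℤ]
    [(DCoh.Rpush f).IsTriangulated] [DCoh.HasRpush (j ≫ f)] (M : DCoh.D Y)
    (h : ∃ (A : DCoh.D T) (ε : (DCoh.Rpush (j ≫ f)).obj A ⟶ M), DCoh.IsQCohD A ∧
      ∀ K, DCoh.IsQCohD K → Rep (DCoh.Rpush (j ≫ f)) M ε K) :
    Nonempty (LocRep (qcD X) (DCoh.Rpush f) M (killed j)) := by
  obtain ⟨adj, hc⟩ := exists_adj j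
  obtain ⟨A, ε, hA, hrep⟩ := h
  obtain ⟨c⟩ := DCat.nonempty_RpushComp j f
  let R := DCoh.Rpush j
  haveI : IsIso adj.counit := hc
  let hR := adj.fullyFaithfulROfIsIsoCounit
  refine ⟨⟨R.obj A, DQCoh.isQCohD_Rpush j A hA, loc_Rpush j A, c.hom.app A ≫ ε, fun K hK hl => ?_⟩⟩
  obtain ⟨e⟩ := nonempty_iso_of_loc j hK hl
  refine Rep.of_iso ?_ e.symm
  have hb := hrep _ (isQCohD_restrictD j hK)
  refine (Function.Bijective.of_comp_iff _ (hR.map_bijective _ _)).1 ?_
  have hcomp : ((fun g => (DCoh.Rpush f).map g ≫ c.hom.app A ≫ ε) ∘ fun g : (DCoh.restrictD j).obj K ⟶ A => R.map g) =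
      (fun z => c.hom.app ((DCoh.restrictD j).obj K) ≫ z) ∘ fun g => (DCoh.Rpush (j ≫ f)).map g ≫ ε := by
    funext g
    simp only [Function.comp_apply, R]
    rw [← Category.assoc, ← Category.assoc]
    exact congrArg (· ≫ ε) (c.hom.naturality g)
  rw [hcomp]
  exact (Iso.homCongr (c.app ((DCoh.restrictD j).obj K)).symm (Iso.refl M)).bijective.comp hb |> fun h => by
    simpa [Function.comp_def] using h

end Groth.Agent.Dual22Lib.AdjGeom
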