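import Groth.Agent.DCat.PerfLocal

/-!
# Restriction to nested opens, naturally
-/

set_option autoImplicit false
set_option backward.isDefEq.respectTransparency false
set_option backward.defeqAttrib.useBackward true
set_option linter.style.haveILetI false

universe u

open CategoryTheory CategoryTheory.Limits AlgebraicGeometry HomologicalComplex
open Groth.Agent.DCat Groth.Agent.DCat.PerfLocal

attribute [local instance] HasDerivedCategory.standard

namespace Groth.Agent.Dual22Lib.RdComp

variable {X W W' : Scheme.{u}} (h : W' ⟶ W) [IsOpenImmersion h] (k : W ⟶ X) [IsOpenImmersion k]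

/-- Restriction along a composite, on complexes. -/
noncomputable def cxComp :
    (Scheme.Modules.restrictFunctor k).mapHomologicalComplex (ComplexShape.up ℤ) ⋙
        (Scheme.Modules.restrictFunctor h).mapHomologicalComplex (ComplexShape.up ℤ) ≅
      (Scheme.Modules.restrictFunctor (h ≫ k)).mapHomologicalComplex (ComplexShape.up ℤ) :=
  NatIso.ofComponents (fun F => Hom.isoOfComponents (fun n => ((Scheme.Modules.restrictFunctorComp h k).app (F.X n)).symm)
    (fun i j _ => ((Scheme.Modules.restrictFunctorComp h k).inv.naturality (F.d i j)).symm))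
    fun {F G} u => by
      ext n : 1
      exact (Scheme.Modules.restrictFunctorComp h k).inv.naturality (u.f n)

/-- Restriction along a composite, naturally. -/
noncomputable def rdCompIso : rd k ⋙ rd h ≅ rd (h ≫ k) :=
  letI : Localization.Lifting DerivedCategory.Q (HomologicalComplex.quasiIso X.Modules (ComplexShape.up ℤ))
      ((Scheme.Modules.restrictFunctor (h ≫ k)).mapHomologicalComplex (ComplexShape.up ℤ) ⋙ DerivedCategory.Q)
      (rd k ⋙ rd h) :=
    ⟨(Functor.associator _ _ _).symm ≪≫
      Functor.isoWhiskerRight (Scheme.Modules.restrictFunctor k).mapDerivedCategoryFactors _ ≪≫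
      Functor.associator _ _ _ ≪≫
      Functor.isoWhiskerLeft _ (Scheme.Modules.restrictFunctor h).mapDerivedCategoryFactors ≪≫
      (Functor.associator _ _ _).symm ≪≫ Functor.isoWhiskerRight (cxComp h k) DerivedCategory.Q⟩
  letI : Localization.Lifting DerivedCategory.Q (HomologicalComplex.quasiIso X.Modules (ComplexShape.up ℤ))
      ((Scheme.Modules.restrictFunctor (h ≫ k)).mapHomologicalComplex (ComplexShape.up ℤ) ⋙ DerivedCategory.Q)
      (rd (h ≫ k)) := ⟨(Scheme.Modules.restrictFunctor (h ≫ k)).mapDerivedCategoryFactors⟩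
  Localization.liftNatIso DerivedCategory.Q (HomologicalComplex.quasiIso X.Modules (ComplexShape.up ℤ))
    ((Scheme.Modules.restrictFunctor (h ≫ k)).mapHomologicalComplex (ComplexShape.up ℤ) ⋙ DerivedCategory.Q)
    ((Scheme.Modules.restrictFunctor (h ≫ k)).mapHomologicalComplex (ComplexShape.up ℤ) ⋙ DerivedCategory.Q)
    _ _ (Iso.refl _)

theorem isZero_rd_comp_iff (K : DCoh.D X) : IsZero ((rd h).obj ((rd k).obj K)) ↔ IsZero ((rd (h ≫ k)).obj K) :=
  ((rdCompIso h k).app K).isZero_iff

theorem rd_congr {k' : W ⟶ X} [IsOpenImmersion k'] (e : k = k') (K : DCoh.D X) :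
    Nonempty ((rd k).obj K ≅ (rd k').obj K) := by
  subst e
  exact ⟨Iso.refl _⟩

end Groth.Agent.Dual22Lib.RdComp
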