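import Groth.Agent.Dual22Lib.WeakExact
import Groth.Agent.Dual22Lib.AdjGeom
import Groth.Agent.Dual22Lib.RdComp
import Groth.Agent.DQCoh.Local
import Groth.Agent.DQCoh.RpushSum
import Groth.Agent.DCat.PullComp

/-!
# Exactness, locality and sums for `- ⊗^L M`, `Lf^*`, `Rf_*` and `j_!`
-/

set_option autoImplicit false
set_option backward.isDefEq.respectTransparency false
set_option backward.defeqAttrib.useBackward true
set_option linter.style.haveILetI false
set_option synthInstance.maxHeartbeats 100000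

universe u

open CategoryTheory CategoryTheory.Limits CategoryTheory.Pretriangulated AlgebraicGeometry HomologicalComplex
open Groth.Agent.ModStalk Groth.Agent.DCat Groth.Agent.DCat.PerfLocal Groth.Agent.Dual22Lib.WeakExact

attribute [local instance] HasDerivedCategory.standard

namespace Groth.Agent.Dual22Lib.TenLocal

variable {X Y : Scheme.{u}}

/-- `- ⊗^L M` is weakly exact. -/
theorem triExact_LTensor (M : CochainComplex X.Modules ℤ) [DCoh.HasLTensorCx M] : TriExact (DCoh.LTensorCx M) := by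
  obtain ⟨N, q, hN, -, hq, -⟩ := exists_kflat_sheaf M
  haveI := hq
  haveI := LTensorSheaf.hasLTensorCx N
  obtain ⟨a⟩ := TensorCongr.nonempty_of_quasiIso q
  exact TriExact.of_iso a fun T hT => DQCoh.exists_triangle_LTensorCx N hN hT

theorem triExact_Lpull (f : X ⟶ Y) [DCoh.HasLpull f] : TriExact (DCoh.Lpull f) := by
  obtain ⟨_, _⟩ := PullPerf.exists_commShift_Lpull f
  exact triExact_of_isTriangulated _

theorem triExact_Rpush (f : X ⟶ Y) [DCoh.HasRpush f] : TriExact (DCoh.Rpush f) := by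
  obtain ⟨_, _⟩ := exists_commShift_Rpush f
  exact triExact_of_isTriangulated _

theorem triExact_rd {W : Scheme.{u}} (j : W ⟶ X) [IsOpenImmersion j] : TriExact (rd j) :=
  triExact_of_isTriangulated _

theorem triExact_shriek {W : Scheme.{u}} (j : W ⟶ X) [IsOpenImmersion j] :
    TriExact (JShriek.shriek j).mapDerivedCategory :=
  triExact_of_isTriangulated _

/-- Restriction of `K ⊗^L M`. -/
theorem nonempty_rd_LTensor {U : Scheme.{u}} (j : U ⟶ X) [IsOpenImmersion j] (M : CochainComplex X.Modules ℤ)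
    [DCoh.HasLTensorCx M] :
    ∃ (M' : CochainComplex U.Modules ℤ) (_ : DCoh.HasLTensorCx M'),
      Nonempty (DerivedCategory.Q.obj M' ≅ (rd j).obj (DerivedCategory.Q.obj M)) ∧
      ∀ K : DCoh.D X, Nonempty ((rd j).obj ((DCoh.LTensorCx M).obj K) ≅ (DCoh.LTensorCx M').obj ((rd j).obj K)) := by
  obtain ⟨N, q, hN, -, hq, -⟩ := exists_kflat_sheaf M
  haveI := hq
  haveI := LTensorSheaf.hasLTensorCx N
  obtain ⟨a⟩ := TensorCongr.nonempty_of_quasiIso q
  haveI := hasLpull j
  haveI h' := LTensorSheaf.hasLTensorCx (((Scheme.Modules.pullback j).mapHomologicalComplex (ComplexShape.up ℤ)).obj N)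
  refine ⟨_, h', ?_, fun K => ?_⟩
  · obtain ⟨e⟩ := DQCoh.nonempty_Lpull_restrict j (DerivedCategory.Q.obj N)
    exact ⟨(PullPerf.lpullIso j hN).symm ≪≫ e ≪≫ (rd j).mapIso (asIso (DerivedCategory.Q.map q))⟩
  · obtain ⟨e⟩ := DQCoh.nonempty_Lpull_restrict j ((DCoh.LTensorCx N).obj K)
    obtain ⟨e'⟩ := DQCoh.nonempty_Lpull_restrict j K
    obtain ⟨t⟩ := PullTot.nonempty_Lpull_LTensor j hN K
    exact ⟨(rd j).mapIso (a.app K).symm ≪≫ e.symm ≪≫ t ≪≫ (DCoh.LTensorCx _).mapIso e'⟩

theorem isZero_rd_LTensor {U : Scheme.{u}} (j : U ⟶ X) [IsOpenImmersion j] (M : CochainComplex X.Modules ℤ)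
    [DCoh.HasLTensorCx M] {K : DCoh.D X} (hK : IsZero ((rd j).obj K)) :
    IsZero ((rd j).obj ((DCoh.LTensorCx M).obj K)) := by
  obtain ⟨M', hM', -, h⟩ := nonempty_rd_LTensor j M
  obtain ⟨e⟩ := h K
  exact ((triExact_LTensor M').map_isZero hK).of_iso e

theorem isQCohD_rd_LTensor {U : Scheme.{u}} (j : U ⟶ X) [IsOpenImmersion j] (M : CochainComplex X.Modules ℤ)
    [DCoh.HasLTensorCx M] (hM : DCoh.IsQCohD ((rd j).obj (DerivedCategory.Q.obj M))) {K : DCoh.D X}
    (hK : DCoh.IsQCohD ((rd j).obj K)) :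
    DCoh.IsQCohD ((rd j).obj ((DCoh.LTensorCx M).obj K)) := by
  obtain ⟨M', hM', ⟨e'⟩, h⟩ := nonempty_rd_LTensor j M
  obtain ⟨e⟩ := h K
  exact DQCoh.isQCohD_of_iso e.symm (DQCoh.isQCohD_LTensorCx M' (DQCoh.isQCohD_of_iso e'.symm hM) _ hK)

/-- Restriction of `Lf^* K` over an open of the target. -/
theorem nonempty_rd_Lpull (f : X ⟶ Y) [DCoh.HasLpull f] (V : Y.Opens) [DCoh.HasLpull (f ∣_ V)] (K : DCoh.D Y) :
    Nonempty ((rd (f ⁻¹ᵁ V).ι).obj ((DCoh.Lpull f).obj K) ≅ (DCoh.Lpull (f ∣_ V)).obj ((rd V.ι).obj K)) := by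
  haveI := hasLpull (f ⁻¹ᵁ V).ι
  haveI := hasLpull V.ι
  haveI := hasLpull ((f ⁻¹ᵁ V).ι ≫ f)
  haveI := hasLpull ((f ∣_ V) ≫ V.ι)
  obtain ⟨a⟩ := DQCoh.nonempty_Lpull_restrict (f ⁻¹ᵁ V).ι ((DCoh.Lpull f).obj K)
  obtain ⟨b⟩ := DQCoh.nonempty_Lpull_restrict V.ι K
  obtain ⟨c₁⟩ := DCat.nonempty_LpullComp (f ⁻¹ᵁ V).ι f
  obtain ⟨c₂⟩ := DCat.nonempty_LpullComp (f ∣_ V) V.ι
  exact ⟨a.symm ≪≫ c₁.app K ≪≫ eqToIso (by congr 2; exact (morphismRestrict_ι f V).symm) ≪≫ (c₂.app K).symm ≪≫
    (DCoh.Lpull (f ∣_ V)).mapIso b⟩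

/-- Restriction of `Rf_* E` over an open of the target. -/
theorem isZero_rd_Rpush (f : X ⟶ Y) [DCoh.HasRpush f] (V : Y.Opens) {E : DCoh.D X}
    (hE : IsZero ((rd (f ⁻¹ᵁ V).ι).obj E)) : IsZero ((rd V.ι).obj ((DCoh.Rpush f).obj E)) := by
  haveI := hasRpush (f ∣_ V)
  haveI := PullPerf.preservesFiniteLimits_restrict V.ι
  haveI := PullPerf.preservesFiniteLimits_restrict (f ⁻¹ᵁ V).ι
  exact ((triExact_Rpush (f ∣_ V)).map_isZero hE).of_iso ((OpenDerived.rpushRestrictIso f V).app E)

/-- A weakly exact functor killing what is killed by `k` inverts what `k` inverts. -/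
theorem isIso_map_of_rd {W : Scheme.{u}} (k : W ⟶ Y) [IsOpenImmersion k] {D : Type*} [Category D] [Preadditive D]
    [HasZeroObject D] [HasShift D ℤ] [∀ n : ℤ, (shiftFunctor D n).Additive] [Pretriangulated D]
    {F : DCoh.D Y ⥤ D} (hF : TriExact F) (h0 : ∀ C, IsZero ((rd k).obj C) → IsZero (F.obj C))
    {A B : DCoh.D Y} (g : A ⟶ B) [IsIso ((rd k).map g)] : IsIso (F.map g) := by
  obtain ⟨C, v, w, hT⟩ := distinguished_cocone_triangle g
  obtain ⟨δ, hδ⟩ := hF _ hT
  exact (Triangle.isZero₃_iff_isIso₁ _ hδ).1 (h0 C ((Triangle.isZero₃_iff_isIso₁ _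
    ((rd k).map_distinguished _ hT)).2 ‹_›))

theorem preservesCoproducts_map {U W : Scheme.{u}} (G : U.Modules ⥤ W.Modules) [G.Additive]
    [PreservesFiniteLimits G] [PreservesFiniteColimits G] (J : Type u) [PreservesColimitsOfShape (Discrete J) G] :
    PreservesColimitsOfShape (Discrete J) G.mapDerivedCategory := by
  haveI := RHomExist.preservesCoproducts_Q (A := W.Modules) J
  haveI : PreservesColimitsOfShape (Discrete J) (DerivedCategory.Q ⋙ G.mapDerivedCategory) :=
    preservesColimitsOfShape_of_natIso G.mapDerivedCategoryFactors.symm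
  exact RHomExist.preservesCoproducts_of_fac G.mapDerivedCategory J

theorem preservesCoproducts_rd {U : Scheme.{u}} (j : U ⟶ X) [IsOpenImmersion j] (J : Type u) :
    PreservesColimitsOfShape (Discrete J) (rd j) := by
  haveI := (Scheme.Modules.restrictAdjunction j).leftAdjoint_preservesColimits
    (F := Scheme.Modules.restrictFunctor j)
  exact preservesCoproducts_map (Scheme.Modules.restrictFunctor j) J

theorem preservesCoproducts_shriek {U : Scheme.{u}} (j : U ⟶ X) [IsOpenImmersion j] (J : Type u) :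
    PreservesColimitsOfShape (Discrete J) (JShriek.shriek j).mapDerivedCategory := by
  haveI := (JShriek.shriekAdj j).leftAdjoint_preservesColimits (F := JShriek.shriek j)
  exact preservesCoproducts_map (JShriek.shriek j) J

theorem preservesCoproducts_LTensor (M : CochainComplex X.Modules ℤ) [DCoh.HasLTensorCx M] (J : Type u) :
    PreservesColimitsOfShape (Discrete J) (DCoh.LTensorCx M) := by
  haveI := RHomExist.hasRSheafHom M
  haveI := (Adjunction.ofIsLeftAdjoint (DCoh.LTensorCx M)).leftAdjoint_preservesColimits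
    (F := DCoh.LTensorCx M)
  infer_instance

theorem preservesCoproducts_Lpull (f : X ⟶ Y) [DCoh.HasLpull f] (J : Type u) :
    PreservesColimitsOfShape (Discrete J) (DCoh.Lpull f) := by
  haveI := hasRpush f
  obtain ⟨adj⟩ := nonempty_pullPushAdj f
  haveI := adj.leftAdjoint_preservesColimits (F := DCoh.Lpull f)
  infer_instance

/-- `Rf_*` preserves sums of objects with quasi-coherent cohomology. -/
theorem preservesColimit_Rpush (f : X ⟶ Y) [QuasiCompact f] [QuasiSeparated f] [DCoh.HasRpush f] {ι : Type u}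
    (K : ι → DCoh.D X) (hK : ∀ i, DCoh.IsQCohD (K i)) :
    PreservesColimit (Discrete.functor K) (DCoh.Rpush f) := by
  haveI : HasCoproductsOfShape ι (DCoh.D X) := hasCoproductsOfShape_derived enoughKInj_of_isGrothendieckAbelian ι
  haveI : HasCoproductsOfShape ι (DCoh.D Y) := hasCoproductsOfShape_derived enoughKInj_of_isGrothendieckAbelian ι
  have h := DQCoh.isIso_sigmaDesc_Rpush f K hK
  haveI : IsIso (sigmaComparison (DCoh.Rpush f) K) := h
  exact PreservesCoproduct.of_iso_comparison (DCoh.Rpush f) K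

/-- The unit of `j_! ⊣ j^*` is invertible. -/
theorem isIso_unit_shriekD {U : Scheme.{u}} (j : U ⟶ X) [IsOpenImmersion j] (A : DCoh.D U) :
    IsIso ((JShriek.shriekD j).unit.app A) := by
  refine (NatTrans.isIso_app_iff_of_iso _ (DerivedCategory.Q.objObjPreimageIso A)).1 ?_
  letI : CatCommSq ((JShriek.shriek j).mapHomologicalComplex (ComplexShape.up ℤ)) DerivedCategory.Q
      DerivedCategory.Q (JShriek.shriek j).mapDerivedCategory :=
    ⟨(JShriek.shriek j).mapDerivedCategoryFactors.symm⟩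
  letI : CatCommSq ((Scheme.Modules.restrictFunctor j).mapHomologicalComplex (ComplexShape.up ℤ))
      DerivedCategory.Q DerivedCategory.Q (Scheme.Modules.restrictFunctor j).mapDerivedCategory :=
    ⟨(Scheme.Modules.restrictFunctor j).mapDerivedCategoryFactors.symm⟩
  let a := adjCx (ComplexShape.up ℤ) (JShriek.shriekAdj j)
  haveI : IsIso (a.unit.app (DerivedCategory.Q.objPreimage A)) := by
    haveI : ∀ n, IsIso ((a.unit.app (DerivedCategory.Q.objPreimage A)).f n) := fun n =>
      inferInstanceAs (IsIso ((JShriek.shriekAdj j).unit.app _))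
    exact Hom.isIso_of_components _
  unfold JShriek.shriekD
  rw [Adjunction.localization_unit_app]
  infer_instance

/-- The counit of `j_! ⊣ j^*` is invertible after `j^*`. -/
theorem isIso_rd_counit {U : Scheme.{u}} (j : U ⟶ X) [IsOpenImmersion j] (K : DCoh.D X) :
    IsIso ((rd j).map ((JShriek.shriekD j).counit.app K)) := by
  haveI := isIso_unit_shriekD j ((rd j).obj K)
  have h := (JShriek.shriekD j).right_triangle_components K
  exact @IsIso.of_isIso_comp_left _ _ _ _ _ ((JShriek.shriekD j).unit.app ((rd j).obj K)) _ _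
    (by erw [h]; exact IsIso.id _)

/-- A weakly exact functor on `D(O_Y)` on the restriction to `V`: vanishing transfers to a restriction. -/
theorem isIso_rd_of_isIso_rd {U W : Scheme.{u}} (j : U ⟶ X) [IsOpenImmersion j] (h : W ⟶ U) [IsOpenImmersion h]
    (k : W ⟶ X) [IsOpenImmersion k] (hk : h ≫ j = k) {A B : DCoh.D X} (g : A ⟶ B) [IsIso ((rd j).map g)] :
    IsIso ((rd k).map g) := by
  subst hk
  exact (NatIso.isIso_map_iff (RdComp.rdCompIso h j) g).1
    (inferInstanceAs (IsIso ((rd h).map ((rd j).map g))))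

end Groth.Agent.Dual22Lib.TenLocal
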