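import Groth.Agent.Dual22Lib.BCAlg
import Groth.Agent.Dual22Lib.TenLocal
import Groth.Agent.Dual22Lib.PerfSupp
import Groth.Agent.DCat.ProjPerf
import Groth.Prelude.Def_DCoh3

/-!
# Base change for derived direct images: pasting and locality
-/

set_option autoImplicit false
set_option backward.isDefEq.respectTransparency false
set_option backward.defeqAttrib.useBackward true
set_option linter.style.haveILetI false
set_option linter.unusedSectionVars false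
set_option synthInstance.maxHeartbeats 100000

universe u

open CategoryTheory CategoryTheory.Limits CategoryTheory.Pretriangulated AlgebraicGeometry
open Groth.Agent.DCat Groth.Agent.DCat.PerfLocal Groth.Agent.Dual22Lib.WeakExact

attribute [local instance] HasDerivedCategory.standard

namespace Groth.Agent.Dual22Lib.BCSquare

/-- Base change holds, whatever the adjunctions and the identification of composites. -/
def Good {X Y X' Y' : Scheme.{u}} (f : X ⟶ Y) (g : Y' ⟶ Y) (f' : X' ⟶ Y') (g' : X' ⟶ X) : Prop :=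
  ∀ (_ : DCoh.HasRpush f) (_ : DCoh.HasRpush g) (_ : DCoh.HasLpull g) (_ : DCoh.HasRpush f')
    (_ : DCoh.HasRpush g') (_ : DCoh.HasLpull g'),
    ∀ (adjg : DCoh.Lpull g ⊣ DCoh.Rpush g) (adjg' : DCoh.Lpull g' ⊣ DCoh.Rpush g')
      (e : DCoh.Rpush g' ⋙ DCoh.Rpush f ≅ DCoh.Rpush f' ⋙ DCoh.Rpush g) (E : DCoh.D X),
      DCoh.IsQCohD E → IsIso ((BCAlg.bc adjg adjg' e).app E)

theorem isIso_of_comp_eq_id {C : Type*} [Category C] {a b : C} {φ : a ⟶ b} {ψ : b ⟶ a} [IsIso ψ]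
    (h : φ ≫ ψ = 𝟙 a) : IsIso φ := by
  haveI : IsIso (φ ≫ ψ) := by rw [h]; exact IsIso.id a
  exact IsIso.of_isIso_comp_right φ ψ

theorem baseChangeApp_eq {X Y X' Y' : Scheme.{u}} {f : X ⟶ Y} {g : Y' ⟶ Y} {f' : X' ⟶ Y'} {g' : X' ⟶ X}
    [DCoh.HasRpush f] [DCoh.HasRpush g] [DCoh.HasLpull g] [DCoh.HasRpush f'] [DCoh.HasRpush g']
    [DCoh.HasLpull g'] (adjg : DCoh.Lpull g ⊣ DCoh.Rpush g) (adjg' : DCoh.Lpull g' ⊣ DCoh.Rpush g')
    (e : DCoh.Rpush g' ⋙ DCoh.Rpush f ≅ DCoh.Rpush f' ⋙ DCoh.Rpush g) (E : DCoh.D X) :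
    DCoh.baseChangeApp adjg adjg' e E = (BCAlg.bc adjg adjg' e).app E := rfl

theorem exists_e {X Y X' Y' : Scheme.{u}} {f : X ⟶ Y} {g : Y' ⟶ Y} {f' : X' ⟶ Y'} {g' : X' ⟶ X}
    (w : g' ≫ f = f' ≫ g) [DCoh.HasRpush f] [DCoh.HasRpush g] [DCoh.HasRpush f'] [DCoh.HasRpush g'] :
    Nonempty (DCoh.Rpush g' ⋙ DCoh.Rpush f ≅ DCoh.Rpush f' ⋙ DCoh.Rpush g) := by
  haveI := hasRpush (g' ≫ f)
  haveI := hasRpush (f' ≫ g)
  obtain ⟨a⟩ := DCat.nonempty_RpushComp g' f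
  obtain ⟨b⟩ := DCat.nonempty_RpushComp f' g
  exact ⟨a ≪≫ eqToIso (by congr 1) ≪≫ b.symm⟩

variable {X Y : Scheme.{u}}

/-- Derived pullback along an open immersion is restriction, naturally. -/
theorem nonempty_Lpull_rd (j : X ⟶ Y) [IsOpenImmersion j] [DCoh.HasLpull j] :
    Nonempty (DCoh.Lpull j ≅ rd j) := by
  haveI := hasRpush j
  obtain ⟨a⟩ := nonempty_pullPushAdj j
  obtain ⟨b, -⟩ := AdjGeom.exists_adj j
  exact ⟨a.leftAdjointUniq b⟩

theorem full_faithful_Rpush (j : X ⟶ Y) [IsOpenImmersion j] [DCoh.HasRpush j] :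
    (DCoh.Rpush j).Full ∧ (DCoh.Rpush j).Faithful := by
  obtain ⟨b, hb⟩ := AdjGeom.exists_adj j
  exact ⟨b.fullyFaithfulROfIsIsoCounit.full, b.fullyFaithfulROfIsIsoCounit.faithful⟩

theorem isIso_counit (j : X ⟶ Y) [IsOpenImmersion j] [DCoh.HasRpush j] [DCoh.HasLpull j]
    (adj : DCoh.Lpull j ⊣ DCoh.Rpush j) : IsIso adj.counit := by
  obtain ⟨h₁, h₂⟩ := full_faithful_Rpush j
  infer_instance

/-- `Rf_*` of an object killed over an open is killed over it. -/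
theorem killed_Rpush' {U X' : Scheme.{u}} (f : X' ⟶ Y) [DCoh.HasRpush f] (i : U ⟶ Y) [IsOpenImmersion i]
    {U' : Scheme.{u}} (i' : U' ⟶ X') [IsOpenImmersion i'] (hr : f ⁻¹ᵁ i.opensRange ≤ i'.opensRange)
    {C : DCoh.D X'} (hC : AdjGeom.killed i' C) : AdjGeom.killed i ((DCoh.Rpush f).obj C) := by
  have h : AdjGeom.killed i.opensRange.ι ((DCoh.Rpush f).obj C) :=
    TenLocal.isZero_rd_Rpush f i.opensRange (AdjGeom.killed_mono i' (f ⁻¹ᵁ i.opensRange).ι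
      (by rw [Scheme.Opens.opensRange_ι]; exact hr) hC)
  exact AdjGeom.killed_mono i.opensRange.ι i (by rw [Scheme.Opens.opensRange_ι]) h

variable {X' Y' : Scheme.{u}} {f : X ⟶ Y} {g : Y' ⟶ Y} {f' : X' ⟶ Y'} {g' : X' ⟶ X}

/-- Base change along an open immersion of the base, for any identification of the composites. -/
theorem isIso_bc_open [IsOpenImmersion g] [IsOpenImmersion g'] (hr : f ⁻¹ᵁ g.opensRange ≤ g'.opensRange)
    [DCoh.HasRpush f] [DCoh.HasRpush g] [DCoh.HasLpull g] [DCoh.HasRpush f'] [DCoh.HasRpush g']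
    [DCoh.HasLpull g'] (adjg : DCoh.Lpull g ⊣ DCoh.Rpush g) (adjg' : DCoh.Lpull g' ⊣ DCoh.Rpush g')
    (e : DCoh.Rpush g' ⋙ DCoh.Rpush f ≅ DCoh.Rpush f' ⋙ DCoh.Rpush g) (E : DCoh.D X) :
    IsIso ((BCAlg.bc adjg adjg' e).app E) := by
  haveI := isIso_counit g adjg
  haveI := isIso_counit g' adjg'
  obtain ⟨a⟩ := nonempty_Lpull_rd g
  obtain ⟨a'⟩ := nonempty_Lpull_rd g'
  haveI : IsIso ((DCoh.Lpull g').map (adjg'.unit.app E)) := by
    have h := adjg'.left_triangle_components E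
    exact isIso_of_comp_eq_id h
  haveI : IsIso ((rd g').map (adjg'.unit.app E)) := (NatIso.isIso_map_iff a' _).1 ‹_›
  haveI : IsIso ((DCoh.Rpush f ⋙ rd g).map (adjg'.unit.app E)) :=
    TenLocal.isIso_map_of_rd g' (F := DCoh.Rpush f ⋙ rd g)
      ((TenLocal.triExact_Rpush f).comp (TenLocal.triExact_rd g))
      (fun C hC => killed_Rpush' f g g' hr hC) _
  haveI : IsIso ((DCoh.Lpull g).map ((DCoh.Rpush f).map (adjg'.unit.app E))) := (NatIso.isIso_map_iff a _).2 ‹_›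
  rw [BCAlg.bc_app', Functor.map_comp]
  infer_instance

theorem opensRange_le_of_isPullback [IsOpenImmersion g] [IsOpenImmersion g'] (hsq : IsPullback g' f' f g) :
    f ⁻¹ᵁ g.opensRange ≤ g'.opensRange := by
  intro x hx
  obtain ⟨y, hy⟩ : ∃ y, g.base y = f.base x := hx
  obtain ⟨z, hz, -⟩ := Scheme.Pullback.exists_preimage_pullback x y hy.symm
  exact ⟨hsq.isoPullback.inv.base z, by rw [← Scheme.Hom.comp_apply, hsq.isoPullback_inv_fst]; exact hz⟩

theorem good_of_open [IsOpenImmersion g] (hsq : IsPullback g' f' f g) : Good f g f' g' := by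
  haveI : IsOpenImmersion g' := MorphismProperty.of_isPullback hsq.flip inferInstance
  intro _ _ _ _ _ _ adjg adjg' e E _
  exact isIso_bc_open (opensRange_le_of_isPullback hsq) adjg adjg' e E

section Vert

variable {X'' Y'' : Scheme.{u}} {h : Y'' ⟶ Y'} {f'' : X'' ⟶ Y''} {h' : X'' ⟶ X'} {gC : Y'' ⟶ Y} {gC' : X'' ⟶ X}

/-- From the composite and the upper square to the lower square, after pulling back. -/
theorem isIso_map_bc_of_comp (hg : h ≫ g = gC) (hg' : h' ≫ g' = gC') (w : h' ≫ f' = f'' ≫ h)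
    (hC : Good f gC f'' gC') (hH : Good f' h f'' h')
    [DCoh.HasRpush f] [DCoh.HasRpush g] [DCoh.HasLpull g] [DCoh.HasRpush f'] [DCoh.HasRpush g']
    [DCoh.HasLpull g'] [DCoh.HasLpull h] (adjg : DCoh.Lpull g ⊣ DCoh.Rpush g)
    (adjg' : DCoh.Lpull g' ⊣ DCoh.Rpush g')
    (e : DCoh.Rpush g' ⋙ DCoh.Rpush f ≅ DCoh.Rpush f' ⋙ DCoh.Rpush g) (E : DCoh.D X) (hE : DCoh.IsQCohD E) :
    IsIso ((DCoh.Lpull h).map ((BCAlg.bc adjg adjg' e).app E)) := by
  subst hg hg'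
  haveI := hasRpush h
  haveI := hasRpush h'
  haveI := hasLpull h'
  haveI := hasRpush f''
  haveI := hasRpush (h ≫ g)
  haveI := hasRpush (h' ≫ g')
  haveI := hasLpull (h ≫ g)
  haveI := hasLpull (h' ≫ g')
  obtain ⟨ah⟩ := nonempty_pullPushAdj h
  obtain ⟨ah'⟩ := nonempty_pullPushAdj h'
  obtain ⟨aC⟩ := nonempty_pullPushAdj (h ≫ g)
  obtain ⟨aC'⟩ := nonempty_pullPushAdj (h' ≫ g')
  obtain ⟨eh⟩ := exists_e w
  obtain ⟨c⟩ := DCat.nonempty_LpullComp h g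
  obtain ⟨c'⟩ := DCat.nonempty_LpullComp h' g'
  let e₂ := BCAlg.vE e eh
  have h1 := hC inferInstance inferInstance inferInstance inferInstance inferInstance inferInstance aC aC'
    (BCAlg.moveE ((adjg.comp ah).ofNatIsoLeft c) aC ((adjg'.comp ah').ofNatIsoLeft c') aC' e₂) E hE
  rw [BCAlg.bc_moveE, BCAlg.bc_ofNatIsoLeft, BCAlg.bc_vcomp, isIso_comp_left_iff, isIso_comp_right_iff] at h1
  haveI := hH inferInstance inferInstance inferInstance inferInstance inferInstance inferInstance ah ah' eh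
    ((DCoh.Lpull g').obj E) (DQCoh.isQCohD_Lpull g' E hE)
  exact @IsIso.of_isIso_comp_right _ _ _ _ _ _ _ this h1

/-- Base change for a composite whose first map is an open immersion. -/
theorem good_of_comp (hg : h ≫ g = gC) (hg' : h' ≫ g' = gC') [IsOpenImmersion g]
    (hsq : IsPullback g' f' f g) (w : h' ≫ f' = f'' ≫ h) (hH : Good f' h f'' h') : Good f gC f'' gC' := by
  subst hg hg'
  intro _ _ _ _ _ _ aC aC' eC E hE
  haveI : IsOpenImmersion g' := MorphismProperty.of_isPullback hsq.flip inferInstance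
  haveI := hasRpush g
  haveI := hasRpush g'
  haveI := hasRpush h
  haveI := hasRpush h'
  haveI := hasRpush f'
  haveI := hasLpull g
  haveI := hasLpull g'
  haveI := hasLpull h
  haveI := hasLpull h'
  obtain ⟨ag⟩ := nonempty_pullPushAdj g
  obtain ⟨ag'⟩ := nonempty_pullPushAdj g'
  obtain ⟨ah⟩ := nonempty_pullPushAdj h
  obtain ⟨ah'⟩ := nonempty_pullPushAdj h'
  obtain ⟨eg⟩ := exists_e hsq.w
  obtain ⟨c⟩ := DCat.nonempty_LpullComp h g
  obtain ⟨c'⟩ := DCat.nonempty_LpullComp h' g'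
  let a₂ := (ag.comp ah).ofNatIsoLeft c
  let a₂' := (ag'.comp ah').ofNatIsoLeft c'
  let e₂ := BCAlg.moveE aC a₂ aC' a₂' eC
  obtain ⟨hF₁, hF₂⟩ := full_faithful_Rpush g
  let hFW := (Functor.FullyFaithful.ofFullyFaithful (DCoh.Rpush g)).whiskeringRight (DCoh.D X'')
  let eh : DCoh.Rpush h' ⋙ DCoh.Rpush f' ≅ DCoh.Rpush f'' ⋙ DCoh.Rpush h :=
    hFW.preimageIso (show (DCoh.Rpush h' ⋙ DCoh.Rpush f') ⋙ DCoh.Rpush g ≅
        (DCoh.Rpush f'' ⋙ DCoh.Rpush h) ⋙ DCoh.Rpush g from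
      Functor.associator _ _ _ ≪≫ Functor.isoWhiskerLeft _ eg.symm ≪≫ (Functor.associator _ _ _).symm ≪≫
        e₂ ≪≫ (Functor.associator _ _ _).symm)
  have he : BCAlg.vE eg eh = e₂ := by
    have h0 : Functor.whiskerRight eh.hom (DCoh.Rpush g) = (Functor.associator _ _ _ ≪≫
        Functor.isoWhiskerLeft _ eg.symm ≪≫ (Functor.associator _ _ _).symm ≪≫
        e₂ ≪≫ (Functor.associator _ _ _).symm).hom := hFW.map_preimage _
    ext M : 3
    have h1 := congrArg (fun t => NatTrans.app t M) h0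
    dsimp [BCAlg.vE] at h1 ⊢
    rw [h1]
    simp
  rw [← BCAlg.bc_moveE aC a₂ aC' a₂' eC, show BCAlg.moveE aC a₂ aC' a₂' eC = BCAlg.vE eg eh from he.symm,
    BCAlg.bc_ofNatIsoLeft, BCAlg.bc_vcomp]
  haveI := isIso_bc_open (opensRange_le_of_isPullback hsq) ag ag' eg E
  haveI := hH inferInstance inferInstance inferInstance inferInstance inferInstance inferInstance ah ah' eh
    ((DCoh.Lpull g').obj E) (DQCoh.isQCohD_Lpull g' E hE)
  infer_instance

end Vert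

section Horiz

variable {V V' : Scheme.{u}} {j : V ⟶ X} {j' : V' ⟶ X'} {g'' : V' ⟶ V}

/-- From the composite and the left square to the right square, at direct images. -/
theorem isIso_bc_Rpush (w : g'' ≫ j = j' ≫ g') (hC : Good (j ≫ f) g (j' ≫ f') g'') (hJ : Good j g' j' g'')
    [DCoh.HasRpush f] [DCoh.HasRpush g] [DCoh.HasLpull g] [DCoh.HasRpush f'] [DCoh.HasRpush g']
    [DCoh.HasLpull g'] [DCoh.HasRpush j] (adjg : DCoh.Lpull g ⊣ DCoh.Rpush g)
    (adjg' : DCoh.Lpull g' ⊣ DCoh.Rpush g')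
    (e : DCoh.Rpush g' ⋙ DCoh.Rpush f ≅ DCoh.Rpush f' ⋙ DCoh.Rpush g) (E : DCoh.D V) (hE : DCoh.IsQCohD E) :
    IsIso ((BCAlg.bc adjg adjg' e).app ((DCoh.Rpush j).obj E)) := by
  haveI := hasRpush j'
  haveI := hasRpush g''
  haveI := hasLpull g''
  haveI := hasRpush (j ≫ f)
  haveI := hasRpush (j' ≫ f')
  obtain ⟨a⟩ := nonempty_pullPushAdj g''
  obtain ⟨ej⟩ := exists_e w
  obtain ⟨β⟩ := DCat.nonempty_RpushComp j f
  obtain ⟨β'⟩ := DCat.nonempty_RpushComp j' f'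
  have h1 := hC inferInstance inferInstance inferInstance inferInstance inferInstance inferInstance adjg a
    (Functor.isoWhiskerLeft _ β.symm ≪≫ BCAlg.hE e ej ≪≫ Functor.isoWhiskerRight β' _) E hE
  rw [BCAlg.bc_iso, BCAlg.bc_hcomp adjg adjg', isIso_comp_left_iff, isIso_comp_right_iff] at h1
  haveI := hJ inferInstance inferInstance inferInstance inferInstance inferInstance inferInstance adjg' a ej E hE
  exact @IsIso.of_isIso_comp_right _ _ _ _ _ _ _ inferInstance h1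

end Horiz

/-- Base change may be checked over affine covers of both bases. -/
theorem good_of_cover (hsq : IsPullback g' f' f g)
    (H : ∀ y : Y', ∃ (U U' : Scheme.{u}) (a : U ⟶ Y) (b : U' ⟶ Y') (h : U' ⟶ U) (_ : IsOpenImmersion a)
      (_ : IsOpenImmersion b) (XU X'' : Scheme.{u}) (aX : XU ⟶ X) (fU : XU ⟶ U) (hX : X'' ⟶ XU) (f'' : X'' ⟶ U'),
      h ≫ a = b ≫ g ∧ y ∈ b.opensRange ∧ IsPullback aX fU f a ∧ IsPullback hX f'' fU h ∧ Good fU h f'' hX) :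
    Good f g f' g' := by
  intro _ _ _ _ _ _ adjg adjg' e E hE
  refine ProjPerf.isIso_of_locally _ fun y => ?_
  obtain ⟨U, U', a, b, h, _, _, XU, X'', aX, fU, hX, f'', hw, hy, hU, hH, hgood⟩ := H y
  have houter : IsPullback (hX ≫ aX) f'' f (b ≫ g) := hw ▸ hH.paste_horiz hU
  let bX : X'' ⟶ X' := hsq.lift (hX ≫ aX) (f'' ≫ b) (by rw [Category.assoc, hU.w, ← Category.assoc, hH.w]; simp [hw])
  have hbX : IsPullback bX f'' f' b := IsPullback.of_right' houter hsq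
  have hC : Good f (b ≫ g) f'' (hX ≫ aX) := good_of_comp hw rfl hU hH.w hgood
  haveI := hasLpull b
  haveI := isIso_map_bc_of_comp rfl (hsq.lift_fst _ _ _) hbX.w hC (good_of_open hbX) adjg adjg' e E hE
  obtain ⟨β⟩ := nonempty_Lpull_rd b
  haveI : IsIso ((rd b).map ((BCAlg.bc adjg adjg' e).app E)) := (NatIso.isIso_map_iff β _).1 ‹_›
  refine ⟨b.opensRange, hy, ?_⟩
  exact TenLocal.isIso_rd_of_isIso_rd b b.isoOpensRange.inv b.opensRange.ι b.isoOpensRange_inv_comp _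

/-- Two opens covering the source. -/
theorem good_of_two {U₁ U₂ U₁' U₂' : Scheme.{u}} (j₁ : U₁ ⟶ X) (j₂ : U₂ ⟶ X) [IsOpenImmersion j₁]
    [IsOpenImmersion j₂] [QuasiCompact j₁] [QuasiCompact j₂] (hcov : ∀ x : X, x ∈ j₁.opensRange ∨ x ∈ j₂.opensRange)
    {j₁' : U₁' ⟶ X'} {j₂' : U₂' ⟶ X'} {g₁ : U₁' ⟶ U₁} {g₂ : U₂' ⟶ U₂}
    (w₁ : g₁ ≫ j₁ = j₁' ≫ g') (w₂ : g₂ ≫ j₂ = j₂' ≫ g')
    (h₁ : Good (j₁ ≫ f) g (j₁' ≫ f') g₁) (h₂ : Good (j₂ ≫ f) g (j₂' ≫ f') g₂)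
    (k₁ : Good j₁ g' j₁' g₁) (k₂ : Good j₂ g' j₂' g₂) : Good f g f' g' := by
  intro _ _ _ _ _ _ adjg adjg' e E hE
  haveI := hasRpush j₁
  haveI := hasRpush j₂
  let F₀ := DCoh.Rpush f ⋙ DCoh.Lpull g
  let G₀ := DCoh.Lpull g' ⋙ DCoh.Rpush f'
  have hF : TriExact F₀ := (TenLocal.triExact_Rpush f).comp (TenLocal.triExact_Lpull g)
  have hG : TriExact G₀ := (TenLocal.triExact_Lpull g').comp (TenLocal.triExact_Rpush f')
  let τ : F₀ ⟶ G₀ := BCAlg.bc adjg adjg' e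
  have hs : ∀ {V V' : Scheme.{u}} (j : V ⟶ X) (j' : V' ⟶ X') (g'' : V' ⟶ V) [DCoh.HasRpush j],
      g'' ≫ j = j' ≫ g' → Good (j ≫ f) g (j' ≫ f') g'' → Good j g' j' g'' →
      ∀ K : DCoh.D V, DCoh.IsQCohD K → IsoShifts τ ((DCoh.Rpush j).obj K) := by
    intro V V' j j' g'' _ w hC hJ K hK n
    obtain ⟨_, _⟩ := exists_commShift_Rpush j
    exact (NatTrans.isIso_app_iff_of_iso τ (((DCoh.Rpush j).commShiftIso n).app K)).1
      (isIso_bc_Rpush w hC hJ adjg adjg' e _ (DQCoh.isQCohD_shift hK n))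
  obtain ⟨a₁, ha₁⟩ := AdjGeom.exists_adj j₁
  obtain ⟨a₂, ha₂⟩ := AdjGeom.exists_adj j₂
  obtain ⟨C, v, w, hT⟩ := distinguished_cocone_triangle (a₁.unit.app E)
  haveI : IsIso ((rd j₁).map (a₁.unit.app E)) :=
    isIso_of_comp_eq_id (a₁.left_triangle_components E)
  have hC : AdjGeom.killed j₁ C :=
    (Triangle.isZero₃_iff_isIso₁ _ ((rd j₁).map_distinguished _ hT)).2 ‹IsIso ((rd j₁).map (a₁.unit.app E))›
  have hE₁ : DCoh.IsQCohD ((DCoh.restrictD j₁).obj E) := AdjGeom.isQCohD_restrictD j₁ hE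
  have hR₁ : DCoh.IsQCohD ((DCoh.Rpush j₁).obj ((DCoh.restrictD j₁).obj E)) := DQCoh.isQCohD_Rpush j₁ _ hE₁
  have hCq : DCoh.IsQCohD C := DQCoh.isQCohD_obj₃ hT hE hR₁
  haveI : IsIso (a₂.unit.app C) := by
    haveI : IsIso ((rd j₂).map (a₂.unit.app C)) :=
      isIso_of_comp_eq_id (a₂.left_triangle_components C)
    refine ProjPerf.isIso_of_locally _ fun x => ?_
    rcases hcov x with hx | hx
    · refine ⟨j₁.opensRange, hx, ?_⟩
      haveI := hasRpush j₂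
      have hk₁ : AdjGeom.killed j₁.opensRange.ι C :=
        AdjGeom.killed_mono j₁ _ (by rw [Scheme.Opens.opensRange_ι]) hC
      have hk₂ : AdjGeom.killed j₁.opensRange.ι ((DCoh.Rpush j₂).obj ((DCoh.restrictD j₂).obj C)) :=
        TenLocal.isZero_rd_Rpush j₂ _ (by
          exact (RdComp.isZero_rd_comp_iff (j₂ ⁻¹ᵁ j₁.opensRange).ι j₂ C).2
            (AdjGeom.killed_mono j₁ _ (by
              rw [Scheme.Hom.opensRange_comp, Scheme.Opens.opensRange_ι]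
              exact (j₂.image_preimage_eq_opensRange_inf _).le.trans inf_le_right) hC))
      exact ⟨(hk₁.isoZero ≪≫ hk₂.isoZero.symm).inv, hk₁.eq_of_src _ _, hk₂.eq_of_src _ _⟩
    · exact ⟨j₂.opensRange, hx,
        TenLocal.isIso_rd_of_isIso_rd j₂ j₂.isoOpensRange.inv j₂.opensRange.ι j₂.isoOpensRange_inv_comp _⟩
  have hC₂ : IsoShifts τ C := (hs j₂ j₂' g₂ w₂ h₂ k₂ _ (AdjGeom.isQCohD_restrictD j₂ hCq)).of_iso
    (asIso (a₂.unit.app C)).symm
  exact (IsoShifts.fibre hF hG hT (hs j₁ j₁' g₁ w₁ h₁ k₁ _ hE₁) hC₂).app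

/-- Base change transferred along an isomorphism of the source. -/
theorem good_of_iso {V V' : Scheme.{u}} (j : V ⟶ X) [IsIso j] {j' : V' ⟶ X'} {g'' : V' ⟶ V}
    (w : g'' ≫ j = j' ≫ g') (hC : Good (j ≫ f) g (j' ≫ f') g'') (hJ : Good j g' j' g'') : Good f g f' g' := by
  haveI : QuasiCompact j := inferInstance
  exact good_of_two j j (fun x => Or.inl ⟨(inv j).base x, by rw [← Scheme.Hom.comp_apply, IsIso.inv_hom_id]; rfl⟩)
    w w hC hC hJ hJ

end Groth.Agent.Dual22Lib.BCSquare
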