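import Groth.Agent.Dual22Lib.ProjTau
import Groth.Agent.Dual22Lib.TenLocal
import Groth.Agent.PicLib.FiniteSetTriv

/-!
# The projection formula on quasi-coherent derived categories
-/

set_option autoImplicit false
set_option backward.isDefEq.respectTransparency false
set_option backward.defeqAttrib.useBackward true
set_option linter.style.haveILetI false
set_option linter.unusedSectionVars false
set_option synthInstance.maxHeartbeats 100000

universe u

open CategoryTheory CategoryTheory.Limits CategoryTheory.Pretriangulated AlgebraicGeometry HomologicalComplex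
open Groth.Agent.ModStalk Groth.Agent.DCat Groth.Agent.DCat.PerfLocal Groth.Agent.DCat.ProjPerf
open Groth.Agent.Dual22Lib.WeakExact Groth.Agent.DQCoh Groth.Agent.Coherent Groth.Agent.SiteDer16

attribute [local instance] HasDerivedCategory.standard

namespace Groth.Agent.Dual22Lib.ProjQCoh

variable {X Y : Scheme.{u}} (f : X ⟶ Y) [DCoh.HasRpush f] [DCoh.HasLpull f]
  (I : CochainComplex X.Modules ℤ) [DCoh.HasLTensorCx I] [DCoh.HasLTensorCx ((pushC f).obj I)]

theorem triExact_src : TriExact (srcF f I) := TenLocal.triExact_LTensor _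

theorem triExact_tgt : TriExact (tgtF f I) :=
  (TenLocal.triExact_Lpull f).comp ((TenLocal.triExact_LTensor I).comp (TenLocal.triExact_Rpush f))

theorem isZero_rd_tgt (V : Y.Opens) {C : DCoh.D Y} (hC : IsZero ((rd V.ι).obj C)) :
    IsZero ((rd V.ι).obj ((tgtF f I).obj C)) := by
  haveI := hasLpull (f ∣_ V)
  obtain ⟨e⟩ := TenLocal.nonempty_rd_Lpull f V C
  exact TenLocal.isZero_rd_Rpush f V (TenLocal.isZero_rd_LTensor _ I
    (((TenLocal.triExact_Lpull (f ∣_ V)).map_isZero hC).of_iso e))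

/-- The projection map over `V` only depends on the restriction to `V`. -/
theorem isIso_rd_tau_iff (τ : srcF f I ⟶ tgtF f I) (V : Y.Opens) {A B : DCoh.D Y} (g : A ⟶ B)
    [IsIso ((rd V.ι).map g)] :
    IsIso ((rd V.ι).map (τ.app A)) ↔ IsIso ((rd V.ι).map (τ.app B)) := by
  haveI h₁ : IsIso ((rd V.ι).map ((srcF f I).map g)) :=
    TenLocal.isIso_map_of_rd V.ι (F := srcF f I ⋙ rd V.ι)
      ((triExact_src f I).comp (TenLocal.triExact_rd V.ι)) (fun C hC => TenLocal.isZero_rd_LTensor V.ι _ hC) g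
  haveI h₂ : IsIso ((rd V.ι).map ((tgtF f I).map g)) :=
    TenLocal.isIso_map_of_rd V.ι (F := tgtF f I ⋙ rd V.ι)
      ((triExact_tgt f I).comp (TenLocal.triExact_rd V.ι)) (fun C hC => isZero_rd_tgt f I V hC) g
  have e := congrArg (rd V.ι).map (τ.naturality g)
  rw [Functor.map_comp, Functor.map_comp] at e
  constructor <;> intro hh
  · haveI := hh
    exact IsIso.of_isIso_fac_left e
  · haveI := hh
    exact IsIso.of_isIso_fac_right e.symm

variable {R : CommRingCat.{u}} (j : Spec (CommRingCat.of R) ⟶ Y) [IsOpenImmersion j]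

/-- The projection map on objects extended from an affine open, restricted to it. -/
noncomputable abbrev tauLoc (τ : srcF f I ⟶ tgtF f I) (V : Y.Opens) :
    (JShriek.shriek j).mapDerivedCategory ⋙ srcF f I ⋙ rd V.ι ⟶
      (JShriek.shriek j).mapDerivedCategory ⋙ tgtF f I ⋙ rd V.ι :=
  Functor.whiskerLeft _ (Functor.whiskerRight τ (rd V.ι))

theorem isQCohD_rd_shriek (V : Y.Opens) (e : (V : Scheme.{u}) ⟶ Spec (CommRingCat.of R)) [IsOpenImmersion e]
    (he : e ≫ j = V.ι) {K : DCoh.D (Spec (CommRingCat.of R))} (hK : DCoh.IsQCohD K) :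
    DCoh.IsQCohD ((rd V.ι).obj ((JShriek.shriek j).mapDerivedCategory.obj K)) := by
  obtain ⟨a⟩ := RdComp.rd_congr (X := Y) (e ≫ j) he ((JShriek.shriek j).mapDerivedCategory.obj K)
  refine isQCohD_of_iso (((RdComp.rdCompIso e j).app _) ≪≫ a) (AdjGeom.isQCohD_restrictD e ?_)
  haveI := TenLocal.isIso_unit_shriekD j K
  exact isQCohD_of_iso (asIso ((JShriek.shriekD j).unit.app K)) hK

variable [QuasiCompact f] [QuasiSeparated f]

/-- Both sides send sums over an affine open to sums. -/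
theorem isoShifts_sum (τ : srcF f I ⟶ tgtF f I) (V : Y.Opens) (e : (V : Scheme.{u}) ⟶ Spec (CommRingCat.of R))
    [IsOpenImmersion e] (he : e ≫ j = V.ι) (hI : DCoh.IsQCohD (DerivedCategory.Q.obj I))
    {κ : Type u} (Z : κ → DCoh.D (Spec (CommRingCat.of R))) (c : Cofan Z) (hc : IsColimit c)
    (hZ : ∀ k, DCoh.IsQCohD (Z k) ∧ IsoShifts (tauLoc f I j τ V) (Z k)) :
    IsoShifts (tauLoc f I j τ V) c.pt := fun n => by
  let sh := shiftFunctor (DCoh.D (Spec (CommRingCat.of R))) n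
  let S := (JShriek.shriek j).mapDerivedCategory
  haveI := TenLocal.preservesCoproducts_shriek j κ
  haveI := TenLocal.preservesCoproducts_LTensor ((pushC f).obj I) κ
  haveI := TenLocal.preservesCoproducts_LTensor I κ
  haveI := TenLocal.preservesCoproducts_Lpull f κ
  haveI := TenLocal.preservesCoproducts_rd V.ι κ
  haveI := TenLocal.preservesCoproducts_rd (f ⁻¹ᵁ V).ι κ
  let c' : Cofan fun k => (Z k)⟦n⟧ := Cofan.mk (c.pt⟦n⟧) fun k => (c.inj k)⟦n⟧'
  have hc' : IsColimit c' := (Cofan.isColimitMapCoconeEquiv _ _ _).1 (isColimitOfPreserves sh hc)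
  haveI := hasRpush (f ∣_ V)
  haveI := PullPerf.preservesFiniteLimits_restrict V.ι
  haveI := PullPerf.preservesFiniteLimits_restrict (f ⁻¹ᵁ V).ι
  haveI := hasLpull (f ∣_ V)
  let M := S ⋙ DCoh.Lpull f ⋙ DCoh.LTensorCx I ⋙ rd (f ⁻¹ᵁ V).ι
  have hq : ∀ k, DCoh.IsQCohD (M.obj ((Z k)⟦n⟧)) := fun k => by
    refine TenLocal.isQCohD_rd_LTensor _ I (AdjGeom.isQCohD_restrictD _ hI) ?_
    obtain ⟨a⟩ := TenLocal.nonempty_rd_Lpull f V (S.obj ((Z k)⟦n⟧))
    exact isQCohD_of_iso a.symm (isQCohD_Lpull _ _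
      (isQCohD_rd_shriek j V e he (isQCohD_shift (hZ k).1 n)))
  haveI : PreservesColimit (Discrete.functor fun k => (Z k)⟦n⟧) M :=
    inferInstanceAs (PreservesColimit _ (S ⋙ DCoh.Lpull f ⋙ DCoh.LTensorCx I ⋙ rd (f ⁻¹ᵁ V).ι))
  haveI := TenLocal.preservesColimit_Rpush (f ∣_ V) (M.obj ∘ fun k => (Z k)⟦n⟧) hq
  haveI : PreservesColimit (Discrete.functor (fun k => (Z k)⟦n⟧) ⋙ M) (DCoh.Rpush (f ∣_ V)) :=
    preservesColimit_of_iso_diagram _ (Discrete.compNatIsoDiscrete (fun k => (Z k)⟦n⟧) M).symm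
  haveI : PreservesColimit (Discrete.functor fun k => (Z k)⟦n⟧) (M ⋙ DCoh.Rpush (f ∣_ V)) := inferInstance
  haveI : PreservesColimit (Discrete.functor fun k => (Z k)⟦n⟧) (S ⋙ tgtF f I ⋙ rd V.ι) :=
    preservesColimit_of_natIso _ (show M ⋙ DCoh.Rpush (f ∣_ V) ≅ S ⋙ tgtF f I ⋙ rd V.ι from
      Functor.isoWhiskerLeft S (Functor.isoWhiskerLeft (DCoh.Lpull f) (Functor.isoWhiskerLeft (DCoh.LTensorCx I)
        (OpenDerived.rpushRestrictIso f V).symm)))
  exact WeakExact.isIso_app_of_isColimit (tauLoc f I j τ V) c' (isColimitOfPreserves (S ⋙ srcF f I ⋙ rd V.ι) hc')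
    (isColimitOfPreserves (S ⋙ tgtF f I ⋙ rd V.ι) hc') fun k => (hZ k).2 n

omit [QuasiCompact f] [QuasiSeparated f] in
/-- The projection map at the extension by zero of a shifted structure sheaf. -/
theorem isIso_tau_gen (τ : srcF f I ⟶ tgtF f I) [I.IsKInjective]
    (hτ : ∀ (P : CochainComplex Y.Modules ℤ) (hP : IsKFlatFor (shT Y) P),
      τ.app (DerivedCategory.Q.obj P) = (srcIso f I hP).hom ≫ eta f I P ≫ (tgtIso f I hP).inv)
    (V : Y.Opens) (e : (V : Scheme.{u}) ⟶ Spec (CommRingCat.of R)) [IsOpenImmersion e] (he : e ≫ j = V.ι)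
    (m : ℤ) :
    IsIso ((rd V.ι).map (τ.app ((JShriek.shriek j).mapDerivedCategory.obj
      (DerivedCategory.Q.obj ((HomologicalComplex.single _ (ComplexShape.up ℤ) m).obj
        ((freeModOn (Spec (CommRingCat.of R))).obj ⊤)))))) := by
  let A := (HomologicalComplex.single (Spec (CommRingCat.of R)).Modules (ComplexShape.up ℤ) m).obj
    ((freeModOn (Spec (CommRingCat.of R))).obj ⊤)
  let E := ((JShriek.shriek j).mapHomologicalComplex (ComplexShape.up ℤ)).obj A
  refine ((MorphismProperty.isomorphisms _).arrow_mk_iso_iff (Arrow.isoMk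
    ((rd V.ι).mapIso ((srcF f I).mapIso ((JShriek.shriek j).mapDerivedCategoryFactors.app A)))
    ((rd V.ι).mapIso ((tgtF f I).mapIso ((JShriek.shriek j).mapDerivedCategoryFactors.app A))) ?_)).2
    (?_ : IsIso ((rd V.ι).map (τ.app (DerivedCategory.Q.obj E))))
  · show (rd V.ι).map _ ≫ (rd V.ι).map _ = (rd V.ι).map _ ≫ (rd V.ι).map _
    rw [← Functor.map_comp, ← Functor.map_comp]
    exact congrArg _ (τ.naturality _)
  obtain ⟨N, c, hN, -, hc, -⟩ := exists_kflat_sheaf E
  haveI := hc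
  haveI : IsIso (DerivedCategory.Q.map c) := (DerivedCategory.isIso_Q_map_iff_quasiIso _ c).2 hc
  rw [← isIso_rd_tau_iff f I τ V (DerivedCategory.Q.map c), hτ N hN, Functor.map_comp, Functor.map_comp,
    isIso_comp_left_iff, isIso_comp_right_iff]
  have hfree : ∀ i, ∃ r, Nonempty ((Scheme.Modules.restrictFunctor V.ι).obj (E.X i) ≅ FlatMod.freeMod V r) := by
    intro i
    by_cases hi : i = m
    · subst hi
      obtain ⟨g⟩ := nonempty_restrict_free (Y := Spec (CommRingCat.of R)) (V : Scheme.{u}) e 1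
      refine ⟨1, ⟨(Scheme.Modules.restrictFunctorCongr he).symm.app _ ≪≫
        (Scheme.Modules.restrictFunctorComp e j).app _ ≪≫ (Scheme.Modules.restrictFunctor e).mapIso
          ((asIso ((JShriek.shriekAdj j).unit.app (A.X i))).symm ≪≫
          HomologicalComplex.singleObjXSelf (ComplexShape.up ℤ) i _ ≪≫
          DQCoh.topStructIso _ ≪≫ (PicLib.freeModOneIso _).symm) ≪≫ g⟩⟩
    · exact ⟨0, ⟨((Scheme.Modules.restrictFunctor V.ι).map_isZero ((JShriek.shriek j).map_isZero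
        (HomologicalComplex.isZero_single_obj_X _ _ _ _ hi))).iso isZero_freeMod_zero⟩⟩
  have h₁ : ∀ n, n < m → IsZero (E.X n) := fun n hn =>
    (JShriek.shriek j).map_isZero (HomologicalComplex.isZero_single_obj_X _ _ _ _ (by omega))
  have h₂ : ∀ n, m + ((1 : ℕ) : ℤ) ≤ n → IsZero (E.X n) := fun n hn =>
    (JShriek.shriek j).map_isZero (HomologicalComplex.isZero_single_obj_X _ _ _ _ (by omega))
  haveI : QuasiIso ((restrC V.ι).map c) := (isIso_rd_Q_iff V.ι c).1 inferInstance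
  refine (isIso_rd_eta_iff f V I c (PullPerf.isKFlatFor_restrict V hN) ?_).2
    (isIso_rd_eta_free f V I E m 1 h₁ h₂ hfree)
  exact PullPerf.isKFlatFor_of_strictlyPerfect ⟨⟨m, m, fun i hi => (Scheme.Modules.restrictFunctor V.ι).map_isZero
    ((JShriek.shriek j).map_isZero (HomologicalComplex.isZero_single_obj_X _ _ _ _ (by omega)))⟩, fun i => by
    obtain ⟨r, ⟨g⟩⟩ := hfree i
    exact PerfTensor.isFinLocFree_of_iso g.symm (isFinLocFree_freeMod r)⟩

/-- The projection map of a complex with quasi-coherent cohomology is invertible. -/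
theorem isIso_eta_qcoh [I.IsKInjective] (hI : DCoh.IsQCohD (DerivedCategory.Q.obj I))
    {P : CochainComplex Y.Modules ℤ} (hP : IsKFlatFor (shT Y) P) (hPq : DCoh.IsQCohD (DerivedCategory.Q.obj P)) :
    IsIso (eta f I P) := by
  obtain ⟨τ, hτ⟩ := exists_tau f I
  suffices h : IsIso (τ.app (DerivedCategory.Q.obj P)) by
    rw [hτ P hP, isIso_comp_left_iff, isIso_comp_right_iff] at h
    exact h
  refine isIso_of_locally _ fun y => ?_
  obtain ⟨V, hV, hyV, -⟩ := exists_isAffineOpen_mem_and_subset (x := y) (U := (⊤ : Y.Opens)) trivial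
  refine ⟨V, hyV, ?_⟩
  let R : CommRingCat.{u} := Γ(Y, V)
  let j : Spec (CommRingCat.of R) ⟶ Y := hV.fromSpec
  let e : (V : Scheme.{u}) ⟶ Spec (CommRingCat.of R) := hV.isoSpec.hom
  haveI : IsOpenImmersion j := inferInstanceAs (IsOpenImmersion hV.fromSpec)
  haveI : IsOpenImmersion e := inferInstanceAs (IsOpenImmersion hV.isoSpec.hom)
  have he : e ≫ j = V.ι := hV.isoSpec_hom_fromSpec
  let K := (rd j).obj (DerivedCategory.Q.obj P)
  haveI : IsIso ((rd V.ι).map ((JShriek.shriekD j).counit.app (DerivedCategory.Q.obj P))) :=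
    haveI := TenLocal.isIso_rd_counit j (DerivedCategory.Q.obj P)
    TenLocal.isIso_rd_of_isIso_rd j e V.ι he _
  refine (isIso_rd_tau_iff f I τ V ((JShriek.shriekD j).counit.app (DerivedCategory.Q.obj P))).1 ?_
  refine IsoShifts.app (τ := tauLoc f I j τ V) (K := K) ?_
  have hK : DCoh.IsQCohD K := AdjGeom.isQCohD_restrictD j hPq
  have hF := (TenLocal.triExact_shriek j).comp ((triExact_src f I).comp (TenLocal.triExact_rd V.ι))
  have hG := (TenLocal.triExact_shriek j).comp ((triExact_tgt f I).comp (TenLocal.triExact_rd V.ι))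
  refine (qcohD_induction R (fun L => DCoh.IsQCohD L ∧ IsoShifts (tauLoc f I j τ V) L)
    (fun a h => ⟨isQCohD_of_iso a h.1, h.2.of_iso a⟩)
    (fun T hT h₁ h₂ => ⟨isQCohD_obj₃ hT h₁.1 h₂.1, IsoShifts.cone hF hG hT h₁.2 h₂.2⟩)
    (fun κ Z c hc h => ⟨?_, isoShifts_sum f I j τ V e he hI Z c hc h⟩)
    (fun n => ?_) K hK).2
  · haveI : HasCoproduct Z := ⟨⟨⟨c, hc⟩⟩⟩
    exact isQCohD_of_iso ((coproductIsCoproduct _).coconePointUniqueUpToIso hc) (isQCohD_sigma _ fun k => (h k).1)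
  · have a : DerivedCategory.Q.obj ((HomologicalComplex.single _ (ComplexShape.up ℤ) 0).obj
        ((freeModOn (Spec (CommRingCat.of R))).obj ⊤)) ≅ (sec (Spec (CommRingCat.of R))).pt.obj ⊤ :=
      (((SingleFunctors.evaluation _ _ 0).mapIso (DerivedCategory.singleFunctorsPostcompQIso
        (Spec (CommRingCat.of R)).Modules)).app ((freeModOn (Spec (CommRingCat.of R))).obj ⊤)).symm
    refine ⟨isQCohD_shift (isQCohD_of_iso a (isQCohD_Q _ fun i => ?_)) n, ?_⟩
    · by_cases hi : i = 0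
      · subst hi
        exact isQCoh_of_iso (HomologicalComplex.singleObjXSelf (ComplexShape.up ℤ) 0 _).symm (h := isQCoh_top _)
      · exact isQCoh_of_isZero (HomologicalComplex.isZero_single_obj_X _ _ _ _ hi)
    · refine (IsoShifts.shift ?_ n).of_iso (Iso.refl _)
      intro m
      refine (NatTrans.isIso_app_iff_of_iso (tauLoc f I j τ V) ?_).1 (isIso_tau_gen f I j τ hτ V e he (-m))
      exact DerivedCategory.Q.mapIso (((CochainComplex.singleFunctors _).shiftIso m (-m) 0 (by omega)).app _).symm ≪≫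
        (DerivedCategory.Q.commShiftIso m).app _ ≪≫ (shiftFunctor _ m).mapIso a

end Groth.Agent.Dual22Lib.ProjQCoh

namespace Groth.Agent.Dual22Lib.ProjQCoh

/-- `Rf_* E ⊗^L K ≅ Rf_*(E ⊗^L Lf^* K)` for objects with quasi-coherent cohomology. -/
theorem nonempty_projection_qcoh {X Y : Scheme.{u}} (f : X ⟶ Y) [QuasiCompact f] [QuasiSeparated f]
    [DCoh.HasRpush f] [DCoh.HasLpull f] (E : DCoh.D X) (hE : DCoh.IsQCohD E) (K : CochainComplex Y.Modules ℤ)
    (hK : DCoh.IsQCohD (DerivedCategory.Q.obj K)) [DCoh.HasLTensorCx K] (M : CochainComplex X.Modules ℤ)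
    (hM : Nonempty (DerivedCategory.Q.obj M ≅ (DCoh.Lpull f).obj (DerivedCategory.Q.obj K)))
    [DCoh.HasLTensorCx M] :
    Nonempty ((DCoh.LTensorCx K).obj ((DCoh.Rpush f).obj E) ≅
      (DCoh.Rpush f).obj ((DCoh.LTensorCx M).obj E)) := by
  obtain ⟨eM⟩ := hM
  obtain ⟨P, hP, ⟨eP⟩⟩ := PullPerf.exists_kflat_rep (DerivedCategory.Q.obj K)
  obtain ⟨I, s, hI, hs⟩ := modules_enoughKInj X (DerivedCategory.Q.objPreimage E)
  haveI := hI
  haveI : IsIso (DerivedCategory.Q.map s) := (DerivedCategory.isIso_Q_map_iff_quasiIso _ s).2 hs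
  let eI : DerivedCategory.Q.obj I ≅ E := (asIso (DerivedCategory.Q.map s)).symm ≪≫ DerivedCategory.Q.objObjPreimageIso E
  haveI := LTensorSheaf.hasLTensorCx I
  haveI := LTensorSheaf.hasLTensorCx ((pushC f).obj I)
  haveI := LTensorSheaf.hasLTensorCx P
  haveI := LTensorSheaf.hasLTensorCx ((pullC f).obj P)
  haveI := isIso_eta_qcoh f I (isQCohD_of_iso eI.symm hE) hP (isQCohD_of_iso eP.symm hK)
  haveI := isIso_unitD f I
  let e₁ : DerivedCategory.Q.obj ((pushC f).obj I) ≅ (DCoh.Rpush f).obj (DerivedCategory.Q.obj I) :=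
    asIso ((unitD f).app I)
  obtain ⟨a⟩ := TensorCongr.nonempty_congr (E := P) (E' := K) eP
  obtain ⟨b⟩ := TensorCongr.nonempty_congr (E := (pullC f).obj P) (E' := M)
    ((PullPerf.lpullIso f hP).symm ≪≫ (DCoh.Lpull f).mapIso eP ≪≫ eM.symm)
  exact ⟨(DCoh.LTensorCx K).mapIso ((DCoh.Rpush f).mapIso eI.symm ≪≫ e₁.symm) ≪≫ (a.app _).symm ≪≫
    LTensorSheaf.ltensorCxIso' hP _ ≪≫ asIso (eta f I P) ≪≫
    (DCoh.Rpush f).mapIso ((LTensorSheaf.ltensorCxIso' (PullTot.isKFlatFor_pullback f hP) I).symm ≪≫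
      b.app _ ≪≫ (DCoh.LTensorCx M).mapIso eI)⟩

end Groth.Agent.Dual22Lib.ProjQCoh
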