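import Groth.Agent.Dual22Lib.SupportAdj
import Groth.Agent.Coherent.RpushSupport
import Groth.Agent.Coherent.ProperOverApps
import Groth.Agent.Coherent.GradedCoh

/-!
# `Rf_*` of complexes with coherent cohomology with proper support
-/

set_option autoImplicit false
set_option backward.isDefEq.respectTransparency false
set_option backward.defeqAttrib.useBackward true
set_option linter.style.haveILetI false
set_option linter.unusedSectionVars false
set_option synthInstance.maxHeartbeats 100000

universe u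

open CategoryTheory CategoryTheory.Limits CategoryTheory.Pretriangulated AlgebraicGeometry Opposite
open Groth.Agent.DCat Groth.Agent.SiteDer16
open scoped ZeroObject

attribute [local instance] HasDerivedCategory.standard
attribute [-instance] Int.instConditionallyCompleteLinearOrder

namespace Groth.Agent.Dual22Lib.ProperSuppPush

variable {X S : Scheme.{u}} (f : X ⟶ S)

/-- Coherent modules with support proper over the base. -/
def PS : ObjectProperty X.Modules := fun M => Coh.IsCoh M ∧ ClSub.IsProperOver f (CohB1.support M)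

theorem support_iso {M N : X.Modules} (e : M ≅ N) : CohB1.support M = CohB1.support N := by
  ext x
  exact not_congr (Equiv.subsingleton_congr (((DerSch.stalkFunctor X x).mapIso e).toLinearEquiv.toEquiv))

theorem ps_zero {M : X.Modules} (hM : IsZero M) [IsLocallyNoetherian X] : PS f M := by
  refine ⟨(DQCoh.coh_ops X).1 M hM, ?_⟩
  rw [show CohB1.support M = ∅ from Set.eq_empty_iff_forall_notMem.2 fun x hx => hx
    (DCat.SuppOpen.subsingleton_of_isZero_stalkFunctor M x ((DerSch.stalkFunctor X x).map_isZero hM))]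
  exact Et18.isProperOver_empty f

variable [LocallyOfFiniteType f] [IsLocallyNoetherian S]

instance isWeakSerre_PS : WSerre.IsWeakSerre (PS f) := by
  haveI : IsLocallyNoetherian X := LocallyOfFiniteType.isLocallyNoetherian f
  haveI : (PS f).IsClosedUnderIsomorphisms := ⟨fun e h =>
    ⟨Coherent.isCoh_iso e h.1, support_iso e ▸ h.2⟩⟩
  haveI : (PS f).ContainsZero := ⟨⟨0, isZero_zero _, ps_zero f (isZero_zero _)⟩⟩
  have hker : ∀ {M N : X.Modules} (φ : M ⟶ N), PS f M → PS f N → PS f (kernel φ) := fun {M N} φ hM hN => by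
    let E : ShortComplex X.Modules := ShortComplex.mk (kernel.ι φ) (cokernel.π (kernel.ι φ)) (cokernel.condition _)
    have hE : E.ShortExact := { exact := ShortComplex.exact_cokernel _ }
    have hk := Coherent.isCoh_kernel φ hM.1 hN.1.1
    exact ⟨hk, ((Coherent.isProperOver_support_shortExact f E hE hk.2
      (Coherent.isCoh_cokernel (kernel.ι φ) hk.1 hM.1).2).1 hM.2).1⟩
  have hcok : ∀ {M N : X.Modules} (φ : M ⟶ N), PS f M → PS f N → PS f (cokernel φ) := fun {M N} φ hM hN => by
    have hc := Coherent.isCoh_cokernel φ hM.1.1 hN.1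
    exact ⟨hc, ((Coherent.isProperOver_support_shortExact f _ (Coherent.imSeq_shortExact φ)
      (Coherent.isCoh_kernel (cokernel.π φ) hN.1 hc.1).2 hc.2).1 hN.2).2⟩
  haveI : (PS f).IsClosedUnderKernels := ⟨by
    rintro K ⟨φ, k, hk, hM, hN⟩
    exact (PS f).prop_of_iso ((kernelIsKernel φ).conePointUniqueUpToIso hk) (hker φ hM hN)⟩
  haveI : (PS f).IsClosedUnderCokernels := ⟨by
    rintro K ⟨φ, k, hk, hM, hN⟩
    exact (PS f).prop_of_iso ((cokernelIsCokernel φ).coconePointUniqueUpToIso hk) (hcok φ hM hN)⟩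
  haveI : (PS f).IsClosedUnderExtensions := ⟨fun {T} hT h₁ h₃ => by
    have h₂ := (DQCoh.coh_ops X).2.2.2 hT h₁.1 h₃.1
    exact ⟨h₂, (Coherent.isProperOver_support_shortExact f T hT h₁.1.2 h₃.1.2).2 ⟨h₁.2, h₃.2⟩⟩⟩
  exact ⟨⟩

/-- Higher direct images of one such module vanish in high degrees. -/
theorem exists_isLE_single [CompactSpace S] [DCoh.HasRpush f] {M : X.Modules} (hM : PS f M) :
    ∃ b : ℤ, ((DCoh.Rpush f).obj ((DerivedCategory.singleFunctor X.Modules 0).obj M)).IsLE b := by
  haveI : IsLocallyNoetherian X := LocallyOfFiniteType.isLocallyNoetherian f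
  haveI : HasInjectiveResolutions X.Modules := Coherent.hasInjectiveResolutions_modules X
  have hq := hM.1.1
  have hft : CohB1.IsFT M := hM.1.2
  let J := Coherent.annSheaf hq hft
  have hk := Coherent.killed_ker_annSheaf hq hft
  haveI : IsProper (J.subschemeι ≫ f) := by
    refine Coherent.isProper_of_isProperOver f hM.2 J.subschemeι ?_
    rw [J.range_subschemeι]
    exact Coherent.support_annSheaf hq hft
  haveI := Coherent.hasInjectiveResolutions_modules J.subscheme
  let G := (Scheme.Modules.pullback J.subschemeι).obj M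
  haveI hG : Coh.IsQCoh G := EGA43.InjFibre.isQCoh_pullback J.subschemeι M
  let g := J.subschemeι ≫ f
  haveI := DCat.hasRpush g
  obtain ⟨N, hN⟩ := SupportAdj.exists_isLE_Rpush g
  let P := (DerivedCategory.singleFunctor J.subscheme.Modules 0).obj G
  have hP : DCoh.IsQCohD P := fun p => by
    by_cases hp : p = 0
    · subst hp
      exact Coherent.isQCoh_of_iso ((DerivedCategory.singleFunctorCompHomologyFunctorIso _ 0).app G).symm (h := hG)
    · rcases lt_or_gt_of_ne hp with hlt | hlt
      · exact Coherent.isQCoh_of_isZero (DerivedCategory.isZero_of_isGE _ 0 p hlt)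
      · exact Coherent.isQCoh_of_isZero (DerivedCategory.isZero_of_isLE _ 0 p hlt)
  haveI := hN P 0 hP inferInstance
  refine ⟨max (0 + N) 0, (DerivedCategory.isLE_iff _ _).2 fun i hi => ?_⟩
  obtain ⟨p, rfl⟩ := Int.eq_ofNat_of_zero_le (show 0 ≤ i by omega)
  obtain ⟨e₁⟩ := nonempty_iso_homology_single (modules_enoughKInj X) (Scheme.Modules.pushforward f) M p
  obtain ⟨e₂⟩ := Coherent.nonempty_rpush_comp_closedImmersion J.subschemeι f G p
  obtain ⟨e₃⟩ := nonempty_iso_homology_single (modules_enoughKInj J.subscheme) (Scheme.Modules.pushforward g) G p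
  exact (DerivedCategory.isZero_of_isLE _ (0 + N) (p : ℤ) (by omega)).of_iso
    (e₁ ≪≫ (e₂ ≪≫ (Coh.Rpush f p).mapIso (Coherent.clIso _ hk).symm).symm ≪≫ e₃.symm)

theorem cohIn_single [DCoh.HasRpush f] {M : X.Modules} (hM : PS f M) :
    WSerre.cohIn (DQCoh.coh S) ((DCoh.Rpush f).obj ((DerivedCategory.singleFunctor X.Modules 0).obj M)) := fun q => by
  haveI : HasInjectiveResolutions X.Modules := Coherent.hasInjectiveResolutions_modules X
  rcases lt_or_ge q 0 with h | h
  · exact (DQCoh.coh_ops S).1 _ (DerivedCategory.isZero_of_isGE _ 0 q h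
      (hX := isGE_totalRightDerived (modules_enoughKInj X) (Scheme.Modules.pushforward f) _ 0))
  · obtain ⟨p, rfl⟩ := Int.eq_ofNat_of_zero_le h
    obtain ⟨e⟩ := nonempty_iso_homology_single (modules_enoughKInj X) (Scheme.Modules.pushforward f) M p
    exact Coherent.isCoh_iso e.symm (Coherent.isCoh_rpush_of_isProperOver f hM.1 hM.2 p)

theorem isGE_Rpush [DCoh.HasRpush f] (K : DCoh.D X) (a : ℤ) [K.IsGE a] : ((DCoh.Rpush f).obj K).IsGE a :=
  isGE_totalRightDerived (modules_enoughKInj X) (Scheme.Modules.pushforward f) K a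

/-- `Rf_*` of a bounded below object with such cohomology is coherent. -/
theorem isCohD_Rpush [DCoh.HasRpush f] (E : DCoh.D X) (a : ℤ) [E.IsGE a] (hE : WSerre.cohIn (PS f) E) :
    DCoh.IsCohD ((DCoh.Rpush f).obj E) := by
  obtain ⟨_, _⟩ := exists_commShift_Rpush f
  exact cohIn_obj_of_boundedBelow (DCoh.Rpush f) (PS f) (DQCoh.coh S) (fun M hM => cohIn_single f hM)
    (fun Z m hZ => isGE_totalRightDerived (modules_enoughKInj X) (Scheme.Modules.pushforward f) Z m) E a hE

/-- `Rf_*` of a bounded object with such cohomology is bounded above. -/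
theorem exists_isLE_Rpush [CompactSpace S] [DCoh.HasRpush f] (E : DCoh.D X) (a b : ℤ) [E.IsGE a] [E.IsLE b]
    (hE : WSerre.cohIn (PS f) E) : ∃ b' : ℤ, ((DCoh.Rpush f).obj E).IsLE b' := by
  obtain ⟨_, _⟩ := exists_commShift_Rpush f
  haveI : IsLocallyNoetherian X := LocallyOfFiniteType.isLocallyNoetherian f
  have hP : ∀ Z : X.Modules, IsZero Z → PS f Z := fun Z hZ => ps_zero f hZ
  let t : Triangulated.TStructure (DCoh.D X) := DerivedCategory.TStructure.t
  let tS : Triangulated.TStructure (DCoh.D S) := DerivedCategory.TStructure.t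
  suffices ∀ (n : ℕ) (Y : DCoh.D X), Y.IsGE a → Y.IsLE (a + n - 1) → WSerre.cohIn (PS f) Y →
      ∃ b', ((DCoh.Rpush f).obj Y).IsLE b' from
    this (b - a + 1).toNat E inferInstance (t.isLE_of_le E b _ (by omega)) hE
  intro n
  induction n with
  | zero =>
    intro Y _ _ _
    exact ⟨0, (DerivedCategory.isLE_iff _ _).2 fun i _ => (DerivedCategory.homologyFunctor S.Modules i).map_isZero
      ((DCoh.Rpush f).map_isZero (WayOut.isZero_of_isGE_of_isLE Y a (a + ((0 : ℕ) : ℤ) - 1) (by omega)))⟩
  | succ n ih =>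
    intro Y _ hle hY
    let c : ℤ := a + n
    obtain ⟨b₁, hb₁⟩ := ih (t.truncLT c |>.obj Y) inferInstance (t.isLE_truncLT_obj _ _ _ (by omega))
      (WayOut.prop_homology_truncLT (PS f) hP Y c hY)
    haveI : Y.IsLE c := t.isLE_of_le Y (a + (n + 1 : ℕ) - 1) _ (by omega)
    obtain ⟨M, ⟨e⟩⟩ := DerivedCategory.exists_iso_singleFunctor_obj_of_isGE_of_isLE (t.truncGE c |>.obj Y) c
    obtain ⟨b₂, hb₂⟩ := exists_isLE_single f (M := M) ((PS f).prop_of_iso
      (((DerivedCategory.homologyFunctor X.Modules c).mapIso e) ≪≫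
        (DerivedCategory.singleFunctorCompHomologyFunctorIso X.Modules c).app M)
      (WayOut.prop_homology_truncGE (PS f) hP Y c hY c))
    haveI : (((DCoh.Rpush f).obj ((DerivedCategory.singleFunctor X.Modules 0).obj M))⟦-c⟧).IsLE (b₂ + c) :=
      tS.isLE_shift _ b₂ (-c) (b₂ + c) (by omega)
    have hb₃ : ((DCoh.Rpush f).obj (t.truncGE c |>.obj Y)).IsLE (b₂ + c) :=
      @Triangulated.TStructure.isLE_of_iso _ _ _ _ _ _ _ tS _ _ ((DCoh.Rpush f).mapIso (e ≪≫ WayOut.singleIso M c) ≪≫
        ((DCoh.Rpush f).commShiftIso (-c)).app _).symm (b₂ + c) ‹_›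
    refine ⟨max b₁ (b₂ + c), ?_⟩
    haveI := hb₁
    haveI := hb₃
    haveI h₁ : ((DCoh.Rpush f).obj (t.truncLT c |>.obj Y)).IsLE (max b₁ (b₂ + c)) :=
      tS.isLE_of_le _ b₁ _ (le_max_left _ _)
    haveI h₃ : ((DCoh.Rpush f).obj (t.truncGE c |>.obj Y)).IsLE (max b₁ (b₂ + c)) :=
      tS.isLE_of_le _ (b₂ + c) _ (le_max_right _ _)
    exact tS.isLE₂ _ ((DCoh.Rpush f).map_distinguished _ (t.triangleLTGE_distinguished c Y)) _ h₁ h₃

end Groth.Agent.Dual22Lib.ProperSuppPush
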