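import Groth.Agent.Dual22Lib.RelTorDim
import Groth.Agent.Dual22Lib.ProjQCoh
import Groth.Agent.Dual22Lib.ProperSuppPush
import Groth.Agent.Dual22Lib.BCSquare
import Groth.Agent.Dual22Lib.SupportAdj
import Groth.Agent.DQCoh.PerfectTor
import Groth.Agent.DQCoh.CohAffineExt
import Groth.Agent.S1001
import Groth.Agent.S1039
import Groth.Agent.S1073

/-!
# `Rf_*` of a coherent object of finite relative tor amplitude is perfect
-/

set_option autoImplicit false
set_option backward.isDefEq.respectTransparency false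
set_option backward.defeqAttrib.useBackward true
set_option linter.style.haveILetI false
set_option synthInstance.maxHeartbeats 100000

universe u

open CategoryTheory CategoryTheory.Limits AlgebraicGeometry
open Groth.Agent.DCat Groth.Agent.DCat.PerfLocal

attribute [local instance] HasDerivedCategory.standard
attribute [-instance] Int.instConditionallyCompleteLinearOrder

namespace Groth.Agent.Dual22Lib.PerfPushTor

variable {X S : Scheme.{u}}

theorem isCompact_of_isProperOver [CompactSpace S] (f : X ⟶ S) {Z : Set X} (h : ClSub.IsProperOver f Z) :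
    IsCompact Z := by
  obtain ⟨hZ, hp⟩ := h
  let i := (Scheme.IdealSheafData.vanishingIdeal ⟨Z, hZ⟩).subschemeι
  haveI : QuasiCompact (i ≫ f) := inferInstance
  haveI : CompactSpace (Scheme.IdealSheafData.vanishingIdeal ⟨Z, hZ⟩).subscheme :=
    QuasiCompact.compactSpace_of_compactSpace (i ≫ f)
  have hr : Set.range i = Z := by
    rw [Scheme.IdealSheafData.range_subschemeι, Scheme.IdealSheafData.coe_support_vanishingIdeal]
    rfl
  exact hr ▸ isCompact_range i.continuous

/-- An object supported in a quasi-compact closed subset comes from a quasi-compact open. -/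
theorem exists_open_rep [IsLocallyNoetherian X] (E : DCoh.D X) (a b : ℤ) (hbd : ∀ i, (i < a ∨ b < i) → IsZero (DCoh.HD E i))
    (hcl : ∀ i, IsClosed (CohB1.support (DCoh.HD E i))) (hc : ∀ i, IsCompact (CohB1.support (DCoh.HD E i))) :
    ∃ (U : X.Opens), IsCompact (U : Set X) ∧
      ∀ [DCoh.HasRpush U.ι], Nonempty (E ≅ (DCoh.Rpush U.ι).obj ((DCoh.restrictD U.ι).obj E)) := by
  classical
  let Z : Set X := ⋃ i ∈ Set.Icc a b, CohB1.support (DCoh.HD E i)
  have hZc : IsCompact Z := (Set.finite_Icc a b).isCompact_biUnion fun i _ => hc i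
  have hZcl : IsClosed Z := (Set.finite_Icc a b).isClosed_biUnion fun i _ => hcl i
  choose W hW hxW _ using fun x : X => exists_isAffineOpen_mem_and_subset (show x ∈ (⊤ : X.Opens) from trivial)
  obtain ⟨t, ht⟩ := hZc.elim_finite_subcover (fun x : X => (W x : Set X)) (fun x => (W x).2)
    (fun x _ => Set.mem_iUnion.2 ⟨x, hxW x⟩)
  let U : X.Opens := ⨆ x ∈ t, W x
  have hU : IsCompact (U : Set X) := by
    simp only [U, TopologicalSpace.Opens.coe_iSup]
    exact t.isCompact_biUnion fun x _ => (hW x).isCompact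
  have hZU : Z ⊆ U := fun x hx => by
    have := ht hx
    simpa [U, TopologicalSpace.Opens.coe_iSup] using this
  refine ⟨U, hU, fun {_} => ?_⟩
  obtain ⟨adj, hadj⟩ := AdjGeom.exists_adj U.ι
  haveI := hadj
  suffices IsIso (adj.unit.app E) from ⟨asIso (adj.unit.app E)⟩
  let V : X.Opens := ⟨Zᶜ, hZcl.isOpen_compl⟩
  have hk₁ : AdjGeom.killed V.ι E := (AdjGeom.killed_iff _ E).2 fun i x hx => by
    rw [Scheme.Opens.opensRange_ι] at hx
    by_cases hi : i ∈ Set.Icc a b
    · exact Classical.byContradiction fun hne => hx (Set.mem_iUnion₂.2 ⟨i, hi, hne⟩)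
    · have h0 : IsZero (DCoh.HD E i) := hbd i (by simp only [Set.mem_Icc, not_and_or, not_le] at hi; omega)
      exact DCat.SuppOpen.subsingleton_of_isZero_stalkFunctor _ x ((DerSch.stalkFunctor X x).map_isZero h0)
  have hk₂ : AdjGeom.killed V.ι ((DCoh.Rpush U.ι).obj ((DCoh.restrictD U.ι).obj E)) :=
    TenLocal.isZero_rd_Rpush U.ι V (by
      exact (RdComp.isZero_rd_comp_iff (U.ι ⁻¹ᵁ V).ι U.ι E).2
        (AdjGeom.killed_mono V.ι _ (by
          rw [Scheme.Hom.opensRange_comp, Scheme.Opens.opensRange_ι, Scheme.Opens.opensRange_ι]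
          exact (U.ι.image_preimage_eq_opensRange_inf _).le.trans inf_le_right) hk₁))
  refine ProjPerf.isIso_of_locally _ fun x => ?_
  by_cases hx : x ∈ Z
  · refine ⟨U, hZU hx, ?_⟩
    exact BCSquare.isIso_of_comp_eq_id (adj.left_triangle_components E)
  · exact ⟨V, hx, ⟨(hk₁.isoZero ≪≫ hk₂.isoZero.symm).inv, hk₁.eq_of_src _ _, hk₂.eq_of_src _ _⟩⟩

/-- The statement of S7256. -/
theorem isPerfect_Rpush [IsNoetherian S] (f : X ⟶ S) [LocallyOfFiniteType f] [DCoh.HasRpush f]
    (F : CochainComplex X.Modules ℤ) (hcoh : DCoh.IsCohD (DCoh.toD X F)) (a₀ b₀ : ℤ)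
    (hbdd : ∀ i : ℤ, (i < a₀ ∨ b₀ < i) → IsZero (DCoh.HD (DCoh.toD X F) i))
    (hsupp : ∀ i : ℤ, ClSub.IsProperOver f (CohB1.support (DCoh.HD (DCoh.toD X F) i)))
    (htor : DerSch.HasFiniteTorAmplitude f F) : DCoh.IsPerfect ((DCoh.Rpush f).obj (DCoh.toD X F)) := by
  haveI : IsLocallyNoetherian X := LocallyOfFiniteType.isLocallyNoetherian f
  obtain ⟨a, b, hF⟩ := htor
  let E := DCoh.toD X F
  haveI : E.IsGE a₀ := (DerivedCategory.isGE_iff _ _).2 fun i hi => hbdd i (Or.inl hi)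
  haveI : E.IsLE b₀ := (DerivedCategory.isLE_iff _ _).2 fun i hi => hbdd i (Or.inr hi)
  obtain ⟨hRc, hRge, b', hRle⟩ := S1001.result f E a₀ b₀ hcoh hsupp
  have hEq : DCoh.IsQCohD E := DQCoh.CohExt.isQCohD_of_isCohD hcoh
  have hRq : DCoh.IsQCohD ((DCoh.Rpush f).obj E) := DQCoh.CohExt.isQCohD_of_isCohD hRc
  obtain ⟨U, hU, hrep⟩ := exists_open_rep E a₀ b₀ hbdd (fun i => (hsupp i).1)
    (fun i => isCompact_of_isProperOver f (hsupp i))
  let j := U.ι
  haveI : CompactSpace (U : Scheme.{u}) := isCompact_iff_compactSpace.1 hU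
  haveI : QuasiCompact j := quasiCompact_of_compactSpace j
  haveI := hasRpush j
  haveI := hasLpull j
  haveI : QuasiCompact (j ≫ f) := quasiCompact_of_compactSpace (j ≫ f)
  haveI : QuasiSeparated (j ≫ f) := inferInstance
  haveI := hasRpush (j ≫ f)
  haveI := hasLpull f
  haveI := hasLpull (j ≫ f)
  obtain ⟨u⟩ := @hrep ‹_›
  obtain ⟨β⟩ := DCat.nonempty_RpushComp j f
  obtain ⟨N, hN⟩ := SupportAdj.exists_isLE_Rpush (j ≫ f)
  let E₁ := (rd j).obj E
  have hE₁ : DCoh.IsQCohD E₁ := AdjGeom.isQCohD_restrictD j hEq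
  let α : (DCoh.Rpush f).obj E ≅ (DCoh.Rpush (j ≫ f)).obj E₁ :=
    (DCoh.Rpush f).mapIso u ≪≫ β.app E₁
  have hpc : ∀ m, DCoh.IsPseudoCoherentD m ((DCoh.Rpush f).obj E) := fun m =>
    (S1039.result S _ hRq m).2 ⟨fun i _ => hRc i, b', hRle⟩
  suffices h : DCoh.HasTorAmplitudeIn a (max a (b + N)) ((DCoh.Rpush f).obj E) from
    DQCoh.isPerfect_of_flatAmp _ a (max a (b + N)) (le_max_left _ _)
      (DCat.flatAmp_of_torAmp (le_max_left _ _) h) (hpc _)
  refine (S1073.result S _ hRq a (max a (b + N)) (le_max_left _ _)).2 fun G hG _ i hi => ?_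
  obtain ⟨P, c, hP, hc⟩ := RelTorDim.exists_resolution G
  haveI := hc
  haveI := LTensorSheaf.hasLTensorCx P
  let M := ((Scheme.Modules.pullback f).mapHomologicalComplex (ComplexShape.up ℤ)).obj P
  haveI := LTensorSheaf.hasLTensorCx M
  have hPq : DCoh.IsQCohD (DCoh.toD S P) := by
    haveI : IsIso (DerivedCategory.Q.map c) := (DerivedCategory.isIso_Q_map_iff_quasiIso _ c).2 hc
    refine DQCoh.isQCohD_of_iso (asIso (DerivedCategory.Q.map c)).symm ?_
    exact DQCoh.isQCohD_of_iso ((DerivedCategory.singleFunctorIsoCompQ S.Modules 0).app G)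
      (fun k => by
        by_cases hk : k = 0
        · subst hk
          exact Coherent.isQCoh_of_iso ((DerivedCategory.singleFunctorCompHomologyFunctorIso S.Modules 0).app G).symm (h := hG)
        · exact Coherent.isQCoh_of_isZero (by
            rcases lt_or_gt_of_ne hk with hk | hk
            · exact DerivedCategory.isZero_of_isGE _ 0 k hk
            · exact DerivedCategory.isZero_of_isLE _ 0 k hk))
  obtain ⟨T⟩ := RelTorDim.nonempty_LTensorMod_iso G hP c ((DCoh.Rpush f).obj E)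
  obtain ⟨M₁, hM₁, ⟨eM⟩, hres⟩ := TenLocal.nonempty_rd_LTensor j M
  haveI := hM₁
  obtain ⟨γ⟩ := BCSquare.nonempty_Lpull_rd j
  obtain ⟨δ⟩ := DCat.nonempty_LpullComp j f
  obtain ⟨π⟩ := ProjQCoh.nonempty_projection_qcoh (j ≫ f) E₁ hE₁ P hPq M₁
    ⟨eM ≪≫ (γ.app _).symm ≪≫ (DCoh.Lpull j).mapIso (PullPerf.lpullIso f hP).symm ≪≫ δ.app (DerivedCategory.Q.obj P)⟩
  obtain ⟨eE⟩ := hres E
  let L := (DCoh.LTensorCx M₁).obj E₁
  have hz : ∀ k, (k < a ∨ b < k) → IsZero (DCoh.HD ((DCoh.LTensorCx M).obj E) k) := fun k hk =>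
    RelTorDim.isZero_HD f F a b hF G hP c k hk
  haveI hge : ((DCoh.LTensorCx M).obj E).IsGE a := (DerivedCategory.isGE_iff _ _).2 fun k hk => hz k (Or.inl hk)
  haveI hle : ((DCoh.LTensorCx M).obj E).IsLE b := (DerivedCategory.isLE_iff _ _).2 fun k hk => hz k (Or.inr hk)
  haveI hLge : L.IsGE a := by
    refine (DerivedCategory.isGE_iff _ _).2 fun k hk => IsZero.of_iso ?_
      ((DerivedCategory.homologyFunctor _ k).mapIso eE.symm)
    exact (Scheme.Modules.restrictFunctor j).map_isZero (hz k (Or.inl hk)) |>.of_iso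
      (DCat.SuppOpen.hdMapIso (Scheme.Modules.restrictFunctor j) _ k)
  haveI hLle : L.IsLE b := by
    refine (DerivedCategory.isLE_iff _ _).2 fun k hk => IsZero.of_iso ?_
      ((DerivedCategory.homologyFunctor _ k).mapIso eE.symm)
    exact (Scheme.Modules.restrictFunctor j).map_isZero (hz k (Or.inr hk)) |>.of_iso
      (DCat.SuppOpen.hdMapIso (Scheme.Modules.restrictFunctor j) _ k)
  have hLq : DCoh.IsQCohD L := by
    refine DQCoh.isQCohD_LTensorCx M₁ ?_ _ hE₁
    exact DQCoh.isQCohD_of_iso (eM ≪≫ (γ.app _).symm ≪≫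
      (DCoh.Lpull j).mapIso (PullPerf.lpullIso f hP).symm).symm
      (DQCoh.isQCohD_Lpull j _ (DQCoh.isQCohD_Lpull f _ hPq))
  haveI : ((DCoh.Rpush (j ≫ f)).obj L).IsGE a := RepLib.isGE_Rpush (j ≫ f) L a
  haveI : ((DCoh.Rpush (j ≫ f)).obj L).IsLE (b + N) := hN L b hLq hLle
  refine IsZero.of_iso ?_ ((DerivedCategory.homologyFunctor S.Modules i).mapIso
    (T ≪≫ (DCoh.LTensorCx P).mapIso α ≪≫ π))
  rcases hi with hi | hi
  · exact DerivedCategory.isZero_of_isGE _ a i hi
  · exact DerivedCategory.isZero_of_isLE _ (b + N) i (by omega)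

end Groth.Agent.Dual22Lib.PerfPushTor
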