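import Groth.Agent.Dual22Lib.LTensorPsc
import Groth.Agent.Dual22Lib.PerfPushTor
import Groth.Agent.FlatCx12.AmpThickRing
import Groth.Agent.DCat.LTensorModule
import Groth.Agent.Coherent.FiniteType
import Groth.Agent.Et18.ProperOver
import Groth.Prelude.Def_DDual2
import Groth.Prelude.Def_ClSub2

/-!
# `Rf_* (E ⊗^L G)` for a perfect `E` and a flat coherent `G` with proper support
-/

set_option autoImplicit false
set_option backward.isDefEq.respectTransparency false
set_option backward.defeqAttrib.useBackward true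
set_option linter.style.haveILetI false
set_option synthInstance.maxHeartbeats 100000

universe u

open CategoryTheory CategoryTheory.Limits AlgebraicGeometry MonoidalCategory HomologicalComplex
open Groth.Agent.DCat Groth.Agent.ModStalk

attribute [local instance] HasDerivedCategory.standard
attribute [-instance] Int.instConditionallyCompleteLinearOrder

namespace Groth.Agent.Dual22Lib.FlatPerfPush

/-- A module flat over the base tensored with a flat module. -/
theorem flat_tensor {R A : Type u} [CommRing R] [CommRing A] [Algebra R A] (G T : Type u) [AddCommGroup G]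
    [AddCommGroup T] [Module A T] [Module A G] [Module R G] [IsScalarTower R A G] [Module.Flat A T]
    [Module.Flat R G] : Module.Flat R (TensorProduct A G T) := by
  refine Module.Flat.iff_lTensor_preserves_injective_linearMap.2 fun N N' _ _ _ _ f hf => ?_
  have h1 : Function.Injective ((TensorProduct.AlgebraTensorModule.lTensor A G f).rTensor T) :=
    Module.Flat.rTensor_preserves_injective_linearMap _ (Module.Flat.lTensor_preserves_injective_linearMap f hf)
  let e := TensorProduct.AlgebraTensorModule.rightComm R A A G T N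
  let e' := TensorProduct.AlgebraTensorModule.rightComm R A A G T N'
  have h2 : ∀ z, e' (LinearMap.lTensor (TensorProduct A G T) f z) =
      (TensorProduct.AlgebraTensorModule.lTensor A G f).rTensor T (e z) := by
    intro z
    induction z using TensorProduct.induction_on with
    | zero => simp
    | tmul gt n =>
      induction gt using TensorProduct.induction_on with
      | zero => simp
      | tmul g t => simp [e, e']
      | add a b ha hb => simp only [TensorProduct.add_tmul, map_add, ha, hb]
    | add a b ha hb => simp [ha, hb]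
  intro a b hab
  exact e.injective (h1 (by rw [← h2, ← h2, hab]))

/-- The same, for objects of the category of modules. -/
theorem flat_restrict_tensor {R R' : Type u} [CommRing R] [CommRing R'] (φ : R →+* R') (T A : ModuleCat.{u} R')
    [Module.Flat R' T] (hA : Module.Flat R ((ModuleCat.restrictScalars.{u} φ).obj A)) :
    Module.Flat R ((ModuleCat.restrictScalars.{u} φ).obj (T ⊗ A)) := by
  letI := φ.toAlgebra
  letI : Module R A := Module.compHom A φ
  haveI : IsScalarTower R R' A := IsScalarTower.of_algebraMap_smul fun _ _ => rfl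
  haveI : Module.Flat R A := hA
  haveI := flat_tensor (R := R) (A := R') A T
  let e : ((ModuleCat.restrictScalars.{u} φ).obj (T ⊗ A)) ≃ₗ[R] TensorProduct R' A T :=
    { toFun := TensorProduct.comm R' T A
      invFun := (TensorProduct.comm R' T A).symm
      left_inv := (TensorProduct.comm R' T A).left_inv
      right_inv := (TensorProduct.comm R' T A).right_inv
      map_add' := fun x y => map_add (TensorProduct.comm R' T A) x y
      map_smul' := fun r x => ((TensorProduct.comm R' T A).map_smul (φ r) x).trans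
        (algebraMap_smul R' r _) }
  exact Module.Flat.of_linearEquiv e

/-- Tensoring with a module flat over the base turns tor amplitude into tor amplitude over the base. -/
theorem amp_tensor {R R' : Type u} [CommRing R] [CommRing R'] (φ : R →+* R') (N : DRing.Cx R')
    (hN : IsKFlatFor (modT R') N) (A : ModuleCat.{u} R')
    (hA : Module.Flat R ((ModuleCat.restrictScalars.{u} φ).obj A)) (a b : ℤ)
    (h : DRing.HasTorAmplitudeIn R' a b (DRing.toD N)) :
    DRing.HasTorAmplitudeIn R a b (DRing.toD (((ModuleCat.restrictScalars.{u} φ).mapHomologicalComplex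
      (ComplexShape.up ℤ)).obj (DRing.tensorCx N A))) := by
  obtain ⟨T, hT, hTf, ⟨e⟩⟩ := h
  haveI := DCat.hasLTensor A
  have hTk : IsKFlatFor (modT R') T := DCat.isKFlatFor_of_vanishesAbove T b (fun n hn => hT n (Or.inr hn)) hTf
  let e₁ : DRing.toD (DRing.tensorCx T A) ≅ DRing.toD (DRing.tensorCx N A) :=
    (DCat.ltensorIso A hTk).symm ≪≫ (DRing.LTensor R' A).mapIso e ≪≫ DCat.ltensorIso A hN
  let r := ModuleCat.restrictScalars.{u} φ
  refine ⟨(r.mapHomologicalComplex (ComplexShape.up ℤ)).obj (DRing.tensorCx T A), fun i hi => ?_, fun i => ?_,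
    ⟨(r.mapDerivedCategoryFactors.app _).symm ≪≫ r.mapDerivedCategory.mapIso e₁ ≪≫
      r.mapDerivedCategoryFactors.app _⟩⟩
  · exact r.map_isZero ((tensorRight A).map_isZero (hT i hi))
  · haveI := hTf i
    exact flat_restrict_tensor φ (T.X i) A hA

variable {X S : Scheme.{u}}

/-- Stalks of a perfect complex locally have bounded tor amplitude. -/
theorem exists_amp_stalk (N : CochainComplex X.Modules ℤ) (hE : DCoh.IsPerfect (DCoh.toD X N)) (x : X) :
    ∃ (V : X.Opens) (a b : ℤ), x ∈ V ∧ ∀ x' ∈ V,
      DRing.HasTorAmplitudeIn (X.presheaf.stalk x') a b (DRing.toD ((stalkK x').obj N)) := by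
  obtain ⟨V, a, b, hx, hV⟩ := ((DQCoh.isPerfect_iff_psc_torDim _).1 hE).2 x
  obtain ⟨C, hC, hCf, ⟨eC⟩⟩ := hV N ⟨Iso.refl _⟩
  refine ⟨V, a, b, hx, fun x' hx' => ?_⟩
  let k := V.ι
  let v : (V : Scheme.{u}) := ⟨x', hx'⟩
  show DRing.HasTorAmplitudeIn (X.presheaf.stalk (k v)) a b (DRing.toD ((stalkK (k v)).obj N))
  let φ := (k.stalkMap v).hom
  let adj := ModuleCat.extendRestrictScalarsAdj.{u, u, u} φ
  haveI : (ModuleCat.restrictScalars.{u} φ).IsEquivalence :=
    (ModuleCat.restrictScalarsEquivalenceOfRingEquiv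
      (RingEquiv.ofBijective φ (ConcreteCategory.bijective_of_isIso (k.stalkMap v)))).isEquivalence_functor
  haveI := adj.isEquivalence_left_of_isEquivalence_right
  haveI := adj.unit_isIso_of_L_fully_faithful
  let F : X.Modules ⥤ ModuleCat.{u} (X.presheaf.stalk (k v)) := DerSch.stalkFunctor X (k v)
  let n : F ≅ Scheme.Modules.restrictFunctor k ⋙ DerSch.stalkFunctor _ v ⋙ ModuleCat.restrictScalars.{u} φ :=
    Functor.isoWhiskerLeft F (asIso adj.unit) ≪≫
      Functor.isoWhiskerRight (ModStalk.pullbackStalkIso k v).symm (ModuleCat.restrictScalars.{u} φ) ≪≫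
      Functor.isoWhiskerRight (Scheme.Modules.restrictFunctorIsoPullback k).symm
        (DerSch.stalkFunctor _ v ⋙ ModuleCat.restrictScalars.{u} φ)
  let σ := DerSch.stalkFunctor (V : Scheme.{u}) v ⋙ ModuleCat.restrictScalars.{u} φ
  refine ⟨(σ.mapHomologicalComplex (ComplexShape.up ℤ)).obj C, fun i hi => σ.map_isZero (hC i hi), fun i => ?_,
    ⟨(σ.mapDerivedCategoryFactors.app C).symm ≪≫ σ.mapDerivedCategory.mapIso eC ≪≫
      σ.mapDerivedCategoryFactors.app _ ≪≫
      DerivedCategory.Q.mapIso ((NatIso.mapHomologicalComplex n (ComplexShape.up ℤ)).app N).symm⟩⟩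
  haveI : Module.Flat _ ((DerSch.stalkFunctor (V : Scheme.{u}) v).obj (C.X i)) := hCf i v
  exact FlatCx12.AmpThickRing.flat_restrict (RingHom.Flat.of_bijective
    (ConcreteCategory.bijective_of_isIso (k.stalkMap v))) _

/-- The statement of S1061. -/
theorem isPerfect_Rpush_LTensorMod [IsNoetherian S] (f : X ⟶ S) [LocallyOfFiniteType f] (E : DCoh.D X)
    (hE : DCoh.IsPerfect E) (G : X.Modules) (hG : Coh.IsCoh G) (hflat : FlatMod.IsFlatOver f G)
    (hsupp : ClSub.IsProperOver f (CohB1.support G)) [DCoh.HasLTensorMod G] [DCoh.HasRpush f] :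
    DCoh.IsPerfect ((DCoh.Rpush f).obj ((DCoh.LTensorMod G).obj E)) := by
  classical
  haveI : IsLocallyNoetherian X := LocallyOfFiniteType.isLocallyNoetherian f
  obtain ⟨N, hN, ⟨eN⟩⟩ := PullPerf.exists_kflat_rep E
  have hNp : DCoh.IsPerfect (DCoh.toD X N) := PCTriangle.perfect_iso eN.symm hE
  let F := ((DCoh.tensorRightMod G).mapHomologicalComplex (ComplexShape.up ℤ)).obj N
  let eF : DCoh.toD X F ≅ (DCoh.LTensorMod G).obj E :=
    (ltensorModIso G hN).symm ≪≫ (DCoh.LTensorMod G).mapIso eN
  refine PCTriangle.perfect_iso ((DCoh.Rpush f).mapIso eF) ?_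
  -- amplitude
  have hz : ∀ x, x ∉ CohB1.support G → ∀ i, IsZero ((DerSch.stalkFunctor X x).obj (F.X i)) := fun x hx i => by
    refine IsZero.of_iso ?_ ((stalkTensorRightModIso G x).app (N.X i))
    haveI : Subsingleton ((DerSch.stalkFunctor X x).obj G) := not_not.1 hx
    exact Functor.map_isZero (MonoidalCategory.tensorLeft ((DerSch.stalkFunctor X x).obj (N.X i)))
      (ModuleCat.isZero_of_subsingleton _)
  have hzamp : ∀ x, x ∉ CohB1.support G → ∀ a b, DerSch.HasTorAmplitudeAt f a b F x := fun x hx a b => by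
    refine ⟨(DerSch.stalkCxOver f x).obj F, fun i _ => (ModuleCat.restrictScalars.{u} (f.stalkMap x).hom).map_isZero (hz x hx i),
      fun i => ?_, ⟨Iso.refl _⟩⟩
    haveI := ModuleCat.subsingleton_of_isZero
      ((ModuleCat.restrictScalars.{u} (f.stalkMap x).hom).map_isZero (hz x hx i))
    exact (inferInstance : Module.Flat (S.presheaf.stalk (f x)) ((ModuleCat.restrictScalars.{u} (f.stalkMap x).hom).obj
      ((DerSch.stalkFunctor X x).obj (F.X i))))
  have hloc : ∀ x, ∃ (V : X.Opens) (a b : ℤ), x ∈ V ∧ ∀ x' ∈ V, DerSch.HasTorAmplitudeAt f a b F x' := fun x => by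
    obtain ⟨V, a, b, hx, hV⟩ := exists_amp_stalk N hNp x
    refine ⟨V, a, b, hx, fun x' hx' => ?_⟩
    obtain ⟨T, hT, hTf, ⟨e⟩⟩ := amp_tensor (f.stalkMap x').hom ((stalkK x').obj N)
      ((isKFlatFor_iff_stalks N).1 hN x') ((DerSch.stalkFunctor X x').obj G) (hflat x') a b (hV x' hx')
    exact ⟨T, hT, hTf, ⟨e ≪≫ DerivedCategory.Q.mapIso
      (((ModuleCat.restrictScalars.{u} (f.stalkMap x').hom).mapHomologicalComplex (ComplexShape.up ℤ)).mapIso
        (stalkTensorModCxIso G x' N).symm)⟩⟩
  choose V A B hxV hV using hloc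
  have hc : IsCompact (CohB1.support G) := PerfPushTor.isCompact_of_isProperOver f hsupp
  obtain ⟨t, ht⟩ := hc.elim_finite_subcover (fun x : X => (V x : Set X)) (fun x => (V x).2)
    (fun x _ => Set.mem_iUnion.2 ⟨x, hxV x⟩)
  obtain ⟨a₀, ha₀⟩ := (t.image A).bddBelow
  obtain ⟨b₀, hb₀⟩ := (t.image B).bddAbove
  have hamp : DerSch.HasTorAmplitude f a₀ b₀ F := fun x => by
    by_cases hx : x ∈ CohB1.support G
    · obtain ⟨y, hy, hxy⟩ := Set.mem_iUnion₂.1 (ht hx)
      obtain ⟨T, hT, hTf, e⟩ := hV y x hxy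
      refine ⟨T, fun i hi => hT i ?_, hTf, e⟩
      have h1 : a₀ ≤ A y := ha₀ (Finset.mem_coe.2 (Finset.mem_image_of_mem A hy))
      have h2 : B y ≤ b₀ := hb₀ (Finset.mem_coe.2 (Finset.mem_image_of_mem B hy))
      omega
    · exact hzamp x hx _ _
  have hb : ∀ i, (i < a₀ ∨ b₀ < i) → IsZero (DCoh.HD (DCoh.toD X F) i) := fun i hi => by
    rw [isZero_HD_toD_iff, ← exactAt_iff_stalks]
    intro x
    obtain ⟨T, hT, -, ⟨e⟩⟩ := hamp x
    have h := (isZero_homology_toD_iff _ i).1 (IsZero.of_iso
      ((isZero_homology_toD_iff T i).2 (HomologicalComplex.ExactAt.of_isZero (hT i hi)))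
      ((DerivedCategory.homologyFunctor _ i).mapIso e.symm))
    rw [HomologicalComplex.exactAt_iff] at h ⊢
    exact (ShortComplex.exact_map_iff_of_faithful _ (ModuleCat.restrictScalars.{u} (f.stalkMap x).hom)).1 h
  -- coherence
  obtain ⟨P, q, hPk, -, hq, hP⟩ := exists_kflat_sheaf_le
    ((HomologicalComplex.single X.Modules (ComplexShape.up ℤ) 0).obj G) 0
    (fun n hn => HomologicalComplex.isZero_single_obj_X _ _ _ _ (by omega))
  haveI := hq
  haveI := LTensorSheaf.hasLTensorCx P
  have hPc : DCoh.IsCohD (DerivedCategory.Q.obj P) := fun j => by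
    refine Coherent.isCoh_iso ((DerivedCategory.homologyFunctor _ j).mapIso
      (asIso (DerivedCategory.Q.map q) ≪≫ ((DerivedCategory.singleFunctorIsoCompQ X.Modules 0).app G).symm)).symm ?_
    by_cases hj : j = 0
    · subst hj
      exact Coherent.isCoh_iso ((DerivedCategory.singleFunctorCompHomologyFunctorIso X.Modules 0).app G).symm hG
    · refine (DQCoh.coh_ops X).1 _ ?_
      rcases lt_or_gt_of_ne hj with hj | hj
      · exact DerivedCategory.isZero_of_isGE _ 0 j hj
      · exact DerivedCategory.isZero_of_isLE _ 0 j hj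
  obtain ⟨T⟩ := RelTorDim.nonempty_LTensorMod_iso G hPk q E
  have hcoh : DCoh.IsCohD (DCoh.toD X F) := fun i =>
    Coherent.isCoh_iso ((DerivedCategory.homologyFunctor _ i).mapIso (T.symm ≪≫ eF.symm))
      (DQCoh.isCohD_LTensor_of_psc P hPk 0 hP hPc E (DQCoh.psc_of_perfect hE) i)
  refine PerfPushTor.isPerfect_Rpush f F hcoh a₀ b₀ hb (fun i => ?_) ⟨a₀, b₀, hamp⟩
  refine Groth.Agent.Et18.IsProperOver.of_subset hsupp ?_ fun x hx => Classical.byContradiction fun hxG => hx ?_
  · exact Coherent.isClosed_support _ (Coherent.locallyFinGen_of_isFT _ (hcoh i).2)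
  · refine DCat.SuppOpen.subsingleton_of_isZero_stalkFunctor _ x (IsZero.of_iso ?_
      ((DerSch.stalkFunctor X x).mapIso ((DerivedCategory.homologyFunctorFactors X.Modules i).app F) ≪≫
        ((F.sc i).mapHomologyIso (DerSch.stalkFunctor X x)).symm))
    exact (exactAt_iff_isZero_homology ((stalkK x).obj F) i).1 (HomologicalComplex.ExactAt.of_isZero (hz x hxG i))

end Groth.Agent.Dual22Lib.FlatPerfPush
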