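import Groth.Agent.Dual22Lib.PerfSupp
import Groth.Agent.DQCoh.PerfectAffine
import Groth.Agent.DCat.TriSum
import Groth.Agent.AffSchLib.TildeExact

/-!
# Compact objects of `D_qc` are perfect
-/

set_option autoImplicit false
set_option backward.isDefEq.respectTransparency false
set_option backward.defeqAttrib.useBackward true
set_option linter.style.haveILetI false
set_option linter.unusedSectionVars false
set_option synthInstance.maxHeartbeats 100000

universe u

open CategoryTheory CategoryTheory.Limits CategoryTheory.Pretriangulated AlgebraicGeometry Opposite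
open Groth.Agent.DCat Groth.Agent.DCat.PerfLocal Groth.Agent.Dual22Lib.AdjGeom
open scoped ZeroObject

attribute [local instance] HasDerivedCategory.standard
attribute [-instance] Int.instConditionallyCompleteLinearOrder

namespace Groth.Agent.Dual22Lib.CompactPerf

variable {X T : Scheme.{u}}

/-- Every map into a coproduct of `qc` objects lands in a finite subsum. -/
def Compact (K : DCoh.D X) : Prop :=
  ∀ (ι : Type u) (L : ι → DCoh.D X) [HasCoproduct L], (∀ i, DCoh.IsQCohD (L i)) → DQCoh.SumFac L K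

theorem subSum_comp_desc {ι : Type u} {C : Type*} [Category C] [Preadditive C] (L L' : ι → C) [HasCoproduct L]
    [HasCoproduct L'] {Y : C} (f : ∀ i, L i ⟶ Y) (p : Y ⟶ Y) (s : Finset ι)
    (h₁ : ∀ i ∈ s, f i ≫ p = f i) (h₂ : ∀ i, i ∉ s → f i ≫ p = 0) :
    DQCoh.subSum L s ≫ Sigma.desc f = Sigma.desc f ≫ p := by
  classical
  refine Sigma.hom_ext _ _ fun i => ?_
  rw [← Category.assoc, DQCoh.ι_subSum, Sigma.ι_desc_assoc]
  split_ifs with hi
  · rw [Sigma.ι_desc, h₁ i hi]
  · rw [zero_comp, h₂ i hi]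

/-- Compactness passes to quasi-compact opens. -/
theorem sumFac_rd (k : T ⟶ X) [IsOpenImmersion k] [QuasiCompact k] {K : DCoh.D X} (hK : Compact K) :
    Compact ((rd k).obj K) := by
  classical
  intro ι L _ hL x
  haveI := DCat.hasRpush k
  haveI : HasCoproducts.{u} (DCoh.D X) := fun J => hasCoproductsOfShape_derived enoughKInj_of_isGrothendieckAbelian J
  obtain ⟨adj, -⟩ := exists_adj k
  haveI := DQCoh.isIso_sigmaDesc_Rpush k L hL
  let Φ := Sigma.desc fun i => (DCoh.Rpush k).map (Sigma.ι L i)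
  let y := adj.homEquiv _ _ x ≫ inv Φ
  obtain ⟨s, hs⟩ := hK ι _ (fun i => DQCoh.isQCohD_Rpush k _ (hL i)) y
  refine ⟨s, (adj.homEquiv _ _).injective ?_⟩
  haveI : (DCoh.Rpush k).PreservesZeroMorphisms := by
    haveI : (DCoh.Rpush k).IsRightAdjoint := adj.isRightAdjoint
    infer_instance
  have e : DQCoh.subSum (fun i => (DCoh.Rpush k).obj (L i)) s ≫ Φ = Φ ≫ (DCoh.Rpush k).map (DQCoh.subSum L s) := by
    refine subSum_comp_desc _ (fun i => (DCoh.Rpush k).obj (L i)) _ _ s (fun i hi => ?_) (fun i hi => ?_)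
    · rw [← Functor.map_comp, DQCoh.ι_subSum, if_pos hi]
    · rw [← Functor.map_comp, DQCoh.ι_subSum, if_neg hi, Functor.map_zero]
  rw [Adjunction.homEquiv_naturality_right]
  have hy : adj.homEquiv _ _ x = y ≫ Φ := by simp [y, Φ]
  rw [hy, Category.assoc, ← e, ← Category.assoc]
  exact congrArg (· ≫ Φ) hs

theorem perfect_spec (A : CommRingCat.{u}) {E : DCoh.D (Spec A)} (hE : DCoh.IsQCohD E) (h : Compact E) :
    DCoh.IsPerfect E := by
  classical
  haveI := AffSchLib.preservesFiniteLimits_tilde A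
  obtain ⟨M, ⟨e⟩⟩ := ((DQCoh.tildeD_main A).2.2 E).1 hE
  refine PCTriangle.perfect_iso e (DQCoh.isPerfect_tildeD ?_)
  refine DCat.perfect_of_cpt fun κ Z c hc x => ?_
  let T := DCoh.tildeD A
  obtain ⟨hfull, hfaith, -⟩ := DQCoh.tildeD_main A
  haveI := hfull
  haveI := hfaith
  haveI := DQCoh.preservesCoproducts_tildeD A κ
  let hc' : IsColimit (Cofan.mk (T.obj c.pt) fun k => T.map (c.inj k)) :=
    (Cofan.isColimitMapCoconeEquiv _ _ _).1 (isColimitOfPreserves T hc)
  haveI : HasCoproduct fun k => T.obj (Z k) := ⟨⟨⟨_, hc'⟩⟩⟩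
  let w := (coproductIsCoproduct fun k => T.obj (Z k)).coconePointUniqueUpToIso hc'
  have hw : ∀ k, Sigma.ι (fun k => T.obj (Z k)) k ≫ w.hom = T.map (c.inj k) := fun k =>
    IsColimit.comp_coconePointUniqueUpToIso_hom (coproductIsCoproduct _) hc' ⟨k⟩
  have hsf : DQCoh.SumFac (fun k => T.obj (Z k)) (T.obj M) :=
    DQCoh.SumFac.of_iso (h κ _ fun k => DQCoh.isQCohD_tildeD _ (Z k)) e.symm
  obtain ⟨z, hz⟩ := (DQCoh.bijective_homSum _ hsf).2 (T.map x ≫ w.inv)
  refine ⟨z.support, fun k => T.preimage (z k), T.map_injective ?_⟩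
  rw [← DirectSum.sum_support_of z, map_sum] at hz
  have h2 := congrArg (· ≫ w.hom) hz
  simp only [Category.assoc, Iso.inv_hom_id, Category.comp_id, Preadditive.sum_comp] at h2
  rw [← h2, T.map_sum]
  refine Finset.sum_congr rfl fun k _ => ?_
  rw [T.map_comp, T.map_preimage, ← hw k, ← Category.assoc]
  congr 1
  simp [PerfAux.homSumToHomCoprod, Preadditive.rightComp]

/-- Compact objects of `D_qc` are perfect. -/
theorem isPerfect_of_compact [QuasiSeparatedSpace X] {K : DCoh.D X} (hKq : DCoh.IsQCohD K) (hK : Compact K) :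
    DCoh.IsPerfect K := by
  refine (PerfLocal.isPerfect_iff _).2 fun x => ?_
  obtain ⟨V, hV, hxV, -⟩ := exists_isAffineOpen_mem_and_subset (x := x) (U := (⊤ : X.Opens)) trivial
  let k := hV.fromSpec
  haveI : CompactSpace (Spec Γ(X, V)) := inferInstance
  haveI : QuasiCompact k := quasiCompact_of_compactSpace k
  haveI := PullPerf.preservesFiniteLimits_restrict k
  exact PerfLocal.isPerfect_of_rd (j := k) K
    (perfect_spec _ (AdjGeom.isQCohD_restrictD k hKq) (sumFac_rd k hK)) x (hV.opensRange_fromSpec.symm ▸ hxV)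

/-- For supported objects only supported families matter. -/
theorem compact_of_supported [QuasiSeparatedSpace X] (O : X.Opens) (hO : IsCompact (O : Set X)) {K : DCoh.D X}
    (hk : killed O.ι K)
    (h : ∀ (ι : Type u) (L : ι → DCoh.D X) [HasCoproduct L],
      (∀ i, DCoh.IsQCohD (L i) ∧ killed O.ι (L i)) → DQCoh.SumFac L K) : Compact K := by
  classical
  intro ι L _ hL α
  haveI : CompactSpace (O : Scheme.{u}) := isCompact_iff_compactSpace.1 hO
  haveI : QuasiCompact O.ι := quasiCompact_of_compactSpace O.ι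
  haveI := DCat.hasRpush O.ι
  haveI := PullPerf.preservesFiniteLimits_restrict O.ι
  haveI : HasCoproducts.{u} (DCoh.D X) := fun J => hasCoproductsOfShape_derived enoughKInj_of_isGrothendieckAbelian J
  haveI : HasCoproducts.{u} (DCoh.D (O : Scheme.{u})) :=
    fun J => hasCoproductsOfShape_derived enoughKInj_of_isGrothendieckAbelian J
  obtain ⟨adj, hadj⟩ := exists_adj O.ι
  haveI := hadj
  let Q := fun i => (DCoh.restrictD O.ι).obj (L i)
  have hQ : ∀ i, DCoh.IsQCohD (Q i) := fun i => AdjGeom.isQCohD_restrictD O.ι (hL i)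
  let η : ∀ i, L i ⟶ (DCoh.Rpush O.ι).obj (Q i) := fun i => adj.unit.app (L i)
  choose C c d hT using fun i => distinguished_cocone_triangle₁ (η i)
  have hC : ∀ i, DCoh.IsQCohD (C i) ∧ killed O.ι (C i) := fun i => by
    refine ⟨DQCoh.isQCohD_obj₃ (inv_rot_of_distTriang _ (inv_rot_of_distTriang _ (hT i)))
      (DQCoh.isQCohD_shift (hL i) (-1)) (DQCoh.isQCohD_shift (DQCoh.isQCohD_Rpush O.ι _ (hQ i)) (-1)), ?_⟩
    haveI : IsIso ((DCoh.restrictD O.ι).map (adj.unit.app (L i))) := by
      rw [show (DCoh.restrictD O.ι).map (adj.unit.app (L i)) = inv (adj.counit.app _) from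
        IsIso.eq_inv_of_inv_hom_id (adj.left_triangle_components (L i))]
      infer_instance
    exact (Triangle.isZero₁_iff_isIso₂ _ ((DCoh.restrictD O.ι).map_distinguished _ (hT i))).2 ‹_›
  have hsum := DCat.coproduct_distinguished (fun i => Triangle.mk (c i) (η i) (d i)) hT
  haveI := DQCoh.isIso_sigmaDesc_Rpush O.ι Q hQ
  have h0 : ∀ z : K ⟶ ∐ fun i => (DCoh.Rpush O.ι).obj (Q i), z = 0 := fun z => by
    rw [← cancel_mono (Sigma.desc fun i => (DCoh.Rpush O.ι).map (Sigma.ι Q i)), zero_comp]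
    exact (adj.homEquiv _ _).symm.injective (IsZero.eq_of_src hk _ _)
  obtain ⟨β, hβ⟩ := Triangle.coyoneda_exact₂ _ hsum α (h0 _)
  obtain ⟨s, hs⟩ := h ι C hC β
  refine ⟨s, ?_⟩
  replace hβ : α = β ≫ Limits.Sigma.map c := hβ
  rw [hβ, Category.assoc]
  conv_rhs => rw [← hs, Category.assoc]
  refine congrArg (β ≫ ·) (Sigma.hom_ext _ _ fun i => ?_)
  rw [Sigma.ι_map_assoc, DQCoh.ι_subSum, ← Category.assoc]; erw [DQCoh.ι_subSum]
  split_ifs
  · simp
  · simp

/-- Surjectivity of the comparison map gives factorisation through finite subsums. -/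
theorem sumFac_of_bijective {ι : Type u} {L : ι → DCoh.D X} [HasCoproduct L] {K : DCoh.D X}
    (h : Function.Bijective (PerfAux.homSumToHomCoprod K L)) : DQCoh.SumFac L K := fun α => by
  classical
  obtain ⟨z, rfl⟩ := h.2 α
  refine ⟨z.support, ?_⟩
  have e : PerfAux.homSumToHomCoprod K L z = ∑ i ∈ z.support, z i ≫ Sigma.ι L i := by
    conv_lhs => rw [← DirectSum.sum_support_of z, map_sum]
    exact Finset.sum_congr rfl fun i _ => by simp [PerfAux.homSumToHomCoprod, Preadditive.rightComp]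
  rw [e, Preadditive.sum_comp]
  refine Finset.sum_congr rfl fun i hi => ?_
  rw [Category.assoc, DQCoh.ι_subSum, if_pos hi]

/-- Supports and being killed. -/
theorem killed_iff_support (O : X.Opens) (E : DCoh.D X) :
    killed O.ι E ↔ ∀ i : ℤ, CohB1.support (DCoh.HD E i) ⊆ (O : Set X)ᶜ := by
  rw [AdjGeom.killed_iff]
  refine forall_congr' fun i => ?_
  simp only [Scheme.Opens.opensRange_ι]
  constructor
  · intro h x hx hxO
    exact hx (h x hxO)
  · intro h x hx
    by_contra hs
    exact h hs hx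

end Groth.Agent.Dual22Lib.CompactPerf
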