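import Groth.Agent.Dual22Lib.XiIso
import Groth.Agent.Dual22Lib.AdjExists
import Groth.Agent.Dual22Lib.CompactPerf
import Groth.Agent.Dual22Lib.PerfGen
import Groth.Agent.DQCoh.PerfectHom
import Groth.Agent.DQCoh.AffinePush
import Groth.Agent.DQCoh.PerfectTor
import Groth.Agent.DCat.PullPerf

/-!
# Right adjoints of `Rf_*` commuting with direct sums, and base change
-/

set_option autoImplicit false
set_option backward.isDefEq.respectTransparency false
set_option backward.defeqAttrib.useBackward true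
set_option linter.style.haveILetI false
set_option linter.unusedSectionVars false
set_option synthInstance.maxHeartbeats 100000

universe u

open CategoryTheory CategoryTheory.Limits CategoryTheory.Pretriangulated AlgebraicGeometry
open Groth.Agent.DCat Groth.Agent.DCat.PerfLocal Groth.Agent.DQCoh Groth.Agent.Dual22Lib.BCSquare

attribute [local instance] HasDerivedCategory.standard
attribute [-instance] Int.instConditionallyCompleteLinearOrder

namespace Groth.Agent.Dual22Lib.SumAdj

variable {X Y X' Y' : Scheme.{u}}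

local instance hasCoproductsD (S : Scheme.{u}) : HasCoproducts.{u} (DCoh.D S) := fun J =>
  hasCoproductsOfShape_derived enoughKInj_of_isGrothendieckAbelian J

/-- The direct sum in `DQCoh`. -/
noncomputable abbrev qsum {ι : Type u} (K : ι → DCoh.DQCoh Y) : DCoh.DQCoh Y :=
  ⟨∐ fun i => (K i).obj, isQCohD_sigma _ fun i => (K i).property⟩

noncomputable abbrev qinj {ι : Type u} (K : ι → DCoh.DQCoh Y) (i : ι) : K i ⟶ qsum K :=
  ObjectProperty.homMk (Sigma.ι (fun i => (K i).obj) i)

/-- The standard cofan of `DQCoh` is a colimit. -/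
noncomputable def qsumIsColimit {ι : Type u} (K : ι → DCoh.DQCoh Y) :
    IsColimit (Cofan.mk (qsum K) (qinj K)) :=
  isColimitOfReflects (ObjectProperty.ι _)
    ((Cofan.isColimitMapCoconeEquiv (ObjectProperty.ι _) _ _).symm (coproductIsCoproduct fun i => (K i).obj))

instance hasCoproductsQ (S : Scheme.{u}) : HasCoproducts.{u} (DCoh.DQCoh S) := fun J =>
  ⟨fun F => haveI : HasColimit (Discrete.functor (F.obj ∘ Discrete.mk)) := ⟨⟨⟨_, qsumIsColimit (F.obj ∘ Discrete.mk)⟩⟩⟩
    hasColimit_of_iso Discrete.natIsoFunctor⟩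

/-- A functor on `DQCoh` commutes with direct sums. -/
def PS (a : DCoh.DQCoh Y ⥤ DCoh.DQCoh X) : Prop :=
  ∀ (ι : Type u) (K : ι → DCoh.DQCoh Y), IsIso (Sigma.desc fun i => (a.map (qinj K i)).hom)

/-- `Rf_*` preserves perfect objects. -/
def PP (f : X ⟶ Y) : Prop :=
  ∀ [DCoh.HasRpush f] (P : DCoh.D X), DCoh.IsPerfect P → DCoh.IsPerfect ((DCoh.Rpush f).obj P)

theorem isQCohD_perfect' {P : DCoh.D X} (hP : DCoh.IsPerfect P) : DCoh.IsQCohD P := PerfLift.isQCohD_perfect hP

section Adj

variable (f : X ⟶ Y) [DCoh.HasRpush f] {hf : DCoh.RpushPreservesQCoh f}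
  {a : DCoh.DQCoh Y ⥤ DCoh.DQCoh X}

theorem map_sum_hom {P : DCoh.DQCoh X} {M : DCoh.DQCoh Y} (adj : DCoh.RpushQ f hf ⊣ a) {ι : Type u}
    (s : Finset ι) (z : ι → (P ⟶ a.obj M)) (x : P.obj ⟶ (a.obj M).obj) (hx : x = ∑ i ∈ s, (z i).hom) :
    (DCoh.Rpush f).map x ≫ (adj.counit.app M).hom = ∑ i ∈ s, ((adj.homEquiv _ _).symm (z i)).hom := by
  obtain ⟨_, _⟩ := exists_commShift_Rpush f
  subst hx
  rw [Functor.map_sum, Preadditive.sum_comp]
  refine Finset.sum_congr rfl fun i _ => ?_
  rw [adj.homEquiv_counit]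
  rfl

theorem sum_transpose {P : DCoh.DQCoh X} {ι : Type u} (K : ι → DCoh.DQCoh Y) (adj : DCoh.RpushQ f hf ⊣ a)
    (s : Finset ι) (z : ∀ i, P ⟶ a.obj (K i)) :
    (DCoh.Rpush f).map (∑ i ∈ s, (z i ≫ a.map (qinj K i)).hom) ≫ (adj.counit.app (qsum K)).hom =
      ∑ i ∈ s, ((adj.homEquiv _ _).symm (z i)).hom ≫ Sigma.ι (fun i => (K i).obj) i := by
  rw [map_sum_hom f adj s (fun i => z i ≫ a.map (qinj K i)) _ rfl]
  refine Finset.sum_congr rfl fun i _ => ?_
  rw [adj.homEquiv_naturality_right_symm]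
  rfl

theorem exists_finite_sum {P : DCoh.D X} [CompactSpace X] [QuasiSeparatedSpace X] (hP : DCoh.IsPerfect P)
    {ι : Type u} (L : ι → DCoh.D X) (hL : ∀ i, DCoh.IsQCohD (L i)) (x : P ⟶ ∐ L) :
    ∃ (s : Finset ι) (z : ∀ i, P ⟶ L i), x = ∑ i ∈ s, z i ≫ Sigma.ι L i := by
  classical
  obtain ⟨z, rfl⟩ := (isCompactObjRel_perfect P hP ι L hL).2 x
  refine ⟨z.support, fun i => z i, ?_⟩
  conv_lhs => rw [← DirectSum.sum_support_of z]
  rw [map_sum]
  refine Finset.sum_congr rfl fun i _ => ?_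
  simp [PerfAux.homSumToHomCoprod, Preadditive.rightComp]

theorem coord_sum {C : Type*} [Category C] [Preadditive C] {ι : Type u} (L : ι → C) [HasCoproduct L] {P : C}
    [DecidableEq ι] (s : Finset ι) (z : ∀ i, P ⟶ L i) (j : ι) :
    (∑ i ∈ s, z i ≫ Sigma.ι L i) ≫ coord L j = if j ∈ s then z j else 0 := by
  rw [Preadditive.sum_comp]
  simp only [Category.assoc, coord]
  split_ifs with h
  · rw [Finset.sum_eq_single j]
    · simp
    · intro i _ hi
      simp [hi]
    · exact fun h' => absurd h h'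
  · refine Finset.sum_eq_zero fun i hi => ?_
    have : i ≠ j := fun e => h (e ▸ hi)
    simp [this]

/-- A right adjoint commuting with sums makes `Rf_*` preserve perfect objects. -/
theorem pp_of_ps [CompactSpace X] [QuasiSeparatedSpace X] [QuasiSeparatedSpace Y]
    (adj : DCoh.RpushQ f hf ⊣ a) (h : PS a) : PP f := by
  classical
  intro _ P hP
  haveI : QuasiCompact f := quasiCompact_of_compactSpace f
  haveI : QuasiSeparated f := inferInstance
  have hPq := isQCohD_perfect' hP
  refine CompactPerf.isPerfect_of_compact (hf P hPq) fun ι L _ hL α => ?_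
  let K : ι → DCoh.DQCoh Y := fun i => ⟨L i, hL i⟩
  let P' : DCoh.DQCoh X := ⟨P, hPq⟩
  haveI := h ι K
  let β : P' ⟶ a.obj (qsum K) :=
    adj.homEquiv _ _ (show (DCoh.RpushQ f hf).obj P' ⟶ qsum K from ObjectProperty.homMk α)
  let w := Sigma.desc fun i => (a.map (qinj K i)).hom
  obtain ⟨s, z, hz⟩ := exists_finite_sum hP (fun i => (a.obj (K i)).obj) (fun i => (a.obj (K i)).property)
    (β.hom ≫ inv w)
  have hβ : β.hom = ∑ i ∈ s, ((show P' ⟶ a.obj (K i) from ObjectProperty.homMk (z i)) ≫ a.map (qinj K i)).hom := by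
    have h1 := congrArg (· ≫ w) hz
    simp only [Category.assoc, IsIso.inv_hom_id, Category.comp_id] at h1
    rw [h1, Preadditive.sum_comp]
    refine Finset.sum_congr rfl fun i _ => ?_
    simp [w]
  have hα : α = (DCoh.Rpush f).map β.hom ≫ (adj.counit.app (qsum K)).hom := by
    have h1 := congrArg (fun t : (DCoh.RpushQ f hf).obj P' ⟶ qsum K => t.hom)
      ((adj.homEquiv P' (qsum K)).symm_apply_apply (ObjectProperty.homMk α))
    rw [adj.homEquiv_counit] at h1
    exact h1.symm
  rw [hβ, sum_transpose f K adj s] at hα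
  refine ⟨s, ?_⟩
  rw [hα]
  erw [Preadditive.sum_comp]
  refine Finset.sum_congr rfl fun i hi => ?_
  rw [Category.assoc, DQCoh.ι_subSum, if_pos hi]

/-- If `Rf_*` preserves perfect objects, its right adjoint commutes with sums. -/
theorem ps_of_pp [CompactSpace X] [QuasiSeparatedSpace X] [CompactSpace Y] [QuasiSeparatedSpace Y]
    (adj : DCoh.RpushQ f hf ⊣ a) (h : PP f) : PS a := by
  classical
  intro ι K
  let w := Sigma.desc fun i => (a.map (qinj K i)).hom
  have hsrc : DCoh.IsQCohD (∐ fun i => (a.obj (K i)).obj) := isQCohD_sigma _ fun i => (a.obj (K i)).property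
  haveI : IsEmpty ((⊥ : X.Opens) : Scheme.{u}) := ⟨fun x => x.2⟩
  obtain ⟨G, hG, -, hd⟩ := PerfGen.gen (X := X) ⊥ (by simp)
  have key : ∀ Q : DCoh.D X, DCoh.IsPerfect Q → Function.Bijective fun x : Q ⟶ _ => x ≫ w := by
    intro Q hQ
    let Q' : DCoh.DQCoh X := ⟨Q, isQCohD_perfect' hQ⟩
    have hT : ∀ (s : Finset ι) (z : ∀ i, Q ⟶ (a.obj (K i)).obj),
        (DCoh.Rpush f).map ((∑ i ∈ s, z i ≫ Sigma.ι (fun i => (a.obj (K i)).obj) i) ≫ w) ≫
            (adj.counit.app (qsum K)).hom =
          ∑ i ∈ s, ((adj.homEquiv Q' (K i)).symm (ObjectProperty.homMk (z i))).hom ≫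
            Sigma.ι (fun i => (K i).obj) i := by
      intro s z
      rw [← sum_transpose f K adj s, Preadditive.sum_comp]
      congr 2
      refine Finset.sum_congr rfl fun i _ => ?_
      simp [w]
    constructor
    · intro x x' hxx
      refine sub_eq_zero.1 ?_
      obtain ⟨s, z, hz⟩ := exists_finite_sum hQ _ (fun i => (a.obj (K i)).property) (x - x')
      have h0 : (x - x') ≫ w = 0 := by
        rw [Preadditive.sub_comp, sub_eq_zero]
        exact hxx
      obtain ⟨_, _⟩ := exists_commShift_Rpush f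
      rw [hz] at h0
      have h1 := hT s z
      rw [h0, Functor.map_zero, zero_comp] at h1
      rw [hz]
      refine Finset.sum_eq_zero fun j hj => ?_
      have h2 := congrArg (· ≫ coord (fun i => (K i).obj) j) h1
      simp only [zero_comp] at h2
      rw [coord_sum, if_pos hj] at h2
      have h3 : (adj.homEquiv Q' (K j)).symm (ObjectProperty.homMk (z j)) =
          (adj.homEquiv Q' (K j)).symm 0 := by
        refine ObjectProperty.hom_ext _ (h2.symm.trans ?_)
        rw [adj.homEquiv_counit]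
        show 0 = (DCoh.Rpush f).map 0 ≫ _
        rw [Functor.map_zero, zero_comp]
      have h4 := congrArg InducedCategory.Hom.hom ((adj.homEquiv Q' (K j)).symm.injective h3)
      rw [show z j = 0 from h4, zero_comp]
    · intro y
      let y' : Q' ⟶ a.obj (qsum K) := ObjectProperty.homMk y
      obtain ⟨s, z, hz⟩ := exists_finite_sum (P := (DCoh.Rpush f).obj Q) (h Q hQ) _ (fun i => (K i).property)
        ((adj.homEquiv _ _).symm y').hom
      let z' : ∀ i, Q' ⟶ a.obj (K i) := fun i =>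
        adj.homEquiv Q' (K i) (show (DCoh.RpushQ f hf).obj Q' ⟶ K i from ObjectProperty.homMk (z i))
      refine ⟨∑ i ∈ s, (z' i).hom ≫ Sigma.ι (fun i => (a.obj (K i)).obj) i, ?_⟩
      show _ ≫ w = y'.hom
      let x' : Q' ⟶ a.obj (qsum K) :=
        ObjectProperty.homMk ((∑ i ∈ s, (z' i).hom ≫ Sigma.ι (fun i => (a.obj (K i)).obj) i) ≫ w)
      suffices x' = y' from congrArg InducedCategory.Hom.hom this
      refine (adj.homEquiv _ _).symm.injective (ObjectProperty.hom_ext _ ?_)
      rw [hz, adj.homEquiv_counit]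
      refine (hT s _).trans (Finset.sum_congr rfl fun i _ => ?_)
      simp only [z']
      erw [Equiv.symm_apply_apply]
      rfl
  obtain ⟨C, v, t, hTr⟩ := distinguished_cocone_triangle w
  have hC : DCoh.IsQCohD C := isQCohD_obj₃ hTr hsrc (a.obj (qsum K)).property
  refine (Triangle.isZero₃_iff_isIso₁ _ hTr).1 (hd C hC ((AdjGeom.killed_iff _ C).2 fun i x hx => by
    rw [Scheme.Opens.opensRange_ι] at hx
    exact hx.elim) fun n φ => ?_)
  have hGn := PCTriangle.perfect_shift hG n
  have h1 : φ ≫ t = 0 := by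
    obtain ⟨m, hm⟩ := (shiftFunctor (DCoh.D X) (1 : ℤ)).map_surjective
      (((shiftFunctorCompIsoId (DCoh.D X) (-1 : ℤ) 1 (by omega)).app (G⟦n⟧)).hom ≫ φ ≫ t)
    have hmw : m ≫ w = 0 := by
      apply (shiftFunctor (DCoh.D X) (1 : ℤ)).map_injective
      rw [Functor.map_comp, hm, Category.assoc, Category.assoc, Functor.map_zero]
      erw [comp_distTriang_mor_zero₃₁ _ hTr]
      simp
    have hm0 : m = 0 := (key _ (PCTriangle.perfect_shift hGn (-1))).1 (hmw.trans zero_comp.symm)
    rw [hm0, Functor.map_zero] at hm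
    rw [← cancel_epi ((shiftFunctorCompIsoId (DCoh.D X) (-1 : ℤ) 1 (by omega)).app (G⟦n⟧)).hom, ← hm, comp_zero]
  obtain ⟨y, hy⟩ := Triangle.coyoneda_exact₃ _ hTr φ h1
  obtain ⟨x, hx⟩ := (key _ hGn).2 y
  rw [hy, ← hx]
  erw [Category.assoc, comp_distTriang_mor_zero₁₂ _ hTr]
  simp

/-- From the hypothesis on direct sums in `DQCoh`. -/
theorem ps_of_isIso (hsum : ∀ {ι : Type u} (K : ι → DCoh.DQCoh Y) [HasCoproduct K]
    [HasCoproduct fun i => a.obj (K i)], IsIso (Sigma.desc fun i => a.map (Sigma.ι K i))) : PS a := by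
  intro ι K
  haveI := hsum K
  let c := (qsumIsColimit K).coconePointUniqueUpToIso (coproductIsCoproduct K)
  let c' := (qsumIsColimit fun i => a.obj (K i)).coconePointUniqueUpToIso (coproductIsCoproduct fun i => a.obj (K i))
  have e : (Sigma.desc fun i => (a.map (qinj K i)).hom) =
      (ObjectProperty.ι _).map (c'.hom ≫ Sigma.desc (fun i => a.map (Sigma.ι K i)) ≫ a.map c.inv) := by
    refine Sigma.hom_ext _ _ fun i => ?_
    rw [Sigma.ι_desc]
    have h1 : qinj (fun i => a.obj (K i)) i ≫ c'.hom = Sigma.ι (fun i => a.obj (K i)) i :=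
      IsColimit.comp_coconePointUniqueUpToIso_hom (qsumIsColimit fun i => a.obj (K i)) (coproductIsCoproduct _) ⟨i⟩
    have h2 : Sigma.ι K i ≫ c.inv = qinj K i :=
      IsColimit.comp_coconePointUniqueUpToIso_inv (qsumIsColimit K) (coproductIsCoproduct _) ⟨i⟩
    refine Eq.trans ?_ (Functor.map_comp (ObjectProperty.ι _) (qinj (fun i => a.obj (K i)) i) _)
    rw [reassoc_of% h1, Sigma.ι_desc_assoc, ← a.map_comp, h2]
    rfl
  rw [e]
  infer_instance

/-- To the direct sums in `DQCoh`. -/
theorem isIso_of_ps (h : PS a) {ι : Type u} (K : ι → DCoh.DQCoh Y) [HasCoproduct K]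
    [HasCoproduct fun i => a.obj (K i)] : IsIso (Sigma.desc fun i => a.map (Sigma.ι K i)) := by
  haveI := h ι K
  let c := (qsumIsColimit K).coconePointUniqueUpToIso (coproductIsCoproduct K)
  let c' := (qsumIsColimit fun i => a.obj (K i)).coconePointUniqueUpToIso (coproductIsCoproduct fun i => a.obj (K i))
  have e : (ObjectProperty.ι _).map (c'.hom ≫ Sigma.desc (fun i => a.map (Sigma.ι K i)) ≫ a.map c.inv) =
      (Sigma.desc fun i => (a.map (qinj K i)).hom) := by
    refine Sigma.hom_ext _ _ fun i => ?_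
    rw [Sigma.ι_desc]
    have h1 : qinj (fun i => a.obj (K i)) i ≫ c'.hom = Sigma.ι (fun i => a.obj (K i)) i :=
      IsColimit.comp_coconePointUniqueUpToIso_hom (qsumIsColimit fun i => a.obj (K i)) (coproductIsCoproduct _) ⟨i⟩
    have h2 : Sigma.ι K i ≫ c.inv = qinj K i :=
      IsColimit.comp_coconePointUniqueUpToIso_inv (qsumIsColimit K) (coproductIsCoproduct _) ⟨i⟩
    refine Eq.trans (Functor.map_comp (ObjectProperty.ι _) (qinj (fun i => a.obj (K i)) i) _).symm ?_
    rw [reassoc_of% h1, Sigma.ι_desc_assoc, ← a.map_comp, h2]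
    rfl
  haveI : IsIso ((ObjectProperty.ι _).map (c'.hom ≫ Sigma.desc (fun i => a.map (Sigma.ι K i)) ≫ a.map c.inv)) :=
    e ▸ ‹_›
  haveI := isIso_of_reflects_iso (c'.hom ≫ Sigma.desc (fun i => a.map (Sigma.ι K i)) ≫ a.map c.inv)
    (ObjectProperty.ι _)
  rwa [isIso_comp_left_iff, isIso_comp_right_iff] at this

end Adj

section Step

variable {f : X ⟶ Y} {g : Y' ⟶ Y} {f' : X' ⟶ Y'} {g' : X' ⟶ X}

/-- Preservation of perfect objects passes along a base change with conservative `Rg'_*`. -/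
theorem pp_step [CompactSpace X] [QuasiSeparatedSpace X] [CompactSpace Y] [QuasiSeparatedSpace Y]
    [CompactSpace X'] [QuasiSeparatedSpace X'] [CompactSpace Y'] [QuasiSeparatedSpace Y']
    (w : g' ≫ f = f' ≫ g) (hgood : Good f g f' g')
    (hcons : ∀ [DCoh.HasRpush g'] {E F : DCoh.D X'}, DCoh.IsQCohD E → DCoh.IsQCohD F → ∀ α : E ⟶ F,
      IsIso ((DCoh.Rpush g').map α) → IsIso α)
    (h : PP f) : PP f' := by
  haveI : QuasiCompact g := quasiCompact_of_compactSpace g
  haveI : QuasiCompact g' := quasiCompact_of_compactSpace g'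
  haveI : QuasiCompact f := quasiCompact_of_compactSpace f
  haveI : QuasiCompact f' := quasiCompact_of_compactSpace f'
  haveI := hasRpush f
  haveI := hasRpush g
  haveI := hasRpush f'
  haveI := hasRpush g'
  haveI := hasLpull g
  haveI := hasLpull g'
  have hf : DCoh.RpushPreservesQCoh f := fun K hK => isQCohD_Rpush f K hK
  have hf' : DCoh.RpushPreservesQCoh f' := fun K hK => isQCohD_Rpush f' K hK
  have hg : DCoh.RpushPreservesQCoh g := fun K hK => isQCohD_Rpush g K hK
  have hg' : DCoh.RpushPreservesQCoh g' := fun K hK => isQCohD_Rpush g' K hK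
  haveI : (DCoh.RpushQ f hf).IsLeftAdjoint := AdjGeom.isLeftAdjoint_RpushQ f hf
  haveI : (DCoh.RpushQ f' hf').IsLeftAdjoint := AdjGeom.isLeftAdjoint_RpushQ f' hf'
  let adj := Adjunction.ofIsLeftAdjoint (DCoh.RpushQ f hf)
  let adj' := Adjunction.ofIsLeftAdjoint (DCoh.RpushQ f' hf')
  obtain ⟨adjg, adjg', e, he⟩ := XiIso.exists_bcQ (hf := hf) (hf' := hf') (hg := hg) (hg' := hg')
    (XiIso.lpullPreservesQCoh g) (XiIso.lpullPreservesQCoh g') w hgood
  haveI := he
  haveI : IsIso (BCAlg.bc adjg adjg' e) := NatIso.isIso_of_isIso_app _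
  let θ := asIso (conjugateEquiv (adjg'.comp adj') (adj.comp adjg) (BCAlg.bc adjg adjg' e))
  have hPS := ps_of_pp f adj h
  suffices hps : PS (DCoh.RpushQ f' hf').rightAdjoint by
    intro _ P hP
    exact pp_of_ps f' adj' hps P hP
  intro ι K
  let a := (DCoh.RpushQ f hf).rightAdjoint
  let a' := (DCoh.RpushQ f' hf').rightAdjoint
  let w' := Sigma.desc fun i => (a'.map (qinj K i)).hom
  refine hcons (isQCohD_sigma _ fun i => (a'.obj (K i)).property) (a'.obj (qsum K)).property w' ?_
  haveI := isIso_sigmaDesc_Rpush g' (fun i => (a'.obj (K i)).obj) fun i => (a'.obj (K i)).property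
  haveI := isIso_sigmaDesc_Rpush g (fun i => (K i).obj) fun i => (K i).property
  let RK : ι → DCoh.DQCoh Y := fun i => (DCoh.RpushQ g hg).obj (K i)
  haveI := hPS ι RK
  let Ψ : qsum RK ⟶ (DCoh.RpushQ g hg).obj (qsum K) :=
    ObjectProperty.homMk (Sigma.desc fun i => (DCoh.Rpush g).map (Sigma.ι (fun i => (K i).obj) i))
  haveI : IsIso Ψ := by
    haveI : IsIso ((ObjectProperty.ι _).map Ψ) :=
      inferInstanceAs (IsIso (Sigma.desc fun i => (DCoh.Rpush g).map (Sigma.ι (fun i => (K i).obj) i)))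
    exact isIso_of_reflects_iso Ψ (ObjectProperty.ι _)
  have key : Sigma.desc (fun i => (DCoh.Rpush g').map (Sigma.ι (fun i => (a'.obj (K i)).obj) i)) ≫
      (DCoh.Rpush g').map w' =
      Limits.Sigma.map (fun i => (θ.hom.app (K i)).hom) ≫ (Sigma.desc fun i => (a.map (qinj RK i)).hom) ≫
        (a.map Ψ).hom ≫ (θ.inv.app (qsum K)).hom := by
    refine Sigma.hom_ext _ _ fun i => ?_
    rw [Sigma.ι_desc_assoc, ← Functor.map_comp, Sigma.ι_desc, Sigma.ι_map_assoc, Sigma.ι_desc_assoc]
    have h1 : (θ.hom.app (K i)).hom ≫ (a.map ((DCoh.RpushQ g hg).map (qinj K i))).hom =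
        (DCoh.Rpush g').map (a'.map (qinj K i)).hom ≫ (θ.hom.app (qsum K)).hom :=
      (congrArg InducedCategory.Hom.hom (θ.hom.naturality (qinj K i))).symm
    have h2 : qinj RK i ≫ Ψ = (DCoh.RpushQ g hg).map (qinj K i) :=
      ObjectProperty.hom_ext _ (Sigma.ι_desc _ _)
    have h3 : (a.map (qinj RK i)).hom ≫ (a.map Ψ).hom = (a.map ((DCoh.RpushQ g hg).map (qinj K i))).hom := by
      rw [← h2, a.map_comp]
      rfl
    erw [reassoc_of% h3, reassoc_of% h1]
    have h4 : (θ.hom.app (qsum K)).hom ≫ (θ.inv.app (qsum K)).hom = 𝟙 _ :=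
      congrArg InducedCategory.Hom.hom (θ.hom_inv_id_app (qsum K))
    erw [h4, Category.comp_id]
  haveI : IsIso (Limits.Sigma.map fun i => (θ.hom.app (K i)).hom) := by
    haveI : ∀ i, IsIso (θ.hom.app (K i)).hom := fun i =>
      inferInstanceAs (IsIso ((ObjectProperty.ι _).map (θ.hom.app (K i))))
    infer_instance
  haveI : IsIso (a.map Ψ).hom := inferInstanceAs (IsIso ((ObjectProperty.ι _).map (a.map Ψ)))
  haveI : IsIso (θ.inv.app (qsum K)).hom := inferInstanceAs (IsIso ((ObjectProperty.ι _).map (θ.inv.app (qsum K))))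
  exact @IsIso.of_isIso_comp_left _ _ _ _ _ _ _ inferInstance (by
    rw [key]
    exact @IsIso.comp_isIso _ _ _ _ _ _ _ inferInstance (@IsIso.comp_isIso _ _ _ _ _ _ _ (hPS ι RK)
      (@IsIso.comp_isIso _ _ _ _ _ _ _ inferInstance inferInstance)))

end Step

/-- Tor-independent base change preserves the commutation of the right adjoint with sums. -/
theorem pp_baseChange [CompactSpace X] [QuasiSeparatedSpace X] [CompactSpace Y] [QuasiSeparatedSpace Y]
    [CompactSpace X'] [QuasiSeparatedSpace X'] [CompactSpace Y'] [QuasiSeparatedSpace Y']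
    {f : X ⟶ Y} {g : Y' ⟶ Y} {f' : X' ⟶ Y'} {g' : X' ⟶ X} (hsq : IsPullback g' f' f g)
    (htor : BCMain.TorInd f g) (h : PP f) : PP f' := by
  haveI : QuasiCompact f := quasiCompact_of_compactSpace f
  haveI : QuasiCompact f' := quasiCompact_of_compactSpace f'
  intro _ P hP
  refine DQCoh.isPerfect_of_local _ fun y => ?_
  obtain ⟨U, hU, hgy, -⟩ := exists_isAffineOpen_mem_and_subset (show g y ∈ (⊤ : Y.Opens) from trivial)
  obtain ⟨U', hU', hy, hle⟩ := exists_isAffineOpen_mem_and_subset (show y ∈ g ⁻¹ᵁ U from hgy)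
  let a := hU.fromSpec
  let b := hU'.fromSpec
  let φ := g.appLE U U' hle
  have hw : Spec.map φ ≫ a = b ≫ g := IsAffineOpen.SpecMap_appLE_fromSpec g hU hU' hle
  have hU0 := IsPullback.of_hasPullback f a
  let aX := pullback.fst f a
  let fU := pullback.snd f a
  haveI : QuasiCompact a := quasiCompact_of_compactSpace a
  haveI : CompactSpace (pullback f a : Scheme.{u}) := QuasiCompact.compactSpace_of_compactSpace fU
  haveI : QuasiSeparatedSpace (pullback f a : Scheme.{u}) := quasiSeparatedSpace_of_quasiSeparated fU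
  haveI : QuasiCompact aX := quasiCompact_of_compactSpace aX
  have h1 : PP fU := pp_step hU0.w
    (BCMain.good_of_flat f a hU0 (Or.inr inferInstance))
    (fun {_} {E F} _ _ α hα => by
      obtain ⟨hfull, hfaith⟩ := full_faithful_Rpush aX
      haveI := hfull
      haveI := hfaith
      haveI := hα
      exact isIso_of_reflects_iso α (DCoh.Rpush aX)) h
  have hH := IsPullback.of_hasPullback fU (Spec.map φ)
  let hX := pullback.fst fU (Spec.map φ)
  let f'' := pullback.snd fU (Spec.map φ)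
  haveI : QuasiCompact fU := quasiCompact_of_compactSpace fU
  haveI : CompactSpace (pullback fU (Spec.map φ) : Scheme.{u}) := QuasiCompact.compactSpace_of_compactSpace f''
  haveI : QuasiSeparatedSpace (pullback fU (Spec.map φ) : Scheme.{u}) := quasiSeparatedSpace_of_quasiSeparated f''
  haveI : IsAffineHom hX := MorphismProperty.pullback_fst _ _ inferInstance
  have h2 : PP f'' := pp_step hH.w
    (fun _ _ _ _ _ _ a₁ a₂ e₁ E hE => BCMain.goodSrc_qcqs _ _ _ _ _ _ _ hH
      (BCTor.torSrc_pullback_of_appLE f hU φ (fun V hV hV' => htor U hU U' hU' hle V hV hV') pullback.condition)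
      inferInstance inferInstance inferInstance inferInstance inferInstance inferInstance a₁ a₂ e₁ E hE)
    (fun {_} {E F} hE hF α hα => DQCoh.isIso_of_isIso_Rpush hX hE hF α hα) h1
  have houter : IsPullback (hX ≫ aX) f'' f (b ≫ g) := hw ▸ hH.paste_horiz hU0
  let bX := hsq.lift (hX ≫ aX) (f'' ≫ b) (by
    rw [Category.assoc, hU0.w, ← Category.assoc, hH.w]; simp [hw, φ, b, a, f''])
  have hbX : IsPullback bX f'' f' b := IsPullback.of_right' houter hsq
  haveI : IsOpenImmersion bX := MorphismProperty.of_isPullback hbX.flip inferInstance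
  haveI := hasRpush b
  haveI := hasRpush bX
  haveI := hasRpush f''
  haveI := hasLpull b
  haveI := hasLpull bX
  obtain ⟨ab⟩ := nonempty_pullPushAdj b
  obtain ⟨abX⟩ := nonempty_pullPushAdj bX
  obtain ⟨eb⟩ := exists_e hbX.w
  haveI := good_of_open hbX inferInstance inferInstance inferInstance inferInstance inferInstance inferInstance
    ab abX eb P (isQCohD_perfect' hP)
  obtain ⟨β⟩ := nonempty_Lpull_rd b
  refine ⟨_, b, inferInstance, by rw [IsAffineOpen.opensRange_fromSpec]; exact hy, ?_⟩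
  exact PCTriangle.perfect_iso ((asIso ((BCAlg.bc ab abX eb).app P)).symm ≪≫ β.app _)
    (h2 _ (PullPerf.isPerfect_Lpull bX P hP))

end Groth.Agent.Dual22Lib.SumAdj
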