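import Groth.Agent.Dual22Lib.RelTorDim
import Groth.Agent.DCat.LTensorModule
import Groth.Agent.CAlgH.FlatDimension
import Groth.Prelude.Def_DDual2
import Groth.Agent.S7027

/-!
# Restriction of tor amplitude along a ring map of finite tor dimension
-/

set_option autoImplicit false
set_option backward.isDefEq.respectTransparency false
set_option backward.defeqAttrib.useBackward true
set_option linter.style.haveILetI false
set_option synthInstance.maxHeartbeats 100000

universe u

open CategoryTheory CategoryTheory.Limits MonoidalCategory HomologicalComplex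
open Groth.Agent.DCat

attribute [local instance] HasDerivedCategory.standard
attribute [-instance] Int.instConditionallyCompleteLinearOrder

namespace Groth.Agent.Dual22Lib.TorAmpRestrict

variable {R R' : Type u} [CommRing R] [CommRing R'] (φ : R →+* R')

/-- Extension of scalars of a resolution is exact above the tor dimension. -/
theorem exactAt_ext (d : ℕ)
    (hφ : DRing.HasTorAmplitudeIn R (-(d : ℤ)) 0
      (Dual.inD R ((ModuleCat.restrictScalars.{u} φ).obj (ModuleCat.of R' R'))))
    {Q Z : DRing.Cx R} (hQ : IsKFlatFor (modT R) Q) (g : Q ⟶ Z) [QuasiIso g]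
    (hZ : ∀ n, n ≠ 0 → IsZero (Z.X n)) (i : ℤ) (hi : i < -(d : ℤ) ∨ 0 < i) :
    (((ModuleCat.extendScalars.{u, u, u} φ).mapHomologicalComplex (ComplexShape.up ℤ)).obj Q).ExactAt i := by
  let F : DRing.Cx R' := (single (ModuleCat.{u} R') (ComplexShape.up ℤ) 0).obj (ModuleCat.of R' R')
  let r := ModuleCat.restrictScalars.{u} φ
  have hF : DRing.HasTorAmplitudeIn R (-(d : ℤ)) 0
      (DRing.toD ((r.mapHomologicalComplex (ComplexShape.up ℤ)).obj F)) := by
    obtain ⟨T, hT, hTf, ⟨e⟩⟩ := hφ
    exact ⟨T, hT, hTf, ⟨e ≪≫ (DerivedCategory.singleFunctorIsoCompQ (ModuleCat.{u} R) 0).app _ ≪≫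
      DerivedCategory.Q.mapIso ((singleMapHomologicalComplex r (ComplexShape.up ℤ) 0).app (ModuleCat.of R' R')).symm⟩⟩
  let E : DRing.Cx R' := ((ModuleCat.extendScalars.{u, u, u} φ).mapHomologicalComplex (ComplexShape.up ℤ)).obj Q
  have h := RelTorDim.exactAt_tot_ext φ F _ _ hF hQ g hZ i hi
  obtain ⟨s⟩ := exists_tot_single_iso (T := modT R') E (ModuleCat.of R' R')
  exact h.of_iso (totSymm F E ≪≫ s.symm ≪≫ Hom.isoOfComponents (fun n => ρ_ (E.X n))
    (fun p q _ => (rightUnitor_naturality _).symm))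

/-- **Restriction.** -/
theorem amp_restrict (d : ℕ)
    (hφ : DRing.HasTorAmplitudeIn R (-(d : ℤ)) 0
      (Dual.inD R ((ModuleCat.restrictScalars.{u} φ).obj (ModuleCat.of R' R'))))
    (T : DRing.Cx R') (a b : ℤ) (hT : DRing.VanishesOutside T a b) (hTf : DRing.TermwiseFlat T) :
    DRing.HasTorAmplitudeIn R (a - d) b
      (DRing.toD (((ModuleCat.restrictScalars.{u} φ).mapHomologicalComplex (ComplexShape.up ℤ)).obj T)) := by
  haveI : ∀ M : ModuleCat.{u} R, DRing.HasLTensor R M := fun M => DCat.hasLTensor M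
  haveI : (ModuleCat.extendScalars.{u, u, u} φ).Additive :=
    (ModuleCat.extendRestrictScalarsAdj φ).left_adjoint_additive
  let r := ModuleCat.restrictScalars.{u} φ
  let K := (r.mapHomologicalComplex (ComplexShape.up ℤ)).obj T
  refine DCat.flatAmp_of_vanish fun M i hi => ?_
  obtain ⟨N, c, hN, -, hc, -⟩ := exists_kflat K
  haveI := hc
  rw [DCat.isZero_ltensor_iff M hN (asIso (DerivedCategory.Q.map c)) i]
  obtain ⟨s⟩ := exists_tot_single_iso (T := modT R) N M
  obtain ⟨Q, g, hQ, -, hg, hQb⟩ := exists_kflat_le ((single (ModuleCat.{u} R) (ComplexShape.up ℤ) 0).obj M) 0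
    (fun n hn => isZero_single_obj_X _ _ _ _ (by omega))
  haveI := hg
  refine HomologicalComplex.ExactAt.of_iso ?_ s.symm
  haveI := RelTorDim.quasiIso_totMap₂ g hN
  refine (quasiIsoAt_iff_exactAt (totMap₂ (modT R) N g) i ?_).1 inferInstance
  haveI := RelTorDim.quasiIso_totMap₁ c hQ
  refine (quasiIsoAt_iff_exactAt' (totMap₁ (modT R) c Q) i ?_).1 inferInstance
  let E : DRing.Cx R' := ((ModuleCat.extendScalars.{u, u, u} φ).mapHomologicalComplex (ComplexShape.up ℤ)).obj Q
  suffices h : (tot (modT R') T E).ExactAt i by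
    have h' : ((r.mapHomologicalComplex (ComplexShape.up ℤ)).obj (tot (modT R') T E)).ExactAt i := by
      rw [HomologicalComplex.exactAt_iff] at h ⊢
      exact (ShortComplex.exact_map_iff_of_faithful _ r).2 h
    exact h'.of_iso (totExtIso φ T Q)
  have hEz : ∀ k, (k < -(d : ℤ) ∨ 0 < k) → E.ExactAt k := fun k hk =>
    exactAt_ext φ d hφ hQ g (fun n hn => isZero_single_obj_X _ _ _ _ hn) k hk
  haveI : E.IsStrictlyLE 0 := (CochainComplex.isStrictlyLE_iff _ _).2 fun n hn =>
    (ModuleCat.extendScalars.{u, u, u} φ).map_isZero (hQb n hn)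
  haveI : E.IsGE (-(d : ℤ)) := (CochainComplex.isGE_iff _ _).2 fun n hn => hEz n (Or.inl hn)
  have hTk : IsKFlatFor (modT R') T := DCat.isKFlatFor_of_vanishesAbove T b (fun n hn => hT n (Or.inr hn)) hTf
  haveI := RelTorDim.quasiIso_totMap₂ (E.πTruncGE (-(d : ℤ))) hTk
  refine (quasiIsoAt_iff_exactAt' (totMap₂ (modT R') T (E.πTruncGE (-(d : ℤ)))) i ?_).1 inferInstance
  rw [HomologicalComplex.exactAt_iff]
  refine ShortComplex.exact_of_isZero_X₂ _ ((IsZero.iff_id_eq_zero _).2 ?_)
  refine HomologicalComplex.mapBifunctor.hom_ext fun p q hpq => IsZero.eq_of_src ?_ _ _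
  have hpq' : p + q = i := hpq
  by_cases hp : p < a ∨ b < p
  · exact Functor.map_isZero ((modT R').flip.obj _) (hT p hp)
  · refine Functor.map_isZero ((modT R').obj (T.X p)) ?_
    by_cases hq : q < -(d : ℤ)
    · exact CochainComplex.isZero_of_isStrictlyGE _ (-(d : ℤ)) q hq
    · haveI : (E.truncGE (-(d : ℤ))).IsStrictlyLE 0 := inferInstance
      exact CochainComplex.isZero_of_isStrictlyLE _ 0 q (by omega)

/-- Flat dimension bounds tor amplitude. -/
theorem amp_of_flatDimLE : ∀ (n : ℕ) (M : ModuleCat.{u} R), CAlgH.FlatDimension.FlatDimLE R n M →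
    DRing.HasTorAmplitudeIn R (-(n : ℤ)) 0 (Dual.inD R M)
  | 0, M, h => by
    refine ⟨(single (ModuleCat.{u} R) (ComplexShape.up ℤ) 0).obj M,
      fun i hi => isZero_single_obj_X _ _ _ _ (by omega), fun i => ?_,
      ⟨((DerivedCategory.singleFunctorIsoCompQ (ModuleCat.{u} R) 0).app M).symm⟩⟩
    by_cases hi : i = 0
    · subst hi
      haveI : Module.Flat R M := h
      exact Module.Flat.of_linearEquiv (singleObjXSelf (ComplexShape.up ℤ) 0 M).toLinearEquiv
    · haveI := ModuleCat.subsingleton_of_isZero (isZero_single_obj_X (ComplexShape.up ℤ) 0 M i hi)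
      infer_instance
  | n + 1, M, h => by
    obtain ⟨L, P, _, _, _, _, hP, f, g, hex, hg, hf, hL⟩ := h
    haveI : ∀ M : ModuleCat.{u} R, DRing.HasLTensor R M := fun M => DCat.hasLTensor M
    let S : ShortComplex (ModuleCat.{u} R) := ShortComplex.mk (X₁ := ModuleCat.of R L) (X₂ := ModuleCat.of R P)
      (X₃ := M) (ModuleCat.ofHom f) (ModuleCat.ofHom g) (ModuleCat.hom_ext hex.linearMap_comp_eq_zero)
    have hS : S.ShortExact :=
      { exact := (ShortComplex.ShortExact.moduleCat_exact_iff_function_exact S).2 hex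
        mono_f := (ModuleCat.mono_iff_injective _).2 hf
        epi_g := (ModuleCat.epi_iff_surjective _).2 hg }
    obtain ⟨E, hE, hEf, e⟩ := amp_of_flatDimLE n (ModuleCat.of R L) hL
    obtain ⟨E', hE', hEf', e'⟩ := amp_of_flatDimLE 0 (ModuleCat.of R P) hP
    refine (S7027.result R (-((n + 1 : ℕ) : ℤ)) 0 _ hS.singleTriangle_distinguished).1
      ⟨E, fun i hi => hE i (by omega), hEf, e⟩ ⟨E', fun i hi => hE' i (by omega), hEf', e'⟩

end Groth.Agent.Dual22Lib.TorAmpRestrict
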