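import Groth.Agent.Dual22Lib.FlatPerfPush
import Groth.Agent.Dual22Lib.TorAmpRestrict
import Groth.Agent.Dual22Lib.SumAdj
import Groth.Agent.FlatCx12.TDLocal
import Groth.Agent.DQCoh.PscNoeth
import Groth.Agent.Et18.ProperOver
import Groth.Prelude.Def_MoreMor

/-!
# `Rf_*` preserves perfect objects for a perfect proper morphism
-/

set_option autoImplicit false
set_option backward.isDefEq.respectTransparency false
set_option backward.defeqAttrib.useBackward true
set_option linter.style.haveILetI false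
set_option synthInstance.maxHeartbeats 100000

universe u

open CategoryTheory CategoryTheory.Limits AlgebraicGeometry HomologicalComplex
open Groth.Agent.DCat Groth.Agent.ModStalk

attribute [local instance] HasDerivedCategory.standard
attribute [-instance] Int.instConditionallyCompleteLinearOrder

namespace Groth.Agent.Dual22Lib.PerfMorPush

variable {X S : Scheme.{u}}

/-- The stalk maps of a perfect morphism locally have bounded tor dimension. -/
theorem exists_torDim_stalk (f : X ⟶ S) (hf : MoreMor.IsPerfectMor f) (x : X) :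
    ∃ (U : X.Opens) (d : ℕ), x ∈ U ∧ ∀ x' ∈ U,
      DRing.HasTorAmplitudeIn (S.presheaf.stalk (f x')) (-(d : ℤ)) 0
        (Dual.inD (S.presheaf.stalk (f x')) ((ModuleCat.restrictScalars.{u} (f.stalkMap x').hom).obj
          (ModuleCat.of (X.presheaf.stalk x') (X.presheaf.stalk x')))) := by
  obtain ⟨_, ⟨V, hV, rfl⟩, hxV, -⟩ :=
    S.isBasis_affineOpens.exists_subset_of_mem_open (Set.mem_univ (f x)) isOpen_univ
  obtain ⟨_, ⟨U, hU, rfl⟩, hxU, hUV⟩ :=
    X.isBasis_affineOpens.exists_subset_of_mem_open (show x ∈ f ⁻¹ᵁ V from hxV) (f ⁻¹ᵁ V).isOpen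
  let := (f.appLE V U hUV).hom.toAlgebra
  obtain ⟨d, hd⟩ := FlatMorPerfect.hasFiniteTorDim_iff.1 (hf U V hU hV hUV).2
  refine ⟨U, d, hxU, fun x' hx' => TorAmpRestrict.amp_of_flatDimLE d _ ?_⟩
  let := (f.stalkMap x').hom.toAlgebra
  let : Algebra Γ(X, U) (X.presheaf.stalk x') := TopCat.Presheaf.algebra_section_stalk X.presheaf ⟨x', hx'⟩
  let y : V := ⟨f x', hUV hx'⟩
  let : Algebra Γ(S, V) (S.presheaf.stalk (f x')) := TopCat.Presheaf.algebra_section_stalk S.presheaf y
  let : Algebra Γ(S, V) (X.presheaf.stalk x') :=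
    ((algebraMap Γ(X, U) (X.presheaf.stalk x')).comp (f.appLE V U hUV).hom).toAlgebra
  haveI : IsScalarTower Γ(S, V) Γ(X, U) (X.presheaf.stalk x') := .of_algebraMap_eq fun _ => rfl
  haveI : IsScalarTower Γ(S, V) (S.presheaf.stalk (f x')) (X.presheaf.stalk x') := by
    refine .of_algebraMap_eq fun a => ?_
    show X.presheaf.germ U x' hx' (f.appLE V U hUV a) = f.stalkMap x' (S.presheaf.germ V (f x') (hUV hx') a)
    rw [Scheme.Hom.germ_stalkMap_apply, Scheme.Hom.appLE]
    exact TopCat.Presheaf.germ_res_apply _ _ _ _ _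
  haveI : IsLocalization.AtPrime (X.presheaf.stalk x') (hU.primeIdealOf ⟨x', hx'⟩).asIdeal :=
    hU.isLocalization_stalk ⟨x', hx'⟩
  haveI : IsLocalization.AtPrime (S.presheaf.stalk (f x')) (hV.primeIdealOf y).asIdeal := hV.isLocalization_stalk y
  haveI : Module.Flat Γ(X, U) (X.presheaf.stalk x') :=
    IsLocalization.flat _ (hU.primeIdealOf ⟨x', hx'⟩).asIdeal.primeCompl
  have h := (FlatCx12.TDLocal.td_localization (hV.primeIdealOf y).asIdeal.primeCompl (S.presheaf.stalk (f x'))
    (FlatMorPerfect.td_flat_module hd (X.presheaf.stalk x'))).flatDimLE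
  let r := ModuleCat.restrictScalars.{u} (f.stalkMap x').hom
  let ι : (X.presheaf.stalk x' : Type u) ≃ₗ[S.presheaf.stalk (f x')]
      (r.obj (ModuleCat.of (X.presheaf.stalk x') (X.presheaf.stalk x')) : Type u) :=
    { toFun := id
      invFun := id
      left_inv := fun _ => rfl
      right_inv := fun _ => rfl
      map_add' := fun _ _ => rfl
      map_smul' := fun a b => Algebra.smul_def a b }
  exact h.congr ι

/-- Perfect objects have finite tor amplitude relative to a perfect morphism with quasi-compact source. -/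
theorem hasFiniteTorAmplitude [CompactSpace X] (f : X ⟶ S) (hf : MoreMor.IsPerfectMor f)
    (N : CochainComplex X.Modules ℤ) (hN : DCoh.IsPerfect (DCoh.toD X N)) :
    DerSch.HasFiniteTorAmplitude f N := by
  classical
  choose U d hxU hU using exists_torDim_stalk f hf
  choose V a b hxV hV using FlatPerfPush.exists_amp_stalk N hN
  obtain ⟨t, ht⟩ := isCompact_univ.elim_finite_subcover (fun x : X => ((U x : Set X) ∩ V x))
    (fun x => (U x).2.inter (V x).2) (fun x _ => Set.mem_iUnion.2 ⟨x, hxU x, hxV x⟩)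
  obtain ⟨a₀, ha₀⟩ := (t.image fun x => a x - d x).bddBelow
  obtain ⟨b₀, hb₀⟩ := (t.image b).bddAbove
  refine ⟨a₀, b₀, fun x => ?_⟩
  obtain ⟨y, hy, hxy⟩ := Set.mem_iUnion₂.1 (ht (Set.mem_univ x))
  obtain ⟨T, hT, hTf, ⟨e⟩⟩ := hV y x hxy.2
  let r := ModuleCat.restrictScalars.{u} (f.stalkMap x).hom
  obtain ⟨E, hE, hEf, ⟨eE⟩⟩ := TorAmpRestrict.amp_restrict (f.stalkMap x).hom (d y) (hU y x hxy.1) T _ _ hT hTf
  refine ⟨E, fun i hi => hE i ?_, hEf, ⟨eE ≪≫ (r.mapDerivedCategoryFactors.app T).symm ≪≫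
    r.mapDerivedCategory.mapIso e ≪≫ r.mapDerivedCategoryFactors.app ((stalkK x).obj N)⟩⟩
  have h1 : a₀ ≤ a y - d y := ha₀ (Finset.mem_coe.2 (Finset.mem_image_of_mem (fun x => a x - (d x : ℤ)) hy))
  have h2 : b y ≤ b₀ := hb₀ (Finset.mem_coe.2 (Finset.mem_image_of_mem b hy))
  omega

/-- Finite relative tor amplitude bounds the cohomology. -/
theorem isZero_HD_of_amp (f : X ⟶ S) (F : CochainComplex X.Modules ℤ) {a b : ℤ}
    (h : DerSch.HasTorAmplitude f a b F) (i : ℤ) (hi : i < a ∨ b < i) : IsZero (DCoh.HD (DCoh.toD X F) i) := by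
  rw [isZero_HD_toD_iff, ← exactAt_iff_stalks]
  intro x
  obtain ⟨T, hT, -, ⟨e⟩⟩ := h x
  have h' := (isZero_homology_toD_iff _ i).1 (IsZero.of_iso
    ((isZero_homology_toD_iff T i).2 (HomologicalComplex.ExactAt.of_isZero (hT i hi)))
    ((DerivedCategory.homologyFunctor _ i).mapIso e.symm))
  rw [HomologicalComplex.exactAt_iff] at h' ⊢
  exact (ShortComplex.exact_map_iff_of_faithful _ (ModuleCat.restrictScalars.{u} (f.stalkMap x).hom)).1 h'

/-- **`Rf_*` preserves perfect objects.** -/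
theorem pp_of_perfectMor [IsNoetherian S] (f : X ⟶ S) [IsProper f] (hf : MoreMor.IsPerfectMor f) :
    SumAdj.PP f := by
  intro _ P hP
  haveI : IsLocallyNoetherian X := LocallyOfFiniteType.isLocallyNoetherian f
  haveI : CompactSpace X := QuasiCompact.compactSpace_of_compactSpace f
  obtain ⟨e⟩ : Nonempty (DCoh.toD X (DerivedCategory.Q.objPreimage P) ≅ P) :=
    ⟨DerivedCategory.Q.objObjPreimageIso P⟩
  let N := DerivedCategory.Q.objPreimage P
  have hN : DCoh.IsPerfect (DCoh.toD X N) := PCTriangle.perfect_iso e.symm hP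
  obtain ⟨a, b, hamp⟩ := hasFiniteTorAmplitude f hf N hN
  have hcoh : DCoh.IsCohD (DCoh.toD X N) := fun i =>
    DQCoh.isCoh_HD_of_psc _ (PerfLift.isQCohD_perfect hN) (i - 1) (DQCoh.psc_of_perfect hN _) i (by omega)
  refine PCTriangle.perfect_iso ((DCoh.Rpush f).mapIso e) ?_
  refine PerfPushTor.isPerfect_Rpush f N hcoh a b (isZero_HD_of_amp f N hamp) (fun i => ?_) ⟨a, b, hamp⟩
  exact Groth.Agent.Et18.IsProperOver.of_subset (Z := Set.univ) ⟨isClosed_univ, inferInstance⟩
    (Coherent.isClosed_support _ (Coherent.locallyFinGen_of_isFT _ (hcoh i).2)) (Set.subset_univ _)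

end Groth.Agent.Dual22Lib.PerfMorPush
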