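import Groth.Agent.Dual22Lib.SumAdj
import Groth.Agent.Dual22Lib.PushPerf
import Groth.Agent.Dual22Lib.PerfMorPush
import Groth.Agent.H8Lim.NoetherianModel
import Groth.Agent.FlatMorPerfect.Mor

/-!
# `Rf_*` preserves perfect objects: proper flat finitely presented, and proper perfect morphisms
-/

set_option autoImplicit false
set_option backward.isDefEq.respectTransparency false
set_option backward.defeqAttrib.useBackward true
set_option linter.style.haveILetI false
set_option linter.unusedSectionVars false
set_option synthInstance.maxHeartbeats 100000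

universe u

open CategoryTheory CategoryTheory.Limits AlgebraicGeometry
open Groth.Agent.DCat Groth.Agent.Dual22Lib.BCSquare

attribute [local instance] HasDerivedCategory.standard

namespace Groth.Agent.Dual22Lib.PPFlat

variable {X Y : Scheme.{u}}

/-- Preservation of perfect objects is local on the base. -/
theorem pp_of_local (f : X ⟶ Y) [QuasiCompact f] [QuasiSeparated f]
    (h : ∀ y : Y, ∃ (R : CommRingCat.{u}) (a : Spec R ⟶ Y) (_ : IsOpenImmersion a),
      y ∈ a.opensRange ∧ SumAdj.PP (pullback.snd f a)) : SumAdj.PP f := by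
  intro _ P hP
  refine DQCoh.isPerfect_of_local _ fun y => ?_
  obtain ⟨R, a, _, hy, hpp⟩ := h y
  have hU0 := IsPullback.of_hasPullback f a
  haveI := hasRpush a
  haveI := hasRpush (pullback.fst f a)
  haveI := hasRpush (pullback.snd f a)
  haveI := hasLpull a
  haveI := hasLpull (pullback.fst f a)
  obtain ⟨ab⟩ := nonempty_pullPushAdj a
  obtain ⟨abX⟩ := nonempty_pullPushAdj (pullback.fst f a)
  obtain ⟨eb⟩ := exists_e hU0.w
  haveI := good_of_open hU0 inferInstance inferInstance inferInstance inferInstance inferInstance inferInstance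
    ab abX eb P (SumAdj.isQCohD_perfect' hP)
  obtain ⟨β⟩ := nonempty_Lpull_rd a
  exact ⟨_, a, inferInstance, hy,
    PCTriangle.perfect_iso ((asIso ((BCAlg.bc ab abX eb).app P)).symm ≪≫ β.app _)
      (hpp _ (PullPerf.isPerfect_Lpull (pullback.fst f a) P hP))⟩

/-- Proper flat finitely presented morphisms to affine schemes. -/
theorem pp_affine (R : CommRingCat.{u}) (f : X ⟶ Spec R) [IsProper f] [Flat f] [LocallyOfFinitePresentation f] :
    SumAdj.PP f := by
  obtain ⟨s, X₀, f₀, g, hlfp, hprop, hflat, sq⟩ :=
    H8Lim.exists_noetherian_model_proper_flat (R := R) (X := X) f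
  haveI : IsLocallyNoetherian X₀ := LocallyOfFiniteType.isLocallyNoetherian f₀
  haveI : CompactSpace X₀ := QuasiCompact.compactSpace_of_compactSpace f₀
  haveI : IsNoetherian X₀ := { }
  haveI : CompactSpace X := QuasiCompact.compactSpace_of_compactSpace f
  haveI : QuasiSeparatedSpace X := quasiSeparatedSpace_of_quasiSeparated f
  intro _ P hP
  exact SumAdj.pp_baseChange sq (BCMain.torInd_of_flat f₀ _) (fun {_} P hP => PushPerf.isPerfect_rpush f₀ hP) P hP

/-- **Proper flat finitely presented morphisms.** -/
theorem pp_flat (f : X ⟶ Y) [IsProper f] [Flat f] [LocallyOfFinitePresentation f] : SumAdj.PP f := by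
  refine pp_of_local f fun y => ?_
  obtain ⟨V, hV, hy, -⟩ := exists_isAffineOpen_mem_and_subset (show y ∈ (⊤ : Y.Opens) from trivial)
  exact ⟨_, hV.fromSpec, inferInstance, by rw [hV.opensRange_fromSpec]; exact hy, pp_affine _ _⟩

/-- **Proper perfect morphisms to locally Noetherian schemes.** -/
theorem pp_perfect [IsLocallyNoetherian Y] (f : X ⟶ Y) [IsProper f] (hf : MoreMor.IsPerfectMor f) :
    SumAdj.PP f := by
  refine pp_of_local f fun y => ?_
  obtain ⟨V, hV, hy, -⟩ := exists_isAffineOpen_mem_and_subset (show y ∈ (⊤ : Y.Opens) from trivial)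
  haveI : IsNoetherianRing Γ(Y, V) := IsLocallyNoetherian.component_noetherian ⟨V, hV⟩
  exact ⟨_, hV.fromSpec, inferInstance, by rw [hV.opensRange_fromSpec]; exact hy,
    PerfMorPush.pp_of_perfectMor _ (FlatMorPerfect.perfectMor_baseChange (IsPullback.of_hasPullback f hV.fromSpec) hf)⟩

end Groth.Agent.Dual22Lib.PPFlat
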