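import Groth.Agent.DCat.LTensorSheaf
import Groth.Agent.AmpleLib.Tensor
import Groth.Agent.DCat.PullTensor

/-!
# Symmetry of total tensor complexes of sheaves of modules
-/

set_option autoImplicit false
set_option backward.isDefEq.respectTransparency false
set_option backward.defeqAttrib.useBackward true
set_option linter.style.haveILetI false

universe u

open CategoryTheory CategoryTheory.Limits AlgebraicGeometry HomologicalComplex
open Groth.Agent.ModStalk Groth.Agent.DCat Groth.Agent.AmpleLib Groth.Agent.PicLib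

namespace Groth.Agent.Dual22Lib.ShSymm

variable {X : Scheme.{u}}

theorem tensorComm_nat₁ {M M' : X.Modules} (φ : M ⟶ M') (N : X.Modules) :
    ((shT X).map φ).app N ≫ (tensorComm M' N).hom =
      (tensorComm M N).hom ≫ ((shT X).obj N).map φ :=
  AmpleLib.hom_ext fun U m a => by
    show (tensorComm M' N).hom.app U ((((shT X).map φ).app N).app U (tmul m a)) =
      (((shT X).obj N).map φ).app U ((tensorComm M N).hom.app U (tmul m a))
    refine ((congrArg _ (PullTensor.tensorBi_map_tmul φ U m a)).trans (Bilin.desc_tmul _ U _ a)).trans ?_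
    exact ((congrArg _ (Bilin.desc_tmul _ U m a)).trans (PullTensor.tensorBi_obj_map_tmul φ U a m)).symm

theorem tensorComm_nat₂ (M : X.Modules) {N N' : X.Modules} (ψ : N ⟶ N') :
    ((shT X).obj M).map ψ ≫ (tensorComm M N').hom =
      (tensorComm M N).hom ≫ ((shT X).map ψ).app M :=
  AmpleLib.hom_ext fun U m a => by
    show (tensorComm M N').hom.app U ((((shT X).obj M).map ψ).app U (tmul m a)) =
      (((shT X).map ψ).app M).app U ((tensorComm M N).hom.app U (tmul m a))
    refine ((congrArg _ (PullTensor.tensorBi_obj_map_tmul ψ U m a)).trans (Bilin.desc_tmul _ U m _)).trans ?_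
    exact ((congrArg _ (Bilin.desc_tmul _ U m a)).trans (PullTensor.tensorBi_map_tmul ψ U a m)).symm

instance additive_flip : (shT X).flip.Additive where
  map_add {a b f g} := by
    ext c : 2
    exact ((shT X).obj c).map_add

instance additive_flip_obj (b : X.Modules) : ((shT X).flip.obj b).Additive where
  map_add {a a' f g} := congrArg (fun t => NatTrans.app t b) ((shT X).map_add (f := f) (g := g))

/-- Symmetry of the total tensor complex. -/
noncomputable def symm (M K : CochainComplex X.Modules ℤ) : tot (shT X) M K ≅ tot (shT X) K M :=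
  (mapTotIso (shT X) ((shT X).flip) (𝟭 _) (𝟭 _) (𝟭 _) (fun a b => tensorComm a b)
    (fun f b => tensorComm_nat₁ f b) (fun a _ _ g => tensorComm_nat₂ a g) M K :) ≪≫
    mapBifunctorFlipIso K M (shT X) (ComplexShape.up ℤ)

theorem symm_natural {M M' K K' : CochainComplex X.Modules ℤ} (f : M ⟶ M') (g : K ⟶ K') :
    mapBifunctorMap f g (shT X) (ComplexShape.up ℤ) ≫ (symm M' K').hom =
      (symm M K).hom ≫ mapBifunctorMap g f (shT X) (ComplexShape.up ℤ) := by
  have h₁ := mapTotHom_natural (T := shT X) (T' := (shT X).flip) (F := 𝟭 _) (H := 𝟭 _) (G := 𝟭 _)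
    (α := fun a b => tensorComm a b) (fun f b => tensorComm_nat₁ f b)
    (fun a _ _ g => tensorComm_nat₂ a g) f g
  dsimp only [symm, Iso.trans_hom]
  rw [Category.assoc, ← mapBifunctorFlipIso_hom_naturality]
  exact (Category.assoc _ _ _).symm.trans ((congrArg (· ≫ _) h₁).trans (Category.assoc _ _ _))

theorem symm_natural₂ (M : CochainComplex X.Modules ℤ) {K K' : CochainComplex X.Modules ℤ} (g : K ⟶ K') :
    totMap₂ (shT X) M g ≫ (symm M K').hom = (symm M K).hom ≫ totMap₁ (shT X) g M :=
  symm_natural (𝟙 M) g

theorem symm_natural₁ {M M' : CochainComplex X.Modules ℤ} (f : M ⟶ M') (K : CochainComplex X.Modules ℤ) :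
    totMap₁ (shT X) f K ≫ (symm M' K).hom = (symm M K).hom ≫ totMap₂ (shT X) K f :=
  symm_natural f (𝟙 K)

end Groth.Agent.Dual22Lib.ShSymm
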