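import Groth.Agent.DQCoh.RelTorLocal
import Groth.Agent.DQCoh.RelTorBC
import Groth.Agent.Dual22Lib.TenLocal
import Groth.Agent.Dual22Lib.ShSymm
import Groth.Agent.DQCoh.RHomQCoh
import Groth.Agent.DQCoh.PerfectTor
import Groth.Agent.DQCoh.PscNoeth
import Groth.Agent.AffSchLib.TildeExact
import Groth.Agent.DCat.RHomLeft
import Groth.Agent.DCat.RHomDual
import Groth.Agent.EGA43.FibDepth.Unit
import Groth.Agent.S7093

/-!
# Closure properties of relatively perfect objects
-/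

set_option autoImplicit false
set_option backward.isDefEq.respectTransparency false
set_option backward.defeqAttrib.useBackward true
set_option linter.style.haveILetI false
set_option linter.unusedSectionVars false
set_option synthInstance.maxHeartbeats 100000

universe u

open CategoryTheory CategoryTheory.Limits CategoryTheory.Pretriangulated AlgebraicGeometry HomologicalComplex
open Groth.Agent.DCat Groth.Agent.DQCoh

attribute [local instance] HasDerivedCategory.standard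
attribute [-instance] Int.instConditionallyCompleteLinearOrder

namespace Groth.Agent.Dual22Lib.RelPerfClosure

local instance preservesFiniteLimits_tilde' (R : CommRingCat.{u}) : PreservesFiniteLimits (tilde.functor R) :=
  AffSchLib.preservesFiniteLimits_tilde R

variable {X S : Scheme.{u}} (f : X ⟶ S)

/-- Relatively perfect objects. -/
def RP (E : DCoh.D X) : Prop := (∀ m : ℤ, DCoh.IsPseudoCoherentD m E) ∧ DCoh.LocHasFiniteRelTorDim f E

theorem rp_iso {K L : DCoh.D X} (e : K ≅ L) (h : RP f K) : RP f L :=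
  ⟨fun m => PCTriangle.psc_iso e (h.1 m), locRel_iso e h.2⟩

theorem rp_rd {W : Scheme.{u}} (k : W ⟶ X) [IsOpenImmersion k] {K : DCoh.D X} (h : RP f K) :
    RP (k ≫ f) ((PerfLocal.rd k).obj K) :=
  ⟨fun m => psc_rd _ (h.1 m), locRel_rd _ h.2⟩

theorem rp_of_local (K : DCoh.D X) (h : ∀ x : X, ∃ (W : Scheme.{u}) (k : W ⟶ X) (_ : IsOpenImmersion k),
    x ∈ k.opensRange ∧ RP (k ≫ f) ((PerfLocal.rd k).obj K)) : RP f K := by
  refine ⟨fun m => psc_of_local K fun x => ?_, locRel_of_local f K fun x => ?_⟩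
  · obtain ⟨W, k, hk, hx, hp, -⟩ := h x
    exact ⟨W, k, hk, hx, hp m⟩
  · obtain ⟨W, k, hk, hx, -, ht⟩ := h x
    exact ⟨W, k, hk, hx, ht⟩

/-- The structure sheaf of a flat scheme. -/
theorem rp_structure [Flat f] :
    RP f (DerivedCategory.Q.obj ((single X.Modules (ComplexShape.up ℤ) 0).obj (Coh.structureModule X))) := by
  refine ⟨fun m => DQCoh.psc_of_perfect (PCTriangle.perfect_iso
    ((DerivedCategory.singleFunctorIsoCompQ X.Modules 0).app _) DCat.RHomDual.perfect_structure) m, (locRel_iff _ _).2 fun x => ?_⟩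
  refine ⟨X, 𝟙 X, inferInstance, 0, 0, ⟨x, rfl⟩,
    relAmp_rd (𝟙 X) ⟨_, fun i hi => isZero_single_obj_X _ _ _ _ (by omega), fun i => ?_, ⟨Iso.refl _⟩⟩⟩
  intro y
  by_cases hi : i = 0
  · subst hi
    exact EGA43.DvrCrit.isFlatOverAt_of_iso f (singleObjXSelf (ComplexShape.up ℤ) 0 (Coh.structureModule X)).symm y
      ((EGA43.FibDepth.isFlatOverAt_structureModule f y).2 (Flat.stalkMap _ y))
  · haveI : Subsingleton ↑((((single X.Modules (ComplexShape.up ℤ) 0).obj (Coh.structureModule X)).X i).presheaf.stalk y) :=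
      ModuleCat.subsingleton_of_isZero ((DerSch.stalkFunctor X y).map_isZero
      (isZero_single_obj_X (ComplexShape.up ℤ) 0 (Coh.structureModule X) i hi))
    unfold FlatMod.IsFlatOverAt
    letI := FlatMod.moduleStalkOver f (((single X.Modules (ComplexShape.up ℤ) 0).obj (Coh.structureModule X)).X i) y
    exact Module.Flat.of_free

section Chart

variable [Flat f] [LocallyOfFinitePresentation f]

/-- The data of a chart, with the closure properties transported. -/
theorem closure :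
    (∀ {K : DCoh.D X}, IsZero K → RP f K) ∧ (∀ (n : ℤ) {K : DCoh.D X}, RP f K → RP f (K⟦n⟧)) ∧
    (∀ {T : Triangle (DCoh.D X)}, T ∈ distTriang _ → RP f T.obj₁ → RP f T.obj₃ → RP f T.obj₂) ∧
    (∀ {K L : DCoh.D X}, Retract K L → DCoh.IsQCohD K → RP f L → RP f K) := by
  have chart : ∀ x : X, ∃ (U : X.Opens) (_ : IsAffineOpen U) (V : S.Opens) (_ : IsAffineOpen V),
      U ≤ f ⁻¹ᵁ V ∧ x ∈ U := fun x => by
    obtain ⟨V, hV, hxV, -⟩ := exists_isAffineOpen_mem_and_subset (x := f x) (U := (⊤ : S.Opens)) trivial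
    obtain ⟨U, hU, hxU, hle⟩ := exists_isAffineOpen_mem_and_subset (x := x) (U := f ⁻¹ᵁ V) hxV
    exact ⟨U, hU, V, hV, hle, hxU⟩
  have hq : ∀ {K : DCoh.D X}, RP f K → ∀ {U : X.Opens} (hU : IsAffineOpen U),
      ∃ M, Nonempty ((DCoh.tildeD Γ(X, U)).obj M ≅ (PerfLocal.rd hU.isoSpec.inv).obj ((PerfLocal.rd U.ι).obj K)) :=
    fun {K} h {U} hU => ((tildeD_main Γ(X, U)).2.2 _).1 (isQCohD_rd _ (isQCohD_rd U.ι (isQCohD_of_psc h.1)))
  have hi : ∀ {U : X.Opens} {V : S.Opens} (_ : IsAffineOpen U) (_ : IsAffineOpen V) (hUV : U ≤ f ⁻¹ᵁ V),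
      letI := (f.appLE V U hUV).hom.toAlgebra
      Module.Flat Γ(S, V) Γ(X, U) ∧ Algebra.FinitePresentation Γ(S, V) Γ(X, U) := fun {U V} hU hV hUV =>
    ⟨HasRingHomProperty.appLE (P := @Flat) f inferInstance ⟨V, hV⟩ ⟨U, hU⟩ hUV,
      HasRingHomProperty.appLE (P := @LocallyOfFinitePresentation) f inferInstance ⟨V, hV⟩ ⟨U, hU⟩ hUV⟩
  refine ⟨fun {K} hK => ?_, fun n {K} hK => ?_, fun {T} hT h₁ h₃ => ?_, fun {K L} r hKq hL => ?_⟩
  · refine relPerfect_of_cover f K (fun i => Coherent.isQCoh_of_isZero ((DerivedCategory.homologyFunctor X.Modules i).map_isZero hK)) fun x => ?_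
    obtain ⟨U, hU, V, hV, hle, hx⟩ := chart x
    refine ⟨U, hU, V, hV, hle, hx, fun M ⟨e⟩ => ?_⟩
    letI := (f.appLE V U hle).hom.toAlgebra
    obtain ⟨_, _⟩ := hi hU hV hle
    haveI := (tildeD_main Γ(X, U)).2.1
    have hz : IsZero M := (IsZero.iff_id_eq_zero _).2 ((DCoh.tildeD Γ(X, U)).map_injective
      ((((PerfLocal.rd hU.isoSpec.inv).map_isZero ((PerfLocal.rd U.ι).map_isZero hK)).of_iso e.symm).eq_of_src _ _))
    obtain ⟨hT, hI, -⟩ := S7093.result Γ(S, V) Γ(X, U)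
    haveI := hT
    haveI := hI
    exact ObjectProperty.prop_of_isZero (fun K => Dual2.IsRelPerfect Γ(S, V) Γ(X, U) K) hz
  · refine relPerfect_of_cover f _ (DQCoh.isQCohD_shift (isQCohD_of_psc hK.1) n) fun x => ?_
    obtain ⟨U, hU, V, hV, hle, hx⟩ := chart x
    refine ⟨U, hU, V, hV, hle, hx, fun M ⟨e⟩ => ?_⟩
    letI := (f.appLE V U hle).hom.toAlgebra
    obtain ⟨_, _⟩ := hi hU hV hle
    haveI := (tildeD_main Γ(X, U)).1
    haveI := (tildeD_main Γ(X, U)).2.1
    obtain ⟨M₀, ⟨e₀⟩⟩ := hq hK hU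
    have h₀ := (relPerfect_chart f hU hV hle K M₀ e₀.symm).1 (rp_rd f _ hK)
    obtain ⟨hT, hI, -⟩ := S7093.result Γ(S, V) Γ(X, U)
    haveI := hT
    haveI := hI
    let G := PerfLocal.rd U.ι ⋙ PerfLocal.rd hU.isoSpec.inv
    exact ObjectProperty.prop_of_iso _ ((DCoh.tildeD Γ(X, U)).preimageIso
      (((DCoh.tildeD Γ(X, U)).commShiftIso n).app M₀ ≪≫ (shiftFunctor _ n).mapIso e₀ ≪≫
        ((G.commShiftIso n).app K).symm ≪≫ e)) (ObjectProperty.le_shift _ n M₀ h₀)
  · have hpsc := fun m => PCTriangle.psc_ext hT (h₁.1 m) (h₃.1 m)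
    refine relPerfect_of_cover f _ (isQCohD_of_psc hpsc) fun x => ?_
    obtain ⟨U, hU, V, hV, hle, hx⟩ := chart x
    refine ⟨U, hU, V, hV, hle, hx, fun M ⟨e⟩ => ?_⟩
    letI := (f.appLE V U hle).hom.toAlgebra
    obtain ⟨_, _⟩ := hi hU hV hle
    haveI := (tildeD_main Γ(X, U)).1
    haveI := (tildeD_main Γ(X, U)).2.1
    obtain ⟨M₁, ⟨e₁⟩⟩ := hq h₁ hU
    obtain ⟨M₃, ⟨e₃⟩⟩ := hq h₃ hU
    have p₁ := (relPerfect_chart f hU hV hle _ M₁ e₁.symm).1 (rp_rd f _ h₁)
    have p₃ := (relPerfect_chart f hU hV hle _ M₃ e₃.symm).1 (rp_rd f _ h₃)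
    obtain ⟨hT', hI, -⟩ := S7093.result Γ(S, V) Γ(X, U)
    haveI := hT'
    haveI := hI
    let G := PerfLocal.rd U.ι ⋙ PerfLocal.rd hU.isoSpec.inv
    let F := DCoh.tildeD Γ(X, U)
    have hGT := G.map_distinguished T hT
    let δ : M₃ ⟶ M₁⟦(1 : ℤ)⟧ := F.preimage (e₃.hom ≫ (G.mapTriangle.obj T).mor₃ ≫
      e₁.inv⟦(1 : ℤ)⟧' ≫ (F.commShiftIso (1 : ℤ)).inv.app M₁)
    obtain ⟨N, u, v, hN⟩ := distinguished_cocone_triangle₂ δ
    have hFN := F.map_distinguished _ hN
    have hc : (F.mapTriangle.obj (Triangle.mk u v δ)).mor₃ ≫ e₁.hom⟦(1 : ℤ)⟧' = e₃.hom ≫ (G.mapTriangle.obj T).mor₃ := by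
      show (F.map δ ≫ (F.commShiftIso (1 : ℤ)).hom.app M₁) ≫ e₁.hom⟦(1 : ℤ)⟧' = e₃.hom ≫ (G.mapTriangle.obj T).mor₃
      simp only [δ, F.map_preimage, Category.assoc, Iso.inv_hom_id_app_assoc, ← Functor.map_comp, Iso.inv_hom_id,
        CategoryTheory.Functor.map_id]
      exact congrArg (e₃.hom ≫ ·) (Category.comp_id _)
    obtain ⟨φ, hφ₁, hφ₂⟩ := complete_distinguished_triangle_morphism₂ _ _ hFN hGT e₁.hom e₃.hom hc
    have hφ : IsIso φ := isIso₂_of_isIso₁₃ (Triangle.homMk (F.mapTriangle.obj (Triangle.mk u v δ))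
      (G.mapTriangle.obj T) e₁.hom φ e₃.hom hφ₁ hφ₂ hc) hFN hGT (show IsIso e₁.hom from inferInstance)
        (show IsIso e₃.hom from inferInstance)
    exact ObjectProperty.prop_of_iso _ (F.preimageIso (@asIso _ _ _ _ φ hφ ≪≫ e))
      (ObjectProperty.ext_of_isTriangulatedClosed₂ _ _ hN p₁ p₃)
  · refine relPerfect_of_cover f K hKq fun x => ?_
    obtain ⟨U, hU, V, hV, hle, hx⟩ := chart x
    refine ⟨U, hU, V, hV, hle, hx, fun M ⟨e⟩ => ?_⟩
    letI := (f.appLE V U hle).hom.toAlgebra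
    obtain ⟨_, _⟩ := hi hU hV hle
    haveI := (tildeD_main Γ(X, U)).1
    haveI := (tildeD_main Γ(X, U)).2.1
    obtain ⟨N, ⟨eN⟩⟩ := hq hL hU
    have p := (relPerfect_chart f hU hV hle _ N eN.symm).1 (rp_rd f _ hL)
    let F := DCoh.tildeD Γ(X, U)
    let r' := (r.map (PerfLocal.rd U.ι)).map (PerfLocal.rd hU.isoSpec.inv)
    let r₀ : Retract M N :=
      ⟨F.preimage (e.inv ≫ r'.i ≫ eN.inv), F.preimage (eN.hom ≫ r'.r ≫ e.hom), F.map_injective (by
        rw [Functor.map_comp, F.map_preimage, F.map_preimage]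
        simp)⟩
    exact ⟨DRingLib.pc'_iff.2 fun m => DRingLib.pc_retract r₀ (DRingLib.pc_of_pc' p.1 m),
      DualLib.TorAmpOps.finTor_retract (r₀.map _) p.2⟩

end Chart

/-- A retract of an object with quasi-coherent cohomology. -/
theorem isQCohD_retract {K L : DCoh.D X} (r : Retract K L) (h : DCoh.IsQCohD L) : DCoh.IsQCohD K := fun i => by
  let r' := r.map (DerivedCategory.homologyFunctor X.Modules i)
  haveI : Coh.IsQCoh ((DerivedCategory.homologyFunctor X.Modules i).obj L) := h i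
  refine Coherent.isQCoh_of_iso (Iso.mk (kernel.ι (𝟙 _ - r'.r ≫ r'.i) ≫ r'.r)
    (kernel.lift _ r'.i (by rw [Preadditive.comp_sub, Category.comp_id, reassoc_of% r'.retract, sub_self])) ?_ ?_)
    (h := Coherent.isQCoh_kernel _)
  · rw [← cancel_mono (kernel.ι _), Category.assoc, Category.assoc, kernel.lift_ι, Category.id_comp]
    have := kernel.condition (𝟙 _ - r'.r ≫ r'.i)
    rw [Preadditive.comp_sub, Category.comp_id, sub_eq_zero] at this
    exact this.symm
  · rw [kernel.lift_ι_assoc, r'.retract]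

section Tensor

variable [Flat f] [LocallyOfFinitePresentation f]

/-- A bounded complex of free modules tensored with a relatively perfect object. -/
theorem rp_tensor_free (M : CochainComplex X.Modules ℤ) [DCoh.HasLTensorCx M] (hM : RP f (DerivedCategory.Q.obj M))
    (E : CochainComplex X.Modules ℤ) {a b : ℤ} (hE : DCoh.VanishesOutside E a b)
    (hfree : ∀ i, ∃ n, Nonempty (E.X i ≅ FlatMod.freeMod X n)) :
    RP f ((DCoh.LTensorCx M).obj (DerivedCategory.Q.obj E)) := by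
  obtain ⟨hz, hshift, hext, -⟩ := closure f
  have hF := TenLocal.triExact_LTensor M
  let P : CochainComplex X.Modules ℤ → Prop := fun E => RP f ((DCoh.LTensorCx M).obj (DerivedCategory.Q.obj E))
  have hi : ∀ {E E' : CochainComplex X.Modules ℤ}, (E ≅ E') → P E → P E' := fun e h =>
    rp_iso f ((DCoh.LTensorCx M).mapIso (DerivedCategory.Q.mapIso e)) h
  have h0 : ∀ K : CochainComplex X.Modules ℤ, IsZero K → P K := fun K hK =>
    hz (hF.map_isZero (DerivedCategory.Q.map_isZero hK))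
  have hex : ∀ T : ShortComplex (CochainComplex X.Modules ℤ),
      (∀ n, Nonempty ((T.map (HomologicalComplex.eval X.Modules (ComplexShape.up ℤ) n)).Splitting)) →
      P T.X₁ → P T.X₃ → P T.X₂ := fun T hT h₁ h₃ => by
    have hs : T.ShortExact :=
      HomologicalComplex.shortExact_of_degreewise_shortExact _ fun n => (hT n).some.shortExact
    obtain ⟨δ, hδ⟩ := hF _ (DerivedCategory.triangleOfSES_distinguished hs)
    exact hext hδ h₁ h₃
  have hO : ∀ m : ℤ, P ((single X.Modules (ComplexShape.up ℤ) m).obj (Coh.structureModule X)) := fun m => by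
    let O := (single X.Modules (ComplexShape.up ℤ) 0).obj (Coh.structureModule X)
    have e₀ : (single X.Modules (ComplexShape.up ℤ) m).obj (Coh.structureModule X) ≅ O⟦-m⟧ :=
      (((CochainComplex.singleFunctors X.Modules).shiftIso (-m) m 0 (by omega)).app _).symm
    obtain ⟨r₀⟩ := RHomLeft.nonempty_flip_single ((shT X).map₂CochainComplex) rfl (X := X)
    obtain ⟨r₁⟩ := RHomLeft.nonempty_flip_shift ((shT X).map₂CochainComplex) rfl O (-m)
    refine rp_iso f ?_ (hshift (-m) hM)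
    exact ((DerivedCategory.Q.commShiftIso (-m)).app M).symm ≪≫
      DerivedCategory.Q.mapIso (((shT X).map₂CochainComplex.flip.mapIso e₀ ≪≫ r₁ ≪≫
        Functor.isoWhiskerRight r₀ _ ≪≫ Functor.leftUnitor _).app M).symm ≪≫
      DerivedCategory.Q.mapIso (ShSymm.symm _ M).symm ≪≫
      (LTensorSheaf.ltensorCxIso M (((RHomLeft.isKFlatFor_structure X).shift (-m)).of_iso e₀.symm)).symm
  have hf : ∀ (n : ℕ) (m : ℤ), P ((single X.Modules (ComplexShape.up ℤ) m).obj (FlatMod.freeMod X n)) := by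
    intro n
    induction n with
    | zero => exact fun m => h0 _ ((single _ _ m).map_isZero ProjPerf.isZero_freeMod_zero)
    | succ n ih =>
      intro m
      let T := RHomLeft.sigmaSeq (fun _ : Fin (n + 1) => Coh.structureModule X)
      let sp : T.Splitting := RHomLeft.sigmaSplit (fun _ : Fin (n + 1) => Coh.structureModule X)
      exact hex (T.map (single X.Modules (ComplexShape.up ℤ) m))
        (fun q => ⟨sp.map (single X.Modules (ComplexShape.up ℤ) m ⋙ HomologicalComplex.eval _ _ q)⟩) (hO m) (ih m)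
  exact bounded_induction P (fun N => ∃ n, Nonempty (N ≅ FlatMod.freeMod X n)) h0
    (fun N hN => ⟨0, ⟨hN.iso ProjPerf.isZero_freeMod_zero⟩⟩) (fun N N' e ⟨n, ⟨g⟩⟩ => ⟨n, ⟨e.symm ≪≫ g⟩⟩)
    (fun m N ⟨n, ⟨g⟩⟩ => hi ((single _ _ _).mapIso g).symm (hf n _)) hex a (b + 1 - a).toNat E
    (fun n hn => hE n (Or.inl hn)) (fun n hn => hE n (Or.inr (by omega))) hfree

/-- A perfect object tensored with a relatively perfect one. -/
theorem rp_tensor (M : CochainComplex X.Modules ℤ) [DCoh.HasLTensorCx M] (hM : RP f (DerivedCategory.Q.obj M))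
    {K : DCoh.D X} (hK : DCoh.IsPerfect K) : RP f ((DCoh.LTensorCx M).obj K) := by
  refine rp_of_local f _ fun x => ?_
  obtain ⟨W, k, hk, E, a, b, hx, hE, hfree, ⟨e⟩⟩ := exists_free_model hK x
  refine ⟨W, k, hk, hx, ?_⟩
  obtain ⟨M', hM', ⟨eM⟩, hres⟩ := TenLocal.nonempty_rd_LTensor k M
  obtain ⟨eK⟩ := hres K
  exact rp_iso _ ((DCoh.LTensorCx M').mapIso e ≪≫ eK.symm)
    (rp_tensor_free (k ≫ f) M' (rp_iso _ eM.symm (rp_rd f k hM)) E hE hfree)

/-- Perfect objects are relatively perfect. -/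
theorem rp_perfect {K : DCoh.D X} (hK : DCoh.IsPerfect K) : RP f K := by
  haveI := LTensorSheaf.hasLTensorCx ((single X.Modules (ComplexShape.up ℤ) 0).obj (Coh.structureModule X))
  obtain ⟨u⟩ := RHomLeft.nonempty_LTensor_structure (X := X)
  exact rp_iso f (u.app K) (rp_tensor f _ (rp_structure f) hK)

end Tensor

end Groth.Agent.Dual22Lib.RelPerfClosure
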