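import Mathlib.CategoryTheory.Triangulated.Functor
import Mathlib.CategoryTheory.Triangulated.Yoneda
import Mathlib.CategoryTheory.Limits.Shapes.Products
import Mathlib.CategoryTheory.ObjectProperty.Basic

/-!
# Natural transformations between weakly exact functors

A functor is `TriExact` if the first two maps of a distinguished triangle go to those of a distinguished
triangle.  The objects at all shifts of which a natural transformation of such functors is invertible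
are closed under cones; `exists_natTrans` builds natural transformations on a localised category from
their values on a class of objects computing the morphisms.
-/

set_option autoImplicit false
set_option linter.style.haveILetI false
set_option linter.unusedSectionVars false

universe w v v' v'' u u' u''

open CategoryTheory CategoryTheory.Limits CategoryTheory.Pretriangulated
open scoped ZeroObject

namespace Groth.Agent.Dual22Lib.WeakExact

section Tri

variable {C : Type u} [Category.{v} C] [Preadditive C] [HasZeroObject C] [HasShift C ℤ]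
  [∀ n : ℤ, (shiftFunctor C n).Additive] [Pretriangulated C]
  {D : Type u'} [Category.{v'} D] [Preadditive D] [HasZeroObject D] [HasShift D ℤ]
  [∀ n : ℤ, (shiftFunctor D n).Additive] [Pretriangulated D]

/-- The first two maps of a distinguished triangle go to those of a distinguished triangle. -/
def TriExact (F : C ⥤ D) : Prop :=
  ∀ T ∈ distTriang C, ∃ δ : F.obj T.obj₃ ⟶ (F.obj T.obj₁)⟦(1 : ℤ)⟧,
    Triangle.mk (F.map T.mor₁) (F.map T.mor₂) δ ∈ distTriang D

theorem triExact_of_isTriangulated (F : C ⥤ D) [F.CommShift ℤ] [F.IsTriangulated] : TriExact F :=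
  fun T hT => ⟨_, F.map_distinguished T hT⟩

theorem TriExact.of_iso {F G : C ⥤ D} (e : F ≅ G) (hF : TriExact F) : TriExact G := fun T hT => by
  obtain ⟨δ, hδ⟩ := hF T hT
  refine ⟨(e.app T.obj₃).inv ≫ δ ≫ (e.app T.obj₁).hom⟦(1 : ℤ)⟧', isomorphic_distinguished _ hδ _ ?_⟩
  refine Triangle.isoMk _ _ (e.app _).symm (e.app _).symm (e.app _).symm ?_ ?_ ?_
  · exact e.inv.naturality T.mor₁
  · exact e.inv.naturality T.mor₂
  · show (e.inv.app _ ≫ δ ≫ (e.hom.app _)⟦(1 : ℤ)⟧') ≫ (e.inv.app _)⟦(1 : ℤ)⟧' = e.inv.app _ ≫ δ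
    rw [Category.assoc, Category.assoc, ← Functor.map_comp, Iso.hom_inv_id_app, CategoryTheory.Functor.map_id]
    exact congrArg (_ ≫ ·) (Category.comp_id δ)

variable {E : Type u''} [Category.{v''} E] [Preadditive E] [HasZeroObject E] [HasShift E ℤ]
  [∀ n : ℤ, (shiftFunctor E n).Additive] [Pretriangulated E]

theorem TriExact.comp {F : C ⥤ D} {G : D ⥤ E} (hF : TriExact F) (hG : TriExact G) : TriExact (F ⋙ G) :=
  fun T hT => by
    obtain ⟨δ, hδ⟩ := hF T hT
    obtain ⟨δ', hδ'⟩ := hG _ hδ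
    exact ⟨δ', hδ'⟩

theorem TriExact.map_isZero {F : C ⥤ D} (hF : TriExact F) {X : C} (hX : IsZero X) : IsZero (F.obj X) := by
  obtain ⟨δ, hδ⟩ := hF _ (contractible_distinguished X)
  have h : F.map (𝟙 X) ≫ F.map (0 : X ⟶ 0) = 0 := comp_distTriang_mor_zero₁₂ _ hδ
  rw [← F.map_comp, Category.id_comp] at h
  let i : X ≅ (0 : C) := hX.isoZero
  rw [IsZero.iff_id_eq_zero]
  rw [← cancel_mono (F.map i.hom), Category.id_comp, zero_comp, show i.hom = 0 from hX.eq_of_src _ _]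
  exact h

/-- The five lemma for weakly exact functors. -/
theorem isIso_app_obj₃ {F G : C ⥤ D} (hF : TriExact F) (hG : TriExact G) (τ : F ⟶ G) {T : Triangle C}
    (hT : T ∈ distTriang C) (h₁ : IsIso (τ.app T.obj₁)) (h₂ : IsIso (τ.app T.obj₂))
    (h₁' : IsIso (τ.app (T.obj₁⟦(1 : ℤ)⟧))) (h₂' : IsIso (τ.app (T.obj₂⟦(1 : ℤ)⟧))) :
    IsIso (τ.app T.obj₃) := by
  obtain ⟨_, f₀⟩ := hF _ hT
  obtain ⟨_, g₀⟩ := hG _ hT
  obtain ⟨_, f₁⟩ := hF _ (rot_of_distTriang _ hT)
  obtain ⟨_, g₁⟩ := hG _ (rot_of_distTriang _ hT)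
  obtain ⟨_, f₂⟩ := hF _ (rot_of_distTriang _ (rot_of_distTriang _ hT))
  obtain ⟨_, g₂⟩ := hG _ (rot_of_distTriang _ (rot_of_distTriang _ hT))
  dsimp [Triangle.rotate] at f₁ g₁ f₂ g₂
  let a := T.mor₂
  let b := T.mor₃
  let c : T.obj₁⟦(1 : ℤ)⟧ ⟶ T.obj₂⟦(1 : ℤ)⟧ := -T.mor₁⟦(1 : ℤ)⟧'
  refine (isIso_iff_yoneda_map_bijective (τ.app T.obj₃)).2 fun A => ⟨fun x y hxy => ?_, fun x => ?_⟩
  · dsimp at hxy
    let d := x - y
    have hd : d ≫ τ.app T.obj₃ = 0 := by simp [d, hxy]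
    have hb : d ≫ F.map b = 0 := by
      rw [← cancel_mono (τ.app (T.obj₁⟦(1 : ℤ)⟧)), Category.assoc, τ.naturality, reassoc_of% hd]
      simp
    obtain ⟨z, hz⟩ : ∃ z : A ⟶ F.obj T.obj₂, d = z ≫ F.map a := Triangle.coyoneda_exact₂ _ f₁ d hb
    have hz' : (z ≫ τ.app T.obj₂) ≫ G.map a = 0 := by
      rw [Category.assoc, ← τ.naturality, ← Category.assoc, ← hz, hd]
    obtain ⟨w, hw⟩ : ∃ w : A ⟶ G.obj T.obj₁, z ≫ τ.app T.obj₂ = w ≫ G.map T.mor₁ :=
      Triangle.coyoneda_exact₂ _ g₀ _ hz'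
    have hw' : z = (w ≫ inv (τ.app T.obj₁)) ≫ F.map T.mor₁ := by
      rw [← cancel_mono (τ.app T.obj₂), hw]
      simp
    have h0 : F.map T.mor₁ ≫ F.map a = 0 := comp_distTriang_mor_zero₁₂ _ f₀
    refine sub_eq_zero.1 ?_
    show d = 0
    rw [hz, hw', Category.assoc, h0, comp_zero]
  · dsimp
    have h0 : G.map b ≫ G.map c = 0 := comp_distTriang_mor_zero₁₂ _ g₂
    let y := (x ≫ G.map b) ≫ inv (τ.app (T.obj₁⟦(1 : ℤ)⟧))
    have hy : y ≫ F.map c = 0 := by
      rw [← cancel_mono (τ.app (T.obj₂⟦(1 : ℤ)⟧)), Category.assoc, τ.naturality]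
      simp [y, h0]
    obtain ⟨z, hz⟩ : ∃ z : A ⟶ F.obj T.obj₃, y = z ≫ F.map b := Triangle.coyoneda_exact₂ _ f₂ y hy
    have hxz : (x - z ≫ τ.app T.obj₃) ≫ G.map b = 0 := by
      rw [Preadditive.sub_comp, Category.assoc, ← τ.naturality, ← Category.assoc, ← hz]
      simp [y]
    obtain ⟨w, hw⟩ : ∃ w : A ⟶ G.obj T.obj₂, x - z ≫ τ.app T.obj₃ = w ≫ G.map a :=
      Triangle.coyoneda_exact₂ _ g₁ _ hxz
    refine ⟨z + (w ≫ inv (τ.app T.obj₂)) ≫ F.map a, ?_⟩
    show (z + (w ≫ inv (τ.app T.obj₂)) ≫ F.map a) ≫ τ.app T.obj₃ = x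
    rw [Preadditive.add_comp, Category.assoc _ (F.map a), τ.naturality]
    simp [← hw]

/-- Invertibility at all shifts. -/
def IsoShifts {F G : C ⥤ D} (τ : F ⟶ G) : ObjectProperty C := fun K => ∀ n : ℤ, IsIso (τ.app (K⟦n⟧))

theorem IsoShifts.app {F G : C ⥤ D} {τ : F ⟶ G} {K : C} (h : IsoShifts τ K) : IsIso (τ.app K) :=
  (NatTrans.isIso_app_iff_of_iso τ ((shiftFunctorZero C ℤ).app K)).1 (h 0)

theorem IsoShifts.of_iso {F G : C ⥤ D} {τ : F ⟶ G} {K L : C} (e : K ≅ L) (h : IsoShifts τ K) :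
    IsoShifts τ L := fun n => (NatTrans.isIso_app_iff_of_iso τ ((shiftFunctor C n).mapIso e)).1 (h n)

theorem IsoShifts.shift {F G : C ⥤ D} {τ : F ⟶ G} {K : C} (h : IsoShifts τ K) (m : ℤ) :
    IsoShifts τ (K⟦m⟧) := fun n =>
  (NatTrans.isIso_app_iff_of_iso τ ((shiftFunctorAdd C m n).app K)).1 (h (m + n))

theorem IsoShifts.cone {F G : C ⥤ D} (hF : TriExact F) (hG : TriExact G) {τ : F ⟶ G} {T : Triangle C}
    (hT : T ∈ distTriang C) (h₁ : IsoShifts τ T.obj₁) (h₂ : IsoShifts τ T.obj₂) : IsoShifts τ T.obj₃ := fun n =>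
  isIso_app_obj₃ hF hG τ (Triangle.shift_distinguished _ hT n) (h₁ n) (h₂ n) ((h₁.shift n) 1) ((h₂.shift n) 1)

theorem IsoShifts.fibre {F G : C ⥤ D} (hF : TriExact F) (hG : TriExact G) {τ : F ⟶ G} {T : Triangle C}
    (hT : T ∈ distTriang C) (h₂ : IsoShifts τ T.obj₂) (h₃ : IsoShifts τ T.obj₃) : IsoShifts τ T.obj₁ :=
  ((IsoShifts.cone hF hG (rot_of_distTriang _ hT) h₂ h₃).shift (-1)).of_iso
    ((shiftEquiv C (1 : ℤ)).unitIso.app T.obj₁).symm

end Tri

/-- A natural transformation is invertible at a sum preserved by both functors. -/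
theorem isIso_app_of_isColimit {C : Type u} [Category.{v} C] {D : Type u'} [Category.{v'} D] {F G : C ⥤ D}
    (τ : F ⟶ G) {κ : Type w} {Z : κ → C} (c : Cofan Z)
    (hF : IsColimit (F.mapCocone c)) (hG : IsColimit (G.mapCocone c)) (h : ∀ k, IsIso (τ.app (Z k))) :
    IsIso (τ.app c.pt) := by
  let e : Discrete.functor Z ⋙ F ≅ Discrete.functor Z ⋙ G :=
    Discrete.natIso fun k => haveI := h k.as; asIso (τ.app (Z k.as))
  have : τ.app c.pt = (IsColimit.coconePointsIsoOfNatIso hF hG e).hom := hF.hom_ext fun k => by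
    rw [IsColimit.comp_coconePointsIsoOfNatIso_hom]
    exact τ.naturality (c.ι.app k)
  rw [this]
  infer_instance

/-- A natural transformation out of its values on a class of objects computing the morphisms. -/
theorem exists_natTrans {C : Type u} [Category.{v} C] {D : Type u'} [Category.{v'} D]
    {H : Type u''} [Category.{v''} H] (L : C ⥤ D) (P : ObjectProperty C)
    (hobj : ∀ Y : D, ∃ A, P A ∧ Nonempty (L.obj A ≅ Y))
    (hhom : ∀ (A B : C), P A → P B → ∀ u : L.obj A ⟶ L.obj B,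
      ∃ (Z : C) (s : Z ⟶ A) (t : Z ⟶ B), P Z ∧ IsIso (L.map s) ∧ L.map s ≫ u = L.map t)
    (F G : D ⥤ H) (τ₀ : ∀ A, P A → (F.obj (L.obj A) ⟶ G.obj (L.obj A)))
    (hnat : ∀ (A B : C) (hA : P A) (hB : P B) (s : A ⟶ B),
      F.map (L.map s) ≫ τ₀ B hB = τ₀ A hA ≫ G.map (L.map s)) :
    ∃ τ : F ⟶ G, ∀ A (hA : P A), τ.app (L.obj A) = τ₀ A hA := by
  choose R hR e using hobj
  have e' : ∀ Y, L.obj (R Y) ≅ Y := fun Y => (e Y).some
  have key : ∀ (A B : C) (hA : P A) (hB : P B) (u : L.obj A ⟶ L.obj B),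
      F.map u ≫ τ₀ B hB = τ₀ A hA ≫ G.map u := fun A B hA hB u => by
    obtain ⟨Z, s, t, hZ, hs, ht⟩ := hhom A B hA hB u
    haveI := hs
    rw [← cancel_epi (F.map (L.map s)), ← F.map_comp_assoc, ht, hnat Z B hZ hB t, ← Category.assoc,
      hnat Z A hZ hA s, Category.assoc, ← G.map_comp, ht]
  refine ⟨{ app := fun Y => F.map (e' Y).inv ≫ τ₀ _ (hR Y) ≫ G.map (e' Y).hom
            naturality := fun Y Y' v => ?_ }, fun A hA => ?_⟩
  · have hk := key _ _ (hR Y) (hR Y') ((e' Y).hom ≫ v ≫ (e' Y').inv)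
    rw [← cancel_epi (F.map (e' Y).hom), ← cancel_mono (G.map (e' Y').inv)]
    simp only [Category.assoc, Functor.map_comp] at hk ⊢
    rw [← G.map_comp (e' Y').hom, Iso.hom_inv_id, G.map_id, Category.comp_id, hk,
      ← F.map_comp_assoc (e' Y).hom, Iso.hom_inv_id, F.map_id, Category.id_comp]
  · have hk := key _ _ hA (hR _) (e' (L.obj A)).inv
    dsimp
    rw [reassoc_of% hk, ← G.map_comp, Iso.inv_hom_id, G.map_id, Category.comp_id]

end Groth.Agent.Dual22Lib.WeakExact
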