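import Groth.Agent.DQCoh.PerfApprox
import Groth.Agent.DQCoh.RHomQCoh
import Groth.Agent.Dual22Lib.PPFlat
import Groth.Agent.Dual22Lib.FlatPerfPush
import Groth.Agent.Dual22Lib.RelPerfClosure
import Groth.Agent.Dual22Lib.WeakExact

/-!
# Pseudo-coherence and perfectness of direct images, by approximation
-/

set_option autoImplicit false
set_option backward.isDefEq.respectTransparency false
set_option backward.defeqAttrib.useBackward true
set_option linter.style.haveILetI false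
set_option linter.unusedSectionVars false
set_option synthInstance.maxHeartbeats 100000

universe u

open CategoryTheory CategoryTheory.Limits CategoryTheory.Pretriangulated AlgebraicGeometry
open Groth.Agent.DCat Groth.Agent.Dual22Lib.BCSquare

attribute [local instance] HasDerivedCategory.standard
attribute [-instance] Int.instConditionallyCompleteLinearOrder

namespace Groth.Agent.Dual22Lib.PscPush

variable {X S : Scheme.{u}}

/-- A weakly exact functor of bounded cohomological dimension that sends perfect objects to pseudo-coherent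
ones sends pseudo-coherent objects to pseudo-coherent ones. -/
theorem psc_of_test [CompactSpace X] [QuasiSeparatedSpace X] (G : DCoh.D X ⥤ DCoh.D S) (hG : WeakExact.TriExact G)
    (N : ℤ) (hN : ∀ (E : DCoh.D X) (c : ℤ), DCoh.IsQCohD E → E.IsLE c → (G.obj E).IsLE (c + N))
    (hP : ∀ P : DCoh.D X, DCoh.IsPerfect P → ∀ m : ℤ, DCoh.IsPseudoCoherentD m (G.obj P))
    (E : DCoh.D X) (hE : ∀ m : ℤ, DCoh.IsPseudoCoherentD m E) (m : ℤ) :
    DCoh.IsPseudoCoherentD m (G.obj E) := by
  obtain ⟨r, hr⟩ := DQCoh.PerfApprox.full_of_top (DQCoh.PerfApprox.top (X := X)) (⊥ : X.Opens) (by simp)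
  have hq := DQCoh.isQCohD_of_psc hE
  obtain ⟨P, α, hPp, -, hα⟩ := hr (m - N) E hq (hE _) fun i _ x hx => False.elim hx
  obtain ⟨C, v, w, hT⟩ := distinguished_cocone_triangle α
  have hC : C.IsLE (m - N - 1) := (PullPerf.apx_iff_isLE _ _ hT).1 hα
  have hCq : DCoh.IsQCohD C := DQCoh.isQCohD_obj₃ hT (PerfLift.isQCohD_perfect hPp) hq
  obtain ⟨δ, hδ⟩ := hG _ hT
  exact PCTriangle.psc_ext hδ (hP P hPp m)
    (PCTriangle.psc_of_gpsc (PCTriangle.psc_of_isLE (by omega : m - N - 1 + N < m) (hN C _ hCq hC)))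

/-- Direct images of pseudo-coherent objects, on quasi-compact bases. -/
theorem psc_Rpush_of_pp (f : X ⟶ S) [QuasiCompact f] [QuasiSeparated f] [CompactSpace S] [QuasiSeparatedSpace S]
    (hpp : SumAdj.PP f) [DCoh.HasRpush f] (E : DCoh.D X) (hE : ∀ m : ℤ, DCoh.IsPseudoCoherentD m E) (m : ℤ) :
    DCoh.IsPseudoCoherentD m ((DCoh.Rpush f).obj E) := by
  haveI : CompactSpace X := QuasiCompact.compactSpace_of_compactSpace f
  haveI : QuasiSeparatedSpace X := quasiSeparatedSpace_of_quasiSeparated f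
  obtain ⟨_, _⟩ := DCat.exists_commShift_Rpush f
  obtain ⟨N, hN⟩ := SupportAdj.exists_isLE_Rpush f
  exact psc_of_test (DCoh.Rpush f) (WeakExact.triExact_of_isTriangulated _) N hN
    (fun P hP => DQCoh.psc_of_perfect (hpp P hP)) E hE m

/-- Properties of direct images that are local on the base. -/
theorem psc_Rpush_flat (f : X ⟶ S) [IsProper f] [Flat f] [LocallyOfFinitePresentation f] [DCoh.HasRpush f]
    (E : DCoh.D X) (hE : ∀ m : ℤ, DCoh.IsPseudoCoherentD m E) (m : ℤ) :
    DCoh.IsPseudoCoherentD m ((DCoh.Rpush f).obj E) := by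
  refine DQCoh.psc_of_local _ fun y => ?_
  obtain ⟨V, hV, hy, -⟩ := exists_isAffineOpen_mem_and_subset (show y ∈ (⊤ : S.Opens) from trivial)
  let a := hV.fromSpec
  have hU0 := IsPullback.of_hasPullback f a
  haveI := hasRpush a
  haveI := hasRpush (pullback.fst f a)
  haveI := hasRpush (pullback.snd f a)
  haveI := hasLpull a
  haveI := hasLpull (pullback.fst f a)
  obtain ⟨ab⟩ := nonempty_pullPushAdj a
  obtain ⟨abX⟩ := nonempty_pullPushAdj (pullback.fst f a)
  obtain ⟨eb⟩ := exists_e hU0.w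
  haveI := good_of_open hU0 inferInstance inferInstance inferInstance inferInstance inferInstance inferInstance
    ab abX eb E (DQCoh.isQCohD_of_psc hE)
  obtain ⟨β⟩ := nonempty_Lpull_rd a
  exact ⟨_, a, inferInstance, by rw [hV.opensRange_fromSpec]; exact hy,
    PCTriangle.psc_iso ((asIso ((BCAlg.bc ab abX eb).app E)).symm ≪≫ β.app _)
      (psc_Rpush_of_pp (pullback.snd f a) (PPFlat.pp_flat _) _
        (fun k => PullPerf.isPseudoCoherentD_Lpull (pullback.fst f a) k E (hE k)) m)⟩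

/-- Stalks of a locally relatively finite tor dimensional complex. -/
theorem exists_amp_stalk_rel (f : X ⟶ S) (F : CochainComplex X.Modules ℤ)
    (h : DCoh.LocHasFiniteRelTorDim f (DCoh.toD X F)) (x : X) :
    ∃ (V : X.Opens) (a b : ℤ), x ∈ V ∧ ∀ x' ∈ V, DerSch.HasTorAmplitudeAt f a b F x' := by
  obtain ⟨V, a, b, hx, hV⟩ := h x
  obtain ⟨C, hC, hCf, ⟨eC⟩⟩ := hV F ⟨Iso.refl _⟩
  refine ⟨V, a, b, hx, fun x' hx' => ?_⟩
  let k := V.ι
  let v : (V : Scheme.{u}) := ⟨x', hx'⟩
  show DerSch.HasTorAmplitudeAt f a b F (k v)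
  let φ := (k.stalkMap v).hom
  let ψ := (f.stalkMap (k v)).hom
  let adj := ModuleCat.extendRestrictScalarsAdj.{u, u, u} φ
  haveI : (ModuleCat.restrictScalars.{u} φ).IsEquivalence :=
    (ModuleCat.restrictScalarsEquivalenceOfRingEquiv
      (RingEquiv.ofBijective φ (ConcreteCategory.bijective_of_isIso (k.stalkMap v)))).isEquivalence_functor
  haveI := adj.isEquivalence_left_of_isEquivalence_right
  haveI := adj.unit_isIso_of_L_fully_faithful
  let F₀ : X.Modules ⥤ ModuleCat.{u} (X.presheaf.stalk (k v)) := DerSch.stalkFunctor X (k v)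
  let n₀ : F₀ ≅ Scheme.Modules.restrictFunctor k ⋙ DerSch.stalkFunctor _ v ⋙ ModuleCat.restrictScalars.{u} φ :=
    Functor.isoWhiskerLeft F₀ (asIso adj.unit) ≪≫
      Functor.isoWhiskerRight (ModStalk.pullbackStalkIso k v).symm (ModuleCat.restrictScalars.{u} φ) ≪≫
      Functor.isoWhiskerRight (Scheme.Modules.restrictFunctorIsoPullback k).symm
        (DerSch.stalkFunctor _ v ⋙ ModuleCat.restrictScalars.{u} φ)
  let σ := DerSch.stalkFunctor (V : Scheme.{u}) v ⋙ ModuleCat.restrictScalars.{u} φ ⋙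
    ModuleCat.restrictScalars.{u} ψ
  let n : F₀ ⋙ ModuleCat.restrictScalars.{u} ψ ≅ Scheme.Modules.restrictFunctor k ⋙ σ :=
    Functor.isoWhiskerRight n₀ (ModuleCat.restrictScalars.{u} ψ)
  refine ⟨(σ.mapHomologicalComplex (ComplexShape.up ℤ)).obj C, fun i hi => σ.map_isZero (hC i hi), fun i => ?_,
    ⟨(σ.mapDerivedCategoryFactors.app C).symm ≪≫ σ.mapDerivedCategory.mapIso eC ≪≫
      σ.mapDerivedCategoryFactors.app _ ≪≫
      DerivedCategory.Q.mapIso ((NatIso.mapHomologicalComplex n (ComplexShape.up ℤ)).app F).symm⟩⟩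
  have hflat : Module.Flat (S.presheaf.stalk ((k ≫ f) v))
      ((ModuleCat.restrictScalars.{u} ((k ≫ f).stalkMap v).hom).obj
        ((DerSch.stalkFunctor (V : Scheme.{u}) v).obj (C.X i))) := hCf i v
  refine DQCoh.flat_of_iso ?_ hflat
  exact (ModuleCat.restrictScalarsComp'App ψ φ ((k ≫ f).stalkMap v).hom
    (by rw [Scheme.Hom.stalkMap_comp]; rfl) _)

/-- Uniform amplitude on quasi-compact schemes. -/
theorem exists_torAmplitude [CompactSpace X] (f : X ⟶ S) (F : CochainComplex X.Modules ℤ)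
    (h : DCoh.LocHasFiniteRelTorDim f (DCoh.toD X F)) : ∃ a b : ℤ, DerSch.HasTorAmplitude f a b F := by
  classical
  choose V A B hxV hV using exists_amp_stalk_rel f F h
  obtain ⟨t, ht⟩ := isCompact_univ.elim_finite_subcover (fun x : X => (V x : Set X)) (fun x => (V x).2)
    (fun x _ => Set.mem_iUnion.2 ⟨x, hxV x⟩)
  obtain ⟨a₀, ha₀⟩ := (t.image A).bddBelow
  obtain ⟨b₀, hb₀⟩ := (t.image B).bddAbove
  refine ⟨a₀, b₀, fun x => ?_⟩
  obtain ⟨y, hy, hxy⟩ := Set.mem_iUnion₂.1 (ht (Set.mem_univ x))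
  obtain ⟨T, hT, hTf, e⟩ := hV y x hxy
  refine ⟨T, fun i hi => hT i ?_, hTf, e⟩
  have h1 : a₀ ≤ A y := ha₀ (Finset.mem_coe.2 (Finset.mem_image_of_mem A hy))
  have h2 : B y ≤ b₀ := hb₀ (Finset.mem_coe.2 (Finset.mem_image_of_mem B hy))
  omega

/-- Direct images of complexes of finite tor amplitude over the base. -/
theorem exists_torAmplitude_Rpush (f : X ⟶ S) [QuasiCompact f] [QuasiSeparated f] [CompactSpace S]
    [QuasiSeparatedSpace S] [DCoh.HasRpush f] (F : CochainComplex X.Modules ℤ)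
    (hq : DCoh.IsQCohD (DCoh.toD X F)) (a b : ℤ) (hF : DerSch.HasTorAmplitude f a b F) :
    ∃ c : ℤ, a ≤ c ∧ DCoh.HasTorAmplitudeIn a c ((DCoh.Rpush f).obj (DCoh.toD X F)) := by
  obtain ⟨N, hN⟩ := SupportAdj.exists_isLE_Rpush f
  let E := DCoh.toD X F
  have hRq : DCoh.IsQCohD ((DCoh.Rpush f).obj E) := DQCoh.isQCohD_Rpush f E hq
  refine ⟨max a (b + N), le_max_left _ _,
    (S1073.result S _ hRq a (max a (b + N)) (le_max_left _ _)).2 fun G hG _ i hi => ?_⟩
  obtain ⟨P, c, hP, hc⟩ := RelTorDim.exists_resolution G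
  haveI := hc
  haveI := LTensorSheaf.hasLTensorCx P
  haveI := hasLpull f
  let M := ((Scheme.Modules.pullback f).mapHomologicalComplex (ComplexShape.up ℤ)).obj P
  haveI := LTensorSheaf.hasLTensorCx M
  have hPq : DCoh.IsQCohD (DCoh.toD S P) := by
    haveI : IsIso (DerivedCategory.Q.map c) := (DerivedCategory.isIso_Q_map_iff_quasiIso _ c).2 hc
    refine DQCoh.isQCohD_of_iso (asIso (DerivedCategory.Q.map c)).symm ?_
    exact DQCoh.isQCohD_of_iso ((DerivedCategory.singleFunctorIsoCompQ S.Modules 0).app G)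
      (fun k => by
        by_cases hk : k = 0
        · subst hk
          exact Coherent.isQCoh_of_iso ((DerivedCategory.singleFunctorCompHomologyFunctorIso S.Modules 0).app G).symm (h := hG)
        · exact Coherent.isQCoh_of_isZero (by
            rcases lt_or_gt_of_ne hk with hk | hk
            · exact DerivedCategory.isZero_of_isGE _ 0 k hk
            · exact DerivedCategory.isZero_of_isLE _ 0 k hk))
  obtain ⟨T⟩ := RelTorDim.nonempty_LTensorMod_iso G hP c ((DCoh.Rpush f).obj E)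
  let eM : DerivedCategory.Q.obj M ≅ (DCoh.Lpull f).obj (DerivedCategory.Q.obj P) := (PullPerf.lpullIso f hP).symm
  obtain ⟨π⟩ := ProjQCoh.nonempty_projection_qcoh f E hq P hPq M ⟨eM⟩
  let L := (DCoh.LTensorCx M).obj E
  have hz : ∀ k, (k < a ∨ b < k) → IsZero (DCoh.HD L k) := fun k hk =>
    RelTorDim.isZero_HD f F a b hF G hP c k hk
  haveI hge : L.IsGE a := (DerivedCategory.isGE_iff _ _).2 fun k hk => hz k (Or.inl hk)
  haveI hle : L.IsLE b := (DerivedCategory.isLE_iff _ _).2 fun k hk => hz k (Or.inr hk)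
  have hLq : DCoh.IsQCohD L :=
    DQCoh.isQCohD_LTensorCx M (DQCoh.isQCohD_of_iso eM.symm (DQCoh.isQCohD_Lpull f _ hPq)) _ hq
  haveI : ((DCoh.Rpush f).obj L).IsGE a := RepLib.isGE_Rpush f L a
  haveI : ((DCoh.Rpush f).obj L).IsLE (b + N) := hN L b hLq hle
  refine IsZero.of_iso ?_ ((DerivedCategory.homologyFunctor S.Modules i).mapIso (T ≪≫ π))
  rcases hi with hi | hi
  · exact DerivedCategory.isZero_of_isGE _ a i hi
  · exact DerivedCategory.isZero_of_isLE _ (b + N) i (by omega)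

/-- **Relatively perfect objects have perfect direct images.** -/
theorem isPerfect_Rpush_relPerfect (f : X ⟶ S) [IsProper f] [Flat f] [LocallyOfFinitePresentation f]
    [DCoh.HasRpush f] (E : DCoh.D X) (hpc : ∀ m : ℤ, DCoh.IsPseudoCoherentD m E)
    (htor : DCoh.LocHasFiniteRelTorDim f E) : DCoh.IsPerfect ((DCoh.Rpush f).obj E) := by
  refine DQCoh.isPerfect_of_local _ fun y => ?_
  obtain ⟨V, hV, hy, -⟩ := exists_isAffineOpen_mem_and_subset (show y ∈ (⊤ : S.Opens) from trivial)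
  let a := hV.fromSpec
  have hU0 := IsPullback.of_hasPullback f a
  haveI := hasRpush a
  haveI := hasRpush (pullback.fst f a)
  haveI := hasRpush (pullback.snd f a)
  haveI := hasLpull a
  haveI := hasLpull (pullback.fst f a)
  obtain ⟨ab⟩ := nonempty_pullPushAdj a
  obtain ⟨abX⟩ := nonempty_pullPushAdj (pullback.fst f a)
  obtain ⟨eb⟩ := exists_e hU0.w
  haveI := good_of_open hU0 inferInstance inferInstance inferInstance inferInstance inferInstance inferInstance
    ab abX eb E (DQCoh.isQCohD_of_psc hpc)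
  obtain ⟨β⟩ := nonempty_Lpull_rd a
  refine ⟨_, a, inferInstance, by rw [hV.opensRange_fromSpec]; exact hy,
    PCTriangle.perfect_iso ((asIso ((BCAlg.bc ab abX eb).app E)).symm ≪≫ β.app _) ?_⟩
  let f' := pullback.snd f a
  let E' := (DCoh.Lpull (pullback.fst f a)).obj E
  haveI : CompactSpace (pullback f a : Scheme.{u}) := QuasiCompact.compactSpace_of_compactSpace f'
  have hp' : ∀ m, DCoh.IsPseudoCoherentD m E' := fun m => PullPerf.isPseudoCoherentD_Lpull _ m E (hpc m)
  have ht' : DCoh.LocHasFiniteRelTorDim f' E' :=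
    DQCoh.locRel_Lpull_fst f a E hpc htor
  obtain ⟨F, ⟨eF⟩⟩ : ∃ F, Nonempty (DCoh.toD (pullback f a : Scheme.{u}) F ≅ E') :=
    ⟨DerivedCategory.Q.objPreimage E', ⟨DerivedCategory.Q.objObjPreimageIso E'⟩⟩
  have hq : DCoh.IsQCohD (DCoh.toD _ F) := DQCoh.isQCohD_of_iso eF.symm (DQCoh.isQCohD_of_psc hp')
  obtain ⟨c, d, hcd⟩ := exists_torAmplitude f' F (DQCoh.locRel_iso eF.symm ht')
  obtain ⟨e, hce, he⟩ := exists_torAmplitude_Rpush f' F hq c d hcd
  refine PCTriangle.perfect_iso ((DCoh.Rpush f').mapIso eF)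
    (DQCoh.isPerfect_of_flatAmp _ c e hce (DCat.flatAmp_of_torAmp hce he) ?_)
  exact psc_Rpush_flat f' _ (fun m => PCTriangle.psc_iso eF.symm (hp' m)) _

end Groth.Agent.Dual22Lib.PscPush

namespace Groth.Agent.Dual22Lib.PscPush

/-- Direct images of `K ⊗^L E`, tested on perfect `E`. -/
theorem psc_Rpush_LTensor_of_test {X S : Scheme.{u}} [CompactSpace X] [QuasiSeparatedSpace X] [CompactSpace S]
    (f : X ⟶ S) [QuasiCompact f] [QuasiSeparated f] [DCoh.HasRpush f] (K : CochainComplex X.Modules ℤ)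
    (hK : DCoh.IsQCohD (DCoh.toD X K)) (b : ℤ) [(DCoh.toD X K).IsLE b] [DCoh.HasLTensorCx K]
    (h : ∀ E : DCoh.D X, DCoh.IsPerfect E → ∀ m : ℤ,
      DCoh.IsPseudoCoherentD m ((DCoh.Rpush f).obj ((DCoh.LTensorCx K).obj E)))
    (E : DCoh.D X) (hE : ∀ m : ℤ, DCoh.IsPseudoCoherentD m E) (m : ℤ) :
    DCoh.IsPseudoCoherentD m ((DCoh.Rpush f).obj ((DCoh.LTensorCx K).obj E)) := by
  obtain ⟨_, _⟩ := DCat.exists_commShift_Rpush f
  obtain ⟨N, hN⟩ := SupportAdj.exists_isLE_Rpush f
  obtain ⟨K', hK', ⟨e⟩⟩ := DerivedCategory.exists_iso_Q_obj_of_isLE (DCoh.toD X K) b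
  obtain ⟨Q, q, hQk, -, hq, hQ⟩ := DCat.exists_kflat_sheaf_le K' b
    fun n hn => CochainComplex.isZero_of_isStrictlyLE K' b n hn
  haveI := hq
  haveI := LTensorSheaf.hasLTensorCx Q
  obtain ⟨a⟩ := TensorCongr.nonempty_congr (E := K) (E' := Q) (e ≪≫ (asIso (DerivedCategory.Q.map q)).symm)
  refine psc_of_test (DCoh.LTensorCx K ⋙ DCoh.Rpush f)
    ((TenLocal.triExact_LTensor K).comp (WeakExact.triExact_of_isTriangulated _)) (b + N)
    (fun E c hEq hEc => ?_) h E hE m
  haveI := hEc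
  haveI := DQCoh.isLE_LTensor Q hQk b hQ E c
  haveI : ((DCoh.LTensorCx K ⋙ DCoh.Rpush f).obj E).IsLE (c + b + N) := hN _ (c + b) (DQCoh.isQCohD_LTensorCx K hK E hEq)
    ⟨((DerivedCategory.TStructure.t (C := X.Modules)).le (c + b)).prop_of_iso (a.app E).symm (‹((DCoh.LTensorCx Q).obj E).IsLE (c + b)›).le⟩
  exact DerivedCategory.TStructure.t.isLE_of_le _ (c + b + N) _ (by omega)

end Groth.Agent.Dual22Lib.PscPush
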