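import Groth.Agent.Dual22Lib.SupportAdj
import Groth.Agent.Dual22Lib.PscPush
import Groth.Agent.FlatBC14.Main
import Groth.Agent.Coherent.ModExt
import Groth.Agent.Coherent.Vanishing
import Groth.Agent.Coherent.RpushVanish
import Groth.Agent.Coherent.ProjSpaceCoh

/-!
# The cohomological amplitude of `Rf_*` from a bound on modules
-/

set_option autoImplicit false
set_option backward.isDefEq.respectTransparency false
set_option backward.defeqAttrib.useBackward true
set_option linter.style.haveILetI false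
set_option linter.unusedSectionVars false
set_option synthInstance.maxHeartbeats 100000

universe u

open CategoryTheory CategoryTheory.Limits CategoryTheory.Pretriangulated DerivedCategory AlgebraicGeometry TopologicalSpace Opposite
open Groth.Agent.DCat Groth.Agent.SiteDer16

attribute [local instance] HasDerivedCategory.standard
attribute [-instance] Int.instConditionallyCompleteLinearOrder

namespace Groth.Agent.Dual22Lib.RpushBound

variable {X Y : Scheme.{u}}

/-- `Rf_*` of a bounded quasi-coherent object, from a bound on modules. -/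
theorem isLE_Rpush_of_modules (f : X ⟶ Y) [DCoh.HasRpush f] (N : ℕ)
    (hN : ∀ M : X.Modules, Coh.IsQCoh M → ∀ i : ℤ, (N : ℤ) < i → IsZero (DCoh.HD ((DCoh.Rpush f).obj (DCoh.inD X M)) i))
    (E : DCoh.D X) (c d : ℤ) [E.IsGE c] [E.IsLE d] (hE : DCoh.IsQCohD E) :
    ((DCoh.Rpush f).obj E).IsLE (d + N) := by
  obtain ⟨_, _⟩ := exists_commShift_Rpush f
  let t : Triangulated.TStructure (DCoh.D X) := DerivedCategory.TStructure.t
  let tS : Triangulated.TStructure (DCoh.D Y) := DerivedCategory.TStructure.t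
  suffices ∀ (n : ℕ) (K : DCoh.D X), K.IsGE c → K.IsLE (c + n - 1) → K.IsLE d → DCoh.IsQCohD K →
      ((DCoh.Rpush f).obj K).IsLE (d + N) from
    this (d - c + 1).toNat E inferInstance (t.isLE_of_le E d _ (by omega)) inferInstance hE
  intro n
  induction n with
  | zero =>
    intro K _ _ _ _
    exact (DerivedCategory.isLE_iff _ _).2 fun i _ => (DerivedCategory.homologyFunctor Y.Modules i).map_isZero
      ((DCoh.Rpush f).map_isZero (WayOut.isZero_of_isGE_of_isLE K c (c + ((0 : ℕ) : ℤ) - 1) (by omega)))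
  | succ n ih =>
    intro K hge hle hd hK
    by_cases hnd : d ≤ c + n - 1
    · exact ih K hge (t.isLE_of_le K d _ hnd) hd hK
    let e : ℤ := c + n
    have hKlt : (t.truncLT e |>.obj K).IsLE (e - 1) := t.isLE_truncLT_obj _ _ _ (by omega)
    haveI h₁ : ((DCoh.Rpush f).obj (t.truncLT e |>.obj K)).IsLE (d + N) :=
      ih _ inferInstance hKlt (t.isLE_of_le _ (e - 1) _ (by omega)) (DQCoh.isQCohD_truncLT K hK e)
    haveI : K.IsLE e := t.isLE_of_le K (c + (n + 1 : ℕ) - 1) _ (by omega)
    obtain ⟨M, ⟨iso⟩⟩ := DerivedCategory.exists_iso_singleFunctor_obj_of_isGE_of_isLE (t.truncGE e |>.obj K) e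
    have hM : Coh.IsQCoh M := Coherent.isQCoh_of_iso
      (((DerivedCategory.homologyFunctor X.Modules e).mapIso iso) ≪≫
        (DerivedCategory.singleFunctorCompHomologyFunctorIso X.Modules e).app M)
      (h := DQCoh.isQCohD_obj₃ (t.triangleLTGE_distinguished e K) (DQCoh.isQCohD_truncLT K hK e) hK e)
    haveI : ((DCoh.Rpush f).obj ((singleFunctor X.Modules 0).obj M)).IsLE (N : ℤ) :=
      (DerivedCategory.isLE_iff _ _).2 fun i hi => hN M hM i hi
    haveI : (((DCoh.Rpush f).obj ((singleFunctor X.Modules 0).obj M))⟦-e⟧).IsLE (d + N) := by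
      haveI := tS.isLE_shift ((DCoh.Rpush f).obj ((singleFunctor X.Modules 0).obj M)) (N : ℤ) (-e) (N + e) (by omega)
      exact tS.isLE_of_le _ (N + e) _ (by omega)
    haveI h₃ : ((DCoh.Rpush f).obj (t.truncGE e |>.obj K)).IsLE (d + N) :=
      @Triangulated.TStructure.isLE_of_iso _ _ _ _ _ _ _ tS _ _ ((DCoh.Rpush f).mapIso (iso ≪≫ WayOut.singleIso M e) ≪≫
        ((DCoh.Rpush f).commShiftIso (-e)).app _).symm (d + N) ‹_›
    exact tS.isLE₂ _ ((DCoh.Rpush f).map_distinguished _ (t.triangleLTGE_distinguished e K)) _ h₁ h₃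

/-- Vanishing above `r` on `P^r` over an affine scheme. -/
theorem isZero_Rpush_toBase [IsAffine Y] (r : ℕ) [DCoh.HasRpush (CohB1.ProjSpaceOver.toBase r Y)]
    (M : (CohB1.ProjSpaceOver r Y).Modules) (hM : Coh.IsQCoh M) (i : ℤ) (hi : (r : ℤ) < i) :
    IsZero (DCoh.HD ((DCoh.Rpush (CohB1.ProjSpaceOver.toBase r Y)).obj (DCoh.inD _ M)) i) := by
  let P := CohB1.ProjSpaceOver r Y
  let f := CohB1.ProjSpaceOver.toBase r Y
  obtain ⟨p, rfl⟩ := Int.eq_ofNat_of_zero_le (show 0 ≤ i by omega)
  haveI := Coherent.hasInjectiveResolutions_modules P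
  obtain ⟨b⟩ := FlatBC14.nonempty_homology_Rpush f M p
  refine IsZero.of_iso ?_ b
  let π : P ⟶ CohB1.ProjSpace r (ULift.{u} ℤ) := pullback.fst _ _
  haveI : IsAffineHom π := MorphismProperty.pullback_fst _ _
    (inferInstance : IsAffineHom (specULiftZIsTerminal.from Y))
  let D : Fin (r + 1) → P.Opens := fun j =>
    π ⁻¹ᵁ Proj.basicOpen (CohB1.polyGrading r (ULift.{u} ℤ)) (MvPolynomial.X j)
  have hD : ∀ j, IsAffineOpen (D j) := fun j => IsAffineOpen.preimage
    (Proj.isAffineOpen_basicOpen _ _ (ProjLib.X_mem_polyGrading r (ULift.{u} ℤ) j) one_pos) π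
  haveI : (CohB1.ProjSpace r (ULift.{u} ℤ)).IsSeparated :=
    inferInstanceAs (Proj (CohB1.polyGrading r (ULift.{u} ℤ))).IsSeparated
  haveI : P.IsSeparated := ⟨by
    rw [← terminal.comp_from π]
    infer_instance⟩
  have hz : IsZero ((Coh.RpushAb f p).obj (Coh.toAb M)) := by
    refine Coherent.isZero_rpushAb_of_basis f {V : Y.Opens | IsAffineOpen V} Y.isBasis_affineOpens _ p fun V hV => ?_
    have hW : ∀ j, IsAffineOpen (D j ⊓ f ⁻¹ᵁ V) := fun j => by
      haveI : IsAffine (D j : Scheme.{u}) := hD j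
      have h1 := (IsAffineOpen.preimage hV ((D j).ι ≫ f)).image_of_isOpenImmersion (D j).ι
      rwa [Scheme.Hom.comp_preimage, Scheme.Hom.image_preimage_eq_opensRange_inf, Scheme.Opens.opensRange_ι] at h1
    haveI := hM
    have h := Coherent.subsingleton_H'_iSup_affine (X := P) (fun V W hV hW => hV.inf hW) M (r + 1) _ hW p
      (by omega)
    have hc : (⨆ j, D j ⊓ f ⁻¹ᵁ V) = f ⁻¹ᵁ V := by
      rw [← iSup_inf_eq]
      have : (⨆ j, D j) = ⊤ := by
        simp only [D]
        rw [← Scheme.Hom.preimage_iSup, ProjLib.iSup_basicOpen_X]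
        rfl
      rw [this, top_inf_eq]
    rwa [hc] at h
  have hz' : IsZero ((Coherent.toAbFunctor Y).obj ((Coh.Rpush f p).obj M)) :=
    hz.of_iso (Coherent.toAbRpushIso f M p)
  rw [IsZero.iff_id_eq_zero] at hz' ⊢
  exact (Coherent.toAbFunctor Y).map_injective (by rw [CategoryTheory.Functor.map_id, CategoryTheory.Functor.map_zero]; exact hz')

end Groth.Agent.Dual22Lib.RpushBound
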