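import Groth.Agent.Dual22Lib.WeakExact
import Groth.Agent.Dual22Lib.ShSymm
import Groth.Agent.DCat.ProjPerfMain

/-!
# The projection map as a natural transformation on the derived category
-/

set_option autoImplicit false
set_option backward.isDefEq.respectTransparency false
set_option backward.defeqAttrib.useBackward true
set_option linter.style.haveILetI false
set_option synthInstance.maxHeartbeats 100000

universe u

open CategoryTheory CategoryTheory.Limits CategoryTheory.Pretriangulated AlgebraicGeometry HomologicalComplex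
open Groth.Agent.ModStalk Groth.Agent.DCat Groth.Agent.DCat.ProjPerf

attribute [local instance] HasDerivedCategory.standard

namespace Groth.Agent.Dual22Lib.ProjQCoh

variable {X Y : Scheme.{u}} (f : X ⟶ Y)

/-- `Lf^* Q N ≅ Q f^* N` is natural. -/
theorem lpullIso_natural [DCoh.HasLpull f] {N N' : CochainComplex Y.Modules ℤ} (hN : IsKFlatFor (shT Y) N)
    (hN' : IsKFlatFor (shT Y) N') (g : N ⟶ N') :
    (DCoh.Lpull f).map (DerivedCategory.Q.map g) ≫ (PullPerf.lpullIso f hN').hom =
      (PullPerf.lpullIso f hN).hom ≫ DerivedCategory.Q.map ((pullC f).map g) := by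
  have h₁ := congrArg (DCoh.Lpull f).map ((DerivedCategory.quotientCompQhIso Y.Modules).inv.naturality g)
  have h₂ := ((DCoh.pullKh f).totalLeftDerivedCounit DerivedCategory.Qh
    (HomotopyCategory.quasiIso Y.Modules (ComplexShape.up ℤ))).naturality
      ((HomotopyCategory.quotient Y.Modules (ComplexShape.up ℤ)).map g)
  have h₃ := (DerivedCategory.quotientCompQhIso X.Modules).hom.naturality ((pullC f).map g)
  rw [Functor.map_comp, Functor.map_comp] at h₁
  simp only [Functor.comp_map] at h₁ h₂ h₃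
  show _ ≫ (DCoh.Lpull f).map ((DerivedCategory.quotientCompQhIso Y.Modules).inv.app N') ≫ _ ≫ _ =
    ((DCoh.Lpull f).map ((DerivedCategory.quotientCompQhIso Y.Modules).inv.app N) ≫ _ ≫ _) ≫ _
  refine (Category.assoc _ _ _).symm.trans ((congrArg (· ≫ _) h₁).trans ?_)
  refine (Category.assoc _ _ _).trans (Eq.trans ?_ ((Category.assoc _ _ _).trans
    (congrArg (_ ≫ ·) (Category.assoc _ _ _))).symm)
  refine congrArg (_ ≫ ·) ?_
  refine (Category.assoc _ _ _).symm.trans ((congrArg (· ≫ _) h₂).trans ((Category.assoc _ _ _).trans ?_))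
  exact congrArg (_ ≫ ·) h₃

/-- Every morphism between images of complexes is a roof through a K-flat complex. -/
theorem exists_kflat_roof {A B : CochainComplex Y.Modules ℤ} (u : DerivedCategory.Q.obj A ⟶ DerivedCategory.Q.obj B) :
    ∃ (Z : CochainComplex Y.Modules ℤ) (s : Z ⟶ A) (t : Z ⟶ B), IsKFlatFor (shT Y) Z ∧
      IsIso (DerivedCategory.Q.map s) ∧ DerivedCategory.Q.map s ≫ u = DerivedCategory.Q.map t := by
  obtain ⟨Z₀, s₀, hs₀, t₀, ht₀⟩ := DerivedCategory.right_fac u
  obtain ⟨Z, c, hZ, -, hc, -⟩ := exists_kflat_sheaf Z₀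
  haveI := hc
  haveI := hs₀
  refine ⟨Z, c ≫ s₀, c ≫ t₀, hZ, ?_, ?_⟩
  · rw [Functor.map_comp]
    infer_instance
  · rw [ht₀, Functor.map_comp, Functor.map_comp, Category.assoc, IsIso.hom_inv_id_assoc]

theorem exists_kflat_obj (K : DCoh.D Y) : ∃ A : CochainComplex Y.Modules ℤ,
    IsKFlatFor (shT Y) A ∧ Nonempty (DerivedCategory.Q.obj A ≅ K) := PullPerf.exists_kflat_rep K

theorem counit_natural (E : CochainComplex Y.Modules ℤ) [DCoh.HasLTensorCx E] {P P' : CochainComplex Y.Modules ℤ}
    (g : P ⟶ P') :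
    (DCoh.LTensorCx E).map (DerivedCategory.Q.map g) ≫ (LTensorSheaf.counit E).app P' =
      (LTensorSheaf.counit E).app P ≫ DerivedCategory.Q.map (totMap₁ (shT Y) g E) :=
  (LTensorSheaf.counit E).naturality g

variable [DCoh.HasRpush f] [DCoh.HasLpull f] (I : CochainComplex X.Modules ℤ) [DCoh.HasLTensorCx I]
  [DCoh.HasLTensorCx ((pushC f).obj I)]

/-- The source of the projection map. -/
noncomputable abbrev srcF : DCoh.D Y ⥤ DCoh.D Y := DCoh.LTensorCx ((pushC f).obj I)

/-- The target of the projection map. -/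
noncomputable abbrev tgtF : DCoh.D Y ⥤ DCoh.D Y := DCoh.Lpull f ⋙ DCoh.LTensorCx I ⋙ DCoh.Rpush f

/-- Evaluation of the target at a K-flat complex. -/
noncomputable def tgtIso {P : CochainComplex Y.Modules ℤ} (hP : IsKFlatFor (shT Y) P) :
    (tgtF f I).obj (DerivedCategory.Q.obj P) ≅
      (DCoh.Rpush f).obj (DerivedCategory.Q.obj (tot (shT X) I ((pullC f).obj P))) :=
  (DCoh.Rpush f).mapIso ((DCoh.LTensorCx I).mapIso (PullPerf.lpullIso f hP) ≪≫
    LTensorSheaf.ltensorCxIso I (PullTot.isKFlatFor_pullback f hP) ≪≫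
    DerivedCategory.Q.mapIso (ShSymm.symm ((pullC f).obj P) I))

/-- Evaluation of the source at a K-flat complex. -/
noncomputable def srcIso {P : CochainComplex Y.Modules ℤ} (hP : IsKFlatFor (shT Y) P) :
    (srcF f I).obj (DerivedCategory.Q.obj P) ≅ DerivedCategory.Q.obj (tot (shT Y) ((pushC f).obj I) P) :=
  LTensorSheaf.ltensorCxIso ((pushC f).obj I) hP ≪≫ DerivedCategory.Q.mapIso (ShSymm.symm P ((pushC f).obj I))

omit [DCoh.HasRpush f] [DCoh.HasLTensorCx I] [DCoh.HasLpull f] in
theorem srcIso_natural {P P' : CochainComplex Y.Modules ℤ} (hP : IsKFlatFor (shT Y) P)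
    (hP' : IsKFlatFor (shT Y) P') (g : P ⟶ P') :
    (srcF f I).map (DerivedCategory.Q.map g) ≫ (srcIso f I hP').hom =
      (srcIso f I hP).hom ≫ DerivedCategory.Q.map (totMap₂ (shT Y) ((pushC f).obj I) g) := by
  show _ ≫ (LTensorSheaf.counit _).app P' ≫ DerivedCategory.Q.map _ =
    ((LTensorSheaf.counit _).app P ≫ DerivedCategory.Q.map _) ≫ _
  refine (Category.assoc _ _ _).symm.trans ((congrArg (· ≫ _) (counit_natural _ g)).trans ?_)
  refine (Category.assoc _ _ _).trans (Eq.trans ?_ (Category.assoc _ _ _).symm)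
  rw [← Functor.map_comp, ← Functor.map_comp, ShSymm.symm_natural₁]

theorem tgtIso_natural {P P' : CochainComplex Y.Modules ℤ} (hP : IsKFlatFor (shT Y) P)
    (hP' : IsKFlatFor (shT Y) P') (g : P ⟶ P') :
    (tgtF f I).map (DerivedCategory.Q.map g) ≫ (tgtIso f I hP').hom =
      (tgtIso f I hP).hom ≫
        (DCoh.Rpush f).map (DerivedCategory.Q.map (totMap₂ (shT X) I ((pullC f).map g))) := by
  show (DCoh.Rpush f).map _ ≫ (DCoh.Rpush f).map _ = (DCoh.Rpush f).map _ ≫ _
  rw [← Functor.map_comp, ← Functor.map_comp]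
  congr 1
  show (DCoh.LTensorCx I).map _ ≫ (DCoh.LTensorCx I).map _ ≫ (LTensorSheaf.counit I).app _ ≫ DerivedCategory.Q.map _ =
    ((DCoh.LTensorCx I).map _ ≫ (LTensorSheaf.counit I).app _ ≫ DerivedCategory.Q.map _) ≫ _
  rw [← Functor.map_comp_assoc, lpullIso_natural f hP hP' g, Functor.map_comp, Category.assoc, Category.assoc,
    Category.assoc, ← Category.assoc ((DCoh.LTensorCx I).map (DerivedCategory.Q.map _)), counit_natural,
    Category.assoc, ← Functor.map_comp, ← Functor.map_comp, ShSymm.symm_natural₁]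

/-- The projection map, natural on `D(O_Y)`. -/
theorem exists_tau : ∃ τ : srcF f I ⟶ tgtF f I, ∀ (P : CochainComplex Y.Modules ℤ) (hP : IsKFlatFor (shT Y) P),
    τ.app (DerivedCategory.Q.obj P) = (srcIso f I hP).hom ≫ eta f I P ≫ (tgtIso f I hP).inv := by
  refine WeakExact.exists_natTrans DerivedCategory.Q (fun P => IsKFlatFor (shT Y) P) exists_kflat_obj
    (fun A B _ _ u => exists_kflat_roof u) (srcF f I) (tgtF f I)
    (fun P hP => (srcIso f I hP).hom ≫ eta f I P ≫ (tgtIso f I hP).inv) fun A B hA hB s => ?_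
  rw [← cancel_mono (tgtIso f I hB).hom]
  simp only [Category.assoc, Iso.inv_hom_id, Category.comp_id]
  rw [reassoc_of% (srcIso_natural f I hA hB s), eta_natural, tgtIso_natural f I hA hB s, Iso.inv_hom_id_assoc]

end Groth.Agent.Dual22Lib.ProjQCoh
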