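import Groth.Agent.DCat.LTensorSheaf
import Groth.Agent.DCat.PullPerf
import Groth.Agent.DCat.PullTot
import Groth.Agent.DCat.TorSheaf
import Groth.Agent.DCat.ExtKFlat
import Groth.Prelude.Def_DerSch

/-!
# Finite tor amplitude relative to the base bounds `E ⊗^L Lf^* G`
-/

set_option autoImplicit false
set_option backward.isDefEq.respectTransparency false
set_option backward.defeqAttrib.useBackward true
set_option linter.style.haveILetI false
set_option synthInstance.maxHeartbeats 100000

universe u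

open CategoryTheory CategoryTheory.Limits AlgebraicGeometry MonoidalCategory HomologicalComplex
open Groth.Agent.DCat Groth.Agent.ModStalk

attribute [local instance] HasDerivedCategory.standard

namespace Groth.Agent.Dual22Lib.RelTorDim

section Ring

variable {R R' : Type u} [CommRing R] [CommRing R']

theorem quasiIso_totMap₁ {K L : DRing.Cx R} (α : K ⟶ L) [QuasiIso α] {P : DRing.Cx R}
    (hP : IsKFlatFor (modT R) P) : QuasiIso (totMap₁ (modT R) α P) := hP.quasiIso_map α

theorem quasiIso_totMap₂ {K L : DRing.Cx R} (α : K ⟶ L) [QuasiIso α] {P : DRing.Cx R}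
    (hP : IsKFlatFor (modT R) P) : QuasiIso (totMap₂ (modT R) P α) := by
  haveI := hP.quasiIso_map α
  refine (quasiIso_iff_comp_right _ (totSymm P L).hom).1 ?_
  rw [show totMap₂ (modT R) P α ≫ (totSymm P L).hom = (totSymm P K).hom ≫ totMap₁ (modT R) α P from
    totSymm_natural (𝟙 P) α]
  infer_instance

/-- A complex of amplitude `[a, b]` tensored with a resolution of a module. -/
theorem exactAt_tot_ext (φ : R →+* R') (F : DRing.Cx R') (a b : ℤ)
    (h : DRing.HasTorAmplitudeIn R a b
      (DRing.toD (((ModuleCat.restrictScalars.{u} φ).mapHomologicalComplex (ComplexShape.up ℤ)).obj F)))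
    {P Z : DRing.Cx R} (hP : IsKFlatFor (modT R) P) (g : P ⟶ Z) [QuasiIso g]
    (hZ : ∀ n, n ≠ 0 → IsZero (Z.X n)) (i : ℤ) (hi : i < a ∨ b < i) :
    (tot (modT R') F (((ModuleCat.extendScalars.{u, u, u} φ).mapHomologicalComplex (ComplexShape.up ℤ)).obj P)).ExactAt i := by
  rw [exactAt_iff]
  refine (ShortComplex.exact_map_iff_of_faithful _ (ModuleCat.restrictScalars.{u} φ)).1 ?_
  suffices h' : (tot (modT R) (((ModuleCat.restrictScalars.{u} φ).mapHomologicalComplex (ComplexShape.up ℤ)).obj F) P).ExactAt i by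
    have h'' := h'.of_iso (totExtIso φ F P).symm
    rwa [exactAt_iff] at h''
  obtain ⟨T, hT, hTf, ⟨e⟩⟩ := h
  obtain ⟨L, s, hs, t, ht⟩ := DerivedCategory.right_fac e.hom
  haveI := hs
  haveI : IsIso (DerivedCategory.Q.map t) := by
    have : DerivedCategory.Q.map t = DerivedCategory.Q.map s ≫ e.hom := by rw [ht, IsIso.hom_inv_id_assoc]
    rw [this]
    infer_instance
  haveI : QuasiIso s := (DerivedCategory.isIso_Q_map_iff_quasiIso _ s).1 hs
  haveI : QuasiIso t := (DerivedCategory.isIso_Q_map_iff_quasiIso _ t).1 ‹_›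
  haveI := quasiIso_totMap₁ s hP
  haveI := quasiIso_totMap₁ t hP
  refine (quasiIsoAt_iff_exactAt (totMap₁ (modT R) t P) i ?_).1 inferInstance
  refine (quasiIsoAt_iff_exactAt' (totMap₁ (modT R) s P) i ?_).1 inferInstance
  have hTk : IsKFlatFor (modT R) T := isKFlatFor_of_vanishesAbove T b (fun n hn => hT n (Or.inr hn)) hTf
  haveI := quasiIso_totMap₂ g hTk
  refine (quasiIsoAt_iff_exactAt' (totMap₂ (modT R) T g) i ?_).1 inferInstance
  rw [HomologicalComplex.exactAt_iff]
  refine ShortComplex.exact_of_isZero_X₂ _ ((IsZero.iff_id_eq_zero _).2 ?_)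
  refine HomologicalComplex.mapBifunctor.hom_ext fun p q hpq => IsZero.eq_of_src ?_ _ _
  by_cases hq : q = 0
  · have hp : p = i := by
      have hpq' : p + q = i := hpq
      omega
    subst hp
    exact Functor.map_isZero ((modT R).flip.obj (Z.X q)) (hT p hi)
  · exact Functor.map_isZero ((modT R).obj (T.X p)) (hZ q hq)

end Ring

variable {X Y : Scheme.{u}} (f : X ⟶ Y)

/-- `F ⊗ f^* P` for a flat resolution `P` of a module. -/
theorem exactAt_tot_pullback (F : CochainComplex X.Modules ℤ) (a b : ℤ) (hF : DerSch.HasTorAmplitude f a b F)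
    (G : Y.Modules) {P : CochainComplex Y.Modules ℤ} (hP : IsKFlatFor (shT Y) P)
    (c : P ⟶ (HomologicalComplex.single Y.Modules (ComplexShape.up ℤ) 0).obj G) [QuasiIso c] (i : ℤ)
    (hi : i < a ∨ b < i) :
    (tot (shT X) F (((Scheme.Modules.pullback f).mapHomologicalComplex (ComplexShape.up ℤ)).obj P)).ExactAt i := by
  rw [← DCat.exactAt_iff_stalks]
  intro x
  haveI : (ModuleCat.extendScalars (f.stalkMap x).hom).Additive :=
    (ModuleCat.extendRestrictScalarsAdj (f.stalkMap x).hom).left_adjoint_additive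
  haveI := (quasiIso_iff_stalks c).1 inferInstance (f.base x)
  have hx := exactAt_tot_ext (f.stalkMap x).hom ((stalkK x).obj F) a b (hF x)
    ((isKFlatFor_iff_stalks P).1 hP (f.base x)) ((stalkK (f.base x)).map c)
    (fun n hn => (DerSch.stalkFunctor Y (f.base x)).map_isZero
      (HomologicalComplex.isZero_single_obj_X _ _ _ _ hn)) i hi
  let e : (stalkK x).obj (((Scheme.Modules.pullback f).mapHomologicalComplex (ComplexShape.up ℤ)).obj P) ≅
      ((ModuleCat.extendScalars (f.stalkMap x).hom).mapHomologicalComplex (ComplexShape.up ℤ)).obj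
        ((stalkK (f.base x)).obj P) :=
    Hom.isoOfComponents (fun n => (pullbackStalkIso f x).app (P.X n))
      (fun a b _ => ((pullbackStalkIso f x).hom.naturality (P.d a b)).symm)
  exact hx.of_iso (stalkTotIso x _ _ ≪≫
    ((modT (X.presheaf.stalk x)).map₂CochainComplex.obj _).mapIso e).symm

/-- A resolution computing `- ⊗^L G` and `Lf^* G`. -/
theorem exists_resolution (G : Y.Modules) :
    ∃ (P : CochainComplex Y.Modules ℤ) (c : P ⟶ (HomologicalComplex.single Y.Modules (ComplexShape.up ℤ) 0).obj G),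
      IsKFlatFor (shT Y) P ∧ QuasiIso c := by
  obtain ⟨P, c, hP, -, hc, -⟩ := exists_kflat_sheaf ((HomologicalComplex.single Y.Modules (ComplexShape.up ℤ) 0).obj G)
  exact ⟨P, c, hP, hc⟩

/-- `E ⊗^L G` computed by a resolution of `G`. -/
theorem nonempty_LTensorMod_iso (G : Y.Modules) [DCoh.HasLTensorMod G] {P : CochainComplex Y.Modules ℤ}
    (hP : IsKFlatFor (shT Y) P) (c : P ⟶ (HomologicalComplex.single Y.Modules (ComplexShape.up ℤ) 0).obj G)
    [QuasiIso c] [DCoh.HasLTensorCx P] (K : DCoh.D Y) :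
    Nonempty ((DCoh.LTensorMod G).obj K ≅ (DCoh.LTensorCx P).obj K) := by
  obtain ⟨N, hN, ⟨e⟩⟩ := PullPerf.exists_kflat_rep K
  obtain ⟨s⟩ := exists_tot_single_iso (T := shT Y) N G
  haveI : QuasiIso (totMap₂ (shT Y) N c) := by
    rw [quasiIso_iff_stalks]
    intro y
    haveI := (quasiIso_iff_stalks c).1 inferInstance y
    haveI := quasiIso_totMap₂ ((stalkK y).map c) ((isKFlatFor_iff_stalks N).1 hN y)
    have h := stalkTotIso_natural y (𝟙 N) c
    rw [CategoryTheory.Functor.map_id] at h
    refine (quasiIso_iff_comp_right _ (stalkTotIso y N _).hom).1 ?_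
    rw [h]
    infer_instance
  haveI : IsIso (DerivedCategory.Q.map (totMap₂ (shT Y) N c)) :=
    (DerivedCategory.isIso_Q_map_iff_quasiIso _ _).2 ‹_›
  exact ⟨(DCoh.LTensorMod G).mapIso e.symm ≪≫ ltensorModIso G hN ≪≫ DerivedCategory.Q.mapIso s ≪≫
    (asIso (DerivedCategory.Q.map (totMap₂ (shT Y) N c))).symm ≪≫
    (LTensorSheaf.ltensorCxIso' hP N).symm ≪≫ (DCoh.LTensorCx P).mapIso e⟩

/-- The cohomology of `F ⊗^L Lf^* G` is bounded by the relative tor amplitude of `F`. -/
theorem isZero_HD (F : CochainComplex X.Modules ℤ) (a b : ℤ) (hF : DerSch.HasTorAmplitude f a b F)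
    (G : Y.Modules) {P : CochainComplex Y.Modules ℤ} (hP : IsKFlatFor (shT Y) P)
    (c : P ⟶ (HomologicalComplex.single Y.Modules (ComplexShape.up ℤ) 0).obj G) [QuasiIso c]
    [DCoh.HasLTensorCx (((Scheme.Modules.pullback f).mapHomologicalComplex (ComplexShape.up ℤ)).obj P)]
    (i : ℤ) (hi : i < a ∨ b < i) :
    IsZero (DCoh.HD ((DCoh.LTensorCx (((Scheme.Modules.pullback f).mapHomologicalComplex (ComplexShape.up ℤ)).obj P)).obj
      (DCoh.toD X F)) i) := by
  refine IsZero.of_iso ?_ ((DerivedCategory.homologyFunctor X.Modules i).mapIso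
    (LTensorSheaf.ltensorCxIso' (PullTot.isKFlatFor_pullback f hP) F))
  exact (isZero_HD_toD_iff _ i).2 (exactAt_tot_pullback f F a b hF G hP c i hi)

end Groth.Agent.Dual22Lib.RelTorDim
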