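import Groth.Agent.Dual22Lib.SchStalk
import Groth.Agent.RefHullLib.Restrict
import Groth.Agent.S0369
import Groth.Agent.EGA43.FibDepth.LociLocal
import Groth.Agent.CAlgMisc2.Reflexive

/-!
# The bottom cohomology sheaf of a dualizing complex: stalks, `(S_2)`, torsion
-/

set_option autoImplicit false
set_option backward.isDefEq.respectTransparency false
set_option backward.isDefEq.respectTransparency.types false
set_option linter.style.haveILetI false

universe u

open CategoryTheory CategoryTheory.Limits AlgebraicGeometry DerivedCategory TensorProduct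

attribute [local instance] HasDerivedCategory.standard

namespace Groth.Agent.Dual22Lib

section Semilinear

variable {R S : Type u} [CommRing R] [CommRing S] (φ : R ≃+* S) {M N : Type u} [AddCommGroup M] [Module R M]
  [AddCommGroup N] [Module S N] (e : M ≃+ N) (he : ∀ (r : R) (m : M), e (r • m) = φ r • e m)
include he

theorem hasSk_of_semilinear [IsNoetherianRing R] [Module.Finite S N] {k : ℕ}
    (h : _root_.LocCoh.HasSk k S N) : _root_.LocCoh.HasSk k R M := by
  letI : Algebra R S := φ.toRingHom.toAlgebra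
  letI : Module R N := Module.compHom N (algebraMap R S)
  haveI : IsScalarTower R S N := .of_algebraMap_smul fun _ _ => rfl
  have hsurj : Function.Surjective (algebraMap R S) := φ.surjective
  haveI : Module.Finite R S := Module.Finite.of_surjective (Algebra.linearMap R S) hsurj
  haveI : Module.Finite R N := Module.Finite.trans S N
  let e' : M ≃ₗ[R] N := { e with map_smul' := he }
  exact (EGA43.FibDepth.hasSk_congr e' k).2 ((EGA43.FibDepth.hasSk_of_surjective_iff hsurj k).2 h)

theorem isTorsionFree_of_semilinear [Module.IsTorsionFree S N] : Module.IsTorsionFree R M where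
  isSMulRegular r hr m m' hm := e.injective <| by
    have h : φ r • e m = φ r • e m' := by rw [← he, ← he]; exact congrArg e hm
    refine Module.IsTorsionFree.isSMulRegular (R := S) ?_ h
    exact ⟨fun a b hab => φ.symm.injective <| hr.left <| φ.injective <| by simpa using hab,
      fun a b hab => φ.symm.injective <| hr.right <| φ.injective <| by simpa using hab⟩

theorem finite_of_semilinear [Module.Finite S N] : Module.Finite R M := by
  letI : Algebra R S := φ.toRingHom.toAlgebra
  letI : Module R N := Module.compHom N (algebraMap R S)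
  haveI : IsScalarTower R S N := .of_algebraMap_smul fun _ _ => rfl
  haveI : Module.Finite R S := Module.Finite.of_surjective (Algebra.linearMap R S) φ.surjective
  haveI : Module.Finite R N := Module.Finite.trans S N
  let e' : M ≃ₗ[R] N := { e with map_smul' := he }
  exact Module.Finite.equiv e'.symm

end Semilinear

section Tilde

variable (R : CommRingCat.{u}) (y : PrimeSpectrum R) (M : ModuleCat.{u} R)

theorem tilde_stalk_semilinear :
    ∃ (φ : (Spec R).presheaf.stalk y ≃+* Localization.AtPrime y.asIdeal)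
      (e : (tilde M).presheaf.stalk y ≃+ LocalizedModule y.asIdeal.primeCompl M),
      ∀ (r : (Spec R).presheaf.stalk y) m, e (r • m) = φ r • e m := by
  let φ := (StructureSheaf.stalkIso R y).symm
  let T := TopCat.Presheaf.stalk (moduleStructurePresheaf R M).presheaf y
  let L : ((tilde M).presheaf.stalk y) ≃ₗ[R] LocalizedModule y.asIdeal.primeCompl M :=
    (IsLocalizedModule.iso y.asIdeal.primeCompl (tilde.toStalk M y).hom).symm
  refine ⟨φ.toRingEquiv, L.toAddEquiv, fun r m => ?_⟩
  obtain ⟨a, s, hr⟩ := IsLocalization.exists_mk'_eq y.asIdeal.primeCompl (φ r)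
  let r₀ : (structurePresheafInCommRingCat R).stalk y := r
  have h1 : (s : R) • r₀ = algebraMap R ((structurePresheafInCommRingCat R).stalk y) a := by
    apply φ.injective
    rw [map_smul, ← hr, AlgEquiv.commutes]
    rw [Algebra.smul_def, IsLocalization.mk'_spec']
  have h2 : (s : R) • (r • m) = a • m := by
    show (s : R) • ((show (structurePresheafInCommRingCat R).stalk y from r) • (show T from m)) = a • (show T from m)
    rw [← smul_assoc, h1, algebraMap_smul]
  show L (r • m) = φ r • L m
  have h3 : (s : R) • L (r • m) = a • L m :=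
    (L.map_smul _ _).symm.trans ((congrArg L h2).trans (L.map_smul _ _))
  refine (IsLocalization.map_units (Localization.AtPrime y.asIdeal) s).smul_left_cancel.1 ?_
  rw [smul_smul, ← hr, IsLocalization.mk'_spec', algebraMap_smul, algebraMap_smul]
  exact h3

end Tilde

section Affine

variable {A : Type u} [CommRing A] [IsNoetherianRing A] {ω : Dual.D A}

/-- The lowest cohomology module of a dualizing complex at a prime. -/
theorem bottom_local (hω : Dual.IsDualizing A ω) (p : PrimeSpectrum A) (n : ℤ)
    (hlt : ∀ i : ℤ, i < n → p ∉ Module.support A (Dual.HD A ω i)) :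
    _root_.LocCoh.HasSk 2 (Localization.AtPrime p.asIdeal)
        (LocalizedModule p.asIdeal.primeCompl (Dual.HD A ω n)) ∧
      (IsDomain (Localization.AtPrime p.asIdeal) → Module.IsTorsionFree (Localization.AtPrime p.asIdeal)
        (LocalizedModule p.asIdeal.primeCompl (Dual.HD A ω n))) := by
  let B := Localization.AtPrime p.asIdeal
  let N := LocalizedModule p.asIdeal.primeCompl (Dual.HD A ω n)
  haveI : IsNoetherianRing B := IsLocalization.isNoetherianRing p.asIdeal.primeCompl B inferInstance
  rcases subsingleton_or_nontrivial N with hs | hs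
  · refine ⟨fun P _ => ?_, fun _ => ⟨fun r _ a b _ => Subsingleton.elim a b⟩⟩
    haveI : Subsingleton (LocalizedModule P.primeCompl N) :=
      LocalizedModule.instSubsingleton _
    rw [Module.supportDim_eq_bot_of_subsingleton]
    exact min_le_of_right_le bot_le
  let W := (DualLib.extD (algebraMap A B)).obj ω
  have hW : Dual.IsDualizing B W := DualLib.isDualizing_extD p.asIdeal.primeCompl hω
  obtain ⟨c, hc⟩ := DualLib.exists_normalized hW
  let W' := W⟦c⟧
  have hW' : Dual.IsDualizing B W' := DualLib.isDualizing_shift hW c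
  obtain ⟨d, hd⟩ := Groth.Agent.LocCoh.exists_dim_eq (R := B)
  have eW : ∀ i : ℤ, Nonempty (Dual.HD B W' i ≃ₗ[B]
      LocalizedModule p.asIdeal.primeCompl (Dual.HD A ω (c + i))) := fun i => by
    obtain ⟨eT⟩ := DualLib.nonempty_HD_tensor p.asIdeal.primeCompl ω (c + i)
    exact ⟨(((homologyFunctor (ModuleCat.{u} B) 0).shiftIso c i (c + i) rfl).app W).toLinearEquiv ≪≫ₗ
      eT ≪≫ₗ (LocalizedModule.equivTensorProduct p.asIdeal.primeCompl _).symm⟩
  have hco : ∀ q : PrimeSpectrum B, Order.coheight q ≤ (d : ℕ∞) := fun q => by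
    have h : (Order.coheight q : WithBot ℕ∞) ≤ ringKrullDim B := Order.coheight_le_krullDim q
    rw [hd] at h
    exact_mod_cast h
  -- a point of maximal coheight
  obtain ⟨q, hq, hqmin⟩ : ∃ q : PrimeSpectrum B, Order.coheight q = (d : ℕ∞) ∧
      ∀ r : PrimeSpectrum B, r ≤ q → r = q := by
    obtain ⟨l, hl⟩ := (Order.le_krullDim_iff (α := PrimeSpectrum B) (n := d)).1 hd.ge
    have hq : Order.coheight l.head = (d : ℕ∞) :=
      le_antisymm (hco _) (hl ▸ Order.length_le_coheight_head)
    refine ⟨l.head, hq, fun r hr => hr.eq_of_not_lt fun hlt => ?_⟩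
    have h := (Order.coheight_add_one_le hlt).trans (hco r)
    rw [hq] at h
    exact absurd h (not_le.2 (by exact_mod_cast Nat.lt_succ_self d))
  have hne : Nontrivial (Dual.HD B W' (-(d : ℤ))) := by
    have h : q ∈ Module.support B (Dual.HD B W' (-(d : ℤ))) := by
      rw [← (DualLib.eSelf W' (-(d : ℤ))).support_eq]
      exact DualLib.mem_support_of_minimal hW' hc hq B (fun r _ hr => hqmin r hr)
        (by rw [Module.mem_support_iff]; infer_instance)
    obtain ⟨m, hm⟩ := Module.mem_support_iff'.1 h
    exact ⟨⟨m, 0, fun e => hm 1 (fun h1 => q.2.ne_top ((Ideal.eq_top_iff_one _).2 h1)) (by rw [e, smul_zero])⟩⟩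
  have hn : n = c + -(d : ℤ) := by
    refine le_antisymm (not_lt.1 fun h => ?_) (not_lt.1 fun h => ?_)
    · haveI := Module.notMem_support_iff.1 (hlt _ h)
      obtain ⟨e⟩ := eW (-(d : ℤ))
      exact not_subsingleton (Dual.HD B W' (-(d : ℤ))) e.injective.subsingleton
    · obtain ⟨e⟩ := eW (n - c)
      rw [show c + (n - c) = n by omega] at e
      haveI := DualLib.subsingleton_of_lt hW' hc B d (fun r _ => hco r) (n - c) (by omega)
      haveI : Subsingleton (Dual.HD B W' (n - c)) :=
        (DualLib.eSelf W' (n - c)).symm.injective.subsingleton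
      exact not_subsingleton N e.symm.injective.subsingleton
  subst hn
  obtain ⟨e⟩ := eW (-(d : ℤ))
  refine ⟨(EGA43.FibDepth.hasSk_congr e 2).1 (Groth.Agent.S0369.result B W' hW' hc d hd).2, fun _ => ?_⟩
  have hbot : ∀ r : PrimeSpectrum B, Order.coheight r = (d : ℕ∞) → r.asIdeal = ⊥ := fun r hr => by
    by_contra hne'
    let z : PrimeSpectrum B := ⟨⊥, Ideal.isPrime_bot⟩
    have hzr : z < r := lt_of_le_of_ne bot_le fun e => hne' (by rw [← e])
    have h := (Order.coheight_add_one_le hzr).trans (hco z)
    rw [hr] at h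
    exact absurd h (not_le.2 (by exact_mod_cast Nat.lt_succ_self d))
  refine ⟨fun y hy a b hab => ?_⟩
  have hinj := (DualLib.top_degree_exact hW' hc B (c := d) (fun r _ => hco r) y
    fun r _ hr hyr => hy.ne_zero (by rw [hbot r hr] at hyr; exact hyr)).1
  let f := (DualLib.eSelf W' (-(d : ℤ))) ≪≫ₗ e
  apply f.symm.injective
  apply hinj
  show y • f.symm a = y • f.symm b
  rw [← map_smul, ← map_smul]
  exact congrArg f.symm hab

end Affine

section Scheme

variable {X : Scheme.{u}}
  [∀ (U : Scheme.{u}) (j : U ⟶ X) [IsOpenImmersion j], PreservesFiniteLimits (Scheme.Modules.restrictFunctor j)]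
  [∀ (R : CommRingCat.{u}), PreservesFiniteLimits (tilde.functor R)]

/-- Stalks of cohomology sheaves through a chart. -/
theorem stalk_semilinear {A : Type u} [CommRing A] (j : Spec (CommRingCat.of A) ⟶ X)
    [IsOpenImmersion j] {K : DCoh.D X} {ω : Dual.D A}
    (e : (DCoh.restrictD j).obj K ≅ (DCoh.tildeD (CommRingCat.of A)).obj ω)
    (y : PrimeSpectrum A) (i : ℤ) :
    ∃ (φ : X.presheaf.stalk (j y) ≃+* Localization.AtPrime y.asIdeal)
      (ψ : (DCoh.HD K i).presheaf.stalk (j y) ≃+ LocalizedModule y.asIdeal.primeCompl (Dual.HD A ω i)),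
      ∀ r m, ψ (r • m) = φ r • ψ m := by
  let M : X.Modules := DCoh.HD K i
  let N : ModuleCat.{u} A := (homologyFunctor (ModuleCat.{u} A) i).obj ω
  let e1 : (Scheme.Modules.restrictFunctor j).obj M ≅ (tilde.functor (CommRingCat.of A)).obj N :=
    (DCat.SuppOpen.hdMapIso (Scheme.Modules.restrictFunctor j) K i).symm ≪≫
      (homologyFunctor (Spec (CommRingCat.of A)).Modules i).mapIso e ≪≫
      hdTildeIso (CommRingCat.of A) ω i
  obtain ⟨φ₁, e₁, he₁, -, -⟩ := RefHullLib.exists_semilinear_restrict j M y
  let e₂ := ((DerSch.stalkFunctor (Spec (CommRingCat.of A)) y).mapIso e1).toLinearEquiv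
  obtain ⟨φ₃, e₃, he₃⟩ := tilde_stalk_semilinear (CommRingCat.of A) y N
  refine ⟨φ₁.trans φ₃, e₁.trans (e₂.toAddEquiv.trans e₃), fun r m => ?_⟩
  show e₃ (e₂ (e₁ (r • m))) = φ₃ (φ₁ r) • e₃ (e₂ (e₁ m))
  exact (congrArg (fun z => e₃ (e₂ z)) (he₁ r m)).trans
    ((congrArg e₃ (e₂.map_smul _ _)).trans (he₃ _ _))

variable [IsLocallyNoetherian X] {K : DCoh.D X}

theorem bottom_stalk (hK : Dual2.IsDualizingSch X K) (n : ℤ)
    (hlt : ∀ i : ℤ, i < n → IsZero (DCoh.HD K i)) (x : X) :
    Module.Finite (X.presheaf.stalk x) ((DCoh.HD K n).presheaf.stalk x) ∧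
    _root_.LocCoh.HasSk 2 (X.presheaf.stalk x) ((DCoh.HD K n).presheaf.stalk x) ∧
      (IsDomain (X.presheaf.stalk x) →
        Module.IsTorsionFree (X.presheaf.stalk x) ((DCoh.HD K n).presheaf.stalk x)) := by
  obtain ⟨A, _, j, _, y, rfl⟩ := exists_chart x
  obtain ⟨ω, hω, ⟨e⟩⟩ := hK _ j
  haveI := isNoetherianRing_chart j
  obtain ⟨φ, ψ, hψ⟩ := stalk_semilinear j e y n
  have hlt' : ∀ i : ℤ, i < n → y ∉ Module.support A (Dual.HD A ω i) := fun i hi hy => by
    haveI := (nontrivial_stalk_iff j e y i).2 hy
    exact not_subsingleton ((DCoh.HD K i).presheaf.stalk (j y))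
      (DCat.SuppOpen.subsingleton_of_isZero_stalkFunctor _ _
        ((DerSch.stalkFunctor X (j y)).map_isZero (hlt i hi)))
  obtain ⟨h1, h2⟩ := bottom_local hω y n hlt'
  haveI : IsNoetherianRing (Localization.AtPrime y.asIdeal) :=
    IsLocalization.isNoetherianRing y.asIdeal.primeCompl _ inferInstance
  haveI : IsNoetherianRing (X.presheaf.stalk (j y)) := isNoetherianRing_of_ringEquiv _ φ.symm
  haveI : Module.Finite A (Dual.HD A ω n) := hω.finite_cohomology n
  refine ⟨finite_of_semilinear φ ψ hψ, hasSk_of_semilinear φ ψ hψ h1, fun hD => ?_⟩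
  haveI := h2 φ.symm.toMulEquiv.isDomain
  exact isTorsionFree_of_semilinear φ ψ hψ

end Scheme

end Groth.Agent.Dual22Lib
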