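import Groth.Prelude.Def_DualSch
import Groth.Prelude.Def_FlatMod2
import Groth.Agent.DCat.SuppOpen
import Groth.Agent.DualLib.Gorenstein
import Groth.Agent.SegreDim.GorEquiv

/-!
# Dualizing complexes on schemes: stalks, Cohen–Macaulay and Gorenstein loci
-/

set_option autoImplicit false
set_option backward.isDefEq.respectTransparency false
set_option backward.isDefEq.respectTransparency.types false
set_option linter.style.haveILetI false

universe u

open CategoryTheory CategoryTheory.Limits AlgebraicGeometry DerivedCategory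

attribute [local instance] HasDerivedCategory.standard

namespace Groth.Agent.Dual22Lib

section Affine

/-- Cohen–Macaulay points are those with a single cohomology sheaf. -/
theorem isCM_iff_existsUnique {A : Type u} [CommRing A] [IsNoetherianRing A] {ω : Dual.D A}
    (hω : Dual.IsDualizing A ω) (p : PrimeSpectrum A) :
    LocCoh.IsCohenMacaulayLocalRing (Localization.AtPrime p.asIdeal) ↔
      ∃! i : ℤ, p ∈ Module.support A (Dual.HD A ω i) := by
  have hp : p ∈ Module.support A A := by rw [Module.mem_support_iff]; infer_instance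
  obtain ⟨d, n, hd, hn, -, -, hlo, -⟩ := DualLib.local_degrees hω A p hp
  haveI : IsNoetherianRing (Localization.AtPrime p.asIdeal) :=
    IsLocalization.isNoetherianRing p.asIdeal.primeCompl _ inferInstance
  constructor
  · intro h
    exact ⟨_, (DualLib.mem_support_HD_iff hω p _).1 hlo,
      fun i hi => DualLib.unique_degree hω h hi ((DualLib.mem_support_HD_iff hω p _).1 hlo)⟩
  · rintro ⟨i₀, -, huniq⟩
    have key := (DualLib.codepth_le_iff hω A p 0).2 fun i j hi hj => by
      have h1 := huniq i ((DualLib.mem_support_HD_iff hω p i).1 hi)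
      have h2 := huniq j ((DualLib.mem_support_HD_iff hω p j).1 hj)
      omega
    rw [Nat.cast_zero, add_zero] at key
    rw [CAlgH3.isCohenMacaulayLocalRing_iff,
      ← CAlgH3.isCohenMacaulayModule_congr (CAlgH3.localizedModuleSelf p.asIdeal)]
    refine le_antisymm key ?_
    haveI : Nontrivial (LocalizedModule p.asIdeal.primeCompl A) := hp
    exact CAlgH3.depth_le_supportDim

theorem isOpen_cm_affine {A : Type u} [CommRing A] [IsNoetherianRing A] {ω : Dual.D A}
    (hω : Dual.IsDualizing A ω) :
    IsOpen {p : PrimeSpectrum A | LocCoh.IsCohenMacaulayLocalRing (Localization.AtPrime p.asIdeal)} := by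
  convert DualLib.isOpen_codepth hω A 0 using 2
  ext p
  haveI : IsNoetherianRing (Localization.AtPrime p.asIdeal) :=
    IsLocalization.isNoetherianRing p.asIdeal.primeCompl _ inferInstance
  have hp : p ∈ Module.support A A := by rw [Module.mem_support_iff]; infer_instance
  haveI : Nontrivial (LocalizedModule p.asIdeal.primeCompl A) := hp
  rw [CAlgH3.isCohenMacaulayLocalRing_iff,
    ← CAlgH3.isCohenMacaulayModule_congr (CAlgH3.localizedModuleSelf p.asIdeal), Nat.cast_zero,
    add_zero]
  exact ⟨fun h => le_of_eq h, fun h => le_antisymm h CAlgH3.depth_le_supportDim⟩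

end Affine

variable {X : Scheme.{u}}
  [∀ (U : Scheme.{u}) (j : U ⟶ X) [IsOpenImmersion j], PreservesFiniteLimits (Scheme.Modules.restrictFunctor j)]
  [∀ (R : CommRingCat.{u}), PreservesFiniteLimits (tilde.functor R)]

/-- Local rings seen through an affine chart. -/
noncomputable def chartRingEquiv {A : Type u} [CommRing A] (j : Spec (CommRingCat.of A) ⟶ X)
    [IsOpenImmersion j] (y : PrimeSpectrum A) :
    X.presheaf.stalk (j y) ≃+* Localization.AtPrime y.asIdeal :=
  (asIso (j.stalkMap y)).commRingCatIsoToRingEquiv.trans (StructureSheaf.stalkIso A y).symm.toRingEquiv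

omit [∀ (U : Scheme.{u}) (j : U ⟶ X) [IsOpenImmersion j], PreservesFiniteLimits (Scheme.Modules.restrictFunctor j)] in
/-- Cohomology sheaves of the derived tilde functor. -/
noncomputable def hdTildeIso (R : CommRingCat.{u}) (ω : DerivedCategory (ModuleCat.{u} R)) (i : ℤ) :
    (homologyFunctor (Spec (CommRingCat.of R)).Modules i).obj ((DCoh.tildeD R).obj ω) ≅
      (tilde.functor R).obj ((homologyFunctor (ModuleCat.{u} R) i).obj ω) :=
  DCat.SuppOpen.hdMapIso (tilde.functor R) ω i

omit [∀ (U : Scheme.{u}) (j : U ⟶ X) [IsOpenImmersion j], PreservesFiniteLimits (Scheme.Modules.restrictFunctor j)]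
  [∀ (R : CommRingCat.{u}), PreservesFiniteLimits (tilde.functor R)] in
theorem nontrivial_tilde_stalk_iff {R : CommRingCat.{u}} (N : ModuleCat.{u} R) (y : PrimeSpectrum.Top R) :
    Nontrivial ((tilde N).presheaf.stalk y) ↔ y ∈ Module.support R N := by
  rw [Module.mem_support_iff]
  exact (IsLocalizedModule.iso y.asIdeal.primeCompl (tilde.toStalk N y).hom).toEquiv.nontrivial_congr.symm

/-- The support of the cohomology sheaves of a complex presented on a chart. -/
theorem nontrivial_stalk_iff {A : Type u} [CommRing A] (j : Spec (CommRingCat.of A) ⟶ X)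
    [IsOpenImmersion j] {K : DCoh.D X} {ω : Dual.D A}
    (e : (DCoh.restrictD j).obj K ≅ (DCoh.tildeD (CommRingCat.of A)).obj ω)
    (y : PrimeSpectrum A) (i : ℤ) :
    Nontrivial ((DCoh.HD K i).presheaf.stalk (j y)) ↔ y ∈ Module.support A (Dual.HD A ω i) := by
  let M : X.Modules := DCoh.HD K i
  let N : ModuleCat.{u} A := (homologyFunctor (ModuleCat.{u} A) i).obj ω
  let e1 : (Scheme.Modules.restrictFunctor j).obj M ≅ (tilde.functor (CommRingCat.of A)).obj N :=
    (DCat.SuppOpen.hdMapIso (Scheme.Modules.restrictFunctor j) K i).symm ≪≫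
      (homologyFunctor (Spec (CommRingCat.of A)).Modules i).mapIso e ≪≫
      hdTildeIso (CommRingCat.of A) ω i
  let φ : ((Scheme.Modules.restrictFunctor j).obj M).presheaf.stalk y ⟶ M.presheaf.stalk (j y) :=
    (Scheme.Modules.restrictStalkNatIso j y).hom.app M
  haveI : IsIso φ := inferInstanceAs (IsIso ((Scheme.Modules.restrictStalkNatIso j y).hom.app M))
  let q₁ : ((Scheme.Modules.restrictFunctor j).obj M).presheaf.stalk y ≃ M.presheaf.stalk (j y) :=
    Equiv.ofBijective _ (ConcreteCategory.bijective_of_isIso φ)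
  let q₂ : ((Scheme.Modules.restrictFunctor j).obj M).presheaf.stalk y ≃
      ((tilde.functor (CommRingCat.of A)).obj N).presheaf.stalk y :=
    ((DerSch.stalkFunctor (Spec (CommRingCat.of A)) y).mapIso e1).toLinearEquiv.toEquiv
  exact ((q₁.symm.trans q₂).nontrivial_congr).trans
    (nontrivial_tilde_stalk_iff (R := CommRingCat.of A) N y)

variable [IsLocallyNoetherian X]

omit [∀ (U : Scheme.{u}) (j : U ⟶ X) [IsOpenImmersion j], PreservesFiniteLimits (Scheme.Modules.restrictFunctor j)]
  [∀ (R : CommRingCat.{u}), PreservesFiniteLimits (tilde.functor R)] in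
theorem isNoetherianRing_chart {A : Type u} [CommRing A] (j : Spec (CommRingCat.of A) ⟶ X)
    [IsOpenImmersion j] : IsNoetherianRing A := by
  haveI : IsLocallyNoetherian (Spec (CommRingCat.of A)) := isLocallyNoetherian_of_isOpenImmersion j
  have := IsLocallyNoetherian.component_noetherian (X := Spec (CommRingCat.of A)) ⟨⊤, isAffineOpen_top _⟩
  exact isNoetherianRing_of_ringEquiv _ (Scheme.ΓSpecIso (CommRingCat.of A)).commRingCatIsoToRingEquiv

variable {K : DCoh.D X}

omit [∀ (U : Scheme.{u}) (j : U ⟶ X) [IsOpenImmersion j], PreservesFiniteLimits (Scheme.Modules.restrictFunctor j)]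
  [∀ (R : CommRingCat.{u}), PreservesFiniteLimits (tilde.functor R)] [IsLocallyNoetherian X] in
theorem exists_chart (x : X) : ∃ (A : Type u) (_ : CommRing A) (j : Spec (CommRingCat.of A) ⟶ X)
    (_ : IsOpenImmersion j) (y : PrimeSpectrum A), j y = x := by
  obtain ⟨U, hU, hxU, -⟩ := exists_isAffineOpen_mem_and_subset (x := x) (U := ⊤) trivial
  obtain ⟨y, hy⟩ := (hU.range_fromSpec.ge hxU : x ∈ Set.range hU.fromSpec)
  exact ⟨Γ(X, U), inferInstance, hU.fromSpec, inferInstance, y, hy⟩

theorem cm_iff (hK : Dual2.IsDualizingSch X K) (x : X) :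
    LocCoh.IsCohenMacaulayLocalRing (X.presheaf.stalk x) ↔
      ∃! i : ℤ, Nontrivial ((DCoh.HD K i).presheaf.stalk x) := by
  obtain ⟨A, _, j, _, y, rfl⟩ := exists_chart x
  obtain ⟨ω, hω, ⟨e⟩⟩ := hK _ j
  haveI := isNoetherianRing_chart j
  rw [existsUnique_congr fun i => nontrivial_stalk_iff j e y i,
    ← isCM_iff_existsUnique hω y]
  exact ⟨fun h => CAlgH3.isCohenMacaulayLocalRing_of_ringEquiv (chartRingEquiv j y),
    fun h => CAlgH3.isCohenMacaulayLocalRing_of_ringEquiv (chartRingEquiv j y).symm⟩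

theorem isOpen_cm (hK : Dual2.IsDualizingSch X K) :
    IsOpen {x : X | LocCoh.IsCohenMacaulayLocalRing (X.presheaf.stalk x)} := by
  rw [isOpen_iff_forall_mem_open]
  intro x hx
  obtain ⟨A, _, j, _, y, rfl⟩ := exists_chart x
  obtain ⟨ω, hω, -⟩ := hK _ j
  haveI := isNoetherianRing_chart j
  refine ⟨j '' {p | LocCoh.IsCohenMacaulayLocalRing (Localization.AtPrime p.asIdeal)},
    ?_, j.isOpenEmbedding.isOpenMap _ (isOpen_cm_affine hω),
    ⟨y, CAlgH3.isCohenMacaulayLocalRing_of_ringEquiv (chartRingEquiv j y) (h := hx), rfl⟩⟩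
  rintro _ ⟨p, hp, rfl⟩
  exact CAlgH3.isCohenMacaulayLocalRing_of_ringEquiv (chartRingEquiv j p).symm (h := hp)

theorem isOpen_gorenstein (hK : Dual2.IsDualizingSch X K) :
    IsOpen {x : X | LocCoh.IsGorensteinLocalRing (X.presheaf.stalk x)} := by
  rw [isOpen_iff_forall_mem_open]
  intro x hx
  obtain ⟨A, _, j, _, y, rfl⟩ := exists_chart x
  obtain ⟨ω, hω, -⟩ := hK _ j
  haveI := isNoetherianRing_chart j
  refine ⟨j '' {p | LocCoh.IsGorensteinLocalRing (Localization.AtPrime p.asIdeal)},
    ?_, j.isOpenEmbedding.isOpenMap _ (DualLib.isOpen_gorenstein hω),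
    ⟨y, ?_, rfl⟩⟩
  · rintro _ ⟨p, hp, rfl⟩
    haveI : LocCoh.IsGorensteinLocalRing (Localization.AtPrime p.asIdeal) := hp
    exact SegreDim.gorensteinLocal_of_ringEquiv (chartRingEquiv j p).symm
  · haveI : LocCoh.IsGorensteinLocalRing (X.presheaf.stalk (j y)) := hx
    exact SegreDim.gorensteinLocal_of_ringEquiv (chartRingEquiv j y)

omit [∀ (U : Scheme.{u}) (j : U ⟶ X) [IsOpenImmersion j], PreservesFiniteLimits (Scheme.Modules.restrictFunctor j)]
  [∀ (R : CommRingCat.{u}), PreservesFiniteLimits (tilde.functor R)] [IsLocallyNoetherian X] in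
theorem isZero_HD_inD (M : X.Modules) {i : ℤ} (hi : i ≠ 0) : IsZero (DCoh.HD (DCoh.inD X M) i) := by
  rcases lt_or_gt_of_ne hi with h | h
  · exact isZero_of_isGE (DCoh.inD X M) 0 i h
  · exact isZero_of_isLE (DCoh.inD X M) 0 i h

end Groth.Agent.Dual22Lib
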