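import Groth.Agent.AlgSpLib.GorBaseChange
import Groth.Agent.AlgSpLib.SourceRing
import Groth.Agent.FlatMorNoethFib.Basic
import Groth.Agent.DualLib.GorLCI
import Groth.Agent.DualLib.GorFieldExt
import Groth.Agent.Dual22Lib.SchStalk
import Groth.Prelude.Def_Dual3

/-!
# Gorenstein morphisms of schemes: composition, base change, flat sources
-/

set_option autoImplicit false
set_option backward.isDefEq.respectTransparency.types false
set_option linter.style.haveILetI false

universe u

open CategoryTheory CategoryTheory.Limits AlgebraicGeometry IsLocalRing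
open scoped TensorProduct

namespace Groth.Agent.Dual22Lib.GorMor

open Groth.Agent.AlgSpLib

local notation "Gor" => _root_.LocCoh.IsGorensteinLocalRing

variable {X Y Z : Scheme.{u}}

theorem isGorensteinAt_comp_iff (f : X ⟶ Y) (g : Y ⟶ Z) (x : X)
    (hN : IsLocallyNoetherian ((f ≫ g).fiber ((f ≫ g) x))) (hf : (f.stalkMap x).hom.Flat) :
    Dual3.IsGorensteinAt (f ≫ g) x ↔ Dual3.IsGorensteinAt g (f x) ∧ Dual3.IsGorensteinAt f x := by
  rw [gorAt_iff_gorHom, gorAt_iff_gorHom, gorAt_iff_gorHom]
  haveI : IsLocalHom (f.stalkMap x).hom := f.toLRSHom.prop x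
  haveI : IsLocalHom (g.stalkMap (f x)).hom := g.toLRSHom.prop _
  have hc : ((f ≫ g).stalkMap x).hom = (f.stalkMap x).hom.comp (g.stalkMap (f x)).hom := by
    rw [Scheme.Hom.stalkMap_comp]; rfl
  have hN' : IsNoetherianRing (↥(X.presheaf.stalk x) ⧸
      ((maximalIdeal ↥(Z.presheaf.stalk (g (f x)))).map (g.stalkMap (f x)).hom).map (f.stalkMap x).hom) := by
    have h := (isNoetherianRing_fibre_quot_iff (f ≫ g) x).1 inferInstance
    rw [Ideal.map_map, ← hc]
    exact h
  have e : GorHom ((f ≫ g).stalkMap x).hom ↔ GorHom ((f.stalkMap x).hom.comp (g.stalkMap (f x)).hom) := by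
    rw [hc]; exact Iff.rfl
  rw [e]
  exact gorHom_comp_iff _ _ hN' hf

/-- `IsGorensteinAt` is invariant under isomorphisms of the source. -/
theorem isGorensteinAt_iso_comp_iff (i : X ⟶ Y) [IsIso i] (h : Y ⟶ Z) (x : X) :
    Dual3.IsGorensteinAt (i ≫ h) x ↔ Dual3.IsGorensteinAt h (i x) := by
  rw [gorAt_iff_gorHom, gorAt_iff_gorHom]
  let g := (h.stalkMap (i x)).hom
  let σ : ↥(Y.presheaf.stalk (i x)) ≃+* ↥(X.presheaf.stalk x) := (asIso (i.stalkMap x)).commRingCatIsoToRingEquiv
  have hc : ((i ≫ h).stalkMap x).hom = σ.toRingHom.comp g := by rw [Scheme.Hom.stalkMap_comp]; rfl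
  suffices hs : GorHom (σ.toRingHom.comp g) ↔ GorHom g by
    have e : GorHom ((i ≫ h).stalkMap x).hom ↔ GorHom (σ.toRingHom.comp g) := by rw [hc]; exact Iff.rfl
    exact e.trans hs
  refine and_congr ⟨fun hh => ?_, fun hh => RingHom.Flat.comp hh (RingHom.Flat.of_bijective σ.bijective)⟩ ?_
  · have : g = σ.symm.toRingHom.comp (σ.toRingHom.comp g) := RingHom.ext fun a => (σ.symm_apply_apply _).symm
    rw [this]
    exact RingHom.Flat.comp hh (RingHom.Flat.of_bijective σ.symm.bijective)
  · exact (DualLib.GorFlat.gor_congr (Ideal.quotientEquiv _ _ σ (by rw [Ideal.map_map]; rfl))).symm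

theorem isLocallyNoetherian_fiber_of_lft (f : X ⟶ Y) [LocallyOfFiniteType f] (y : Y) :
    IsLocallyNoetherian (f.fiber y) := by
  haveI : LocallyOfFiniteType (f.fiberToSpecResidueField y) := MorphismProperty.pullback_snd _ _ ‹_›
  exact LocallyOfFiniteType.isLocallyNoetherian (f.fiberToSpecResidueField y)

/-- A field-valued point is an embedding of the residue field. -/
theorem exists_residueField_map {K : Type u} [Field K] (g : Spec (CommRingCat.of K) ⟶ Y) :
    ∃ (y : Y) (φ : Y.residueField y ⟶ CommRingCat.of K), Spec.map φ ≫ Y.fromSpecResidueField y = g :=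
  ⟨_, _, (Scheme.SpecToEquivOfField K Y).left_inv g⟩

theorem essFiniteType_residueField {k : Type u} [Field k] (f : X ⟶ Spec (CommRingCat.of k))
    [LocallyOfFiniteType f] (x : X) :
    (Spec.preimage (X.fromSpecResidueField x ≫ f)).hom.EssFiniteType := by
  let T := Spec (CommRingCat.of k)
  let ψ : CommRingCat.of k ⟶ T.residueField (f x) := Spec.preimage (T.fromSpecResidueField (f x))
  obtain ⟨y, φ, hφ⟩ := exists_residueField_map (𝟙 T)
  obtain rfl : y = f x := Subsingleton.elim (α := PrimeSpectrum k) _ _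
  have h1 : ψ ≫ φ = 𝟙 _ := Spec.map_injective (by simp [ψ, T, hφ])
  have hψ : Function.Bijective ψ.hom := by
    have hinv : ∀ a, φ.hom (ψ.hom a) = a := fun a => ConcreteCategory.congr_hom h1 a
    refine ⟨ψ.hom.injective, fun b => ⟨φ.hom b, ?_⟩⟩
    exact φ.hom.injective (hinv _)
  have h2 : Spec.preimage (X.fromSpecResidueField x ≫ f) = ψ ≫ f.residueFieldMap x := Spec.map_injective (by
    simp [ψ, T, Scheme.Hom.SpecMap_residueFieldMap_fromSpecResidueField])
  rw [h2, CommRingCat.hom_comp]
  exact RingHom.EssFiniteType.comp (RingHom.FiniteType.of_surjective _ hψ.2).essFiniteType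
    (FlatMorNoethFib.essFiniteType_residueFieldMap f x)

/-- Gorenstein local rings under an arbitrary extension of the base field. -/
theorem gor_stalk_baseChange_field_iff_of_lft {k k' : Type u} [Field k] [Field k'] [Algebra k k']
    (f : X ⟶ Spec (CommRingCat.of k)) [LocallyOfFiniteType f]
    (x' : ↥(pullback f (Spec.map (CommRingCat.ofHom (algebraMap k k'))))) :
    Gor ((pullback f (Spec.map (CommRingCat.ofHom (algebraMap k k')))).presheaf.stalk x') ↔
      Gor (X.presheaf.stalk ((pullback.fst f (Spec.map (CommRingCat.ofHom (algebraMap k k')))) x')) := by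
  let h := Spec.map (CommRingCat.ofHom (algebraMap k k'))
  let p := pullback.fst f h
  haveI : IsLocallyNoetherian X := LocallyOfFiniteType.isLocallyNoetherian f
  haveI : LocallyOfFiniteType (pullback.snd f h) := MorphismProperty.pullback_snd _ _ ‹_›
  haveI : IsLocallyNoetherian (pullback f h) := LocallyOfFiniteType.isLocallyNoetherian (pullback.snd f h)
  haveI : Flat h := by
    rw [Flat.SpecMap_iff]
    exact RingHom.flat_algebraMap_iff.2 inferInstance
  haveI : Flat p := MorphismProperty.pullback_fst _ _ this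
  letI := (p.stalkMap x').hom.toAlgebra
  haveI : Module.Flat (X.presheaf.stalk (p x')) ((pullback f h).presheaf.stalk x') := Flat.stalkMap p x'
  haveI : IsLocalHom (algebraMap (X.presheaf.stalk (p x')) ((pullback f h).presheaf.stalk x')) :=
    p.toLRSHom.prop x'
  rw [DualLib.GorFlat.gor_flat_iff (A := X.presheaf.stalk (p x')) (B := (pullback f h).presheaf.stalk x')]
  refine and_iff_left ?_
  obtain ⟨e⟩ := CAlgH.CIScheme.fiberStalk_equiv p x'
  refine (DualLib.GorFlat.gor_congr e).2 ?_
  let x := p x'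
  let φ : CommRingCat.of k ⟶ X.residueField x := Spec.preimage (X.fromSpecResidueField x ≫ f)
  letI : Algebra k (X.residueField x) := φ.hom.toAlgebra
  haveI : Algebra.EssFiniteType k (X.residueField x) := essFiniteType_residueField f x
  have hφ : Spec.map (CommRingCat.ofHom (algebraMap k (X.residueField x))) = X.fromSpecResidueField x ≫ f :=
    Spec.map_preimage _
  let e' : p.fiber x ≅ Spec (CommRingCat.of ((X.residueField x) ⊗[k] k')) :=
    pullbackSymmetry _ _ ≪≫ pullbackRightPullbackFstIso f _ (X.fromSpecResidueField x) ≪≫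
      pullback.congrHom hφ.symm rfl ≪≫ pullbackSpecIso k (X.residueField x) k'
  refine (gor_stalk_of_iso e' (p.asFiber x')).2 ?_
  let q := PrimeSpectrum.asIdeal (R := (X.residueField x) ⊗[k] k') (e'.hom (p.asFiber x'))
  exact (DualLib.GorFlat.gor_congr (IsLocalization.algEquiv q.primeCompl
    ((Spec.structureSheaf ((X.residueField x) ⊗[k] k')).presheaf.stalk (e'.hom (p.asFiber x'))) _).toRingEquiv).2
    ((DualLib.GorRing.gorensteinRing_congr (Algebra.TensorProduct.comm k k' (X.residueField x)).toRingEquiv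
      (DualLib.GorRing.gorensteinRing_field_tensor_fg k')).isGorensteinLocalRing_localization q)

/-- Fibres of a morphism locally of finite type under arbitrary base change. -/
theorem gor_fibre_baseChange_iff_of_lft {Y' : Scheme.{u}} (f : X ⟶ Y) (g : Y' ⟶ Y) [LocallyOfFiniteType f]
    (w : ↑(pullback f g)) :
    Gor (((pullback.snd f g).fiber (pullback.snd f g w)).presheaf.stalk ((pullback.snd f g).asFiber w)) ↔
      Gor ((f.fiber (f (pullback.fst f g w))).presheaf.stalk (f.asFiber (pullback.fst f g w))) := by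
  have h : g (pullback.snd f g w) = f (pullback.fst f g w) := by
    rw [← Scheme.Hom.comp_apply, ← Scheme.Hom.comp_apply, pullback.condition]
  let y := f (pullback.fst f g w)
  let s := pullback.snd f g w
  letI : Algebra (IsLocalRing.ResidueField (Y.presheaf.stalk y)) (Y'.residueField s) :=
    (EGA43.DvrCrit.resExt g s h).hom.toAlgebra
  obtain ⟨e, he⟩ := EGA43.DvrCrit.exists_fiber_iso f g s h
  haveI hlft : LocallyOfFiniteType (f.fiberToSpecResidueField y) := MorphismProperty.pullback_snd _ _ ‹_›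
  refine (gor_stalk_of_iso e _).trans ((@gor_stalk_baseChange_field_iff_of_lft _ _ _ _ _ _ (f.fiberToSpecResidueField y) hlft
    (e.hom ((pullback.snd f g).asFiber w))).trans ?_)
  have hx : pullback.fst (f.fiberToSpecResidueField y) _ (e.hom ((pullback.snd f g).asFiber w)) =
      f.asFiber (pullback.fst f g w) := by
    apply (f.fiberι y).isEmbedding.injective
    rw [f.fiberι_asFiber]
    show (FBase.bcπ (f.fiberToSpecResidueField y) (Y'.residueField s) ≫ f.fiberι y)
      (e.hom ((pullback.snd f g).asFiber w)) = pullback.fst f g w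
    rw [← Scheme.Hom.comp_apply, he, Scheme.Hom.comp_apply, Scheme.Hom.fiberι_asFiber]
  exact iff_of_eq (congrArg (fun z : ↥(f.fiber y) => Gor ((f.fiber y).presheaf.stalk z)) hx)

/-- Descent of flatness at a point along a base change that is flat at the point. -/
theorem flat_of_flat_baseChange {Y' : Scheme.{u}} (f : X ⟶ Y) (g : Y' ⟶ Y) (w : ↑(pullback f g))
    (hg : (g.stalkMap (pullback.snd f g w)).hom.Flat) (hf : ((pullback.snd f g).stalkMap w).hom.Flat) :
    (f.stalkMap (pullback.fst f g w)).hom.Flat := by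
  have h1 := FlatLocal.flat_stalkMap_fst f g w hg
  have h2 : ((pullback.fst f g ≫ f).stalkMap w).hom.Flat := by
    have h3 : ((pullback.snd f g ≫ g).stalkMap w).hom.Flat := by
      rw [Scheme.Hom.stalkMap_comp]
      exact RingHom.Flat.comp hg hf
    exact (pullback.condition (f := f) (g := g)).symm ▸ h3
  rw [Scheme.Hom.stalkMap_comp] at h2
  refine flat_of_comp _ _ ?_ h2
  haveI : IsLocalHom ((pullback.fst f g).stalkMap w).hom := (pullback.fst f g).toLRSHom.prop w
  algebraize [((pullback.fst f g).stalkMap w).hom]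
  haveI : IsLocalHom (algebraMap (X.presheaf.stalk (pullback.fst f g w)) ((pullback f g).presheaf.stalk w)) :=
    (pullback.fst f g).toLRSHom.prop w
  exact RingHom.faithfullyFlat_algebraMap_iff.2 Module.FaithfullyFlat.of_flat_of_isLocalHom

/-- Base change, for fibre conditions invariant at the point. -/
theorem baseChange_triple {X' Y' : Scheme.{u}} (f : X ⟶ Y) (g : Y' ⟶ Y) (f' : X' ⟶ Y') (g' : X' ⟶ X)
    (hsq : IsPullback g' f' f g) (x' : X')
    (hfib : ∀ w : ↑(pullback f g),
      Gor (((pullback.snd f g).fiber (pullback.snd f g w)).presheaf.stalk ((pullback.snd f g).asFiber w)) ↔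
        Gor ((f.fiber (f (pullback.fst f g w))).presheaf.stalk (f.asFiber (pullback.fst f g w)))) :
    (Dual3.IsGorensteinAt f (g' x') → Dual3.IsGorensteinAt f' x') ∧
      ((f.stalkMap (g' x')).hom.Flat → Dual3.IsGorensteinAt f' x' → Dual3.IsGorensteinAt f (g' x')) ∧
      ((g.stalkMap (f' x')).hom.Flat → Dual3.IsGorensteinAt f' x' → Dual3.IsGorensteinAt f (g' x')) := by
  obtain ⟨i, hi, rfl, rfl⟩ : ∃ (i : X' ⟶ pullback f g) (_ : IsIso i),
      i ≫ pullback.fst f g = g' ∧ i ≫ pullback.snd f g = f' :=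
    ⟨hsq.isoPullback.hom, inferInstance, hsq.isoPullback_hom_fst, hsq.isoPullback_hom_snd⟩
  rw [isGorensteinAt_iso_comp_iff]
  set w := i x' with hw
  have hg' : (i ≫ pullback.fst f g) x' = pullback.fst f g w := rfl
  have hf' : (i ≫ pullback.snd f g) x' = pullback.snd f g w := rfl
  refine ⟨fun h => ?_, fun h1 h2 => ?_, fun h1 h2 => ?_⟩
  · exact ⟨flat_stalkMap_snd f g w h.1, (hfib w).2 h.2⟩
  · exact ⟨h1, (hfib w).1 h2.2⟩
  · exact ⟨flat_of_flat_baseChange f g w h1 h2.1, (hfib w).1 h2.2⟩

theorem isGorensteinAt_of_flat [IsLocallyNoetherian Y] (f : X ⟶ Y) [Flat f] (hX : Dual3.IsGorenstein X) (x : X) :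
    Dual3.IsGorensteinAt f x ∧ Gor (Y.presheaf.stalk (f x)) := by
  haveI := hX.1
  algebraize [(f.stalkMap x).hom]
  haveI : Module.Flat ↥(Y.presheaf.stalk (f x)) ↥(X.presheaf.stalk x) := Flat.stalkMap f x
  haveI : IsLocalHom (algebraMap ↥(Y.presheaf.stalk (f x)) ↥(X.presheaf.stalk x)) := f.toLRSHom.prop x
  obtain ⟨h1, h2⟩ := (DualLib.GorFlat.gor_flat_iff (A := ↥(Y.presheaf.stalk (f x)))
    (B := ↥(X.presheaf.stalk x))).1 (hX.2 x)
  exact ⟨(gorAt_iff_gorHom f x).2 ⟨Flat.stalkMap f x, h2⟩, h1⟩

theorem isGorenstein_of_lci (f : X ⟶ Y) (hf : Dual3.IsLCIMor f) (hY : Dual3.IsGorenstein Y) :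
    Dual3.IsGorenstein X := by
  haveI := hY.1
  have key : ∀ (U : X.affineOpens) (V : Y.affineOpens) (e : U.1 ≤ f ⁻¹ᵁ V.1),
      (letI := (f.appLE V.1 U.1 e).hom.toAlgebra; LCI.IsLCI Γ(Y, V.1) Γ(X, U.1)) →
        LocCoh.IsGorensteinRing Γ(X, U.1) := fun U V e h => by
    haveI : IsNoetherianRing Γ(Y, V.1) := isNoetherianRing_chart (A := Γ(Y, V.1)) V.2.fromSpec
    have hV : LocCoh.IsGorensteinRing Γ(Y, V.1) :=
      { isGorensteinLocalRing_localization := fun p _ => by
          haveI := hY.2 (V.2.fromSpec ⟨p, inferInstance⟩)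
          exact SegreDim.gorensteinLocal_of_ringEquiv
            (chartRingEquiv (A := Γ(Y, V.1)) V.2.fromSpec ⟨p, inferInstance⟩) }
    letI := (f.appLE V.1 U.1 e).hom.toAlgebra
    exact DualLib.GorLCI.gorensteinRing_of_isLCI hV h
  choose U V e hxU hlci using hf
  constructor
  · have hcov : iSup (fun x => (U x).1) = ⊤ := top_unique fun x _ => TopologicalSpace.Opens.mem_iSup.2 ⟨x, hxU x⟩
    exact (isLocallyNoetherian_iff_of_iSup_eq_top hcov).2 fun x =>
      haveI := key _ _ _ (hlci x); inferInstance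
  · intro x
    haveI := key _ _ _ (hlci x)
    obtain ⟨y, hy⟩ := (U x).2.range_fromSpec.ge (hxU x)
    rw [← hy]
    haveI := LocCoh.IsGorensteinRing.isGorensteinLocalRing_localization (A := Γ(X, (U x).1)) y.asIdeal
    exact SegreDim.gorensteinLocal_of_ringEquiv (chartRingEquiv (A := Γ(X, (U x).1)) (U x).2.fromSpec y).symm

/-- A closed fibre of a flat family over an Artinian local ring. -/
theorem isGorensteinMor_of_closedFibre {A : Type u} [CommRing A] [IsArtinianRing A] [IsLocalRing A]
    (f : X ⟶ Spec (CommRingCat.of A)) [Flat f] {X₀ : Scheme.{u}} (i : X₀ ⟶ X)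
    (q : X₀ ⟶ Spec (CommRingCat.of (IsLocalRing.ResidueField A)))
    (hsq : IsPullback i q f (Spec.map (CommRingCat.ofHom (IsLocalRing.residue A))))
    (hX : Dual3.IsGorenstein X₀) : Dual3.IsGorensteinMor f := fun x => by
  refine ⟨Flat.stalkMap f x, ?_⟩
  let S := Spec (CommRingCat.of A)
  let r : Spec (CommRingCat.of (IsLocalRing.ResidueField A)) ⟶ S := Spec.map (CommRingCat.ofHom (IsLocalRing.residue A))
  haveI : IsClosedImmersion r := IsClosedImmersion.spec_of_surjective _ IsLocalRing.residue_surjective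
  obtain ⟨y, φ, hφ⟩ := exists_residueField_map r
  obtain rfl : y = f x := Subsingleton.elim (α := PrimeSpectrum A) _ _
  haveI : IsClosedImmersion (Spec.map φ ≫ S.fromSpecResidueField (f x)) := by rw [hφ]; infer_instance
  haveI : IsClosedImmersion (Spec.map φ) := IsClosedImmersion.of_comp _ (S.fromSpecResidueField (f x))
  haveI : IsIso φ := (ConcreteCategory.isIso_iff_bijective φ).2 ⟨φ.hom.injective, by
    have h : Function.Surjective (Spec.map φ).appTop :=
      (isClosedImmersion_iff_isAffineHom.1 inferInstance).2 ⊤ (isAffineOpen_top _)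
    have e : φ = (Scheme.ΓSpecIso _).inv ≫ (Spec.map φ).appTop ≫ (Scheme.ΓSpecIso _).hom := by
      rw [Scheme.ΓSpecIso_naturality, Iso.inv_hom_id_assoc]
    rw [e]
    exact (ConcreteCategory.bijective_of_isIso (Scheme.ΓSpecIso _).hom).2.comp
      (h.comp (ConcreteCategory.bijective_of_isIso (Scheme.ΓSpecIso _).inv).2)⟩
  let eK : Spec (CommRingCat.of (IsLocalRing.ResidueField A)) ≅ Spec (S.residueField (f x)) :=
    asIso (Spec.map φ)
  have hsq' : IsPullback i (q ≫ eK.hom) f (S.fromSpecResidueField (f x)) :=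
    IsPullback.of_iso hsq (Iso.refl _) (Iso.refl _) eK (Iso.refl _) (by simp) (by simp) (by simp)
      (by simp [eK, r] at hφ ⊢; exact hφ.symm)
  exact (gor_stalk_of_iso hsq'.isoPullback.symm (f.asFiber x)).2 (hX.2 _)

end Groth.Agent.Dual22Lib.GorMor
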