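import Groth.Agent.Dual22Lib.Chart
import Groth.Agent.Dual22Lib.GorMor
import Groth.Agent.DualLib.GorApps
import Groth.Agent.DCat.PullComp
import Groth.Agent.DCat.LPull
import Groth.Agent.DCat.LTensorModule
import Groth.Agent.CommAlg6.FibreSk
import Groth.Prelude.Def_Dual3

/-!
# Dualizing complexes on schemes and Gorenstein morphisms
-/

set_option autoImplicit false
set_option backward.isDefEq.respectTransparency false
set_option backward.isDefEq.respectTransparency.types false
set_option backward.defeqAttrib.useBackward true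
set_option linter.style.haveILetI false

universe u

open CategoryTheory CategoryTheory.Limits AlgebraicGeometry DerivedCategory IsLocalRing
open scoped TensorProduct

attribute [local instance] HasDerivedCategory.standard

namespace Groth.Agent.Dual22Lib

open Groth.Agent.AlgSpLib

section Points

variable {X Y Z : Scheme.{u}}

theorem isGorensteinAt_openImmersion_comp_iff (i : X ⟶ Y) [IsOpenImmersion i] (h : Y ⟶ Z) (x : X) :
    Dual3.IsGorensteinAt (i ≫ h) x ↔ Dual3.IsGorensteinAt h (i x) := by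
  rw [gorAt_iff_gorHom, gorAt_iff_gorHom]
  let g := (h.stalkMap (i x)).hom
  let σ : ↥(Y.presheaf.stalk (i x)) ≃+* ↥(X.presheaf.stalk x) := (asIso (i.stalkMap x)).commRingCatIsoToRingEquiv
  have hc : ((i ≫ h).stalkMap x).hom = σ.toRingHom.comp g := by rw [Scheme.Hom.stalkMap_comp]; rfl
  suffices hs : GorHom (σ.toRingHom.comp g) ↔ GorHom g by
    have e : GorHom ((i ≫ h).stalkMap x).hom ↔ GorHom (σ.toRingHom.comp g) := by rw [hc]
    exact e.trans hs
  refine and_congr ⟨fun hh => ?_, fun hh => RingHom.Flat.comp hh (RingHom.Flat.of_bijective σ.bijective)⟩ ?_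
  · have : g = σ.symm.toRingHom.comp (σ.toRingHom.comp g) := RingHom.ext fun a => (σ.symm_apply_apply _).symm
    rw [this]
    exact RingHom.Flat.comp hh (RingHom.Flat.of_bijective σ.symm.bijective)
  · exact (DualLib.GorFlat.gor_congr (Ideal.quotientEquiv _ _ σ (by rw [Ideal.map_map]; rfl))).symm

theorem isGorensteinAt_comp_openImmersion_iff (g : X ⟶ Y) (j : Y ⟶ Z) [IsOpenImmersion j] (x : X) :
    Dual3.IsGorensteinAt (g ≫ j) x ↔ Dual3.IsGorensteinAt g x := by
  rw [gorAt_iff_gorHom, gorAt_iff_gorHom]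
  let h := (g.stalkMap x).hom
  let σ : ↥(Z.presheaf.stalk (j (g x))) ≃+* ↥(Y.presheaf.stalk (g x)) :=
    (asIso (j.stalkMap (g x))).commRingCatIsoToRingEquiv
  have hc : ((g ≫ j).stalkMap x).hom = h.comp σ.toRingHom := by rw [Scheme.Hom.stalkMap_comp]; rfl
  suffices hs : GorHom (h.comp σ.toRingHom) ↔ GorHom h by
    have e : GorHom ((g ≫ j).stalkMap x).hom ↔ GorHom (h.comp σ.toRingHom) := by rw [hc]
    exact e.trans hs
  refine and_congr ⟨fun hh => ?_, fun hh => RingHom.Flat.comp (RingHom.Flat.of_bijective σ.bijective) hh⟩ ?_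
  · have : h = (h.comp σ.toRingHom).comp σ.symm.toRingHom :=
      RingHom.ext fun a => (congrArg h (σ.apply_symm_apply a)).symm
    rw [this]
    exact RingHom.Flat.comp (RingHom.Flat.of_bijective σ.symm.bijective) hh
  · refine DualLib.GorFlat.gor_congr (Ideal.quotEquivOfEq ?_)
    rw [← Ideal.map_map]
    congr 1
    exact IsLocalRing.map_maximalIdeal_of_surjective σ.toRingHom σ.surjective

theorem gor_fiber_stalk (f : X ⟶ Y) (hf : ∀ x, Dual3.IsGorensteinAt f x) (y : Y) (z : f.fiber y) :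
    LocCoh.IsGorensteinLocalRing ((f.fiber y).presheaf.stalk z) := by
  suffices key : ∀ (x : X) (y : Y) (z : f.fiber y), f x = y → f.fiberι y z = x →
      LocCoh.IsGorensteinLocalRing ((f.fiber y).presheaf.stalk z) from
    key _ y z ((f.range_fiberι y).le ⟨z, rfl⟩) rfl
  intro x y z hy hz
  subst hy
  have hz' : z = f.asFiber x := (f.fiberι (f x)).isEmbedding.injective (by rw [hz, f.fiberι_asFiber])
  rw [hz']
  exact (hf x).2

/-- Fibre rings of a Gorenstein morphism of affine schemes. -/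
theorem gorensteinRing_fibre_of_gorMor {A B : Type u} [CommRing A] [CommRing B] [Algebra A B] [IsNoetherianRing B]
    (hf : ∀ x, Dual3.IsGorensteinAt (Spec.map (CommRingCat.ofHom (algebraMap A B))) x)
    (p : Ideal A) [p.IsPrime] : LocCoh.IsGorensteinRing (p.Fiber B) := by
  haveI : IsNoetherianRing (p.Fiber B) := CommAlg6.isNoetherianRing_fiber p
  refine { isGorensteinLocalRing_localization := fun Q _ => ?_ }
  let P : PrimeSpectrum A := ⟨p, inferInstance⟩
  let e : (Spec.map (CommRingCat.ofHom (algebraMap A B))).fiber P ≅ Spec (CommRingCat.of (p.Fiber B)) :=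
    Arrow.leftFunc.mapIso (Spec.fiberToSpecResidueFieldIso A B P)
  let q : ↥(Spec (CommRingCat.of (p.Fiber B))) := (⟨Q, inferInstance⟩ : PrimeSpectrum (p.Fiber B))
  have h := (gor_stalk_of_iso e.symm q).2 (gor_fiber_stalk _ hf _ _)
  exact (DualLib.GorFlat.gor_congr (StructureSheaf.stalkIso (p.Fiber B) q).symm.toRingEquiv).1 h

end Points

theorem ringKrullDim_lt_top_of_finiteType {A B : Type u} [CommRing A] [IsNoetherianRing A] [CommRing B] [Algebra A B]
    [Algebra.FiniteType A B] {ω : Dual.D A} (hω : Dual.IsDualizing A ω) : ringKrullDim B < ⊤ := by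
  obtain ⟨N, hN⟩ := DualLib.exists_ringKrullDim_le hω
  obtain ⟨n, f, hf⟩ := Algebra.FiniteType.iff_quotient_mvPolynomial''.1 (inferInstance : Algebra.FiniteType A B)
  refine lt_of_le_of_lt ((ringKrullDim_le_of_surjective f.toRingHom hf).trans ?_)
    (WithBot.coe_lt_coe.2 (ENat.natCast_lt_top (N + n)))
  rw [MvPolynomial.ringKrullDim_of_isNoetherianRing]
  exact (add_le_add hN le_rfl).trans (le_of_eq (by rw [Nat.card_fin]; norm_cast))

variable {X Y : Scheme.{u}}
  [∀ (U V : Scheme.{u}) (j : U ⟶ V) [IsOpenImmersion j], PreservesFiniteLimits (Scheme.Modules.restrictFunctor j)]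
  [∀ (R : CommRingCat.{u}), PreservesFiniteLimits (tilde.functor R)]

/-- Derived pullback in charts. -/
theorem nonempty_lpull_chart (f : X ⟶ Y) [DCoh.HasLpull f] {A B : CommRingCat.{u}}
    (k : Spec B ⟶ X) [IsOpenImmersion k] (j : Spec A ⟶ Y) [IsOpenImmersion j] (φ : A ⟶ B)
    (hcomm : k ≫ f = Spec.map φ ≫ j) [DRing.HasLBaseChange φ.hom] {K : DCoh.D Y} {ω : Dual.D A}
    (e : (DCoh.restrictD j).obj K ≅ (DCoh.tildeD A).obj ω) :
    Nonempty ((DCoh.restrictD k).obj ((DCoh.Lpull f).obj K) ≅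
      (DCoh.tildeD B).obj ((DRing.LBaseChange φ.hom).obj ω)) := by
  haveI := DCat.hasLpull k
  haveI := DCat.hasLpull j
  haveI := DCat.hasLpull (Spec.map φ)
  haveI := DCat.hasLpull (k ≫ f)
  haveI := DCat.hasLpull (Spec.map φ ≫ j)
  obtain ⟨a₁⟩ := DQCoh.nonempty_Lpull_restrict k ((DCoh.Lpull f).obj K)
  obtain ⟨c₁⟩ := DCat.nonempty_LpullComp k f
  obtain ⟨c₂⟩ := DCat.nonempty_LpullComp (Spec.map φ) j
  obtain ⟨a₂⟩ := DQCoh.nonempty_Lpull_restrict j K
  obtain ⟨b⟩ := DQCoh.nonempty_LBaseChange_tildeD φ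
  have key : ∀ (u v : Spec B ⟶ Y) [DCoh.HasLpull u] [DCoh.HasLpull v], u = v →
      Nonempty ((DCoh.Lpull u).obj K ≅ (DCoh.Lpull v).obj K) := by
    intro u v _ _ huv
    subst huv
    exact ⟨Iso.refl _⟩
  obtain ⟨m⟩ := key _ _ hcomm
  exact ⟨a₁.symm ≪≫ c₁.app K ≪≫ m ≪≫ (c₂.app K).symm ≪≫
    (DCoh.Lpull (Spec.map φ)).mapIso (a₂ ≪≫ e) ≪≫ (b.app ω).symm⟩

theorem isGorensteinAt_chart {A B : CommRingCat.{u}} (f : X ⟶ Y) (hf : Dual3.IsGorensteinMor f)
    (k : Spec B ⟶ X) [IsOpenImmersion k] (j : Spec A ⟶ Y) [IsOpenImmersion j] (φ : A ⟶ B)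
    (hcomm : k ≫ f = Spec.map φ ≫ j) : ∀ y, Dual3.IsGorensteinAt (Spec.map φ) y := fun y => by
  have key : ∀ (u v : Spec B ⟶ Y), u = v → Dual3.IsGorensteinAt u y → Dual3.IsGorensteinAt v y := by
    intro u v huv h; subst huv; exact h
  exact (isGorensteinAt_comp_openImmersion_iff (Spec.map φ) j y).1
    (key _ _ hcomm ((isGorensteinAt_openImmersion_comp_iff k f y).2 (hf (k y))))

variable [IsLocallyNoetherian X] [IsLocallyNoetherian Y]

/-- Flatness and finite type of a chart of the morphism. -/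
theorem chart_data (f : X ⟶ Y) (hf : Dual3.IsGorensteinMor f) [LocallyOfFiniteType f]
    {A B : Type u} [CommRing A] [CommRing B] [Algebra A B]
    (k : Spec (CommRingCat.of B) ⟶ X) [IsOpenImmersion k] (j : Spec (CommRingCat.of A) ⟶ Y) [IsOpenImmersion j]
    (hcomm : k ≫ f = Spec.map (CommRingCat.ofHom (algebraMap A B)) ≫ j) :
    Module.Flat A B ∧ Algebra.FiniteType A B ∧
      ∀ (p : Ideal A) [p.IsPrime], LocCoh.IsGorensteinRing (p.Fiber B) := by
  haveI := isNoetherianRing_chart k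
  have hg := isGorensteinAt_chart f hf k j (CommRingCat.ofHom (algebraMap A B)) hcomm
  haveI hflat : Flat (Spec.map (CommRingCat.ofHom (algebraMap A B))) := Flat.of_stalkMap _ fun y => (hg y).1
  haveI : LocallyOfFiniteType (Spec.map (CommRingCat.ofHom (algebraMap A B)) ≫ j) := by
    rw [← hcomm]; infer_instance
  haveI hlft : LocallyOfFiniteType (Spec.map (CommRingCat.ofHom (algebraMap A B))) :=
    locallyOfFiniteType_of_comp _ j
  refine ⟨RingHom.flat_algebraMap_iff.1 ((Flat.SpecMap_iff (f := CommRingCat.ofHom (algebraMap A B))).1 hflat),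
    RingHom.finiteType_algebraMap.1
      ((HasRingHomProperty.Spec_iff (P := @LocallyOfFiniteType) (φ := CommRingCat.ofHom (algebraMap A B))).1 hlft),
    fun p _ => gorensteinRing_fibre_of_gorMor hg p⟩

/-- A Gorenstein morphism pulls dualizing complexes back to dualizing complexes. -/
theorem isDualizingSch_Lpull (f : X ⟶ Y) [LocallyOfFiniteType f] (hf : Dual3.IsGorensteinMor f) [DCoh.HasLpull f]
    {K : DCoh.D Y} (hK : Dual2.IsDualizingSch Y K) : Dual2.IsDualizingSch X ((DCoh.Lpull f).obj K) := by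
  have key : ∀ x : X, ∃ (U : X.affineOpens), x ∈ U.1 ∧
      DualAt (A := Γ(X, U.1)) ((DCoh.Lpull f).obj K) U.2.fromSpec := fun x => by
    obtain ⟨V, hV, hxV, -⟩ := exists_isAffineOpen_mem_and_subset (x := f x) (U := ⊤) trivial
    obtain ⟨U, hU, hxU, hUV⟩ := exists_isAffineOpen_mem_and_subset (x := x) (U := f ⁻¹ᵁ V) hxV
    refine ⟨⟨U, hU⟩, hxU, ?_⟩
    letI : Algebra Γ(Y, V) Γ(X, U) := (f.appLE V U hUV).hom.toAlgebra
    have hcomm : hU.fromSpec ≫ f = Spec.map (CommRingCat.ofHom (algebraMap Γ(Y, V) Γ(X, U))) ≫ hV.fromSpec :=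
      (hV.SpecMap_appLE_fromSpec f hU hUV).symm
    obtain ⟨h1, h2, h3⟩ := chart_data f hf (A := Γ(Y, V)) (B := Γ(X, U)) hU.fromSpec hV.fromSpec hcomm
    haveI := h1
    haveI := h2
    obtain ⟨ω, hω, ⟨e⟩⟩ := hK Γ(Y, V) hV.fromSpec
    haveI := isNoetherianRing_chart (A := Γ(Y, V)) hV.fromSpec
    haveI := isNoetherianRing_chart (A := Γ(X, U)) hU.fromSpec
    haveI : DRing.HasLBaseChange (algebraMap Γ(Y, V) Γ(X, U)) := DCat.hasLBaseChange _
    exact ⟨_, DualLib.isDualizing_LBaseChange_gorenstein (ringKrullDim_lt_top_of_finiteType hω) h3 hω,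
      nonempty_lpull_chart f hU.fromSpec hV.fromSpec (CommRingCat.ofHom (algebraMap Γ(Y, V) Γ(X, U))) hcomm e⟩
  choose U hxU hU using key
  exact isDualizingSch_of_cover _ X (fun x => Γ(X, (U x).1)) (fun x => (U x).2.fromSpec)
    (fun x => ⟨x, by rw [(U x).2.range_fromSpec]; exact hxU x⟩) hU

/-- Descent along a surjective Gorenstein morphism. -/
theorem isDualizingSch_of_Lpull (f : X ⟶ Y) [Surjective f] [LocallyOfFiniteType f] (hf : Dual3.IsGorensteinMor f)
    [DCoh.HasLpull f] {K : DCoh.D Y} (hKq : DCoh.IsQCohD K) (hX : Dual2.IsDualizingSch X ((DCoh.Lpull f).obj K)) :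
    Dual2.IsDualizingSch Y K := by
  have key : ∀ y : Y, ∃ (A : CommRingCat.{u}) (j : Spec A ⟶ Y) (_ : IsOpenImmersion j),
      y ∈ Set.range j ∧ DualAt (A := A) K j := fun y => by
    obtain ⟨x, rfl⟩ := f.surjective y
    obtain ⟨V, hV, hxV, -⟩ := exists_isAffineOpen_mem_and_subset (x := f x) (U := ⊤) trivial
    obtain ⟨U, hU, hxU, hUV⟩ := exists_isAffineOpen_mem_and_subset (x := x) (U := f ⁻¹ᵁ V) hxV
    let A := Γ(Y, V)
    let B := Γ(X, U)
    letI : Algebra A B := (f.appLE V U hUV).hom.toAlgebra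
    have hcomm : hU.fromSpec ≫ f = Spec.map (CommRingCat.ofHom (algebraMap A B)) ≫ hV.fromSpec :=
      (hV.SpecMap_appLE_fromSpec f hU hUV).symm
    obtain ⟨h1, h2, -⟩ := chart_data f hf (A := A) (B := B) hU.fromSpec hV.fromSpec hcomm
    haveI := h1
    haveI := h2
    haveI := isNoetherianRing_chart (A := A) hV.fromSpec
    haveI := isNoetherianRing_chart (A := B) hU.fromSpec
    haveI : Algebra.FinitePresentation A B := Algebra.FinitePresentation.of_finiteType.1 h2
    obtain ⟨P, hP⟩ := hU.range_fromSpec.ge hxU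
    let p : PrimeSpectrum A := PrimeSpectrum.comap (algebraMap A B) P
    have hp : hV.fromSpec p = f x := by
      rw [← hP]
      exact (congrArg (fun (g : Spec (CommRingCat.of B) ⟶ Y) => g P) hcomm).symm
    obtain ⟨_, ⟨g, rfl⟩, hpg, hsub⟩ := PrimeSpectrum.isTopologicalBasis_basic_opens.exists_subset_of_mem_open
      (show p ∈ Set.range (PrimeSpectrum.comap (algebraMap A B)) from ⟨P, rfl⟩)
      (PrimeSpectrum.isOpenMap_comap_of_hasGoingDown_of_finitePresentation (R := A) (S := B)).isOpen_range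
    let A' := Localization.Away g
    let B' := Localization.Away (algebraMap A B g)
    letI : Algebra A' B' := (IsLocalization.Away.map A' B' (algebraMap A B) g).toAlgebra
    haveI : IsScalarTower A A' B' := .of_algebraMap_eq fun a => by
      show algebraMap A B' a = IsLocalization.Away.map A' B' (algebraMap A B) g (algebraMap A A' a)
      rw [IsLocalization.Away.map, IsLocalization.map_eq, ← IsScalarTower.algebraMap_apply]
    let ιA : Spec (CommRingCat.of A') ⟶ Spec (CommRingCat.of A) := Spec.map (CommRingCat.ofHom (algebraMap A A'))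
    let ιB : Spec (CommRingCat.of B') ⟶ Spec (CommRingCat.of B) := Spec.map (CommRingCat.ofHom (algebraMap B B'))
    haveI : IsOpenImmersion ιA := IsOpenImmersion.of_isLocalization g
    haveI : IsOpenImmersion ιB := IsOpenImmersion.of_isLocalization (algebraMap A B g)
    let j' : Spec (CommRingCat.of A') ⟶ Y := ιA ≫ hV.fromSpec
    let k' : Spec (CommRingCat.of B') ⟶ X := ιB ≫ hU.fromSpec
    have hcomm' : k' ≫ f = Spec.map (CommRingCat.ofHom (algebraMap A' B')) ≫ j' := by
      simp only [k', j', ιA, ιB, Category.assoc]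
      rw [hcomm, ← Category.assoc, ← Category.assoc, ← Spec.map_comp, ← Spec.map_comp, ← CommRingCat.ofHom_comp,
        ← CommRingCat.ofHom_comp, ← IsScalarTower.algebraMap_eq, ← IsScalarTower.algebraMap_eq]
    obtain ⟨h1', h2', h3'⟩ := chart_data f hf (A := A') (B := B') k' j' hcomm'
    haveI := h1'
    haveI := h2'
    haveI := isNoetherianRing_chart j'
    haveI := isNoetherianRing_chart k'
    haveI : Module.FaithfullyFlat A' B' := Module.FaithfullyFlat.of_comap_surjective fun q => by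
      have hq : PrimeSpectrum.comap (algebraMap A A') q ∈ (PrimeSpectrum.basicOpen g : Set (PrimeSpectrum A)) :=
        (PrimeSpectrum.localization_away_comap_range A' g).le ⟨q, rfl⟩
      obtain ⟨P₁, hP₁⟩ := hsub hq
      have hP₁' : P₁ ∈ (PrimeSpectrum.basicOpen (algebraMap A B g) : Set (PrimeSpectrum B)) := by
        intro hmem
        exact hq (hP₁ ▸ hmem)
      obtain ⟨P₂, hP₂⟩ := (PrimeSpectrum.localization_away_comap_range B' (algebraMap A B g)).ge hP₁'
      refine ⟨P₂, (PrimeSpectrum.localization_comap_injective A' (Submonoid.powers g)) ?_⟩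
      rw [← PrimeSpectrum.comap_comp_apply, ← IsScalarTower.algebraMap_eq, IsScalarTower.algebraMap_eq A B B',
        PrimeSpectrum.comap_comp_apply, hP₂, hP₁]
    refine ⟨CommRingCat.of A', j', inferInstance, ?_, ?_⟩
    · obtain ⟨q, hq⟩ := (PrimeSpectrum.localization_away_comap_range A' g).ge hpg
      exact ⟨q, (congrArg hV.fromSpec hq).trans hp⟩
    have hq : DCoh.IsQCohD ((DCoh.restrictD j').obj K) := fun i => by
      haveI : Coh.IsQCoh (DCoh.HD K i) := hKq i
      exact Coherent.isQCoh_of_iso (DCat.SuppOpen.hdMapIso (Scheme.Modules.restrictFunctor j') K i).symm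
        (h := (inferInstance : Coh.IsQCoh ((DCoh.HD K i).restrict j')))
    obtain ⟨ω, ⟨eω⟩⟩ := ((DQCoh.tildeD_main (CommRingCat.of A')).2.2 _).1 hq
    haveI : DRing.HasLBaseChange (algebraMap A' B') := DCat.hasLBaseChange _
    obtain ⟨ω', hω', ⟨e'⟩⟩ := hX B' k'
    obtain ⟨c⟩ := nonempty_lpull_chart f k' j' (CommRingCat.ofHom (algebraMap A' B')) hcomm' eω.symm
    obtain ⟨d⟩ := exists_iso_of_tildeD_iso (e'.symm ≪≫ c)
    exact ⟨ω, (DualLib.isDualizing_iff_LBaseChange_gorenstein h3' ω).2 (DualLib.isDualizing_of_iso d hω'), ⟨eω.symm⟩⟩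
  choose A j hj hy hA using key
  exact isDualizingSch_of_cover _ Y (fun y => A y) (fun y => j y) (fun y => ⟨y, hy y⟩) hA

/-- Flat lci morphisms are Gorenstein. -/
theorem gorMor_of_flat_lci (f : X ⟶ Y) [Flat f] (hf : Dual3.IsLCIMor f) :
    LocallyOfFiniteType f ∧ Dual3.IsGorensteinMor f := by
  constructor
  · choose U V e hxU hlci using hf
    rw [HasRingHomProperty.iff_exists_appLE (P := @LocallyOfFiniteType)
      (RingHom.finiteType_stableUnderComposition.stableUnderCompositionWithLocalizationAway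
        RingHom.finiteType_holdsForLocalizationAway).left]
    intro x
    exact ⟨V x, U x, hxU x, e x, by
      letI := (f.appLE (V x).1 (U x).1 (e x)).hom.toAlgebra
      exact RingHom.finiteType_algebraMap.2 (hlci x).1⟩
  · intro x
    obtain ⟨U, V, e, hxU, hlci⟩ := hf x
    obtain ⟨y, rfl⟩ := U.2.range_fromSpec.ge hxU
    letI := (f.appLE V.1 U.1 e).hom.toAlgebra
    have hcomm : U.2.fromSpec ≫ f = Spec.map (f.appLE V.1 U.1 e) ≫ V.2.fromSpec :=
      (V.2.SpecMap_appLE_fromSpec f U.2 e).symm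
    suffices h : Dual3.IsGorensteinAt (Spec.map (f.appLE V.1 U.1 e)) y by
      have key : ∀ (u v : Spec Γ(X, U.1) ⟶ Y), u = v → Dual3.IsGorensteinAt u y → Dual3.IsGorensteinAt v y := by
        intro u v huv h; subst huv; exact h
      exact (isGorensteinAt_openImmersion_comp_iff U.2.fromSpec f y).1
        (key _ _ hcomm.symm ((isGorensteinAt_comp_openImmersion_iff _ V.2.fromSpec y).2 h))
    haveI := isNoetherianRing_chart (A := Γ(X, U.1)) U.2.fromSpec
    have hfl : Flat (Spec.map (f.appLE V.1 U.1 e)) :=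
      Flat.SpecMap_iff.2 (HasRingHomProperty.appLE @Flat f ‹_› V U e)
    haveI : Module.Flat Γ(Y, V.1) Γ(X, U.1) :=
      RingHom.flat_algebraMap_iff.1 (Flat.SpecMap_iff.1 hfl)
    let T := Spec.map (CommRingCat.ofHom (algebraMap Γ(Y, V.1) Γ(X, U.1)))
    refine ⟨Flat.stalkMap (Spec.map (f.appLE V.1 U.1 e)) y, ?_⟩
    let p : PrimeSpectrum Γ(Y, V.1) := T y
    haveI := DualLib.GorLCI.gorensteinRing_fibre (A := Γ(Y, V.1)) (B := Γ(X, U.1)) hlci p.asIdeal
    let eF := Arrow.leftFunc.mapIso (Spec.fiberToSpecResidueFieldIso Γ(Y, V.1) Γ(X, U.1) p)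
    refine (gor_stalk_of_iso eF (T.asFiber y)).2 ?_
    let q : PrimeSpectrum (p.asIdeal.Fiber Γ(X, U.1)) := eF.hom (T.asFiber y)
    exact (DualLib.GorFlat.gor_congr (StructureSheaf.stalkIso (p.asIdeal.Fiber Γ(X, U.1)) q).symm.toRingEquiv).2
      (LocCoh.IsGorensteinRing.isGorensteinLocalRing_localization q.asIdeal)

end Groth.Agent.Dual22Lib
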