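import Groth.Agent.Dual22Lib.Chart
import Groth.Prelude.Def_Dual3

/-!
# A scheme with a dualizing complex is Gorenstein iff the complex is invertible
-/

set_option autoImplicit false
set_option backward.isDefEq.respectTransparency false
set_option backward.isDefEq.respectTransparency.types false
set_option backward.defeqAttrib.useBackward true
set_option linter.style.haveILetI false

universe u

open CategoryTheory CategoryTheory.Limits AlgebraicGeometry DerivedCategory TensorProduct

attribute [local instance] HasDerivedCategory.standard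

namespace Groth.Agent.Dual22Lib

section Affine

variable {A : Type u} [CommRing A] [IsNoetherianRing A]

/-- A finite module that is free of rank one at a prime is free of rank one near it. -/
theorem exists_away_equiv_self (p : PrimeSpectrum A) (M : Type u) [AddCommGroup M] [Module A M] [Module.Finite A M]
    (e : Localization.AtPrime p.asIdeal ⊗[A] M ≃ₗ[Localization.AtPrime p.asIdeal] Localization.AtPrime p.asIdeal) :
    ∃ f : A, f ∉ p.asIdeal ∧
      Nonempty (Localization.Away f ⊗[A] M ≃ₗ[Localization.Away f] Localization.Away f) := by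
  let B := Localization.AtPrime p.asIdeal
  haveI : Module.FinitePresentation A M := Module.finitePresentation_of_finite A M
  haveI := DualLib.isLocalizedModule_tensor (B := B) p.asIdeal.primeCompl M
  obtain ⟨r, hr, l', -⟩ := Module.FinitePresentation.exists_lift_equiv_of_isLocalizedModule
    (S := p.asIdeal.primeCompl) (TensorProduct.mk A B M 1) (Algebra.linearMap A B) (e.restrictScalars A)
  exact ⟨r, hr, ⟨(LocalizedModule.equivTensorProduct _ M).symm ≪≫ₗ l' ≪≫ₗ
    LocalizedModule.equivTensorProduct _ A ≪≫ₗ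
    (Algebra.TensorProduct.rid A (Localization.Away r) (Localization.Away r)).toLinearEquiv⟩⟩

variable {ω : Dual.D A}

/-- Kill finitely many finite cohomology modules near a point outside their supports. -/
theorem exists_away_single (hω : Dual.IsDualizing A ω) (p : PrimeSpectrum A) (j : ℤ)
    (h : ∀ i : ℤ, i ≠ j → p ∉ Module.support A (Dual.HD A ω i)) :
    ∃ f : A, f ∉ p.asIdeal ∧
      ∀ i : ℤ, i ≠ j → Subsingleton (Localization.Away f ⊗[A] Dual.HD A ω i) := by
  obtain ⟨a, b, hge, hle⟩ := DualLib.exists_bound hω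
  haveI := hge
  haveI := hle
  have hC : IsClosed (⋃ i ∈ ((Finset.Icc a b).filter (· ≠ j) : Finset ℤ), Module.support A (Dual.HD A ω i)) := by
    refine Set.Finite.isClosed_biUnion (Finset.finite_toSet _) fun i _ => ?_
    haveI := hω.finite_cohomology i
    rw [Module.support_eq_zeroLocus]; exact PrimeSpectrum.isClosed_zeroLocus _
  have hp : p ∉ ⋃ i ∈ ((Finset.Icc a b).filter (· ≠ j) : Finset ℤ), Module.support A (Dual.HD A ω i) := by
    simp only [Set.mem_iUnion, not_exists]
    exact fun i hi => h i (Finset.mem_filter.1 hi).2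
  obtain ⟨_, ⟨f, rfl⟩, hpf, hsub⟩ :=
    PrimeSpectrum.isTopologicalBasis_basic_opens.exists_subset_of_mem_open hp hC.isOpen_compl
  refine ⟨f, hpf, fun i hi => ?_⟩
  suffices hs : Subsingleton (LocalizedModule (Submonoid.powers f) (Dual.HD A ω i)) by
    exact (LocalizedModule.equivTensorProduct (Submonoid.powers f) (Dual.HD A ω i)).symm.injective.subsingleton
  by_cases hib : i ∈ Finset.Icc a b
  · haveI := hω.finite_cohomology i
    have hz : PrimeSpectrum.zeroLocus (Module.annihilator A (Dual.HD A ω i) : Set A) ⊆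
        PrimeSpectrum.zeroLocus (Ideal.span {f} : Set A) := by
      rw [← Module.support_eq_zeroLocus, PrimeSpectrum.zeroLocus_span]
      intro q hq
      rw [PrimeSpectrum.mem_zeroLocus, Set.singleton_subset_iff]
      by_contra hqf
      exact hsub hqf (Set.mem_biUnion (Finset.mem_filter.2 ⟨hib, hi⟩) hq)
    rw [PrimeSpectrum.zeroLocus_subset_zeroLocus_iff, Ideal.span_le, Set.singleton_subset_iff] at hz
    obtain ⟨k, hk⟩ := hz
    exact LocalizedModule.subsingleton_iff.2 fun m =>
      ⟨f ^ k, ⟨k, rfl⟩, Module.mem_annihilator.1 hk m⟩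
  · haveI : Subsingleton (Dual.HD A ω i) := by
      rw [Finset.mem_Icc, not_and_or, not_le, not_le] at hib
      rcases hib with hh | hh
      · exact ModuleCat.subsingleton_of_isZero (isZero_of_isGE ω a i hh)
      · exact ModuleCat.subsingleton_of_isZero (isZero_of_isLE ω b i hh)
    infer_instance

/-- An object with a single cohomology module is a shift of that module. -/
theorem exists_iso_inD (W : Dual.D A) (j : ℤ) (hz : ∀ i : ℤ, i ≠ j → Subsingleton (Dual.HD A W i))
    (M : ModuleCat.{u} A) (e : Dual.HD A W j ≃ₗ[A] M) :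
    Nonempty (W ≅ ((singleFunctor (ModuleCat.{u} A) 0).obj M)⟦-j⟧) := by
  haveI : W.IsGE j := (DRingLib.isGE_iff_HD W j).2 fun i hi => hz i (by omega)
  haveI : W.IsLE j := (DRingLib.isLE_iff_HD W j).2 fun i hi => hz i (by omega)
  obtain ⟨N, ⟨eW⟩⟩ := exists_iso_singleFunctor_obj_of_isGE_of_isLE W j
  let eN : (homologyFunctor (ModuleCat.{u} A) j).obj W ≅ N :=
    (homologyFunctor (ModuleCat.{u} A) j).mapIso eW ≪≫ (singleFunctorCompHomologyFunctorIso _ j).app N
  exact ⟨eW ≪≫ (singleFunctor (ModuleCat.{u} A) j).mapIso (eN.symm ≪≫ e.toModuleIso) ≪≫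
    (((singleFunctors (ModuleCat.{u} A)).shiftIso (-j) j 0 (by omega)).app M).symm⟩

/-- If the dualizing complex is a shift of the ring, all local rings are Gorenstein. -/
theorem gorenstein_of_iso_inD (hω : Dual.IsDualizing A ω) (n : ℤ)
    (e : ω ≅ ((singleFunctor (ModuleCat.{u} A) 0).obj (ModuleCat.of A A))⟦n⟧) (p : PrimeSpectrum A) :
    LocCoh.IsGorensteinLocalRing (Localization.AtPrime p.asIdeal) := by
  let e' : ω ≅ (singleFunctor (ModuleCat.{u} A) (-n)).obj (ModuleCat.of A A) :=
    e ≪≫ ((singleFunctors (ModuleCat.{u} A)).shiftIso n (-n) 0 (by omega)).app _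
  refine (DualLib.gorenstein_iff hω p).2 ⟨-n, fun i hi => ?_, ?_⟩
  · haveI : ((singleFunctor (ModuleCat.{u} A) (-n)).obj (ModuleCat.of A A)).IsGE (-n) := inferInstance
    haveI : ((singleFunctor (ModuleCat.{u} A) (-n)).obj (ModuleCat.of A A)).IsLE (-n) := inferInstance
    have hz : IsZero ((homologyFunctor (ModuleCat.{u} A) i).obj
        ((singleFunctor (ModuleCat.{u} A) (-n)).obj (ModuleCat.of A A))) := by
      rcases lt_or_gt_of_ne hi with h | h
      · exact isZero_of_isGE _ (-n) i h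
      · exact isZero_of_isLE _ (-n) i h
    haveI : Subsingleton (Dual.HD A ω i) :=
      ModuleCat.subsingleton_of_isZero (hz.of_iso ((homologyFunctor _ i).mapIso e'))
    exact DualLib.notMem_support_of_subsingleton p
  · let eH := ((homologyFunctor (ModuleCat.{u} A) (-n)).mapIso e' ≪≫
      (singleFunctorCompHomologyFunctorIso _ (-n)).app _).toLinearEquiv
    exact ⟨TensorProduct.AlgebraTensorModule.congr (LinearEquiv.refl _ _) eH ≪≫ₗ
      (Algebra.TensorProduct.rid A _ _).toLinearEquiv⟩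

end Affine

section Scheme

/-- `~A[n] = O[n]`. -/
noncomputable def tildeShiftIso (R : CommRingCat.{u}) [PreservesFiniteLimits (tilde.functor R)] (n : ℤ) :
    (DCoh.tildeD R).obj (((singleFunctor (ModuleCat.{u} R) 0).obj (ModuleCat.of R R))⟦n⟧) ≅
      (DCoh.inD (Spec R) (Coh.structureModule (Spec R)))⟦n⟧ :=
  ((DCoh.tildeD R).commShiftIso n).app _ ≪≫
    (shiftFunctor _ n).mapIso (((tilde.functor R).mapDerivedCategorySingleFunctor 0).app _ ≪≫
      (singleFunctor _ 0).mapIso tildeSelf)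

/-- Restriction of `O[n]`. -/
noncomputable def restrictShiftIso {U V : Scheme.{u}} (j : U ⟶ V) [IsOpenImmersion j]
    [PreservesFiniteLimits (Scheme.Modules.restrictFunctor j)] (n : ℤ) :
    (DCoh.restrictD j).obj ((DCoh.inD V (Coh.structureModule V))⟦n⟧) ≅
      (DCoh.inD U (Coh.structureModule U))⟦n⟧ :=
  ((DCoh.restrictD j).commShiftIso n).app _ ≪≫
    (shiftFunctor _ n).mapIso (((Scheme.Modules.restrictFunctor j).mapDerivedCategorySingleFunctor 0).app _ ≪≫
      (singleFunctor _ 0).mapIso (Scheme.Modules.restrictUnitIso j))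

variable {X : Scheme.{u}}
  [∀ (U V : Scheme.{u}) (j : U ⟶ V) [IsOpenImmersion j], PreservesFiniteLimits (Scheme.Modules.restrictFunctor j)]
  [∀ (R : CommRingCat.{u}), PreservesFiniteLimits (tilde.functor R)] [IsLocallyNoetherian X] {K : DCoh.D X}

theorem invertible_of_gorenstein (hK : Dual2.IsDualizingSch X K)
    (hX : ∀ x : X, LocCoh.IsGorensteinLocalRing (X.presheaf.stalk x)) : Dual3.IsInvertibleD K := by
  intro x
  obtain ⟨A, _, j, _, y, rfl⟩ := exists_chart x
  obtain ⟨ω, hω, ⟨e⟩⟩ := hK _ j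
  haveI := isNoetherianRing_chart j
  have gor : ∀ {A : Type u} [CommRing A] (j : Spec (CommRingCat.of A) ⟶ X) [IsOpenImmersion j]
      (y : PrimeSpectrum A), LocCoh.IsGorensteinLocalRing (Localization.AtPrime y.asIdeal) := fun {A} _ j _ y => by
    haveI := hX (j y)
    exact SegreDim.gorensteinLocal_of_ringEquiv (chartRingEquiv j y)
  obtain ⟨m, hm, -⟩ := (DualLib.gorenstein_iff hω y).1 (gor j y)
  obtain ⟨f, hf, hfm⟩ := exists_away_single hω y m hm
  -- the chart `D(f)`
  let A' := Localization.Away f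
  let ι₁ : Spec (CommRingCat.of A') ⟶ Spec (CommRingCat.of A) := Spec.map (CommRingCat.ofHom (algebraMap A A'))
  haveI : IsOpenImmersion ι₁ := IsOpenImmersion.of_isLocalization f
  obtain ⟨_, _⟩ := preserves_extendScalars (B := A') (Submonoid.powers f)
  obtain ⟨e₁⟩ := nonempty_chart_restrict (X := X) (algebraMap A A') j e (ι₁ ≫ j) rfl
  let ω₁ := (DualLib.extD (algebraMap A A')).obj ω
  have hω₁ : Dual.IsDualizing A' ω₁ := DualLib.isDualizing_extD (Submonoid.powers f) hω
  haveI := isNoetherianRing_chart (ι₁ ≫ j)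
  have hz₁ : ∀ i : ℤ, i ≠ m → Subsingleton (Dual.HD A' ω₁ i) := fun i hi => by
    obtain ⟨eT⟩ := DualLib.nonempty_HD_tensor (Submonoid.powers f) ω i
    haveI := hfm i hi
    exact eT.injective.subsingleton
  obtain ⟨y₁, hy₁⟩ := (PrimeSpectrum.localization_away_comap_range A' f).ge hf
  obtain ⟨m₁, -, ⟨e₁'⟩⟩ := (DualLib.gorenstein_iff hω₁ y₁).1 (gor (ι₁ ≫ j) y₁)
  have hmm : m₁ = m := by
    by_contra hne
    haveI := hz₁ m₁ hne
    exact not_subsingleton (Localization.AtPrime y₁.asIdeal) e₁'.symm.injective.subsingleton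
  subst hmm
  haveI := hω₁.finite_cohomology m₁
  obtain ⟨g, hg, ⟨eg⟩⟩ := exists_away_equiv_self y₁ (Dual.HD A' ω₁ m₁) e₁'
  let A'' := Localization.Away g
  let ι₂ : Spec (CommRingCat.of A'') ⟶ Spec (CommRingCat.of A') := Spec.map (CommRingCat.ofHom (algebraMap A' A''))
  haveI : IsOpenImmersion ι₂ := IsOpenImmersion.of_isLocalization g
  obtain ⟨_, _⟩ := preserves_extendScalars (B := A'') (Submonoid.powers g)
  let k : Spec (CommRingCat.of A'') ⟶ X := ι₂ ≫ ι₁ ≫ j
  obtain ⟨e₂⟩ := nonempty_chart_restrict (X := X) (algebraMap A' A'') (ι₁ ≫ j) e₁ k rfl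
  let ω₂ := (DualLib.extD (algebraMap A' A'')).obj ω₁
  obtain ⟨eω⟩ : Nonempty (ω₂ ≅ ((singleFunctor (ModuleCat.{u} A'') 0).obj (ModuleCat.of A'' A''))⟦-m₁⟧) := by
    refine exists_iso_inD ω₂ m₁ (fun i hi => ?_) _ ?_
    · obtain ⟨eT⟩ := DualLib.nonempty_HD_tensor (Submonoid.powers g) ω₁ i
      haveI := hz₁ i hi
      haveI : Subsingleton (LocalizedModule (Submonoid.powers g) (Dual.HD A' ω₁ i)) := inferInstance
      exact (eT ≪≫ₗ (LocalizedModule.equivTensorProduct (Submonoid.powers g) _).symm).injective.subsingleton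
    · exact (DualLib.nonempty_HD_tensor (Submonoid.powers g) ω₁ m₁).some ≪≫ₗ eg
  let eK := e₂ ≪≫ (DCoh.tildeD (CommRingCat.of A'')).mapIso eω ≪≫ tildeShiftIso (CommRingCat.of A'') (-m₁)
  refine ⟨k.opensRange, -m₁, ?_, ?_⟩
  · obtain ⟨y₂, hy₂⟩ := (PrimeSpectrum.localization_away_comap_range A'' g).ge hg
    exact ⟨y₂, by show j (ι₁ (ι₂ y₂)) = j y; exact congrArg _ ((congrArg _ hy₂).trans hy₁)⟩
  · have hinv := k.isoOpensRange_inv_comp
    obtain ⟨c⟩ := DCat.PerfLocal.rd_comp k.isoOpensRange.inv k K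
    have key : ∀ (l : (k.opensRange : Scheme.{u}) ⟶ X) [IsOpenImmersion l], k.isoOpensRange.inv ≫ k = l →
        Nonempty ((DCoh.restrictD l).obj K ≅
          (DCoh.inD (k.opensRange : Scheme.{u}) (Coh.structureModule (k.opensRange : Scheme.{u})))⟦-m₁⟧) := by
      intro l _ hl
      subst hl
      exact ⟨c ≪≫ (DCoh.restrictD _).mapIso eK ≪≫ restrictShiftIso _ _⟩
    exact key _ hinv

theorem gorenstein_of_invertible (hK : Dual2.IsDualizingSch X K) (hI : Dual3.IsInvertibleD K) (x : X) :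
    LocCoh.IsGorensteinLocalRing (X.presheaf.stalk x) := by
  obtain ⟨U, n, hxU, ⟨eU⟩⟩ := hI x
  obtain ⟨V, hV, hxV, hVU⟩ := exists_isAffineOpen_mem_and_subset (x := x) (U := U) hxU
  let k := hV.fromSpec
  let l : Spec (CommRingCat.of Γ(X, V)) ⟶ (U : Scheme.{u}) := IsOpenImmersion.lift U.ι k (by
    rw [Scheme.Opens.range_ι]; exact hV.range_fromSpec.trans_subset hVU)
  have hfac : l ≫ U.ι = k := IsOpenImmersion.lift_fac _ _ _
  haveI : IsOpenImmersion (l ≫ U.ι) := by rw [hfac]; infer_instance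
  haveI : IsOpenImmersion l := IsOpenImmersion.of_comp l U.ι
  obtain ⟨ω, hω, ⟨e⟩⟩ := hK Γ(X, V) (l ≫ U.ι)
  obtain ⟨c⟩ := DCat.PerfLocal.rd_comp l U.ι K
  haveI := isNoetherianRing_chart (l ≫ U.ι)
  obtain ⟨eω⟩ := exists_iso_of_tildeD_iso
    (e.symm ≪≫ c ≪≫ (DCoh.restrictD l).mapIso eU ≪≫ restrictShiftIso l n ≪≫ (tildeShiftIso (CommRingCat.of Γ(X, V)) n).symm)
  obtain ⟨y, hy⟩ := hV.range_fromSpec.ge hxV
  haveI := gorenstein_of_iso_inD hω n eω y
  have hx : (l ≫ U.ι) y = x := by rw [hfac]; exact hy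
  subst hx
  exact SegreDim.gorensteinLocal_of_ringEquiv (chartRingEquiv (l ≫ U.ι) y).symm

end Scheme

end Groth.Agent.Dual22Lib
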