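import Groth.Agent.DualLib.FiniteAdjoint
import Groth.Agent.DualLib.FlatApps
import Groth.Prelude.Def_DualSh
import Mathlib.RingTheory.Smooth.Basic

/-!
# Right adjoints of restriction along surjections: degrees, finiteness, dualizing
-/

set_option autoImplicit false
set_option backward.isDefEq.respectTransparency false
set_option backward.defeqAttrib.useBackward true
set_option linter.style.haveILetI false

universe u v w

open CategoryTheory CategoryTheory.Limits DerivedCategory

attribute [local instance] HasDerivedCategory.standard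

namespace Groth.Agent.Dual22Lib

open Groth.Agent.DualLib Groth.Agent.DualLib.FiniteAdjoint

/-- Localizations of semilinearly isomorphic modules along a surjection. -/
theorem nontrivial_localized_iff_of_semilinear {A B : Type u} [CommRing A] [CommRing B] [Algebra A B]
    (hs : Function.Surjective (algebraMap A B)) {M : Type v} [AddCommGroup M] [Module B M] {M' : Type w}
    [AddCommGroup M'] [Module A M'] (e : M ≃+ M') (he : ∀ (a : A) m, e (algebraMap A B a • m) = a • e m)
    (q : Ideal B) [q.IsPrime] :
    Nontrivial (LocalizedModule q.primeCompl M) ↔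
      Nontrivial (LocalizedModule (q.comap (algebraMap A B)).primeCompl M') := by
  change (⟨q, inferInstance⟩ : PrimeSpectrum B) ∈ Module.support B M ↔
    (⟨q.comap (algebraMap A B), inferInstance⟩ : PrimeSpectrum A) ∈ Module.support A M'
  rw [Module.mem_support_iff', Module.mem_support_iff']
  constructor
  · rintro ⟨m, hm⟩
    refine ⟨e m, fun a ha h0 => hm (algebraMap A B a) ha (e.injective ?_)⟩
    rw [he, h0, map_zero]
  · rintro ⟨m', hm⟩
    refine ⟨e.symm m', fun b hb h0 => ?_⟩
    obtain ⟨a, rfl⟩ := hs b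
    refine hm a hb ?_
    rw [← e.apply_symm_apply m', ← he, h0, map_zero]

/-- The dimension function of the right adjoint along a surjection. -/
theorem nontrivial_localized_E_obj_iff {A B : Type u} [CommRing A] [CommRing B] [Algebra A B]
    (hs : Function.Surjective (algebraMap A B)) {R : Dual.D A ⥤ Dual.D B}
    (adj : DRing.restrictD (algebraMap A B) ⊣ R) (ω : Dual.D A) (q : Ideal B) [q.IsPrime] (i : ℤ) :
    Nontrivial (LocalizedModule q.primeCompl (E (R.obj ω) (B ⧸ q) i)) ↔
      Nontrivial (LocalizedModule (q.comap (algebraMap A B)).primeCompl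
        (E ω (A ⧸ q.comap (algebraMap A B)) i)) := by
  let p := q.comap (algebraMap A B)
  let l : A →ₗ[A] res A B (B ⧸ q) :=
    { toFun := fun a => Ideal.Quotient.mk q (algebraMap A B a)
      map_add' := fun a b => by
        show Ideal.Quotient.mk q (algebraMap A B (a + b)) = Ideal.Quotient.mk q (algebraMap A B a) + Ideal.Quotient.mk q (algebraMap A B b)
        rw [map_add, map_add]
      map_smul' := fun a b => by
        show Ideal.Quotient.mk q (algebraMap A B (a • b)) = algebraMap A B a • (Ideal.Quotient.mk q (algebraMap A B b))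
        rw [smul_eq_mul, map_mul]
        rfl }
  have hker : ∀ a, l a = 0 ↔ a ∈ p := fun a => Ideal.Quotient.eq_zero_iff_mem
  let φ : (A ⧸ p) →ₗ[A] res A B (B ⧸ q) := Submodule.liftQ p l fun a ha => (hker a).2 ha
  have hφ : Function.Bijective φ := by
    refine ⟨?_, fun z => ?_⟩
    · rw [← LinearMap.ker_eq_bot, Submodule.ker_liftQ, eq_bot_iff]
      rintro _ ⟨a, ha, rfl⟩
      rw [Submodule.mem_bot, Submodule.mkQ_apply, Submodule.Quotient.mk_eq_zero]
      exact (hker a).1 ha
    · obtain ⟨b, hb⟩ := Ideal.Quotient.mk_surjective (show B ⧸ q from z)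
      obtain ⟨a, rfl⟩ := hs b
      exact ⟨Submodule.Quotient.mk a, hb⟩
  obtain ⟨e, he⟩ := exists_relE adj (B ⧸ q) ω i
  let c := econgr ω (LinearEquiv.ofBijective φ hφ) i
  refine nontrivial_localized_iff_of_semilinear hs (e.trans c.toAddEquiv) (fun a m => ?_) q
  show c (e (algebraMap A B a • m)) = a • c (e m)
  rw [he, map_smul]

section Shriek

variable {R A : Type u} [CommRing R] [CommRing A] [IsNoetherianRing R] [IsNoetherianRing A] [Algebra R A] {n : ℕ}
  (ψ : MvPolynomial (Fin n) R →ₐ[R] A) (hψ : Function.Surjective ψ)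
  [DRing.HasLBaseChange (algebraMap R (MvPolynomial (Fin n) R))]
  {Rψ : Dual.D (MvPolynomial (Fin n) R) ⥤ Dual.D A} (adj : DRing.restrictD ψ.toRingHom ⊣ Rψ)
include hψ adj

theorem isDualizing_shriekVia {ω : Dual.D R} (hω : Dual.IsDualizing R ω) :
    Dual.IsDualizing A (Dual2.shriekVia n Rψ ω) := by
  letI : Algebra (MvPolynomial (Fin n) R) A := ψ.toRingHom.toAlgebra
  haveI : Module.Finite (MvPolynomial (Fin n) R) A :=
    Module.Finite.of_surjective (Algebra.linearMap (MvPolynomial (Fin n) R) A) hψ
  haveI : Algebra.Smooth R (MvPolynomial (Fin n) R) := ⟨inferInstance, inferInstance⟩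
  exact isDualizing_shift (isDualizing_obj (B := A) adj (isDualizing_LBaseChange_smooth hω)) _

theorem bounded_finite_shriekVia (K : Dual.D R) (a : ℤ) (hKa : ∀ i : ℤ, i < a → Subsingleton (Dual.HD R K i)) :
    (∃ b : ℤ, ∀ i : ℤ, i < b → Subsingleton (Dual.HD A (Dual2.shriekVia n Rψ K) i)) ∧
      ((∀ i : ℤ, Module.Finite R (Dual.HD R K i)) → ∀ i : ℤ, Module.Finite A (Dual.HD A (Dual2.shriekVia n Rψ K) i)) := by
  let P := MvPolynomial (Fin n) R
  letI : Algebra P A := ψ.toRingHom.toAlgebra
  haveI : Module.Finite P A := Module.Finite.of_surjective (Algebra.linearMap P A) hψ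
  haveI := preservesFiniteLimits_flat (A := R) (B := P)
  haveI := preservesFiniteColimits_ext (A := R) (B := P)
  haveI : K.IsGE a := (DRingLib.isGE_iff_HD K a).2 hKa
  obtain ⟨e⟩ := nonempty_LBaseChange_iso (RingHom.flat_algebraMap_iff.2 (inferInstance : Module.Flat R P)) K
  let L := (DRing.LBaseChange (algebraMap R P)).obj K
  haveI hLge : L.IsGE a := by
    haveI := FlatHom.isGE_G (B := P) K a
    exact (DRingLib.isGE_iff_HD L a).2 fun i hi => by
      haveI : Subsingleton (Dual.HD P ((extD (algebraMap R P)).obj K) i) :=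
        (DRingLib.isGE_iff_HD _ a).1 inferInstance i hi
      exact ((homologyFunctor (ModuleCat.{u} P) i).mapIso e).toLinearEquiv.injective.subsingleton
  haveI := isGE_obj (B := A) adj (K := L) a
  let sI := fun i : ℤ => (((homologyFunctor (ModuleCat.{u} A) 0).shiftIso (n : ℤ) i ((n : ℤ) + i) rfl).app (Rψ.obj L)).toLinearEquiv
  refine ⟨⟨a - n, fun i hi => ?_⟩, fun hK i => ?_⟩
  · haveI : Subsingleton (Dual.HD A (Rψ.obj L) ((n : ℤ) + i)) :=
      (DRingLib.isGE_iff_HD _ a).1 inferInstance _ (by omega)
    exact @Function.Injective.subsingleton _ _ _ (sI i).injective ‹_›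
  · haveI : ∀ j, Module.Finite P (Dual.HD P L j) := fun j => by
      haveI := hK j
      haveI := finite_HD_extD (B := P) K j
      exact Module.Finite.equiv ((homologyFunctor (ModuleCat.{u} P) j).mapIso e).toLinearEquiv.symm
    haveI := finite_HD_obj (B := A) adj (K := L) a inferInstance ((n : ℤ) + i)
    exact @Module.Finite.equiv _ _ _ _ _ _ _ _ ‹_› (sI i).symm

end Shriek

end Groth.Agent.Dual22Lib
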