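import Groth.Agent.DCat.PullTot
import Groth.Agent.DCat.TensorCongr

/-!
# `Lf^*(- ⊗^L L) ≅ Lf^*(-) ⊗^L f^*L`, naturally
-/

set_option autoImplicit false
set_option backward.isDefEq.respectTransparency false
set_option backward.defeqAttrib.useBackward true
set_option linter.style.haveILetI false

universe u

open CategoryTheory CategoryTheory.Limits AlgebraicGeometry HomologicalComplex
open Groth.Agent.DCat

attribute [local instance] HasDerivedCategory.standard

namespace Groth.Agent.Dual22Lib.PullTensorNat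

variable {X Y : Scheme.{u}} (f : X ⟶ Y)

/-- Termwise pullback of complexes. -/
noncomputable abbrev pullC : CochainComplex Y.Modules ℤ ⥤ CochainComplex X.Modules ℤ :=
  (Scheme.Modules.pullback f).mapHomologicalComplex (ComplexShape.up ℤ)

/-- The comparison of the derived and the termwise pullback. -/
noncomputable def cmpPull [DCoh.HasLpull f] :
    DerivedCategory.Q ⋙ DCoh.Lpull f ⟶ pullC f ⋙ DerivedCategory.Q :=
  Functor.whiskerRight (DerivedCategory.quotientCompQhIso Y.Modules).inv (DCoh.Lpull f) ≫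
    (Functor.associator _ _ _).hom ≫
    Functor.whiskerLeft (HomotopyCategory.quotient Y.Modules (ComplexShape.up ℤ))
      ((DCoh.pullKh f).totalLeftDerivedCounit DerivedCategory.Qh
        (HomotopyCategory.quasiIso Y.Modules (ComplexShape.up ℤ))) ≫
    Functor.whiskerLeft (pullC f) (DerivedCategory.quotientCompQhIso X.Modules).hom

theorem cmpPull_app [DCoh.HasLpull f] {N : CochainComplex Y.Modules ℤ} (hN : IsKFlatFor (shT Y) N) :
    (cmpPull f).app N = (PullPerf.lpullIso f hN).hom := by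
  simp [cmpPull, PullPerf.lpullIso]

theorem isIso_cmpPull_app [DCoh.HasLpull f] {N : CochainComplex Y.Modules ℤ} (hN : IsKFlatFor (shT Y) N) :
    IsIso ((cmpPull f).app N) := by
  rw [cmpPull_app f hN]
  infer_instance

/-- Termwise pullback and total tensor products. -/
noncomputable def pullTotNat (L : CochainComplex Y.Modules ℤ) :
    (DCoh.tensorCx (X := Y)).flip.obj L ⋙ pullC f ≅
      pullC f ⋙ (DCoh.tensorCx (X := X)).flip.obj ((pullC f).obj L) :=
  NatIso.ofComponents (fun A => PullTot.pullTotIso f A L) fun {A A'} φ => by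
    have h := mapTotHom_natural (T := shT Y) (T' := shT X) (F := Scheme.Modules.pullback f)
      (H := Scheme.Modules.pullback f) (G := Scheme.Modules.pullback f)
      (α := PullTensor.pullTensorIso f) (fun φ N => PullTensor.pullTensorHom_nat₁ f φ N)
      (fun M _ _ ψ => PullTensor.pullTensorHom_nat₂ f M ψ) φ (𝟙 L)
    refine h.trans ?_
    rw [CategoryTheory.Functor.map_id]
    rfl

/-- Two functors on the derived category which agree on K-flat complexes. -/
theorem nonempty_iso_of_kflat {G₁ G₂ : DCoh.D Y ⥤ DCoh.D X}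
    {F : CochainComplex Y.Modules ℤ ⥤ DCoh.D X} (Fh : HomotopyCategory Y.Modules (ComplexShape.up ℤ) ⥤ DCoh.D X)
    (e : HomotopyCategory.quotient Y.Modules (ComplexShape.up ℤ) ⋙ Fh ≅ F)
    (β₁ : DerivedCategory.Q ⋙ G₁ ⟶ F) (β₂ : DerivedCategory.Q ⋙ G₂ ⟶ F)
    (h₁ : ∀ ⦃N⦄, IsKFlatFor (shT Y) N → IsIso (β₁.app N))
    (h₂ : ∀ ⦃N⦄, IsKFlatFor (shT Y) N → IsIso (β₂.app N)) : Nonempty (G₁ ≅ G₂) := by
  let W := HomotopyCategory.quasiIso Y.Modules (ComplexShape.up ℤ)
  let lift : ∀ {G : DCoh.D Y ⥤ DCoh.D X}, (DerivedCategory.Q ⋙ G ⟶ F) → (DerivedCategory.Qh ⋙ G ⟶ Fh) :=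
    fun {G} β => CategoryTheory.Quotient.natTransLift _
      ((Functor.associator (HomotopyCategory.quotient Y.Modules (ComplexShape.up ℤ)) DerivedCategory.Qh G).inv ≫
        Functor.whiskerRight (DerivedCategory.quotientCompQhIso Y.Modules).hom G ≫ β ≫ e.inv)
  have hl : ∀ {G : DCoh.D Y ⥤ DCoh.D X} (β : DerivedCategory.Q ⋙ G ⟶ F),
      (∀ ⦃N⦄, IsKFlatFor (shT Y) N → IsIso (β.app N)) → ∀ ⦃K⦄, kflatObj Y K → IsIso ((lift β).app K) := by
    intro G β h K hK
    obtain ⟨N⟩ := K
    haveI := h (N := N) hK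
    show IsIso (((Functor.associator (HomotopyCategory.quotient Y.Modules (ComplexShape.up ℤ))
      DerivedCategory.Qh G).inv ≫
        Functor.whiskerRight (DerivedCategory.quotientCompQhIso Y.Modules).hom G ≫ β ≫ e.inv).app N)
    simp only [NatTrans.comp_app, Functor.whiskerRight_app]
    infer_instance
  have hF : ∀ ⦃K L : HomotopyCategory Y.Modules (ComplexShape.up ℤ)⦄ (s : K ⟶ L), kflatObj Y K → kflatObj Y L →
      W s → IsIso (Fh.map s) := fun K L s hK hL hs => by
    haveI := hl β₁ h₁ hK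
    haveI := hl β₁ h₁ hL
    haveI : IsIso (DerivedCategory.Qh.map s) := Localization.inverts DerivedCategory.Qh W s hs
    haveI : IsIso ((DerivedCategory.Qh ⋙ G₁).map s) := Functor.map_isIso G₁ (DerivedCategory.Qh.map s)
    exact IsIso.of_isIso_fac_left ((lift β₁).naturality s).symm
  haveI : G₁.IsLeftDerivedFunctor (lift β₁) W := isLeftDerived_of_isIso exists_kflat_hot hF _ (hl β₁ h₁)
  haveI : G₂.IsLeftDerivedFunctor (lift β₂) W := isLeftDerived_of_isIso exists_kflat_hot hF _ (hl β₂ h₂)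
  exact ⟨Functor.leftDerivedUnique _ _ (lift β₁) (lift β₂) W⟩

/-- Derived pullback commutes with derived tensor products, naturally. -/
theorem nonempty_natIso [DCoh.HasLpull f] {L : CochainComplex Y.Modules ℤ} (hL : IsKFlatFor (shT Y) L)
    [DCoh.HasLTensorCx L] [DCoh.HasLTensorCx ((pullC f).obj L)] :
    Nonempty (DCoh.LTensorCx L ⋙ DCoh.Lpull f ≅ DCoh.Lpull f ⋙ DCoh.LTensorCx ((pullC f).obj L)) := by
  let L' := (pullC f).obj L
  have hL' : IsKFlatFor (shT X) L' := PullTot.isKFlatFor_pullback f hL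
  let β₁ : DerivedCategory.Q ⋙ (DCoh.LTensorCx L ⋙ DCoh.Lpull f) ⟶
      pullC f ⋙ (DCoh.tensorCx (X := X)).flip.obj L' ⋙ DerivedCategory.Q :=
    (Functor.associator _ _ _).inv ≫ Functor.whiskerRight (TensorCongr.fac hL).hom (DCoh.Lpull f) ≫
      (Functor.associator _ _ _).hom ≫
      Functor.whiskerLeft ((DCoh.tensorCx (X := Y)).flip.obj L) (cmpPull f) ≫
      (Functor.associator _ _ _).inv ≫ Functor.whiskerRight (pullTotNat f L).hom DerivedCategory.Q ≫
      (Functor.associator _ _ _).hom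
  let β₂ : DerivedCategory.Q ⋙ (DCoh.Lpull f ⋙ DCoh.LTensorCx L') ⟶
      pullC f ⋙ (DCoh.tensorCx (X := X)).flip.obj L' ⋙ DerivedCategory.Q :=
    (Functor.associator _ _ _).inv ≫ Functor.whiskerRight (cmpPull f) (DCoh.LTensorCx L') ≫
      (Functor.associator _ _ _).hom ≫ Functor.whiskerLeft (pullC f) (TensorCongr.fac hL').hom
  let eF : HomotopyCategory.quotient Y.Modules (ComplexShape.up ℤ) ⋙
      ((Scheme.Modules.pullback f).mapHomotopyCategory (ComplexShape.up ℤ) ⋙ LTensorSheaf.tensorKh L') ≅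
        pullC f ⋙ (DCoh.tensorCx (X := X)).flip.obj L' ⋙ DerivedCategory.Q :=
    (Functor.associator _ _ _).symm ≪≫
      Functor.isoWhiskerRight ((Scheme.Modules.pullback f).mapHomotopyCategoryFactors (ComplexShape.up ℤ)) _ ≪≫
      Functor.associator _ _ _ ≪≫ Functor.isoWhiskerLeft (pullC f) (LTensorSheaf.tensorKhIso L')
  refine nonempty_iso_of_kflat _ eF β₁ β₂ (fun N hN => ?_) fun N hN => ?_
  · haveI : IsIso ((cmpPull f).app (((DCoh.tensorCx (X := Y)).flip.obj L).obj N)) :=
      isIso_cmpPull_app f (LTensorSheaf.isKFlatFor_tot hN hL)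
    dsimp only [β₁]
    simp only [NatTrans.comp_app, Functor.whiskerLeft_app, Functor.whiskerRight_app]
    infer_instance
  · haveI := isIso_cmpPull_app f hN
    dsimp only [β₂]
    simp only [NatTrans.comp_app, Functor.whiskerLeft_app, Functor.whiskerRight_app]
    infer_instance

end Groth.Agent.Dual22Lib.PullTensorNat
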