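import Groth.Agent.TorB16.Balance
import Groth.Agent.TorB16.BaseChange
import Mathlib.RingTheory.Flat.Basic
import Mathlib.Algebra.CharP.Lemmas
import Mathlib.RingTheory.Ideal.Quotient.Operations
import Mathlib.Algebra.MonoidAlgebra.Basic

/-!
# Vanishing of Tor between perfect rings of positive characteristic
-/

set_option autoImplicit false
set_option backward.isDefEq.respectTransparency false
set_option backward.defeqAttrib.useBackward true
set_option linter.style.haveILetI false
set_option linter.unusedSectionVars false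

universe u

open CategoryTheory CategoryTheory.Limits TensorProduct
open Groth.Agent.TorB16

namespace Groth.Agent.Dual22Lib.PerfectTor

/-- A perfect ring of characteristic `p`, the zero ring allowed. -/
structure Perf (p : ℕ) (R : Type u) [CommRing R] : Prop where
  zero : (p : R) = 0
  bij : Function.Bijective fun x : R => x ^ p

variable {p : ℕ} [hp : Fact p.Prime] {R : Type u} [CommRing R]

theorem add_pow_p (h : (p : R) = 0) (x y : R) : (x + y) ^ p = x ^ p + y ^ p := by
  obtain ⟨r, hr⟩ := exists_add_pow_prime_eq hp.out x y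
  rw [hr, h]
  ring

/-- The `p`-th root. -/
noncomputable def root (h : Perf p R) : R →+ R :=
  AddMonoidHom.mk' (Equiv.ofBijective _ h.bij).symm fun x y => h.bij.1 <| by
    show (Equiv.ofBijective _ h.bij) ((Equiv.ofBijective _ h.bij).symm (x + y)) = _
    rw [Equiv.apply_symm_apply]
    refine Eq.trans ?_ (add_pow_p h.zero _ _).symm
    exact (congrArg₂ (· + ·) ((Equiv.ofBijective _ h.bij).apply_symm_apply x)
      ((Equiv.ofBijective _ h.bij).apply_symm_apply y)).symm

theorem root_pow (h : Perf p R) (x : R) : root h x ^ p = x := (Equiv.ofBijective _ h.bij).apply_symm_apply x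

theorem root_of_pow (h : Perf p R) (x : R) : root h (x ^ p) = x := (Equiv.ofBijective _ h.bij).symm_apply_apply x

theorem root_mul (h : Perf p R) (x y : R) : root h (x * y) = root h x * root h y :=
  h.bij.1 (by simp only [root_pow, mul_pow])

theorem root_map {S : Type u} [CommRing S] (h : Perf p R) (h' : Perf p S) (f : R →+* S) (x : R) :
    f (root h x) = root h' (f x) := h'.bij.1 (by simp only [root_pow, ← map_pow])

theorem pow_bijective (h : Perf p R) (n : ℕ) : Function.Bijective fun x : R => x ^ p ^ n := by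
  induction n with
  | zero => exact ⟨fun a b hab => by simpa using hab, fun b => ⟨b, by simp⟩⟩
  | succ n ih =>
    convert h.bij.comp ih using 1
    ext x
    simp [pow_succ, pow_mul]

theorem isReduced (h : Perf p R) : IsReduced R := ⟨fun x ⟨n, hn⟩ => (pow_bijective h n).1 (by
  show x ^ p ^ n = 0 ^ p ^ n
  rw [zero_pow (pow_pos hp.out.pos n).ne']
  exact pow_eq_zero_of_le (Nat.le_of_lt (Nat.lt_pow_self hp.out.one_lt)) hn)⟩

/-- A quotient by a radical ideal. -/
theorem Perf.quotient (h : Perf p R) {J : Ideal R} (hJ : J.IsRadical) : Perf p (R ⧸ J) := by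
  have h0 : (p : R ⧸ J) = 0 := by rw [← map_natCast (Ideal.Quotient.mk J), h.zero, map_zero]
  refine ⟨h0, fun x y hxy => ?_, fun x => ?_⟩
  · obtain ⟨a, rfl⟩ := Ideal.Quotient.mk_surjective x
    obtain ⟨b, rfl⟩ := Ideal.Quotient.mk_surjective y
    refine sub_eq_zero.1 ?_
    rw [← map_sub, Ideal.Quotient.eq_zero_iff_mem]
    refine hJ ⟨p, ?_⟩
    have hab : (a - b) ^ p + b ^ p = a ^ p := by rw [← add_pow_p h.zero, sub_add_cancel]
    rw [← Ideal.Quotient.eq_zero_iff_mem, eq_sub_of_add_eq hab, map_sub, map_pow, map_pow]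
    exact sub_eq_zero.2 hxy
  · obtain ⟨a, rfl⟩ := Ideal.Quotient.mk_surjective x
    exact ⟨Ideal.Quotient.mk J (root h a), by show _ ^ p = _; rw [← map_pow, root_pow]⟩

/-- A tensor product of perfect rings. -/
theorem Perf.tensor {B C : Type u} [CommRing B] [CommRing C] [Algebra R B] [Algebra R C]
    (h : Perf p R) (hB : Perf p B) (hC : Perf p C) : Perf p (B ⊗[R] C) := by
  have h0 : (p : B ⊗[R] C) = 0 := by
    rw [← map_natCast (algebraMap R (B ⊗[R] C)), h.zero, map_zero]
  let r : B ⊗[R] C →+ B ⊗[R] C := TensorProduct.liftAddHom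
    (AddMonoidHom.mk' (fun b => AddMonoidHom.mk' (fun c => root hB b ⊗ₜ[R] root hC c)
        (fun c c' => by rw [map_add, tmul_add]))
      (fun b b' => by ext c; simp [map_add, add_tmul]))
    (fun a b c => by
      show root hB (a • b) ⊗ₜ[R] root hC c = root hB b ⊗ₜ[R] root hC (a • c)
      simp only [Algebra.smul_def, root_mul, ← root_map h hB, ← root_map h hC]
      rw [← Algebra.smul_def, ← Algebra.smul_def, smul_tmul])
  have hr : ∀ x, r (x ^ p) = x := fun x => by
    induction x using TensorProduct.induction_on with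
    | zero => rw [zero_pow hp.out.ne_zero, map_zero]
    | add x y hx hy => rw [add_pow_p h0, map_add, hx, hy]
    | tmul b c =>
      rw [Algebra.TensorProduct.tmul_pow]
      show root hB (b ^ p) ⊗ₜ[R] root hC (c ^ p) = _
      rw [root_of_pow, root_of_pow]
  refine ⟨h0, Function.LeftInverse.injective hr, fun x => ?_⟩
  induction x using TensorProduct.induction_on with
  | zero => exact ⟨0, zero_pow hp.out.ne_zero⟩
  | add x y hx hy =>
    obtain ⟨x', rfl⟩ := hx
    obtain ⟨y', rfl⟩ := hy
    exact ⟨x' + y', add_pow_p h0 x' y'⟩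
  | tmul b c => exact ⟨root hB b ⊗ₜ root hC c, by simp [Algebra.TensorProduct.tmul_pow, root_pow]⟩

/-- A monoid algebra over the multiplicative monoid of a perfect ring. -/
theorem Perf.monoidAlgebra {B : Type u} [CommRing B] (h : Perf p R) (hB : Perf p B) :
    Perf p (MonoidAlgebra R B) := by
  have h0 : (p : MonoidAlgebra R B) = 0 := by
    rw [← map_natCast (algebraMap R (MonoidAlgebra R B)), h.zero, map_zero]
  let r : MonoidAlgebra R B →+ MonoidAlgebra R B :=
    { toFun := fun x => MonoidAlgebra.mapDomain (root hB) (MonoidAlgebra.map (root h) x)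
      map_zero' := by simp
      map_add' := fun x y => by simp [MonoidAlgebra.map_add, MonoidAlgebra.mapDomain_add] }
  have hr : ∀ x, r (x ^ p) = x := fun x => by
    induction x using MonoidAlgebra.induction_linear with
    | zero => rw [zero_pow hp.out.ne_zero, map_zero]
    | add x y hx hy => rw [add_pow_p h0, map_add, hx, hy]
    | single m a =>
      rw [MonoidAlgebra.single_pow]
      show MonoidAlgebra.mapDomain (root hB) (MonoidAlgebra.map (root h) _) = _
      simp [root_of_pow]
  refine ⟨h0, Function.LeftInverse.injective hr, fun x => ?_⟩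
  induction x using MonoidAlgebra.induction_linear with
  | zero => exact ⟨0, zero_pow hp.out.ne_zero⟩
  | add x y hx hy =>
    obtain ⟨x', rfl⟩ := hx
    obtain ⟨y', rfl⟩ := hy
    exact ⟨x' + y', add_pow_p h0 x' y'⟩
  | single m a => exact ⟨MonoidAlgebra.single (root hB m) (root h a), by simp [MonoidAlgebra.single_pow, root_pow]⟩

/-- The key computation: a module inside a reduced algebra against the radical of a principal ideal. -/
theorem radical_span_tensor_injective (h : Perf p R) (f : R) {S N : Type u} [CommRing S] [Algebra R S]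
    [IsReduced S] [AddCommGroup N] [Module R N] (ι : N →ₗ[R] S) (hι : Function.Injective ι)
    (z : N ⊗[R] ((Ideal.span {f}).radical : Ideal R))
    (hz : TensorProduct.rid R S (TensorProduct.map ι (Submodule.subtype _) z) = 0) : z = 0 := by
  classical
  let J : Ideal R := (Ideal.span {f}).radical
  let r : ℕ → R := fun n => (root h)^[n] f
  have hr : ∀ n, r (n + 1) ^ p = r n := fun n => by
    simp only [r, Function.iterate_succ_apply', root_pow]
  have hrn : ∀ n, r n ^ p ^ n = f := by
    intro n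
    induction n with
    | zero => simp [r]
    | succ n ih => rw [pow_succ', pow_mul, hr, ih]
  have hmem : ∀ n, r n ∈ J := fun n => ⟨p ^ n, by rw [hrn]; exact Ideal.mem_span_singleton_self f⟩
  -- every tensor is elementary against a root
  have hup : ∀ n m (y : N), n ≤ m → ∃ y' : N, y ⊗ₜ[R] (⟨r n, hmem n⟩ : J) = y' ⊗ₜ[R] (⟨r m, hmem m⟩ : J) := by
    intro n m y hnm
    induction m, hnm using Nat.le_induction with
    | base => exact ⟨y, rfl⟩
    | succ m _ ih =>
      obtain ⟨y', hy'⟩ := ih
      refine ⟨r (m + 1) ^ (p - 1) • y', hy'.trans ?_⟩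
      rw [TensorProduct.smul_tmul]
      congr 1
      refine Subtype.ext ?_
      show r m = r (m + 1) ^ (p - 1) * r (m + 1)
      rw [← pow_succ, Nat.sub_add_cancel hp.out.one_le, hr]
  have hsurj : ∀ z : N ⊗[R] J, ∃ n y, z = y ⊗ₜ[R] (⟨r n, hmem n⟩ : J) := by
    intro z
    induction z using TensorProduct.induction_on with
    | zero => exact ⟨0, 0, by rw [zero_tmul]⟩
    | add x y hx hy =>
      obtain ⟨n, a, rfl⟩ := hx
      obtain ⟨m, b, rfl⟩ := hy
      obtain ⟨a', ha'⟩ := hup n (max n m) a (le_max_left _ _)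
      obtain ⟨b', hb'⟩ := hup m (max n m) b (le_max_right _ _)
      exact ⟨_, a' + b', by rw [ha', hb', add_tmul]⟩
    | tmul y x =>
      obtain ⟨x, k, hk⟩ := x
      have hk' : f ∣ x ^ p ^ k :=
        (Ideal.mem_span_singleton.1 hk).trans (pow_dvd_pow x (Nat.lt_pow_self hp.out.one_lt).le)
      obtain ⟨a, ha⟩ := hk'
      obtain ⟨b, hb⟩ := (pow_bijective h k).2 a
      refine ⟨k, b • y, ?_⟩
      rw [TensorProduct.smul_tmul]
      congr 1
      refine Subtype.ext ((pow_bijective h k).1 ?_)
      show x ^ p ^ k = (b * r k) ^ p ^ k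
      rw [mul_pow, hrn, ha]
      simp only at hb
      rw [hb, mul_comm]
  obtain ⟨n, y, hy⟩ := hsurj z
  replace hz : r n • ι y = 0 := by
    rw [hy] at hz
    exact hz
  rw [hy]
  have h1 : r (n + 1) • y = 0 := by
    apply hι
    rw [map_smul, map_zero]
    refine IsNilpotent.eq_zero ⟨p, ?_⟩
    rw [Algebra.smul_def, mul_pow, ← map_pow, hr, ← Nat.sub_add_cancel hp.out.one_le, pow_succ, mul_left_comm,
      ← Algebra.smul_def, hz, mul_zero]
  have h2 : (⟨r n, hmem n⟩ : J) = r (n + 1) ^ (p - 1) • ⟨r (n + 1), hmem (n + 1)⟩ := Subtype.ext (by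
    show r n = r (n + 1) ^ (p - 1) * r (n + 1)
    rw [← pow_succ, Nat.sub_add_cancel hp.out.one_le, hr])
  obtain ⟨q, hq⟩ : ∃ q, p - 1 = q + 1 := ⟨p - 2, by have := hp.out.two_le; omega⟩
  rw [h2, ← TensorProduct.smul_tmul, hq, pow_succ, mul_smul, h1, smul_zero, zero_tmul]

theorem flat_radical_span (h : Perf p R) (f : R) : Module.Flat R ((Ideal.span {f}).radical : Ideal R) := by
  rw [Module.Flat.iff_rTensor_injective']
  intro I
  rw [injective_iff_map_eq_zero]
  intro z hz
  haveI := isReduced h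
  refine radical_span_tensor_injective h f I.subtype Subtype.val_injective z ?_
  rw [← LinearMap.lTensor_comp_rTensor, LinearMap.comp_apply, hz, map_zero, map_zero]

section Tor

variable {A : Type u} [CommRing A]

/-- The short exact sequence of an ideal. -/
noncomputable def idealSES (J : Ideal A) : ShortComplex (ModuleCat.{u} A) :=
  ShortComplex.mk (X₁ := ModuleCat.of A J) (X₂ := ModuleCat.of A A) (X₃ := ModuleCat.of A (A ⧸ J))
    (ModuleCat.ofHom J.subtype) (ModuleCat.ofHom (Submodule.mkQ J))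
    (ModuleCat.hom_ext (LinearMap.ext fun x => (Submodule.Quotient.mk_eq_zero _).2 x.2))

theorem idealSES_shortExact (J : Ideal A) : (idealSES J).ShortExact where
  exact := (ShortComplex.ShortExact.moduleCat_exact_iff_function_exact _).2 (LinearMap.exact_subtype_mkQ J)
  mono_f := (ModuleCat.mono_iff_injective _).2 J.injective_subtype
  epi_g := (ModuleCat.epi_iff_surjective _).2 (Submodule.mkQ_surjective J)

theorem tor_quotient_of_flat {C : Type u} [AddCommGroup C] [Module A C] (J : Ideal A) [Module.Flat A J]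
    (hinj : Function.Injective (J.subtype.lTensor C)) (n : ℕ) (hn : 0 < n) :
    Subsingleton (DRing.Tor A n C (A ⧸ J)) := by
  obtain ⟨n, rfl⟩ : ∃ k, n = k + 1 := ⟨n - 1, by omega⟩
  let P := projectiveResolution (ModuleCat.of A C)
  obtain ⟨e⟩ := balance P (n + 1) (ModuleCat.of A (A ⧸ J))
  haveI : Module.Flat A (idealSES J).X₁ := inferInstanceAs (Module.Flat A J)
  haveI : Module.Flat A (idealSES J).X₂ := inferInstanceAs (Module.Flat A A)
  have hT := tSC_shortExact P (idealSES_shortExact J)
  suffices hz : IsZero ((tC P (idealSES J).X₃).homology (n + 1)) by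
    exact @Equiv.subsingleton _ _ e.toEquiv (ModuleCat.subsingleton_of_isZero hz)
  have h2 := isZero_of_flat P (idealSES J).X₂ n
  cases n with
  | succ q =>
    exact (hT.homology_exact₃ (q + 2) (q + 1) rfl).isZero_of_both_zeros (h2.eq_of_src _ _)
      ((isZero_of_flat P (idealSES J).X₁ q).eq_of_tgt _ _)
  | zero =>
    haveI : Mono (hT.δ 1 0 rfl) := (hT.homology_exact₃ 1 0 rfl).mono_g (h2.eq_of_src _ _)
    refine ModuleCat.isZero_iff_subsingleton.2 ⟨fun x y => (ModuleCat.mono_iff_injective (hT.δ 1 0 rfl)).1 inferInstance ?_⟩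
    have key : ∀ x, hT.δ 1 0 rfl x = 0 := fun x => by
      refine (h0_bijective P _).1 (hinj ?_)
      refine (h0_natural P (idealSES J).f (hT.δ 1 0 rfl x)).symm.trans ?_
      refine (congrArg (h0 P _) ?_).trans ((map_zero _).trans ((congrArg _ (map_zero _)).trans (map_zero _)).symm)
      exact ConcreteCategory.congr_hom (hT.δ_comp 1 0 rfl) x
    rw [key, key]

theorem tor_radical_span {C : Type u} [CommRing C] [Algebra A C] (h : Perf p A) (hC : Perf p C) (f : A)
    (n : ℕ) (hn : 0 < n) : Subsingleton (DRing.Tor A n C (A ⧸ (Ideal.span {f}).radical)) := by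
  haveI := flat_radical_span h f
  haveI := isReduced hC
  refine tor_quotient_of_flat _ ((injective_iff_map_eq_zero _).2 fun z hz => ?_) n hn
  refine radical_span_tensor_injective h f LinearMap.id Function.injective_id z ?_
  show TensorProduct.rid A C ((Submodule.subtype _).lTensor C z) = 0
  rw [hz, map_zero]

/-- Finitely many elements of a radical ideal. -/
theorem exists_intermediate {C : Type u} [CommRing C] [Algebra A C] (h : Perf p A) (hC : Perf p C)
    {I : Ideal A} (hI : I.IsRadical) (s : Finset A) (hs : ↑s ⊆ (I : Set A)) :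
    ∃ J : Ideal A, J.IsRadical ∧ J ≤ I ∧ ↑s ⊆ (J : Set A) ∧
      ∀ n : ℕ, 0 < n → Subsingleton (DRing.Tor A n C (A ⧸ J)) := by
  classical
  haveI := isReduced h
  induction s using Finset.induction_on with
  | empty =>
    refine ⟨⊥, ?_, bot_le, by simp, fun n hn => ?_⟩
    · exact fun x ⟨k, hk⟩ => Ideal.mem_bot.2 (IsNilpotent.eq_zero ⟨k, Ideal.mem_bot.1 hk⟩)
    · obtain ⟨n, rfl⟩ : ∃ k, n = k + 1 := ⟨n - 1, by omega⟩
      let P := projectiveResolution (ModuleCat.of A C)
      obtain ⟨e⟩ := balance P (n + 1) (ModuleCat.of A (A ⧸ (⊥ : Ideal A)))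
      haveI : Module.Flat A (ModuleCat.of A (A ⧸ (⊥ : Ideal A))) :=
        Module.Flat.of_linearEquiv (Submodule.quotEquivOfEqBot (⊥ : Ideal A) rfl)
      haveI := ModuleCat.subsingleton_of_isZero (isZero_of_flat P (ModuleCat.of A (A ⧸ (⊥ : Ideal A))) n)
      exact e.toEquiv.subsingleton
  | @insert f s _ ih =>
    rw [Finset.coe_insert, Set.insert_subset_iff] at hs
    obtain ⟨J, hJ, hle, hsJ, htor⟩ := ih hs.2
    let K : Ideal (A ⧸ J) := (Ideal.span {Ideal.Quotient.mk J f}).radical
    refine ⟨K.comap (Ideal.Quotient.mk J), (Ideal.radical_isRadical _).comap _, ?_, ?_, fun n hn => ?_⟩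
    · intro x hx
      obtain ⟨k, hk⟩ := hx
      rw [← map_pow, Ideal.mem_span_singleton] at hk
      obtain ⟨c, hc⟩ := hk
      obtain ⟨c, rfl⟩ := Ideal.Quotient.mk_surjective c
      rw [← map_mul, Ideal.Quotient.mk_eq_mk_iff_sub_mem] at hc
      refine hI ⟨k, ?_⟩
      rw [← sub_add_cancel (x ^ k) (f * c)]
      exact I.add_mem (hle hc) (I.mul_mem_right _ hs.1)
    · rw [Finset.coe_insert, Set.insert_subset_iff]
      refine ⟨Ideal.le_radical (Ideal.mem_span_singleton_self _), fun x hx => ?_⟩
      show Ideal.Quotient.mk J x ∈ K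
      rw [Ideal.Quotient.eq_zero_iff_mem.2 (hsJ hx)]
      exact K.zero_mem
    · have hA₁ := h.quotient hJ
      have hC₁ : Perf p ((A ⧸ J) ⊗[A] C) := h.tensor hA₁ hC
      obtain ⟨φ, hφ⟩ := baseChange_of_vanishing (A := A) (A' := A ⧸ J) (P := C) (Q' := (A ⧸ J) ⧸ K)
        (fun q hq => htor q hq) n
      haveI := tor_radical_span hA₁ hC₁ (Ideal.Quotient.mk J f) n hn
      haveI : Subsingleton (DRing.Tor A n C ((A ⧸ J) ⧸ K)) := hφ.1.subsingleton
      let e : (A ⧸ K.comap (Ideal.Quotient.mk J)) ≃ₗ[A] (A ⧸ J) ⧸ K :=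
        LinearEquiv.ofBijective
          (Submodule.liftQ _ (Algebra.linearMap A ((A ⧸ J) ⧸ K)) (fun x hx => Ideal.Quotient.eq_zero_iff_mem.2 hx))
          ⟨LinearMap.ker_eq_bot.1 (Submodule.ker_liftQ_eq_bot _ _ _ fun x hx => Ideal.mem_comap.2 (Ideal.Quotient.eq_zero_iff_mem.1 hx)),
            fun y => by
              obtain ⟨z, rfl⟩ := Ideal.Quotient.mk_surjective y
              obtain ⟨a, rfl⟩ := Ideal.Quotient.mk_surjective z
              exact ⟨Submodule.Quotient.mk a, rfl⟩⟩
      exact (((CategoryTheory.Tor (ModuleCat.{u} A) n).obj (ModuleCat.of A C)).mapIso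
        (LinearEquiv.toModuleIso e)).toLinearEquiv.toEquiv.subsingleton

/-- Tor of a perfect quotient against a perfect algebra. -/
theorem tor_quotient {C : Type u} [CommRing C] [Algebra A C] (h : Perf p A) (hC : Perf p C) (I : Ideal A)
    (hI : I.IsRadical) (n : ℕ) (hn : 0 < n) : Subsingleton (DRing.Tor A n C (A ⧸ I)) := by
  classical
  obtain ⟨n, rfl⟩ : ∃ k, n = k + 1 := ⟨n - 1, by omega⟩
  let P := projectiveResolution (ModuleCat.of A C)
  obtain ⟨e⟩ := balance P (n + 1) (ModuleCat.of A (A ⧸ I))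
  suffices hz : IsZero ((tC P (ModuleCat.of A (A ⧸ I))).homology (n + 1)) by
    haveI := ModuleCat.subsingleton_of_isZero hz
    exact e.toEquiv.subsingleton
  rw [← HomologicalComplex.exactAt_iff_isZero_homology,
    HomologicalComplex.exactAt_iff' _ (n + 2) (n + 1) n (by simp) (by simp),
    ShortComplex.ShortExact.moduleCat_exact_iff_function_exact]
  change Function.Exact ((P.complex.d (n + 2) (n + 1)).hom.rTensor (A ⧸ I))
    ((P.complex.d (n + 1) n).hom.rTensor (A ⧸ I))
  intro x
  constructor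
  swap
  · rintro ⟨y, rfl⟩
    rw [← LinearMap.comp_apply, ← LinearMap.rTensor_comp, ← ModuleCat.hom_comp, P.complex.d_comp_d]
    simp
  intro hx
  obtain ⟨x, rfl⟩ := LinearMap.lTensor_surjective (P.complex.X (n + 1)) (Submodule.mkQ_surjective I) x
  let d := (P.complex.d (n + 1) n).hom
  have hx' : (Submodule.mkQ I).lTensor (P.complex.X n) (d.rTensor A x) = 0 := by
    rw [← LinearMap.comp_apply, LinearMap.lTensor_comp_rTensor, ← LinearMap.rTensor_comp_lTensor, LinearMap.comp_apply]
    exact hx
  obtain ⟨z, hz⟩ := (lTensor_exact (P.complex.X n) (LinearMap.exact_subtype_mkQ I) (Submodule.mkQ_surjective I) _).1 hx'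
  obtain ⟨s, hsI, hs⟩ : ∃ s : Finset A, ↑s ⊆ (I : Set A) ∧ ∀ J : Ideal A, ↑s ⊆ (J : Set A) →
      (Submodule.mkQ J).lTensor (P.complex.X n) (I.subtype.lTensor (P.complex.X n) z) = 0 := by
    clear hz
    induction z using TensorProduct.induction_on with
    | zero => exact ⟨∅, by simp, fun J _ => by simp⟩
    | tmul m i =>
      refine ⟨{i.1}, by simp, fun J hJ => ?_⟩
      have hi : i.1 ∈ J := hJ (by simp)
      simp [Ideal.Quotient.eq_zero_iff_mem.2 hi]
    | add a b ha hb =>
      obtain ⟨s, hs, hsJ⟩ := ha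
      obtain ⟨t, ht, htJ⟩ := hb
      refine ⟨s ∪ t, by simp [hs, ht], fun J hJ => ?_⟩
      rw [Finset.coe_union, Set.union_subset_iff] at hJ
      rw [map_add, map_add, hsJ J hJ.1, htJ J hJ.2, add_zero]
  obtain ⟨J, -, hle, hsJ, htor⟩ := exists_intermediate h hC hI s hsI
  obtain ⟨e'⟩ := balance P (n + 1) (ModuleCat.of A (A ⧸ J))
  have hzJ : IsZero ((tC P (ModuleCat.of A (A ⧸ J))).homology (n + 1)) := by
    haveI := htor (n + 1) hn
    exact ModuleCat.isZero_iff_subsingleton.2 e'.symm.toEquiv.subsingleton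
  rw [← HomologicalComplex.exactAt_iff_isZero_homology,
    HomologicalComplex.exactAt_iff' _ (n + 2) (n + 1) n (by simp) (by simp),
    ShortComplex.ShortExact.moduleCat_exact_iff_function_exact] at hzJ
  change Function.Exact ((P.complex.d (n + 2) (n + 1)).hom.rTensor (A ⧸ J))
    (d.rTensor (A ⧸ J)) at hzJ
  obtain ⟨w, hw⟩ := (hzJ ((Submodule.mkQ J).lTensor _ x)).1 (by
    rw [← LinearMap.comp_apply, LinearMap.rTensor_comp_lTensor, ← LinearMap.lTensor_comp_rTensor, LinearMap.comp_apply,
      ← hz]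
    exact hs J hsJ)
  refine ⟨(Submodule.factor hle).lTensor _ w, ?_⟩
  rw [← LinearMap.comp_apply, LinearMap.rTensor_comp_lTensor, ← LinearMap.lTensor_comp_rTensor, LinearMap.comp_apply, hw,
    ← LinearMap.comp_apply, ← LinearMap.lTensor_comp, Submodule.factor_comp_mk]

theorem tor_comm (n : ℕ) (M N : ModuleCat.{u} A) :
    Nonempty (DRing.Tor A n M N ≃ₗ[A] DRing.Tor A n N M) := by
  let P := ProjectiveResolution.of N
  obtain ⟨e⟩ := balance P n M
  have e' : DRing.Tor A n M N ≃ₗ[A] ↑((tC P M).homology n) :=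
    (P.isoLeftDerivedObj ((MonoidalCategory.tensoringLeft (ModuleCat.{u} A)).obj M) n ≪≫
      (HomologicalComplex.homologyFunctor _ _ n).mapIso
        ((NatIso.mapHomologicalComplex (BraidedCategory.tensorLeftIsoTensorRight M) _).app P.complex)).toLinearEquiv
  exact ⟨e'.trans e.symm⟩

/-- Tor between perfect algebras vanishes. -/
theorem tor_perfect {B C : Type u} [CommRing B] [CommRing C] [Algebra A B] [Algebra A C] (hA : Perf p A)
    (hB : Perf p B) (hC : Perf p C) (n : ℕ) (hn : 0 < n) : Subsingleton (DRing.Tor A n B C) := by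
  have hA' := hA.monoidAlgebra hB
  have hC' : Perf p (MonoidAlgebra A B ⊗[A] C) := hA.tensor hA' hC
  let π : MonoidAlgebra A B →ₐ[A] B := MonoidAlgebra.lift A B B (MonoidHom.id B)
  have hπ : Function.Surjective π := fun b => ⟨MonoidAlgebra.of A B b, by simp [π]⟩
  letI := π.toRingHom.toAlgebra
  haveI : IsScalarTower A (MonoidAlgebra A B) B := IsScalarTower.of_algebraMap_eq' π.comp_algebraMap.symm
  haveI : Module.Flat A (MonoidAlgebra A B) := inferInstance
  obtain ⟨φ, hφ⟩ := flat_baseChange (A := A) (A' := MonoidAlgebra A B) (P' := B) (Q := C) n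
  have hI : (RingHom.ker π.toRingHom).IsRadical := fun x ⟨k, hk⟩ => by
    haveI := isReduced hB
    rw [RingHom.mem_ker, map_pow] at hk
    exact RingHom.mem_ker.2 (IsNilpotent.eq_zero ⟨k, hk⟩)
  haveI := tor_quotient hA' hC' _ hI n hn
  obtain ⟨ec⟩ := tor_comm n (ModuleCat.of (MonoidAlgebra A B) (MonoidAlgebra A B ⊗[A] C))
    (ModuleCat.of (MonoidAlgebra A B) ((MonoidAlgebra A B) ⧸ RingHom.ker π.toRingHom))
  haveI : Subsingleton (DRing.Tor (MonoidAlgebra A B) n ((MonoidAlgebra A B) ⧸ RingHom.ker π.toRingHom)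
      (MonoidAlgebra A B ⊗[A] C)) := ec.symm.toEquiv.subsingleton
  let e : ((MonoidAlgebra A B) ⧸ RingHom.ker π.toRingHom) ≃ₗ[MonoidAlgebra A B] B :=
    LinearEquiv.ofBijective
      (Submodule.liftQ _ (Algebra.linearMap (MonoidAlgebra A B) B) (fun x hx => show π x = 0 from RingHom.mem_ker.1 hx))
      ⟨LinearMap.ker_eq_bot.1 (Submodule.ker_liftQ_eq_bot _ _ _ fun x hx => RingHom.mem_ker.2 (show π x = 0 from hx)),
        fun b => by
          obtain ⟨a, rfl⟩ := hπ b
          exact ⟨Submodule.Quotient.mk a, rfl⟩⟩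
  haveI : Subsingleton (DRing.Tor (MonoidAlgebra A B) n B (MonoidAlgebra A B ⊗[A] C)) :=
    (((CategoryTheory.Tor (ModuleCat.{u} (MonoidAlgebra A B)) n).mapIso (LinearEquiv.toModuleIso e)).app
      (ModuleCat.of _ (MonoidAlgebra A B ⊗[A] C))).toLinearEquiv.symm.toEquiv.subsingleton
  exact hφ.1.subsingleton

end Tor

end Groth.Agent.Dual22Lib.PerfectTor
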