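import Groth.Agent.Dual22Lib.HpExact
import Groth.Agent.Coherent.QcohOps
import Groth.Prelude.Def_QCohCat
import Mathlib.CategoryTheory.Abelian.Subcategory

/-!
# Quasi-coherent test modules
-/

set_option autoImplicit false
set_option backward.isDefEq.respectTransparency false
set_option backward.defeqAttrib.useBackward true
set_option linter.style.haveILetI false

universe u v w

open CategoryTheory CategoryTheory.Limits AlgebraicGeometry
open Groth.Agent.Coherent

attribute [local instance] HasDerivedCategory.standard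

namespace Groth.Agent.Dual22Lib.HpQCoh

variable {X : Scheme.{u}}

instance containsZero_qcoh : (QCohCat.isQCoh X).ContainsZero :=
  ⟨⟨kernel (𝟙 (Coh.structureModule X)), isZero_kernel_of_mono _, isQCoh_of_isZero (isZero_kernel_of_mono _)⟩⟩

instance closedUnderKernels_qcoh : (QCohCat.isQCoh X).IsClosedUnderKernels where
  kernels_le := by
    intro Z hZ
    obtain ⟨f, k, hk, hM, hN⟩ := hZ
    haveI : Coh.IsQCoh _ := hM
    haveI : Coh.IsQCoh _ := hN
    exact isQCoh_of_iso ((kernelIsKernel f).conePointUniqueUpToIso hk) (h := isQCoh_kernel f)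

instance closedUnderCokernels_qcoh : (QCohCat.isQCoh X).IsClosedUnderCokernels where
  cokernels_le := by
    intro Z hZ
    obtain ⟨f, k, hk, hM, hN⟩ := hZ
    haveI : Coh.IsQCoh _ := hM
    haveI : Coh.IsQCoh _ := hN
    exact isQCoh_of_iso ((cokernelIsCokernel f).coconePointUniqueUpToIso hk) (h := isQCoh_cokernel f)

/-- Quasi-coherent modules on `X` testing an affine chart. -/
theorem isQCoh_push_tilde [QuasiSeparatedSpace X] {R : CommRingCat.{u}} (k : Spec R ⟶ X) [IsOpenImmersion k]
    (M : ModuleCat.{u} R) : Coh.IsQCoh ((Scheme.Modules.pushforward k).obj (tilde M)) := by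
  haveI : QuasiCompact k := quasiCompact_iff_forall_isAffineOpen.2 fun V hV => by
    have h := QuasiSeparatedSpace.inter_isCompact k.opensRange.1 V.1 k.opensRange.2 (isCompact_range k.continuous) V.2
      hV.isCompact
    rw [k.isOpenEmbedding.isInducing.isCompact_iff]
    show IsCompact (k '' (k ⁻¹' (V : Set X)))
    rw [Set.image_preimage_eq_inter_range, Set.inter_comm]
    exact h
  haveI := DQCoh.isQCoh_tilde M
  exact isQCoh_push k _

variable {C : Type w} [Category.{v} C] (G : X.Modules ⥤ C)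

/-- Left exactness on quasi-coherent modules keeps monomorphisms. -/
theorem mono_map [PreservesFiniteLimits ((QCohCat.isQCoh X).ι ⋙ G)] {M N : X.Modules} (f : M ⟶ N) [Mono f]
    (hM : QCohCat.isQCoh X M) (hN : QCohCat.isQCoh X N) : Mono (G.map f) := by
  haveI : Mono (ObjectProperty.homMk f : (⟨M, hM⟩ : QCohCat.QCoh X) ⟶ ⟨N, hN⟩) :=
    (QCohCat.isQCoh X).ι.mono_of_mono_map (show Mono f by infer_instance)
  exact ((QCohCat.isQCoh X).ι ⋙ G).map_mono (ObjectProperty.homMk f : (⟨M, hM⟩ : QCohCat.QCoh X) ⟶ ⟨N, hN⟩)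

/-- Right exactness on quasi-coherent modules keeps epimorphisms. -/
theorem epi_map [PreservesFiniteColimits ((QCohCat.isQCoh X).ι ⋙ G)] {M N : X.Modules} (f : M ⟶ N) [Epi f]
    (hM : QCohCat.isQCoh X M) (hN : QCohCat.isQCoh X N) : Epi (G.map f) := by
  haveI : Epi (ObjectProperty.homMk f : (⟨M, hM⟩ : QCohCat.QCoh X) ⟶ ⟨N, hN⟩) :=
    (QCohCat.isQCoh X).ι.epi_of_epi_map (show Epi f by infer_instance)
  exact ((QCohCat.isQCoh X).ι ⋙ G).map_epi (ObjectProperty.homMk f : (⟨M, hM⟩ : QCohCat.QCoh X) ⟶ ⟨N, hN⟩)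

/-- Exactness on quasi-coherent modules gives a locally free `H^p` with locally constant fibre dimension. -/
theorem isFinLocFree_of_exact [QuasiSeparatedSpace X] (F : CochainComplex X.Modules ℤ) (e : ℤ)
    [(DCoh.toD X F).IsLE e] (p : ℤ) (hE : DCoh.IsPseudoCoherentD (p - 1) (DCoh.toD X F)) [DCoh.HasLTensorCx F]
    [PreservesFiniteLimits ((QCohCat.isQCoh X).ι ⋙ HpExact.G F p)]
    [PreservesFiniteColimits ((QCohCat.isQCoh X).ι ⋙ HpExact.G F p)]
    [∀ x : X, DCoh.HasLpull (X.fromSpecResidueField x)] :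
    FlatMod.IsFinLocFree (DCoh.HD (DCoh.toD X F) p) ∧
      IsLocallyConstant (fun x : X => PerfD.betti (DCoh.toD X F) x p) :=
  HpExact.isFinLocFree_and_isLocallyConstant (DCoh.toD X F) p hE fun {R} _ k _ {P a b} hP hp α hα =>
    HpExact.flat_of_exact F e p (QCohCat.isQCoh X)
      (fun f hM hN => by
        haveI : Coh.IsQCoh _ := hM
        haveI : Coh.IsQCoh _ := hN
        exact isQCoh_image f)
      (fun f _ hM hN => mono_map (HpExact.G F p) f hM hN) (fun f _ hM hN => epi_map (HpExact.G F p) f hM hN)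
      k (isQCoh_push_tilde k) hP hp α hα

end Groth.Agent.Dual22Lib.HpQCoh
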