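import Groth.Agent.Dual22Lib.GorInvertible
import Groth.Agent.DualLib.Self

/-!
# On a Gorenstein scheme with a dualizing complex the structure sheaf is dualizing
-/

set_option autoImplicit false
set_option backward.isDefEq.respectTransparency false
set_option backward.isDefEq.respectTransparency.types false
set_option backward.defeqAttrib.useBackward true
set_option linter.style.haveILetI false

universe u

open CategoryTheory CategoryTheory.Limits AlgebraicGeometry DerivedCategory

attribute [local instance] HasDerivedCategory.standard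

namespace Groth.Agent.Dual22Lib

/-- `~A = O`. -/
noncomputable def tildeZeroIso (R : CommRingCat.{u}) [PreservesFiniteLimits (tilde.functor R)] :
    (DCoh.tildeD R).obj ((singleFunctor (ModuleCat.{u} R) 0).obj (ModuleCat.of R R)) ≅
      DCoh.inD (Spec R) (Coh.structureModule (Spec R)) :=
  ((tilde.functor R).mapDerivedCategorySingleFunctor 0).app _ ≪≫ (singleFunctor _ 0).mapIso tildeSelf

/-- Restriction of `O`. -/
noncomputable def restrictZeroIso {U V : Scheme.{u}} (j : U ⟶ V) [IsOpenImmersion j]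
    [PreservesFiniteLimits (Scheme.Modules.restrictFunctor j)] :
    (DCoh.restrictD j).obj (DCoh.inD V (Coh.structureModule V)) ≅ DCoh.inD U (Coh.structureModule U) :=
  ((Scheme.Modules.restrictFunctor j).mapDerivedCategorySingleFunctor 0).app _ ≪≫
    (singleFunctor _ 0).mapIso (Scheme.Modules.restrictUnitIso j)

variable {X : Scheme.{u}}
  [∀ (U V : Scheme.{u}) (j : U ⟶ V) [IsOpenImmersion j], PreservesFiniteLimits (Scheme.Modules.restrictFunctor j)]
  [∀ (R : CommRingCat.{u}), PreservesFiniteLimits (tilde.functor R)] [IsLocallyNoetherian X] {K : DCoh.D X}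

theorem isDualizingSch_structure (hK : Dual2.IsDualizingSch X K)
    (hX : ∀ x : X, LocCoh.IsGorensteinLocalRing (X.presheaf.stalk x)) :
    Dual2.IsDualizingSch X (DCoh.inD X (Coh.structureModule X)) := by
  have key : ∀ x : X, ∃ (V : X.affineOpens), x ∈ V.1 ∧
      DualAt (A := Γ(X, V.1)) (DCoh.inD X (Coh.structureModule X)) V.2.fromSpec := fun x => by
    obtain ⟨U, n, hxU, ⟨eU⟩⟩ := invertible_of_gorenstein hK hX x
    obtain ⟨V, hV, hxV, hVU⟩ := exists_isAffineOpen_mem_and_subset (x := x) (U := U) hxU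
    refine ⟨⟨V, hV⟩, hxV, ?_⟩
    let k := hV.fromSpec
    let l : Spec (CommRingCat.of Γ(X, V)) ⟶ (U : Scheme.{u}) := IsOpenImmersion.lift U.ι k (by
      rw [Scheme.Opens.range_ι]; exact hV.range_fromSpec.trans_subset hVU)
    have hfac : l ≫ U.ι = k := IsOpenImmersion.lift_fac _ _ _
    haveI : IsOpenImmersion (l ≫ U.ι) := by rw [hfac]; infer_instance
    haveI : IsOpenImmersion l := IsOpenImmersion.of_comp l U.ι
    have main : DualAt (A := Γ(X, V)) (DCoh.inD X (Coh.structureModule X)) (l ≫ U.ι) := by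
      obtain ⟨ω, hω, ⟨e⟩⟩ := hK Γ(X, V) (l ≫ U.ι)
      obtain ⟨c⟩ := DCat.PerfLocal.rd_comp l U.ι K
      haveI := isNoetherianRing_chart (l ≫ U.ι)
      obtain ⟨eω⟩ := exists_iso_of_tildeD_iso
        (e.symm ≪≫ c ≪≫ (DCoh.restrictD l).mapIso eU ≪≫ restrictShiftIso l n ≪≫
          (tildeShiftIso (CommRingCat.of Γ(X, V)) n).symm)
      refine ⟨_, DualLib.isDualizing_of_iso ((shiftFunctor (Dual.D Γ(X, V)) (-n)).mapIso eω ≪≫
        ((shiftEquiv (Dual.D Γ(X, V)) n).unitIso.app _).symm) (DualLib.isDualizing_shift hω (-n)), ?_⟩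
      exact ⟨restrictZeroIso (l ≫ U.ι) ≪≫ (tildeZeroIso (CommRingCat.of Γ(X, V))).symm⟩
    obtain ⟨ω, hω, ⟨e⟩⟩ := main
    have : ∀ (k' : Spec (CommRingCat.of Γ(X, V)) ⟶ X) [IsOpenImmersion k'], l ≫ U.ι = k' →
        DualAt (A := Γ(X, V)) (DCoh.inD X (Coh.structureModule X)) k' := by
      intro k' _ hk'
      subst hk'
      exact ⟨ω, hω, ⟨e⟩⟩
    exact this hV.fromSpec hfac
  choose V hxV hV using key
  exact isDualizingSch_of_cover _ X (fun x => Γ(X, (V x).1)) (fun x => (V x).2.fromSpec)
    (fun x => ⟨x, by rw [(V x).2.range_fromSpec]; exact hxV x⟩) hV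

end Groth.Agent.Dual22Lib
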