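import Groth.Agent.Dual22Lib.SchStalk
import Groth.Agent.DualLib.Cover
import Groth.Agent.DCat.PerfLocal
import Groth.Agent.DQCoh.Local
import Groth.Agent.DQCoh.Tilde
import Groth.Agent.DQCoh.TildePush
import Groth.Agent.Flatn12.PullbackSections
import Groth.Agent.Coherent.QcohLocal

/-!
# Restricting dualizing complexes between affine charts; gluing along affine covers
-/

set_option autoImplicit false
set_option backward.isDefEq.respectTransparency false
set_option backward.isDefEq.respectTransparency.types false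
set_option backward.defeqAttrib.useBackward true
set_option linter.style.haveILetI false

universe u

open CategoryTheory CategoryTheory.Limits AlgebraicGeometry DerivedCategory

attribute [local instance] HasDerivedCategory.standard

namespace Groth.Agent.Dual22Lib

variable {X : Scheme.{u}}
  [∀ (U V : Scheme.{u}) (j : U ⟶ V) [IsOpenImmersion j], PreservesFiniteLimits (Scheme.Modules.restrictFunctor j)]
  [∀ (R : CommRingCat.{u}), PreservesFiniteLimits (tilde.functor R)]

/-- `K` is given by a dualizing complex on the chart `k`. -/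
def DualAt (K : DCoh.D X) {A : Type u} [CommRing A] (k : Spec (CommRingCat.of A) ⟶ X) [IsOpenImmersion k] : Prop :=
  ∃ ω : Dual.D A, Dual.IsDualizing A ω ∧
    Nonempty ((DCoh.restrictD k).obj K ≅ (DCoh.tildeD (CommRingCat.of A)).obj ω)

omit [∀ (U V : Scheme.{u}) (j : U ⟶ V) [IsOpenImmersion j], PreservesFiniteLimits (Scheme.Modules.restrictFunctor j)] in
theorem exists_iso_of_tildeD_iso {A : Type u} [CommRing A] {ω ω' : Dual.D A}
    (e : (DCoh.tildeD (CommRingCat.of A)).obj ω ≅ (DCoh.tildeD (CommRingCat.of A)).obj ω') : Nonempty (ω ≅ ω') := by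
  obtain ⟨h₁, h₂, -⟩ := DQCoh.tildeD_main (CommRingCat.of A)
  exact ⟨(Functor.FullyFaithful.ofFullyFaithful (DCoh.tildeD (CommRingCat.of A))).preimageIso e⟩

omit [∀ (R : CommRingCat.{u}), PreservesFiniteLimits (tilde.functor R)] in
/-- Restriction of `~` along an affine open immersion. -/
theorem nonempty_tildeD_restrict {R S : CommRingCat.{u}} (φ : R ⟶ S) [IsOpenImmersion (Spec.map φ)]
    [PreservesFiniteLimits (ModuleCat.extendScalars.{u, u, u} φ.hom)]
    [PreservesFiniteColimits (ModuleCat.extendScalars.{u, u, u} φ.hom)]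
    [PreservesFiniteLimits (tilde.functor R)] [PreservesFiniteLimits (tilde.functor S)] :
    Nonempty (DCoh.tildeD R ⋙ DCoh.restrictD (Spec.map φ) ≅ DualLib.extD φ.hom ⋙ DCoh.tildeD S) := by
  let b : tilde.functor R ⋙ Scheme.Modules.restrictFunctor (Spec.map φ) ≅
      ModuleCat.extendScalars.{u, u, u} φ.hom ⋙ tilde.functor S :=
    Functor.isoWhiskerLeft _ (Scheme.Modules.restrictFunctorIsoPullback (Spec.map φ)) ≪≫
      Flatn12.tildePullbackIso φ
  exact DQCoh.nonempty_lift_generic (B := (Spec (CommRingCat.of R)).Modules)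
    (C := (Spec (CommRingCat.of S)).Modules) (tilde.functor R)
    (Scheme.Modules.restrictFunctor (Spec.map φ)) (ModuleCat.extendScalars.{u, u, u} φ.hom) (tilde.functor S) b
    (DCoh.tildeD R ⋙ DCoh.restrictD (Spec.map φ))
    ⟨Functor.isoWhiskerRight (tilde.functor R).mapDerivedCategoryFactors (DCoh.restrictD (Spec.map φ)) ≪≫
      Functor.isoWhiskerLeft ((tilde.functor R).mapHomologicalComplex (ComplexShape.up ℤ))
        (Scheme.Modules.restrictFunctor (Spec.map φ)).mapDerivedCategoryFactors⟩ _ rfl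

/-- Passing to an affine open of a chart. -/
theorem nonempty_chart_restrict {A B : Type u} [CommRing A] [CommRing B] (φ : A →+* B)
    [IsOpenImmersion (Spec.map (CommRingCat.ofHom φ))]
    [PreservesFiniteLimits (ModuleCat.extendScalars.{u, u, u} φ)]
    [PreservesFiniteColimits (ModuleCat.extendScalars.{u, u, u} φ)]
    {K : DCoh.D X} (j : Spec (CommRingCat.of A) ⟶ X) [IsOpenImmersion j] {ω : Dual.D A}
    (e : (DCoh.restrictD j).obj K ≅ (DCoh.tildeD (CommRingCat.of A)).obj ω)
    (k : Spec (CommRingCat.of B) ⟶ X) [IsOpenImmersion k] (hk : k = Spec.map (CommRingCat.ofHom φ) ≫ j) :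
    Nonempty ((DCoh.restrictD k).obj K ≅ (DCoh.tildeD (CommRingCat.of B)).obj ((DualLib.extD φ).obj ω)) := by
  subst hk
  obtain ⟨c⟩ := DCat.PerfLocal.rd_comp (Spec.map (CommRingCat.ofHom φ)) j K
  obtain ⟨t⟩ := nonempty_tildeD_restrict (CommRingCat.ofHom φ)
  exact ⟨c ≪≫ (DCoh.restrictD _).mapIso e ≪≫ t.app ω⟩

omit [∀ (U V : Scheme.{u}) (j : U ⟶ V) [IsOpenImmersion j], PreservesFiniteLimits (Scheme.Modules.restrictFunctor j)]
  [∀ (R : CommRingCat.{u}), PreservesFiniteLimits (tilde.functor R)] in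
theorem preserves_extendScalars {A B : Type u} [CommRing A] [CommRing B] [Algebra A B] (S : Submonoid A)
    [IsLocalization S B] : PreservesFiniteLimits (ModuleCat.extendScalars.{u, u, u} (algebraMap A B)) ∧
      PreservesFiniteColimits (ModuleCat.extendScalars.{u, u, u} (algebraMap A B)) := by
  haveI := IsLocalization.flat B S
  refine ⟨ModuleCat.preservesFiniteLimits_extendScalars_of_flat (RingHom.flat_algebraMap_iff.2 ‹_›), ?_⟩
  haveI := (ModuleCat.extendRestrictScalarsAdj.{u, u, u} (algebraMap A B)).leftAdjoint_preservesColimits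
  infer_instance

/-- A dualizing complex stays dualizing on a localized chart. -/
theorem DualAt.loc {A B : Type u} [CommRing A] [IsNoetherianRing A] [CommRing B] [Algebra A B] (S : Submonoid A)
    [IsLocalization S B] [IsOpenImmersion (Spec.map (CommRingCat.ofHom (algebraMap A B)))]
    {K : DCoh.D X} {j : Spec (CommRingCat.of A) ⟶ X} [IsOpenImmersion j] (h : DualAt K j)
    (k : Spec (CommRingCat.of B) ⟶ X) [IsOpenImmersion k]
    (hk : k = Spec.map (CommRingCat.ofHom (algebraMap A B)) ≫ j) : DualAt K k := by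
  obtain ⟨ω, hω, ⟨e⟩⟩ := h
  obtain ⟨_, _⟩ := preserves_extendScalars (B := B) S
  exact ⟨_, DualLib.isDualizing_extD S hω, nonempty_chart_restrict (algebraMap A B) j e k hk⟩

/-- Isomorphic charts. -/
theorem DualAt.of_iso {A B : CommRingCat.{u}} [IsNoetherianRing A] (e : A ≅ B)
    {K : DCoh.D X} {j : Spec A ⟶ X} [IsOpenImmersion j] (h : DualAt (A := A) K j)
    (k : Spec B ⟶ X) [IsOpenImmersion k] (hk : k = Spec.map e.hom ≫ j) : DualAt (A := B) K k := by
  letI : Algebra A B := e.hom.hom.toAlgebra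
  haveI : IsLocalization (⊥ : Submonoid A) A := IsLocalization.self bot_le
  haveI : IsLocalization (⊥ : Submonoid A) B :=
    IsLocalization.isLocalization_of_algEquiv (⊥ : Submonoid A)
      (AlgEquiv.ofRingEquiv (f := e.commRingCatIsoToRingEquiv) fun _ => rfl)
  haveI : IsOpenImmersion (Spec.map (CommRingCat.ofHom (algebraMap A B))) :=
    inferInstanceAs (IsOpenImmersion (Spec.map e.hom))
  exact h.loc ⊥ k hk

/-- **Dualizing complexes glue along affine covers.** -/
theorem isDualizingSch_of_cover [IsLocallyNoetherian X] (K : DCoh.D X) (ι : Type u) (A : ι → Type u)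
    [∀ i, CommRing (A i)] (j : ∀ i, Spec (CommRingCat.of (A i)) ⟶ X) [∀ i, IsOpenImmersion (j i)]
    (hcov : ∀ x : X, ∃ i, x ∈ Set.range (j i)) (hK : ∀ i, DualAt K (j i)) :
    Dual2.IsDualizingSch X K := by
  have range_eq : ∀ {B : Type u} [CommRing B] (j : Spec (CommRingCat.of B) ⟶ X) [IsOpenImmersion j],
      ∃ (U : X.Opens) (hU : IsAffineOpen U) (e : CommRingCat.of B ≅ Γ(X, U)),
        U = j.opensRange ∧ hU.fromSpec = Spec.map e.hom ≫ j := fun {B} _ j _ => by
    let hU := isAffineOpen_opensRange j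
    let h := IsOpenImmersion.isoOfRangeEq hU.fromSpec j (by rw [hU.range_fromSpec]; rfl)
    refine ⟨j.opensRange, hU, ⟨Spec.preimage h.hom, Spec.preimage h.inv, ?_, ?_⟩, rfl, ?_⟩
    · exact Spec.map_injective (by simp)
    · exact Spec.map_injective (by simp)
    · simp [h]
  intro B _ k _
  haveI := isNoetherianRing_chart k
  obtain ⟨U, hU, eU, hUk, hUe⟩ := range_eq k
  haveI : IsNoetherianRing Γ(X, U) := isNoetherianRing_chart (A := Γ(X, U)) hU.fromSpec
  suffices h : DualAt (A := Γ(X, U)) K hU.fromSpec from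
    DualAt.of_iso (B := CommRingCat.of B) eU.symm h k (by rw [hUe, Iso.symm_hom, ← Category.assoc, ← Spec.map_comp,
      Iso.hom_inv_id, Spec.map_id, Category.id_comp])
  have hbas : ∀ y : PrimeSpectrum Γ(X, U), ∃ f : Γ(X, U), f ∉ y.asIdeal ∧
      ∀ (k' : Spec (CommRingCat.of (Localization.Away f)) ⟶ X) [IsOpenImmersion k'],
        k' = Spec.map (CommRingCat.ofHom (algebraMap Γ(X, U) (Localization.Away f))) ≫ hU.fromSpec →
          DualAt K k' := fun y => by
    obtain ⟨i, hi⟩ := hcov (hU.fromSpec y)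
    haveI := isNoetherianRing_chart (j i)
    obtain ⟨W, hW, eW, hWj, hWe⟩ := range_eq (j i)
    have hxU : hU.fromSpec y ∈ U := hU.range_fromSpec.le ⟨y, rfl⟩
    obtain ⟨f, g, hfg, hxf⟩ := exists_basicOpen_le_affine_inter hU hW _ ⟨hxU, hWj ▸ hi⟩
    refine ⟨f, ?_, fun k' _ hk' => ?_⟩
    · have h : y ∈ hU.fromSpec ⁻¹ᵁ X.basicOpen f := hxf
      rw [hU.fromSpec_preimage_basicOpen] at h
      exact h
    let V := X.basicOpen f
    let hV : IsAffineOpen V := hU.basicOpen f
    haveI : IsNoetherianRing Γ(X, V) := isNoetherianRing_chart (A := Γ(X, V)) hV.fromSpec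
    haveI : IsNoetherianRing Γ(X, W) := isNoetherianRing_chart (A := Γ(X, W)) hW.fromSpec
    have hDW : DualAt (A := Γ(X, W)) K hW.fromSpec :=
      DualAt.of_iso (A := CommRingCat.of (A i)) eW (hK i) _ hWe
    have hDV : DualAt (A := Γ(X, V)) K hV.fromSpec := by
      let r : W ⟶ W := 𝟙 W
      have hle : V ≤ W := hfg.le.trans (X.basicOpen_le g)
      letI : Algebra Γ(X, W) Γ(X, V) := (X.presheaf.map (homOfLE hle).op).hom.toAlgebra
      haveI : IsLocalization.Away g Γ(X, V) := hW.isLocalization_of_eq_basicOpen g (homOfLE hle) hfg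
      have hfac := hW.map_fromSpec hV (homOfLE hle).op
      haveI : IsOpenImmersion (Spec.map (CommRingCat.ofHom (algebraMap Γ(X, W) Γ(X, V)))) :=
        IsOpenImmersion.of_isLocalization g
      exact hDW.loc (Submonoid.powers g) _ hfac.symm
    letI : Algebra Γ(X, U) Γ(X, V) := (X.presheaf.map (homOfLE (X.basicOpen_le f)).op).hom.toAlgebra
    haveI : IsLocalization.Away f Γ(X, V) := hU.isLocalization_basicOpen f
    let α := IsLocalization.algEquiv (Submonoid.powers f) Γ(X, V) (Localization.Away f)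
    refine DualAt.of_iso (A := Γ(X, V)) (B := CommRingCat.of (Localization.Away f))
      α.toRingEquiv.toCommRingCatIso hDV k' ?_
    rw [hk', ← hU.map_fromSpec hV (homOfLE (X.basicOpen_le f)).op, ← Category.assoc, ← Spec.map_comp]
    congr 2
    ext x
    exact (α.commutes x).symm
  choose f hf hDf using hbas
  obtain ⟨t, htsub, ht⟩ : ∃ t : Finset Γ(X, U), ↑t ⊆ Set.range f ∧ Ideal.span (t : Set Γ(X, U)) = ⊤ := by
    refine ⟨_, (Ideal.span_eq_top_iff_finite _).1 ?_ |>.choose_spec⟩
    by_contra hne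
    obtain ⟨m, hm, hle⟩ := Ideal.exists_le_maximal _ hne
    exact hf ⟨m, hm.isPrime⟩ (hle (Ideal.subset_span ⟨_, rfl⟩))
  obtain ⟨n, g, hgt⟩ : ∃ (n : ℕ) (g : Fin n → Γ(X, U)), Set.range g = (t : Set Γ(X, U)) :=
    ⟨_, fun a => (t.equivFin.symm a : Γ(X, U)), by
      ext z; exact ⟨fun ⟨a, ha⟩ => ha ▸ (t.equivFin.symm a).2, fun hz => ⟨t.equivFin ⟨z, hz⟩, by simp⟩⟩⟩
  have hmem : ∀ a, ∃ y, f y = g a := fun a => htsub (hgt ▸ ⟨a, rfl⟩)
  choose y hy using hmem
  have hg : ∀ a (k' : Spec (CommRingCat.of (Localization.Away (g a))) ⟶ X) [IsOpenImmersion k'],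
      k' = Spec.map (CommRingCat.ofHom (algebraMap Γ(X, U) (Localization.Away (g a)))) ≫ hU.fromSpec →
        DualAt K k' := fun a => hy a ▸ hDf (y a)
  let p := fun a => Spec.map (CommRingCat.ofHom (algebraMap Γ(X, U) (Localization.Away (g a))))
  haveI : ∀ a, IsOpenImmersion (p a) := fun a => IsOpenImmersion.of_isLocalization (g a)
  let M := (DCoh.restrictD hU.fromSpec).obj K
  have hq : DCoh.IsQCohD M := fun i => by
    refine Coherent.isQCoh_of_openImmersion_cover (ι := ULift.{u} (Fin n)) _ (fun a => p a.down) ?_ fun a => ?_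
    · intro z
      obtain ⟨a, ha⟩ : ∃ a, g a ∉ (z : PrimeSpectrum Γ(X, U)).asIdeal := by
        by_contra! hc
        exact (z : PrimeSpectrum Γ(X, U)).2.ne_top (top_unique (ht ▸ hgt ▸ Ideal.span_le.2 (Set.range_subset_iff.2 hc)))
      exact ⟨⟨a⟩, (PrimeSpectrum.localization_away_comap_range (Localization.Away (g a)) (g a)).ge ha⟩
    · obtain ⟨ω, -, ⟨e⟩⟩ := hg a.down (p a.down ≫ hU.fromSpec) rfl
      obtain ⟨c⟩ := DCat.PerfLocal.rd_comp (p a.down) hU.fromSpec K
      exact Coherent.isQCoh_of_iso (DCat.SuppOpen.hdMapIso (Scheme.Modules.restrictFunctor (p a.down)) M i)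
        (h := DQCoh.isQCohD_of_iso (e.symm ≪≫ c) (DQCoh.isQCohD_tildeD (R := CommRingCat.of (Localization.Away (g a.down))) ω) i)
  obtain ⟨ω, ⟨eω⟩⟩ := ((DQCoh.tildeD_main (CommRingCat.of Γ(X, U))).2.2 M).1 hq
  refine ⟨ω, ?_, ⟨eω.symm⟩⟩
  refine DualLib.isDualizing_of_away g (by rw [hgt, ht]) fun a => ?_
  obtain ⟨_, _⟩ := preserves_extendScalars (B := Localization.Away (g a)) (Submonoid.powers (g a))
  obtain ⟨ω', hω', ⟨e'⟩⟩ := hg a (p a ≫ hU.fromSpec) rfl
  obtain ⟨c⟩ := nonempty_chart_restrict (X := X) (algebraMap Γ(X, U) (Localization.Away (g a))) hU.fromSpec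
    eω.symm _ rfl
  obtain ⟨d⟩ := exists_iso_of_tildeD_iso (e'.symm ≪≫ c)
  exact DualLib.isDualizing_of_iso d hω'

end Groth.Agent.Dual22Lib
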