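import Groth.Agent.Dual22Lib.AdjBrown
import Groth.Agent.Dual22Lib.AdjGeom
import Groth.Agent.Dual22Lib.PerfLift
import Groth.Agent.DCat.CompactPres
import Groth.Agent.DQCoh.PerfectHom

/-!
# Perfect objects lie in the thick closure of every perfect generator
-/

set_option autoImplicit false
set_option backward.isDefEq.respectTransparency false
set_option backward.defeqAttrib.useBackward true
set_option linter.style.haveILetI false
set_option linter.unusedSectionVars false
set_option synthInstance.maxHeartbeats 100000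

universe v w u

open CategoryTheory CategoryTheory.Limits CategoryTheory.Pretriangulated AlgebraicGeometry Opposite
open Groth.Agent.DCat
open scoped ZeroObject

attribute [-instance] Int.instConditionallyCompleteLinearOrder

namespace Groth.Agent.Dual22Lib.GenEnv

section Model

variable {A : Type (u + 1)} [Category.{u} A] [Abelian A] [IsGrothendieckAbelian.{u} A] [hs : HasDerivedCategory.{u} A]
  {D : Type w} [Category.{v} D] [Preadditive D] [HasZeroObject D] [HasShift D ℤ]
  [∀ n : ℤ, (shiftFunctor D n).Additive] [Pretriangulated D]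
  (I : DerivedCategory A ⥤ D) [I.CommShift ℤ] [I.IsTriangulated] [I.IsEquivalence]
  (qc : ObjectProperty D) [qc.IsTriangulated] [qc.IsClosedUnderIsomorphisms]

/-- `qc` in the small model. -/
abbrev sqc : ObjectProperty (DerivedCategory A) := qc.inverseImage I

/-- `qc` with small morphism sets. -/
abbrev QS : Type (u + 1) := (sqc I qc).FullSubcategory

/-- The inclusion. -/
noncomputable abbrev emb : QS I qc ⥤ D := (sqc I qc).ι ⋙ I

theorem exists_preimage (E : D) (hE : qc E) : ∃ E' : QS I qc, Nonempty ((emb I qc).obj E' ≅ E) :=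
  ⟨⟨I.objPreimage E, qc.prop_of_iso (I.objObjPreimageIso E).symm hE⟩, ⟨I.objObjPreimageIso E⟩⟩

include I in
/-- Thick classes containing a generator contain all objects compact relative to `qc`. -/
theorem prop_of_compact [IsTriangulated D] [HasCoproducts.{u} D]
    (hsum : ∀ (J : Type u) (K : J → D), (∀ j, qc (K j)) → qc (∐ K)) (G : D) (hGq : qc G)
    (hG : ∀ (J : Type u) (K : J → D), (∀ j, qc (K j)) → DQCoh.SumFac K G)
    (hgen : ∀ E : D, qc E → (∀ (n : ℤ) (φ : G⟦n⟧ ⟶ E), φ = 0) → IsZero E)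
    (Φ : ObjectProperty D) [Φ.IsTriangulated] [Φ.IsClosedUnderIsomorphisms] [Φ.IsStableUnderRetracts]
    (hΦG : Φ G) (P : D) (hPq : qc P) (hP : ∀ (J : Type u) (K : J → D), (∀ j, qc (K j)) → DQCoh.SumFac K P) :
    Φ P := by
  haveI : HasCoproducts.{u} (DerivedCategory A) := fun J =>
    hasCoproductsOfShape_derived enoughKInj_of_isGrothendieckAbelian J
  haveI hclosed : ∀ J : Type u, (sqc I qc).IsClosedUnderColimitsOfShape (Discrete J) := fun J => by
    constructor
    rintro K ⟨c⟩
    let F := c.diag ⋙ I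
    have hc : IsColimit (I.mapCocone (Cocone.mk K c.ι)) := isColimitOfPreserves I c.isColimit
    refine qc.prop_of_iso ?_ (hsum J (fun j => F.obj ⟨j⟩) fun j => c.prop_diag_obj ⟨j⟩)
    exact (HasColimit.isoOfNatIso (Discrete.natIsoFunctor (F := F))).symm ≪≫
      (colimit.isColimit F).coconePointUniqueUpToIso hc
  haveI : HasCoproducts.{u} (QS I qc) := fun J =>
    hasColimitsOfShape_of_closedUnderColimits (sqc I qc) (J := Discrete J)
  haveI : HasColimitsOfShape (Discrete ℕ) (QS I qc) :=
    hasColimitsOfShape_of_equivalence (Discrete.equivalence (Equiv.ulift.{u} : ULift.{u} ℕ ≃ ℕ))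
  haveI : ∀ J : Type u, PreservesColimitsOfShape (Discrete J) (sqc I qc).ι := fun J => by
    haveI : CreatesColimitsOfShape (Discrete J) (sqc I qc).ι :=
      createsColimitsOfShapeFullSubcategoryInclusion (Discrete J) (sqc I qc)
    infer_instance
  have hfac : ∀ Q : QS I qc, (∀ (J : Type u) (K : J → D), (∀ j, qc (K j)) → DQCoh.SumFac K ((emb I qc).obj Q)) →
      FinFac Q := fun Q hQ κ K α => by
    classical
    let c := PreservesCoproduct.iso (emb I qc) K
    obtain ⟨s, hs⟩ := hQ κ (fun k => (emb I qc).obj (K k)) (fun k => (K k).property) ((emb I qc).map α ≫ c.hom)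
    refine ⟨s, (emb I qc).map_injective ?_⟩
    rw [← cancel_mono c.hom, Functor.map_comp, Category.assoc]
    refine Eq.trans (congrArg ((emb I qc).map α ≫ ·) ?_) ((Category.assoc _ _ _).symm.trans hs)
    rw [← cancel_epi c.inv]
    refine Sigma.hom_ext _ _ fun k => ?_
    rw [PreservesCoproduct.inv_hom, ι_comp_sigmaComparison_assoc, ι_comp_sigmaComparison_assoc,
      ← Functor.map_comp_assoc, ι_finProj]
    have hk : (emb I qc).map (Sigma.ι K k) ≫ c.hom = Sigma.ι (fun k => (emb I qc).obj (K k)) k := by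
      rw [← ι_comp_sigmaComparison (emb I qc) K k, ← PreservesCoproduct.inv_hom, Category.assoc, Iso.inv_hom_id,
        Category.comp_id]
    erw [reassoc_of% hk, DQCoh.ι_subSum]
    split_ifs
    · exact hk
    · simp
  obtain ⟨G', ⟨eG⟩⟩ := exists_preimage I qc G hGq
  obtain ⟨P', ⟨eP⟩⟩ := exists_preimage I qc P hPq
  have hc : ∀ _ : PUnit.{u + 1}, CohDer.IsCompactObject G' := fun _ =>
    (isCompactObject_iff _).2 (hfac G' fun J K hK => (hG J K hK).of_iso eG.symm)
  let F := emb I qc
  have hg : CohDer.Generates fun _ : PUnit.{u + 1} => G' := fun K hK => by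
    refine (IsZero.iff_id_eq_zero K).2 (F.map_injective ?_)
    refine (hgen (F.obj K) K.property fun n φ => ?_).eq_of_src _ _
    let ψ : F.obj (G'⟦n⟧) ⟶ F.obj K := ((F.commShiftIso n).app G').hom ≫ eG.hom⟦n⟧' ≫ φ
    suffices hψ : ψ = 0 by
      rw [← cancel_epi (eG.hom⟦n⟧'), comp_zero, ← cancel_epi ((F.commShiftIso n).app G').hom, comp_zero]
      exact hψ
    obtain ⟨ψ', hψ'⟩ := F.map_surjective ψ
    rw [← hψ']
    suffices hz : ψ' = 0 by rw [hz, F.map_zero]
    apply (shiftFunctor (QS I qc) (-n)).map_injective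
    rw [Functor.map_zero, ← cancel_epi ((shiftFunctorCompIsoId (QS I qc) n (-n) (by omega)).app G').inv, comp_zero]
    exact hK ⟨⟩ (-n) _
  let P₀ := Φ.inverseImage F
  haveI : P₀.IsStableUnderRetracts := ⟨fun r h => Φ.prop_of_retract (r.map F) h⟩
  obtain ⟨s, hs⟩ := exists_env_of_compact hc hg P'
    ((isCompactObject_iff _).2 (hfac P' fun J K hK => (hP J K hK).of_iso eP.symm))
  exact Φ.prop_of_iso eP ((ObjectProperty.triangEnvelope_le_iff (Q := P₀) _).2
    (fun Y ⟨_, _, hY⟩ => hY ▸ Φ.prop_of_iso eG.symm hΦG) _ hs)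

end Model

attribute [local instance] HasDerivedCategory.standard

variable {X : Scheme.{u}} [CompactSpace X] [QuasiSeparatedSpace X]

theorem sumFac_perfect {P : DCoh.D X} (hP : DCoh.IsPerfect P) (J : Type u) (K : J → DCoh.D X) [HasCoproduct K]
    (hK : ∀ j, DCoh.IsQCohD (K j)) : DQCoh.SumFac K P :=
  ((DQCoh.qCompact_perfect P hP) K hK 0).of_iso ((shiftFunctorZero (DCoh.D X) ℤ).app P)

/-- Every perfect object lies in every thick class containing a perfect generator. -/
theorem prop_of_perfect (G : DCoh.D X) (hG : DCoh.IsPerfect G)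
    (hgen : ∀ E : DCoh.D X, DCoh.IsQCohD E → (∀ (n : ℤ) (φ : G⟦n⟧ ⟶ E), φ = 0) → IsZero E)
    {Φ : ObjectProperty (DCoh.D X)} (hΦ : DQCoh.IsDev Φ) [Φ.IsStableUnderRetracts] (hΦG : Φ G)
    (P : DCoh.D X) (hP : DCoh.IsPerfect P) : Φ P := by
  haveI : Φ.IsClosedUnderIsomorphisms := ⟨fun e h => hΦ.iso e h⟩
  haveI : Φ.IsTriangulated := by
    haveI : Φ.IsStableUnderShift ℤ := ⟨fun n => ⟨fun K h => hΦ.shift K n h⟩⟩
    haveI : Φ.ContainsZero := ⟨⟨_, isZero_zero _, hΦ.zero _ (isZero_zero _)⟩⟩
    haveI : Φ.IsTriangulatedClosed₂ := ObjectProperty.IsTriangulatedClosed₂.mk' fun T hT h₁ h₃ => hΦ.ext T hT h₁ h₃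
    exact { }
  haveI : HasCoproducts.{u} (DCoh.D X) := fun J => hasCoproductsOfShape_derived enoughKInj_of_isGrothendieckAbelian J
  let I := @Functor.mapDerivedCategory X.Modules _ _ (smallDerivedCategory X.Modules enoughKInj_of_isGrothendieckAbelian) X.Modules _ _ (HasDerivedCategory.standard _) (𝟭 _) _ _ _
  haveI : I.IsEquivalence := isEquivalence_mapDerivedCategory_id X.Modules
    (smallDerivedCategory X.Modules enoughKInj_of_isGrothendieckAbelian) (HasDerivedCategory.standard _)
  exact @prop_of_compact X.Modules _ _ _ (smallDerivedCategory X.Modules enoughKInj_of_isGrothendieckAbelian) (DCoh.D X) _ _ _ _ _ _ I _ _ _ (AdjGeom.qcD X) _ _ _ _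
    (fun J K hK => DQCoh.isQCohD_sigma K hK) G (PerfLift.isQCohD_perfect hG) (fun J K hK => sumFac_perfect hG J K hK)
    hgen Φ _ _ _ hΦG P (PerfLift.isQCohD_perfect hP) (fun J K hK => sumFac_perfect hP J K hK)

end Groth.Agent.Dual22Lib.GenEnv
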