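import Groth.Agent.Dual22Lib.PerfSupp

/-!
# Lifting maps from perfect objects on quasi-compact opens
-/

set_option autoImplicit false
set_option backward.isDefEq.respectTransparency false
set_option backward.defeqAttrib.useBackward true
set_option linter.style.haveILetI false
set_option linter.unusedSectionVars false
set_option synthInstance.maxHeartbeats 100000

universe u

open CategoryTheory CategoryTheory.Limits CategoryTheory.Pretriangulated AlgebraicGeometry Opposite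
open Groth.Agent.DCat Groth.Agent.DCat.PerfLocal Groth.Agent.Dual22Lib.AdjGeom Groth.Agent.Dual22Lib.PerfSupp
open scoped ZeroObject

attribute [local instance] HasDerivedCategory.standard
attribute [-instance] Int.instConditionallyCompleteLinearOrder

namespace Groth.Agent.Dual22Lib.PerfLiftMap

variable {X T W : Scheme.{u}}

/-- Maps from perfect objects on `W` lift to `T` up to retracts, with supports. -/
def HasLift (k : W ⟶ T) [IsOpenImmersion k] : Prop :=
  ∀ (O : T.Opens), IsCompact (O : Set T) → ∀ (P : DCoh.D W), DCoh.IsPerfect P → killed (k ⁻¹ᵁ O).ι P →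
    ∀ (E : DCoh.D T), DCoh.IsQCohD E → ∀ α : P ⟶ (rd k).obj E,
      ∃ (R : DCoh.D T) (β : R ⟶ E) (i : P ⟶ (rd k).obj R) (p : (rd k).obj R ⟶ P),
        DCoh.IsPerfect R ∧ killed O.ι R ∧ i ≫ p = 𝟙 P ∧ i ≫ (rd k).map β = α

theorem hasLift_iso (k : W ⟶ T) [IsIso k] : HasLift k := by
  intro O _ P hP hk E _ α
  haveI := DCat.hasRpush k
  obtain ⟨adj, hadj⟩ := exists_adj k
  haveI := hadj
  haveI := PullPerf.preservesFiniteLimits_restrict k
  haveI : IsIso (adj.unit.app E) := by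
    obtain ⟨M, p, q, hM⟩ := distinguished_cocone_triangle (adj.unit.app E)
    refine (Triangle.isZero₃_iff_isIso₁ _ hM).1 (PerfSupp.isZero_of_killed fun x =>
      ⟨_, k, inferInstance, by rw [Scheme.Hom.opensRange_of_isIso]; exact trivial, ?_⟩)
    haveI : IsIso ((DCoh.restrictD k).map (adj.unit.app E)) := by
      rw [show (DCoh.restrictD k).map (adj.unit.app E) = inv (adj.counit.app _) from
        IsIso.eq_inv_of_inv_hom_id (adj.left_triangle_components E)]
      infer_instance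
    exact (Triangle.isZero₃_iff_isIso₁ _ ((DCoh.restrictD k).map_distinguished _ hM)).2 ‹_›
  refine ⟨(DCoh.Rpush k).obj P, (DCoh.Rpush k).map α ≫ inv (adj.unit.app E), inv (adj.counit.app P),
    adj.counit.app P, PerfSupp.isPerfect_rpush k O (fun x => Or.inl (by rw [Scheme.Hom.opensRange_of_isIso]; exact trivial)) hP hk, killed_rpush k O hk, IsIso.inv_hom_id _, ?_⟩
  rw [Functor.map_comp, Functor.map_inv,
    show inv ((DCoh.restrictD k).map (adj.unit.app E)) = adj.counit.app _ from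
      IsIso.inv_eq_of_hom_inv_id (adj.left_triangle_components E)]
  rw [IsIso.inv_comp_eq]
  exact adj.counit.naturality α

theorem hasLift_comp {T' : Scheme.{u}} (k : W ⟶ T) [IsOpenImmersion k] (j : T ⟶ T') [IsOpenImmersion j]
    [CompactSpace T] [QuasiSeparatedSpace T'] (h₁ : HasLift k) (h₂ : HasLift j) : HasLift (k ≫ j) := by
  intro O hO P hP hk E hE α
  let c := RdComp.rdCompIso k j
  haveI := PullPerf.preservesFiniteLimits_restrict j
  obtain ⟨R₁, β₁, i₁, p₁, hR₁, hk₁, hip₁, hiβ₁⟩ := h₁ (j ⁻¹ᵁ O) (isCompact_preimage j hO) P hP hk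
    ((rd j).obj E) (AdjGeom.isQCohD_restrictD j hE) (α ≫ c.inv.app E)
  obtain ⟨R₂, β₂, i₂, p₂, hR₂, hk₂, hip₂, hiβ₂⟩ := h₂ O hO R₁ hR₁ hk₁ E hE β₁
  refine ⟨R₂, β₂, i₁ ≫ (rd k).map i₂ ≫ c.hom.app R₂, c.inv.app R₂ ≫ (rd k).map p₂ ≫ p₁, hR₂, hk₂, ?_, ?_⟩
  · simp only [Category.assoc, Iso.hom_inv_id_app_assoc]
    rw [← Functor.map_comp_assoc, hip₂, CategoryTheory.Functor.map_id, Category.id_comp, hip₁]
  · have hn := c.hom.naturality β₂
    simp only [Functor.comp_map] at hn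
    simp only [Category.assoc, ← hn]
    rw [← Functor.map_comp_assoc, hiβ₂, reassoc_of% hiβ₁, Iso.inv_hom_id_app, Category.comp_id]

theorem hasLift_step [QuasiSeparatedSpace X] (U V : X.Opens) (hUV : U ⊔ V = ⊤) (hU : IsCompact (U : Set X))
    (hV : IsAffineOpen V) : HasLift U.ι := by
  intro O hO P hP hk E hE α
  haveI : IsAffine V := hV
  haveI : CompactSpace (U : Scheme.{u}) := isCompact_iff_compactSpace.1 hU
  haveI : CompactSpace (V : Scheme.{u}) := isCompact_iff_compactSpace.1 hV.isCompact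
  haveI : QuasiCompact U.ι := quasiCompact_of_compactSpace U.ι
  haveI := DCat.hasRpush U.ι
  haveI := DCat.hasRpush V.ι
  haveI := PullPerf.preservesFiniteLimits_restrict U.ι
  haveI := PullPerf.preservesFiniteLimits_restrict V.ι
  haveI := PullPerf.preservesFiniteLimits_restrict O.ι
  obtain ⟨F, hF, hkF, ⟨eF⟩⟩ := exists_extend_step U V hUV hU hV O hO hP hk
  obtain ⟨aU, haU⟩ := AdjGeom.exists_adj U.ι
  obtain ⟨aV, haV⟩ := AdjGeom.exists_adj V.ι
  haveI := haU
  haveI := haV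
  obtain ⟨N, d, c, hT⟩ := distinguished_cocone_triangle (aU.unit.app E)
  have hN : DCoh.IsQCohD N := DQCoh.isQCohD_obj₃ hT hE
    (DQCoh.isQCohD_Rpush U.ι _ (AdjGeom.isQCohD_restrictD U.ι hE))
  have hkN : killed U.ι N := by
    haveI : IsIso ((DCoh.restrictD U.ι).map (aU.unit.app E)) := by
      rw [show (DCoh.restrictD U.ι).map (aU.unit.app E) = inv (aU.counit.app _) from
        IsIso.eq_inv_of_inv_hom_id (aU.left_triangle_components E)]
      infer_instance
    exact (Triangle.isZero₃_iff_isIso₁ _ ((DCoh.restrictD U.ι).map_distinguished _ hT)).2 ‹_›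
  have hkNV : killed (V.ι ⁻¹ᵁ U).ι ((DCoh.restrictD V.ι).obj N) := by
    refine (killed_rd_iff _ _ _).2 (killed_mono U.ι _ ?_ hkN)
    rw [Scheme.Hom.opensRange_comp, Scheme.Opens.opensRange_ι, Scheme.Opens.opensRange_ι]
    rintro _ ⟨y, hy, rfl⟩
    exact hy
  have hcov : ∀ x : X, x ∈ V.ι.opensRange ∨ x ∈ U := fun x => by
    rcases (hUV ▸ trivial : x ∈ U ⊔ V) with hx | hx
    · exact Or.inr hx
    · exact Or.inl (by simpa using hx)
  haveI : IsIso (aV.unit.app N) := by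
    obtain ⟨M, p, q, hM⟩ := distinguished_cocone_triangle (aV.unit.app N)
    refine (Triangle.isZero₃_iff_isIso₁ _ hM).1 (PerfSupp.isZero_of_killed fun x => ?_)
    rcases hcov x with hx | hx
    · refine ⟨_, V.ι, inferInstance, hx, ?_⟩
      haveI : IsIso ((DCoh.restrictD V.ι).map (aV.unit.app N)) := by
        rw [show (DCoh.restrictD V.ι).map (aV.unit.app N) = inv (aV.counit.app _) from
          IsIso.eq_inv_of_inv_hom_id (aV.left_triangle_components N)]
        infer_instance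
      exact (Triangle.isZero₃_iff_isIso₁ _ ((DCoh.restrictD V.ι).map_distinguished _ hM)).2 ‹_›
    · exact ⟨_, U.ι, inferInstance, by simpa using hx, Triangle.isZero₃_of_isZero₁₂ _
        ((DCoh.restrictD U.ι).map_distinguished _ hM) hkN (killed_rpush V.ι _ hkNV)⟩
  let φ := eF.hom ≫ (biprod.fst : P ⊞ P⟦(1 : ℤ)⟧ ⟶ P) ≫ α
  let ψ := aU.homEquiv _ _ φ
  obtain ⟨s, hs⟩ := PerfLift.exists_cover_basic (V.ι ⁻¹ᵁ U) (isCompact_preimage V.ι hU)
  obtain ⟨C₀, u, g', hC₀, hkC₀, hu, hOC⟩ := PerfLift.exists_killing s (AdjGeom.isQCohD_restrictD V.ι hN)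
    (fun f hf => killed_mono (V.ι ⁻¹ᵁ U).ι _ (by
      rw [Scheme.Opens.opensRange_ι, Scheme.Opens.opensRange_ι]
      exact fun x hx => hs.ge (Set.mem_iUnion₂.2 ⟨f, hf, hx⟩)) hkNV)
    (PerfLift.isPerfect_restrictD V.ι hF) ((DCoh.restrictD V.ι).map (ψ ≫ d))
  have hkC₀U : killed (V.ι ⁻¹ᵁ U).ι C₀ := killed_of_cover fun x hx => by
    obtain ⟨f, hf, hxf⟩ := Set.mem_iUnion₂.1 (hs.le hx)
    exact ⟨_, ((V : Scheme.{u}).basicOpen f).ι, inferInstance, by simpa using hxf, hkC₀ f hf⟩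
  let C := (DCoh.Rpush V.ι).obj C₀
  have hC : DCoh.IsPerfect C := PerfSupp.isPerfect_rpush V.ι _ hcov hC₀ hkC₀U
  have hkC : killed U.ι C := killed_rpush V.ι _ hkC₀U
  have hkCO : killed O.ι C := killed_rpush V.ι _ (hOC _ ((killed_rd_iff _ _ _).2 (killed_mono O.ι _ (by
    rw [Scheme.Hom.opensRange_comp, Scheme.Opens.opensRange_ι, Scheme.Opens.opensRange_ι]
    rintro _ ⟨y, hy, rfl⟩
    exact hy) hkF)))
  let u' : F ⟶ C := aV.unit.app F ≫ (DCoh.Rpush V.ι).map u
  let g'' : C ⟶ N := (DCoh.Rpush V.ι).map g' ≫ inv (aV.unit.app N)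
  have hfac : u' ≫ g'' = ψ ≫ d := by
    rw [← cancel_mono (aV.unit.app N)]
    simp only [u', g'', Category.assoc, IsIso.inv_hom_id, Category.comp_id, ← Functor.map_comp, hu]
    have := aV.unit.naturality (ψ ≫ d)
    simp only [Functor.id_map, Functor.comp_map, Category.assoc, Functor.map_comp] at this ⊢
    exact this.symm
  obtain ⟨R, ι, δ, hR⟩ := distinguished_cocone_triangle₁ u'
  have hιu : ι ≫ u' = 0 := comp_distTriang_mor_zero₁₂ _ hR
  obtain ⟨β, hβ⟩ := Triangle.coyoneda_exact₂ _ hT (ι ≫ ψ) (by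
    show (ι ≫ ψ) ≫ d = 0
    rw [Category.assoc, ← hfac, reassoc_of% hιu, zero_comp])
  replace hβ : ι ≫ ψ = β ≫ aU.unit.app E := hβ
  haveI : IsIso ((DCoh.restrictD U.ι).map ι) :=
    (Triangle.isZero₃_iff_isIso₁ _ ((DCoh.restrictD U.ι).map_distinguished _ hR)).1 hkC
  refine ⟨R, β, (biprod.inl : P ⟶ P ⊞ P⟦(1 : ℤ)⟧) ≫ eF.inv ≫ inv ((DCoh.restrictD U.ι).map ι),
    (DCoh.restrictD U.ι).map ι ≫ eF.hom ≫ (biprod.fst : P ⊞ P⟦(1 : ℤ)⟧ ⟶ P),
    PerfLift.isPerfect_fibre hR hF hC, Triangle.isZero₁_of_isZero₂₃ _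
      ((DCoh.restrictD O.ι).map_distinguished _ hR) hkF hkCO, by simp, ?_⟩
  have hkey : (DCoh.restrictD U.ι).map β = (DCoh.restrictD U.ι).map ι ≫ φ := by
    apply (aU.homEquiv _ _).injective
    rw [Adjunction.homEquiv_naturality_left]
    show _ = ι ≫ ψ
    rw [hβ, Adjunction.homEquiv_unit]
    exact (aU.unit.naturality β).symm
  show _ ≫ (DCoh.restrictD U.ι).map β = α
  rw [hkey]
  simp [φ]

/-- Lifting along the inclusion of a quasi-compact open. -/
theorem hasLift_of_opens [CompactSpace X] [QuasiSeparatedSpace X] (U : X.Opens) (hU : IsCompact (U : Set X)) :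
    HasLift U.ι := by
  haveI : CompactSpace (U : Scheme.{u}) := isCompact_iff_compactSpace.1 hU
  let Φ : X.Opens → Prop := fun S => ∀ (T : Scheme.{u}) (j : T ⟶ X) [IsOpenImmersion j], j.opensRange = U ⊔ S →
    ∀ (k : (U : Scheme.{u}) ⟶ T) [IsOpenImmersion k], k ≫ j = U.ι → HasLift k
  have hΦ : ∀ S : X.Opens, IsCompact (S : Set X) → Φ S := fun S hS => by
    refine compact_open_induction_on (P := Φ) S hS ?_ fun S hS A ih => ?_
    · intro T j _ hj k _ hkj
      haveI : Surjective k := ⟨fun t => by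
        have ht : j t ∈ U ⊔ (⊥ : X.Opens) := hj ▸ ⟨t, rfl⟩
        rw [sup_bot_eq] at ht
        refine ⟨⟨j t, ht⟩, j.isOpenEmbedding.injective ?_⟩
        show (k ≫ j) ⟨j t, ht⟩ = j t
        rw [hkj]; rfl⟩
      haveI : IsIso k := isIso_iff_isOpenImmersion_and_epi_base k |>.2
        ⟨inferInstance, (TopCat.epi_iff_surjective _).2 k.surjective⟩
      exact hasLift_iso k
    intro T j _ hj k _ hkj
    haveI : QuasiSeparatedSpace T := QuasiSeparatedSpace.of_isOpenEmbedding j.isOpenEmbedding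
    haveI : CompactSpace T := by
      refine isCompact_univ_iff.1 (j.isOpenEmbedding.isInducing.isCompact_iff.2 ?_)
      rw [Set.image_univ, show Set.range j = ((U ⊔ (S ⊔ A.1) : X.Opens) : Set X) from congrArg SetLike.coe hj]
      exact hU.union (hS.union A.2.isCompact)
    let T₁ := j ⁻¹ᵁ (U ⊔ S)
    have hT₁ : IsCompact (T₁ : Set T) := isCompact_preimage j (hU.union hS)
    haveI : CompactSpace (T₁ : Scheme.{u}) := isCompact_iff_compactSpace.1 hT₁
    have hle : U ⊔ S ≤ U ⊔ (S ⊔ A.1) := sup_le_sup_left le_sup_left _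
    have hr₁ : (T₁.ι ≫ j).opensRange = U ⊔ S := by
      rw [Scheme.Hom.opensRange_comp, Scheme.Opens.opensRange_ι, Scheme.Hom.image_preimage_eq_opensRange_inf, hj]
      exact inf_eq_right.2 hle
    have hrA : ((j ⁻¹ᵁ A.1).ι ≫ j).opensRange = A.1 := by
      rw [Scheme.Hom.opensRange_comp, Scheme.Opens.opensRange_ι, Scheme.Hom.image_preimage_eq_opensRange_inf, hj]
      exact inf_eq_right.2 (le_sup_right.trans le_sup_right)
    have haffA : IsAffineOpen (j ⁻¹ᵁ A.1) := by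
      haveI : IsAffine ((j ⁻¹ᵁ A.1).ι ≫ j).opensRange := by rw [hrA]; exact A.2
      exact IsAffine.of_isIso ((j ⁻¹ᵁ A.1).ι ≫ j).isoOpensRange.hom
    have hcov : T₁ ⊔ j ⁻¹ᵁ A.1 = ⊤ := by
      rw [← Scheme.Hom.preimage_sup, sup_assoc, ← hj, Scheme.Hom.preimage_opensRange]
    have hk₁ : Set.range k ⊆ Set.range T₁.ι := by
      rw [Scheme.Opens.range_ι]
      rintro _ ⟨u, rfl⟩
      show (k ≫ j) u ∈ U ⊔ S
      rw [hkj]
      exact Or.inl u.2
    let k₁ := IsOpenImmersion.lift T₁.ι k hk₁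
    have hk₁' : k₁ ≫ T₁.ι = k := IsOpenImmersion.lift_fac _ _ _
    haveI : IsOpenImmersion k₁ := by
      haveI : IsOpenImmersion (k₁ ≫ T₁.ι) := by rw [hk₁']; infer_instance
      exact IsOpenImmersion.of_comp k₁ T₁.ι
    have h₁ : HasLift k₁ := ih _ (T₁.ι ≫ j) hr₁ k₁ (by rw [← Category.assoc, hk₁', hkj])
    have := hasLift_comp k₁ T₁.ι h₁ (hasLift_step T₁ _ hcov hT₁ haffA)
    simp only [hk₁'] at this
    exact this
  exact hΦ ⊤ isCompact_univ X (𝟙 X) (by simp [Scheme.Hom.opensRange_of_isIso]) U.ι (Category.comp_id _)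

end Groth.Agent.Dual22Lib.PerfLiftMap
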