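import Groth.Agent.Dual22Lib.RightAdjTensor
import Groth.Agent.DQCoh.RHomQCoh
import Groth.Agent.DCat.ShriekTensor
import Groth.Agent.Dual22Lib.PerfLiftMap
import Groth.Agent.S1098
import Groth.Agent.S1008
import Groth.Agent.QCohLoc.Unit

/-!
# The right adjoint of `Rf_*` respects supports over qcqs schemes
-/

set_option autoImplicit false
set_option backward.isDefEq.respectTransparency false
set_option backward.defeqAttrib.useBackward true
set_option linter.style.haveILetI false
set_option linter.unusedSectionVars false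
set_option synthInstance.maxHeartbeats 100000

universe u

open CategoryTheory CategoryTheory.Limits CategoryTheory.Pretriangulated AlgebraicGeometry HomologicalComplex
open Groth.Agent.DCat Groth.Agent.DCat.PerfLocal Groth.Agent.DCat.ProjPerf
open Groth.Agent.Dual22Lib.WeakExact Groth.Agent.Dual22Lib.AdjGeom

attribute [local instance] HasDerivedCategory.standard
attribute [-instance] Int.instConditionallyCompleteLinearOrder

namespace Groth.Agent.Dual22Lib.SuppAdjQC

variable {X Y : Scheme.{u}}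

theorem isQCohD_structure (Y : Scheme.{u}) :
    DCoh.IsQCohD (DerivedCategory.Q.obj ((single Y.Modules (ComplexShape.up ℤ) 0).obj (Coh.structureModule Y))) := by
  refine DQCoh.isQCohD_of_iso ((DerivedCategory.singleFunctorIsoCompQ Y.Modules 0).app (Coh.structureModule Y)) ?_
  intro n
  by_cases hn : n = 0
  · subst hn
    exact Coherent.isQCoh_of_iso ((DerivedCategory.singleFunctorCompHomologyFunctorIso Y.Modules 0).app _).symm
      (h := QCohLoc.isQCoh_structureModule Y)
  · refine Coherent.isQCoh_of_isZero ?_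
    rcases lt_or_gt_of_ne hn with hlt | hlt
    · exact DerivedCategory.isZero_of_isGE ((DerivedCategory.singleFunctor Y.Modules 0).obj (Coh.structureModule Y)) 0 n hlt
    · exact DerivedCategory.isZero_of_isLE ((DerivedCategory.singleFunctor Y.Modules 0).obj (Coh.structureModule Y)) 0 n hlt

/-- `Lf^* O ⊗ I = I`. -/
theorem nonempty_unit (f : X ⟶ Y) [DCoh.HasLpull f] (I : CochainComplex X.Modules ℤ) [DCoh.HasLTensorCx I] :
    Nonempty ((DCoh.LTensorCx I).obj ((DCoh.Lpull f).obj
      (DerivedCategory.Q.obj ((single Y.Modules (ComplexShape.up ℤ) 0).obj (Coh.structureModule Y)))) ≅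
      DerivedCategory.Q.obj I) := by
  let P := (single Y.Modules (ComplexShape.up ℤ) 0).obj (Coh.structureModule Y)
  have hP : IsKFlatFor (shT Y) P := RHomLeft.isKFlatFor_structure Y
  obtain ⟨r₀⟩ := RHomLeft.nonempty_flip_single ((shT X).map₂CochainComplex) rfl (X := X)
  let p : (pullC f).obj P ≅ (single X.Modules (ComplexShape.up ℤ) 0).obj (Coh.structureModule X) :=
    (singleMapHomologicalComplex (Scheme.Modules.pullback f) (ComplexShape.up ℤ) 0).app _ ≪≫
      (single X.Modules (ComplexShape.up ℤ) 0).mapIso ((Scheme.Modules.pullback f).mapIso (DQCoh.topStructIso Y).symm ≪≫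
        DQCoh.pullFreeIso f ⊤ ≪≫ DQCoh.topStructIso X)
  exact ⟨(DCoh.LTensorCx I).mapIso (PullPerf.lpullIso f hP) ≪≫
    LTensorSheaf.ltensorCxIso I (PullTot.isKFlatFor_pullback f hP) ≪≫
    DerivedCategory.Q.mapIso (ShSymm.symm ((pullC f).obj P) I ≪≫
      ((shT X).map₂CochainComplex.flip.mapIso p ≪≫ r₀).app I)⟩

/-- **Supports**, for a morphism of qcqs schemes with `Rf_*` preserving perfect objects. -/
theorem killed_rightAdjoint [CompactSpace X] [QuasiSeparatedSpace X] [CompactSpace Y] [QuasiSeparatedSpace Y]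
    (f : X ⟶ Y) [DCoh.HasRpush f] [DCoh.HasLpull f] (hpp : SumAdj.PP f) (hf : DCoh.RpushPreservesQCoh f)
    (a : DCoh.DQCoh Y ⥤ DCoh.DQCoh X) (adj : DCoh.RpushQ f hf ⊣ a) (V : Y.Opens) (hV : IsAffineOpen V)
    (Q : DCoh.DQCoh Y) (hQ : killed V.ι Q.obj) : killed (f ⁻¹ᵁ V).ι (a.obj Q).obj := by
  haveI : QuasiCompact f := quasiCompact_of_compactSpace f
  haveI : QuasiSeparated f := inferInstance
  let U := f ⁻¹ᵁ V
  have hU : IsCompact (U : Set X) := QuasiCompact.isCompact_preimage (f := f) (V : Set Y) V.2 hV.isCompact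
  haveI : CompactSpace (U : Scheme.{u}) := isCompact_iff_compactSpace.1 hU
  haveI : QuasiCompact U.ι := quasiCompact_of_compactSpace U.ι
  haveI := DCat.hasRpush U.ι
  haveI := PullPerf.preservesFiniteLimits_restrict U.ι
  haveI := PullPerf.preservesFiniteLimits_restrict V.ι
  obtain ⟨au, hau⟩ := exists_adj U.ι
  haveI := hau
  obtain ⟨G, hG, hgen⟩ := S1008.result X
  let A := (a.obj Q).obj
  have key : ∀ (P₀ : DCoh.D X), DCoh.IsPerfect P₀ →
      ∀ φ : (DCoh.restrictD U.ι).obj P₀ ⟶ (DCoh.restrictD U.ι).obj A, φ = 0 := by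
    intro P₀ hP₀ φ
    obtain ⟨R, β, i, p, hR, -, -, hiβ⟩ := S1098.result X U hU Set.univ isClosed_univ (by simp) A
      (a.obj Q).property _ (PerfLift.isPerfect_restrictD U.ι hP₀) (fun _ _ _ => Set.mem_univ _) φ
    have hRq : DCoh.IsQCohD R := PerfLift.isQCohD_perfect hR
    let R' : DCoh.DQCoh X := ⟨R, hRq⟩
    let β' : R' ⟶ a.obj Q := ObjectProperty.homMk β
    let α' := (adj.homEquiv _ _).symm β'
    -- models
    obtain ⟨I, s₀, hI, hs₀⟩ := modules_enoughKInj X (DerivedCategory.Q.objPreimage R)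
    haveI := hI
    haveI := hs₀
    let eR : DerivedCategory.Q.obj I ≅ R :=
      (asIso (DerivedCategory.Q.map s₀)).symm ≪≫ DerivedCategory.Q.objObjPreimageIso R
    have hIq : DCoh.IsQCohD (DerivedCategory.Q.obj I) := DQCoh.isQCohD_of_iso eR.symm hRq
    let K := (pushC f).obj I
    haveI := LTensorSheaf.hasLTensorCx I
    haveI := LTensorSheaf.hasLTensorCx K
    haveI := RHomExist.hasRSheafHom K
    haveI := isIso_unitD f I
    have hK : DCoh.IsPerfect (DerivedCategory.Q.obj K) :=
      PCTriangle.perfect_iso (asIso ((unitD f).app I) ≪≫ (DCoh.Rpush f).mapIso eR).symm (hpp R hR)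
    obtain ⟨τ, hτ⟩ := ProjQCoh.exists_tau f I
    obtain ⟨eX⟩ := nonempty_unit f I
    let O := DerivedCategory.Q.obj ((single Y.Modules (ComplexShape.up ℤ) 0).obj (Coh.structureModule Y))
    let α'' : (ProjQCoh.srcF f I).obj O ⟶ Q.obj :=
      τ.app O ≫ (DCoh.Rpush f).map (eX.hom ≫ eR.hom) ≫ α'.hom
    let adjK := DCoh.RSheafHomAdj K
    let α₂ : O ⟶ (DCoh.RSheafHom K).obj Q.obj := adjK.homEquiv O Q.obj α''
    have hNq : DCoh.IsQCohD ((DCoh.RSheafHom K).obj Q.obj) := DQCoh.isQCohD_RHom_perfect K hK _ Q.property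
    have hNk : killed V.ι ((DCoh.RSheafHom K).obj Q.obj) := by
      let K' := ((Scheme.Modules.restrictFunctor V.ι).mapHomologicalComplex (ComplexShape.up ℤ)).obj K
      haveI := LTensorSheaf.hasLTensorCx K'
      haveI := RHomExist.hasRSheafHom K'
      obtain ⟨r⟩ := ShriekTensor.nonempty_restrict_RHom_of_eq V.ι K K' rfl (rd V.ι) rfl
      have h0 : IsZero ((DCoh.RSheafHom K').obj ((rd V.ι).obj Q.obj)) :=
        (IsZero.iff_id_eq_zero _).2 (((DCoh.RSheafHomAdj K').homEquiv _ _).symm.injective (hQ.eq_of_tgt _ _))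
      exact h0.of_iso (r.app Q.obj)
    obtain ⟨F, s, δ, hT⟩ := distinguished_cocone_triangle₁ α₂
    have hFq : DCoh.IsQCohD F :=
      DQCoh.isQCohD_obj₃.cohIn_obj₂ (inv_rot_of_distTriang _ hT) (DQCoh.isQCohD_shift hNq (-1)) (isQCohD_structure Y)
    -- `s` is killed by `α''`
    have hsα : (ProjQCoh.srcF f I).map s ≫ α'' = 0 := by
      apply (adjK.homEquiv _ _).injective
      show adjK.homEquiv F Q.obj _ = adjK.homEquiv F Q.obj 0
      rw [Adjunction.homEquiv_naturality_left]
      show s ≫ α₂ = _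
      rw [show s ≫ α₂ = 0 from comp_distTriang_mor_zero₁₂ _ hT]
      symm
      rw [Adjunction.homEquiv_unit]
      simp
    haveI : IsIso (τ.app F) := RightAdjTensor.isIso_tau f I hIq τ hτ F hFq
    let ψ : (DCoh.LTensorCx I).obj ((DCoh.Lpull f).obj F) ⟶ R :=
      (DCoh.LTensorCx I).map ((DCoh.Lpull f).map s) ≫ eX.hom ≫ eR.hom
    have hψ : (DCoh.Rpush f).map ψ ≫ α'.hom = 0 := by
      rw [← cancel_epi (τ.app F), comp_zero]
      have h : (ProjQCoh.srcF f I).map s ≫ τ.app O =
          τ.app F ≫ (ProjQCoh.tgtF f I).map s := τ.naturality s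
      show τ.app F ≫ (DCoh.Rpush f).map ((DCoh.LTensorCx I).map ((DCoh.Lpull f).map s) ≫ eX.hom ≫ eR.hom) ≫ α'.hom = 0
      rw [Functor.map_comp, Category.assoc]
      exact ((reassoc_of% h) _).symm.trans hsα
    let Z : DCoh.DQCoh X := ⟨(DCoh.LTensorCx I).obj ((DCoh.Lpull f).obj F),
      DQCoh.isQCohD_LTensorCx I hIq _ (DQCoh.isQCohD_Lpull f _ hFq)⟩
    let ψ' : Z ⟶ R' := ObjectProperty.homMk ψ
    have hψβ : ψ ≫ β = 0 := by
      have h : (adj.homEquiv _ _).symm (ψ' ≫ β') = (adj.homEquiv _ _).symm 0 := by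
        rw [Adjunction.homEquiv_naturality_left_symm]
        refine (ObjectProperty.hom_ext _ hψ).trans ?_
        simp [Adjunction.homEquiv_counit]
        rfl
      exact congrArg InducedCategory.Hom.hom ((adj.homEquiv _ _).symm.injective h)
    -- `ψ` is invertible on `U`
    haveI : IsIso ((DCoh.restrictD U.ι).map ψ) := by
      haveI := hasLpull (f ∣_ V)
      have hH : TriExact (DCoh.Lpull f ⋙ DCoh.LTensorCx I ⋙ rd U.ι) :=
        (TenLocal.triExact_Lpull f).comp ((TenLocal.triExact_LTensor I).comp (TenLocal.triExact_rd U.ι))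
      obtain ⟨δ', hδ⟩ := hH _ hT
      have hk : IsZero ((DCoh.Lpull f ⋙ DCoh.LTensorCx I ⋙ rd U.ι).obj ((DCoh.RSheafHom K).obj Q.obj)) := by
        obtain ⟨e⟩ := TenLocal.nonempty_rd_Lpull f V ((DCoh.RSheafHom K).obj Q.obj)
        exact TenLocal.isZero_rd_LTensor U.ι I (((TenLocal.triExact_Lpull (f ∣_ V)).map_isZero hNk).of_iso e)
      haveI : IsIso ((DCoh.restrictD U.ι).map ((DCoh.LTensorCx I).map ((DCoh.Lpull f).map s))) :=
        (Triangle.isZero₃_iff_isIso₁ _ hδ).1 hk
      simp only [ψ, Functor.map_comp]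
      infer_instance
    have hβ0 : (DCoh.restrictD U.ι).map β = 0 := by
      rw [← cancel_epi ((DCoh.restrictD U.ι).map ψ), ← Functor.map_comp, hψβ, Functor.map_zero, comp_zero]
    rw [← hiβ, hβ0, comp_zero]
  let N := (DCoh.restrictD U.ι).obj A
  have hN : DCoh.IsQCohD N := AdjGeom.isQCohD_restrictD U.ι (a.obj Q).property
  have hz : IsZero ((DCoh.Rpush U.ι).obj N) :=
    (hgen _ (DQCoh.isQCohD_Rpush U.ι N hN)).2 fun n φ => by
      apply (au.homEquiv _ _).symm.injective
      rw [key _ (PCTriangle.perfect_shift hG n) ((au.homEquiv _ _).symm φ)]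
      exact (key _ (PCTriangle.perfect_shift hG n) _).symm
  exact ((DCoh.restrictD U.ι).map_isZero hz).of_iso (asIso (au.counit.app N)).symm

end Groth.Agent.Dual22Lib.SuppAdjQC
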