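import Groth.Agent.Dual22Lib.PerfDualNat
import Groth.Agent.Dual22Lib.PullTensorNat
import Groth.Agent.Dual22Lib.PPFlat
import Groth.Agent.Dual22Lib.SuppAdjQC
import Groth.Agent.Dual22Lib.BCSquare
import Groth.Agent.DQCoh.Push
import Groth.Agent.DQCoh.Local
import Groth.Agent.DQCoh.RHomQCoh
import Groth.Agent.DCat.PullComp
import Groth.Prelude.Def_DualFM
import Mathlib.CategoryTheory.Adjunction.Restrict

/-!
# The adjoint of a Fourier–Mukai functor with perfect kernel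
-/

set_option autoImplicit false
set_option backward.isDefEq.respectTransparency false
set_option backward.defeqAttrib.useBackward true
set_option linter.style.haveILetI false

universe u

open CategoryTheory CategoryTheory.Limits AlgebraicGeometry HomologicalComplex
open Groth.Agent.DCat

attribute [local instance] HasDerivedCategory.standard

namespace Groth.Agent.Dual22Lib.FMAdj

variable {X Y : Scheme.{u}}

theorem nonempty_Lpull_congr {f g : X ⟶ Y} (h : f = g) [DCoh.HasLpull f] [DCoh.HasLpull g] :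
    Nonempty (DCoh.Lpull f ≅ DCoh.Lpull g) := by
  subst h
  exact ⟨Iso.refl _⟩

theorem nonempty_Rpush_congr {f g : X ⟶ Y} (h : f = g) [DCoh.HasRpush f] [DCoh.HasRpush g] :
    Nonempty (DCoh.Rpush f ≅ DCoh.Rpush g) := by
  subst h
  exact ⟨Iso.refl _⟩

/-- `Lσ^*` followed by `Rσ_*` is the identity, for an isomorphism `σ`. -/
theorem nonempty_pull_push_iso (σ : X ⟶ Y) [IsIso σ] [DCoh.HasLpull σ] [DCoh.HasRpush σ] :
    Nonempty (DCoh.Lpull σ ⋙ DCoh.Rpush σ ≅ 𝟭 (DCoh.D Y)) := by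
  haveI := hasRpush (𝟙 Y)
  haveI := hasRpush (𝟙 Y ≫ 𝟙 Y)
  haveI := hasRpush (inv σ)
  haveI := hasRpush (inv σ ≫ σ)
  obtain ⟨e₁⟩ := nonempty_RpushComp (𝟙 Y) (𝟙 Y)
  obtain ⟨e₂⟩ := nonempty_Rpush_congr (Category.id_comp (𝟙 Y))
  obtain ⟨h₁, h₁'⟩ := BCSquare.full_faithful_Rpush (𝟙 Y)
  obtain ⟨e₃⟩ := nonempty_RpushComp (inv σ) σ
  obtain ⟨e₄⟩ := nonempty_Rpush_congr (IsIso.inv_hom_id σ)
  obtain ⟨h₂, h₂'⟩ := BCSquare.full_faithful_Rpush σ
  have hid : ∀ M, Nonempty ((DCoh.Rpush (𝟙 Y)).obj M ≅ M) := fun M =>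
    ⟨(DCoh.Rpush (𝟙 Y)).preimageIso (e₁.app M ≪≫ e₂.app M)⟩
  haveI : (DCoh.Rpush σ).EssSurj := ⟨fun M => by
    obtain ⟨i⟩ := hid M
    exact ⟨(DCoh.Rpush (inv σ)).obj M, ⟨e₃.app M ≪≫ e₄.app M ≪≫ i⟩⟩⟩
  haveI : (DCoh.Rpush σ).IsEquivalence := { }
  obtain ⟨adj⟩ := nonempty_pullPushAdj σ
  haveI := adj.isEquivalence_left_of_isEquivalence_right
  exact ⟨(asIso adj.unit).symm⟩

variable {S : Scheme.{u}} (a : X ⟶ S) (b : Y ⟶ S)

/-- The twisted kernel gives the right adjoint. -/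
theorem nonempty_adj [CompactSpace S] [QuasiSeparatedSpace S] [CompactSpace X] [QuasiSeparatedSpace X]
    [CompactSpace Y] [QuasiSeparatedSpace Y] [IsProper a] [Flat a] [LocallyOfFinitePresentation a]
    (K : CochainComplex (pullback a b).Modules ℤ) (hK : DCoh.IsPerfect (DCoh.toD _ K))
    (hKq : DCoh.IsQCohD (DCoh.toD _ K))
    [DCoh.HasLpull (pullback.fst a b)] [DCoh.HasLTensorCx K] [DCoh.HasRpush (pullback.snd a b)]
    [DCoh.HasRSheafHom K] (hR : DCoh.RpushPreservesQCoh (pullback.snd a b))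
    [DCoh.HasShriek (pullback.snd a b) hR] (OY : DCoh.DQCoh Y)
    (hOY : OY.obj ≅ DCoh.inD Y (Coh.structureModule Y)) [DCoh.HasLpull (pullbackSymmetry b a).hom]
    (K' : CochainComplex (pullback b a).Modules ℤ)
    (hK' : Nonempty (DCoh.toD _ K' ≅ (DCoh.Lpull (pullbackSymmetry b a).hom).obj
      ((DCoh.RSheafHom K).obj (DCoh.dualizingCx (pullback.snd a b) hR OY))))
    [DCoh.HasLpull (pullback.fst b a)] [DCoh.HasLTensorCx K'] [DCoh.HasRpush (pullback.snd b a)]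
    (h : ∀ M : DCoh.D X, DCoh.IsQCohD M → DCoh.IsQCohD ((FMK.phi a b K).obj M))
    (h' : ∀ N : DCoh.D Y, DCoh.IsQCohD N → DCoh.IsQCohD ((FMK.phi b a K').obj N)) :
    Nonempty (FMK.phiOn a b K DCoh.IsQCohD DCoh.IsQCohD h ⊣
      FMK.phiOn b a K' DCoh.IsQCohD DCoh.IsQCohD h') := by
  let p := pullback.fst a b
  let q := pullback.snd a b
  let σ := (pullbackSymmetry b a).hom
  haveI : CompactSpace ↥(pullback a b) := QuasiCompact.compactSpace_of_compactSpace q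
  haveI : QuasiSeparatedSpace ↥(pullback a b) := quasiSeparatedSpace_of_quasiSeparated q
  haveI : QuasiCompact p := MorphismProperty.of_postcomp (W := @QuasiCompact) (W' := @QuasiSeparated) p
    a inferInstance (by rw [pullback.condition]; infer_instance)
  haveI : QuasiSeparated p := .of_comp p a
  haveI := hasLpull q
  haveI := hasRpush p
  haveI := hasRpush σ
  haveI := hasRpush (σ ≫ p)
  haveI := hasLpull (σ ≫ q)
  obtain ⟨eK'⟩ := hK'
  -- kernels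
  let ω := DCoh.dualizingCx q hR OY
  obtain ⟨E, hE, ⟨eE⟩⟩ := PullPerf.exists_kflat_rep ω
  obtain ⟨K₀, hK₀, ⟨eK₀⟩⟩ := PullPerf.exists_kflat_rep (DCoh.toD _ K)
  have hK₀p : DCoh.IsPerfect (DerivedCategory.Q.obj K₀) := PCTriangle.perfect_iso eK₀.symm hK
  obtain ⟨D, hD, ⟨eD⟩⟩ := PullPerf.exists_kflat_rep
    ((RHomNat.RH K₀).obj ((DerivedCategory.singleFunctor _ 0).obj (Coh.structureModule (pullback a b))))
  obtain ⟨θ⟩ := PerfDualNat.exists_iso K₀ D hK₀ hK₀p hD eD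
  haveI := LTensorSheaf.hasLTensorCx K₀
  haveI := RHomExist.hasRSheafHom K₀
  obtain ⟨cK⟩ := TensorCongr.nonempty_congr_rhom (E := K) (E' := K₀) eK₀.symm
  let rh : DCoh.RSheafHom K ≅ RHomNat.LT D := cK ≪≫ θ.symm
  haveI := LTensorSheaf.hasLTensorCx D
  haveI := LTensorSheaf.hasLTensorCx E
  let T := tot (shT (pullback a b)) E D
  have hT : IsKFlatFor (shT (pullback a b)) T := LTensorSheaf.isKFlatFor_tot hE hD
  haveI := LTensorSheaf.hasLTensorCx T
  let eT : (DCoh.RSheafHom K).obj ω ≅ DerivedCategory.Q.obj T :=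
    rh.app ω ≪≫ (DCoh.LTensorCx D).mapIso eE.symm ≪≫ LTensorSheaf.ltensorCxIso' hD E
  let T' := (PullTensorNat.pullC σ).obj T
  haveI := LTensorSheaf.hasLTensorCx T'
  obtain ⟨cK'⟩ := TensorCongr.nonempty_congr (E := K') (E' := T')
    (eK' ≪≫ (DCoh.Lpull σ).mapIso eT ≪≫ PullPerf.lpullIso σ hT)
  obtain ⟨cσ⟩ := PullTensorNat.nonempty_natIso σ hT
  obtain ⟨uσ⟩ := nonempty_pull_push_iso σ
  obtain ⟨cL₁⟩ := nonempty_Lpull_congr (f := pullback.fst b a) (g := σ ≫ q)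
    (pullbackSymmetry_hom_comp_snd b a).symm
  obtain ⟨cL₂⟩ := nonempty_LpullComp σ q
  obtain ⟨cR₁⟩ := nonempty_Rpush_congr (f := pullback.snd b a) (g := σ ≫ p)
    (pullbackSymmetry_hom_comp_fst b a).symm
  obtain ⟨cR₂⟩ := nonempty_RpushComp σ p
  obtain ⟨cED⟩ := TensorAssoc.nonempty_LTensor_comp E D hD
  -- the other functor, on all objects
  let φ' : FMK.phi b a K' ≅ DCoh.Lpull q ⋙ DCoh.LTensorCx T ⋙ DCoh.Rpush p :=
    Functor.isoWhiskerRight (cL₁ ≪≫ cL₂.symm) _ ≪≫ Functor.associator _ _ _ ≪≫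
      Functor.isoWhiskerLeft (DCoh.Lpull q)
        (Functor.isoWhiskerLeft (DCoh.Lpull σ) (Functor.isoWhiskerRight cK' _ ≪≫
            Functor.isoWhiskerLeft _ (cR₁ ≪≫ cR₂.symm)) ≪≫
          (Functor.associator _ _ _).symm ≪≫ Functor.isoWhiskerRight cσ.symm _ ≪≫ Functor.associator _ _ _ ≪≫
          Functor.isoWhiskerLeft (DCoh.LTensorCx T)
            ((Functor.associator _ _ _).symm ≪≫ Functor.isoWhiskerRight uσ _ ≪≫ Functor.leftUnitor _))
  -- the twisted inverse image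
  obtain ⟨sh⟩ := RightAdjTensor.nonempty_iso q (DCoh.shriekAdj q hR)
    (SumAdj.ps_of_pp q (DCoh.shriekAdj q hR) (PPFlat.pp_flat q))
    (fun V hV Q hQ => SuppAdjQC.killed_rightAdjoint q (PPFlat.pp_flat q) hR (DCoh.shriek q hR)
      (DCoh.shriekAdj q hR) V hV Q hQ) OY hOY E eE
  -- the adjunction on all objects
  obtain ⟨ap⟩ := nonempty_pullPushAdj p
  let A : DCoh.Lpull p ⋙ DCoh.LTensorCx K ⊣ DCoh.RSheafHom K ⋙ DCoh.Rpush p :=
    ap.comp (DCoh.RSheafHomAdj K)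
  let ιX := ObjectProperty.ι (fun M : DCoh.D X => DCoh.IsQCohD M)
  let F : DCoh.DQCoh X ⥤ DCoh.DQCoh (pullback a b) :=
    ObjectProperty.lift _ (ObjectProperty.ι _ ⋙ DCoh.Lpull p ⋙ DCoh.LTensorCx K)
      fun M => DQCoh.isQCohD_LTensorCx K hKq _ (DQCoh.isQCohD_Lpull p _ M.property)
  let G : DCoh.DQCoh (pullback a b) ⥤ DCoh.DQCoh X :=
    ObjectProperty.lift _ (ObjectProperty.ι _ ⋙ DCoh.RSheafHom K ⋙ DCoh.Rpush p)
      fun M => DQCoh.isQCohD_Rpush p _ (DQCoh.isQCohD_RHom_perfect K hK _ M.property)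
  let A' : F ⊣ G := A.restrictFullyFaithful (ObjectProperty.fullyFaithfulι _) (ObjectProperty.fullyFaithfulι _)
    (Iso.refl _) (Iso.refl _)
  let eL : F ⋙ DCoh.RpushQ q hR ≅ FMK.phiOn a b K DCoh.IsQCohD DCoh.IsQCohD h :=
    Functor.fullyFaithfulCancelRight (ObjectProperty.ι _) (Iso.refl _)
  let eR : DCoh.shriek q hR ⋙ G ≅ FMK.phiOn b a K' DCoh.IsQCohD DCoh.IsQCohD h' :=
    Functor.fullyFaithfulCancelRight (ObjectProperty.ι _)
      (show DCoh.shriek q hR ⋙ ObjectProperty.ι _ ⋙ DCoh.RSheafHom K ⋙ DCoh.Rpush p ≅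
          ObjectProperty.ι _ ⋙ FMK.phi b a K' from
        (Functor.associator _ _ _).symm ≪≫ Functor.isoWhiskerRight sh _ ≪≫ Functor.associator _ _ _ ≪≫
          Functor.isoWhiskerLeft _ (Functor.associator _ _ _ ≪≫
            Functor.isoWhiskerLeft (DCoh.Lpull q)
              (Functor.isoWhiskerLeft (DCoh.LTensorCx E) (Functor.isoWhiskerRight rh _) ≪≫
                (Functor.associator _ _ _).symm ≪≫ Functor.isoWhiskerRight cED _) ≪≫ φ'.symm))
  exact ⟨((A'.comp (DCoh.shriekAdj q hR)).ofNatIsoLeft eL).ofNatIsoRight eR⟩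

end Groth.Agent.Dual22Lib.FMAdj
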