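import Groth.Agent.Dual22Lib.PerfLift
import Groth.Agent.Dual22Lib.RdComp
import Groth.Agent.Dual22Lib.GlueOpens

/-!
# Perfect objects on opens of affine schemes are retracts of restrictions
-/

set_option autoImplicit false
set_option backward.isDefEq.respectTransparency false
set_option backward.defeqAttrib.useBackward true
set_option linter.style.haveILetI false
set_option linter.unusedSectionVars false
set_option synthInstance.maxHeartbeats 100000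

universe u

open CategoryTheory CategoryTheory.Limits CategoryTheory.Pretriangulated AlgebraicGeometry Opposite
open Groth.Agent.DCat Groth.Agent.DCat.PerfLocal
open scoped ZeroObject

attribute [local instance] HasDerivedCategory.standard
attribute [-instance] Int.instConditionallyCompleteLinearOrder

namespace Groth.Agent.Dual22Lib.PerfExtend

variable {X : Scheme.{u}}

/-- Restriction of `O`. -/
theorem nonempty_rd_top {T : Scheme.{u}} (j : T ⟶ X) [IsOpenImmersion j] :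
    Nonempty ((rd j).obj ((DQCoh.sec X).pt.obj (⊤ : X.Opens)) ≅ (DQCoh.sec T).pt.obj (⊤ : T.Opens)) := by
  haveI := PullPerf.preservesFiniteLimits_restrict j
  exact ⟨((Scheme.Modules.restrictFunctor j).mapDerivedCategorySingleFunctor 0).app _ ≪≫
    (DerivedCategory.singleFunctor T.Modules 0).mapIso
      ((Scheme.Modules.restrictFunctor j).mapIso (DQCoh.topStructIso X) ≪≫ Scheme.Modules.restrictUnitIso j ≪≫
        (DQCoh.topStructIso T).symm)⟩

/-- The cone of the idempotent killing a retract. -/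
theorem nonempty_cone_retract {P R C : DCoh.D X} (k : R ⟶ P) (g : P ⟶ R) (hgk : g ≫ k = 𝟙 P)
    {v : R ⟶ C} {w : C ⟶ R⟦(1 : ℤ)⟧} (hT : Triangle.mk (𝟙 R - k ≫ g) v w ∈ distTriang _) :
    Nonempty (C ≅ P ⊞ P⟦(1 : ℤ)⟧) := by
  obtain ⟨L, q, δ, hq⟩ := distinguished_cocone_triangle g
  haveI : Mono g := (SplitMono.mk k hgk).mono
  have hδ : δ = 0 := (Triangle.mor₃_eq_zero_iff_mono₁ _ hq).2 ‹Mono g›
  haveI : Epi q := (Triangle.mor₃_eq_zero_iff_epi₂ _ hq).1 hδ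
  have hgε : g ≫ (𝟙 R - k ≫ g) = 0 := by
    rw [Preadditive.comp_sub, Category.comp_id, ← Category.assoc, hgk, Category.id_comp, sub_self]
  have hgq : g ≫ q = 0 := comp_distTriang_mor_zero₁₂ _ hq
  obtain ⟨s, hs⟩ := Triangle.yoneda_exact₂ _ hq (𝟙 R - k ≫ g) hgε
  replace hs : 𝟙 R - k ≫ g = q ≫ s := hs
  have hsq : s ≫ q = 𝟙 L := by
    rw [← cancel_epi q, ← Category.assoc, ← hs, Preadditive.sub_comp, Category.assoc, hgq]
    simp
  have hsk : s ≫ k = 0 := by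
    rw [← cancel_epi q, ← Category.assoc, ← hs, Preadditive.sub_comp, Category.assoc, hgk]
    simp
  let e : R ≅ P ⊞ L :=
    { hom := biprod.lift k q
      inv := biprod.desc g s
      hom_inv_id := by rw [biprod.lift_desc, ← hs]; abel
      inv_hom_id := by apply biprod.hom_ext' <;> apply biprod.hom_ext <;> simp [hgk, hgq, hsq, hsk] }
  obtain ⟨C'', g'', w'', hC''⟩ := distinguished_cocone_triangle ((biprod.snd : P ⊞ L ⟶ L) ≫ biprod.inr)
  obtain ⟨i⟩ := PCTriangle.nonempty_cone_idem P L hC''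
  refine ⟨Triangle.π₃.mapIso (isoTriangleOfIso₁₂ _ _ hT hC'' e e ?_) ≪≫ i⟩
  show (𝟙 R - k ≫ g) ≫ biprod.lift k q = biprod.lift k q ≫ biprod.snd ≫ biprod.inr
  rw [hs]
  apply biprod.hom_ext <;> simp [hsq, hsk]

variable (U : X.Opens)

/-- Maps out of `P` into quasi-coherent objects factor through restrictions of perfect objects. -/
def Fac (P : DCoh.D (U : Scheme.{u})) : Prop :=
  ∀ (Q : DCoh.D (U : Scheme.{u})), DCoh.IsQCohD Q → ∀ φ : P ⟶ Q,
    ∃ (R : DCoh.D X) (g : P ⟶ (rd U.ι).obj R) (h : (rd U.ι).obj R ⟶ Q), DCoh.IsPerfect R ∧ g ≫ h = φ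

theorem isQCohD_rd {R : DCoh.D X} (hR : DCoh.IsPerfect R) : DCoh.IsQCohD ((rd U.ι).obj R) := by
  haveI := PullPerf.preservesFiniteLimits_restrict U.ι
  exact AdjGeom.isQCohD_restrictD U.ι (PerfLift.isQCohD_perfect hR)

theorem fac_shift {P : DCoh.D (U : Scheme.{u})} (h : Fac U P) (n : ℤ) : Fac U (P⟦n⟧) := fun Q hQ φ => by
  let F := shiftFunctor (DCoh.D (U : Scheme.{u})) n
  let iX := (shiftFunctorCompIsoId (DCoh.D (U : Scheme.{u})) (-n) n (by omega)).app Q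
  obtain ⟨φ', hφ'⟩ := F.map_surjective (φ ≫ iX.inv)
  obtain ⟨R, g, k, hR, hgk⟩ := h _ (DQCoh.isQCohD_shift hQ (-n)) φ'
  refine ⟨R⟦n⟧, F.map g ≫ (((rd U.ι).commShiftIso n).app R).inv,
    (((rd U.ι).commShiftIso n).app R).hom ≫ F.map k ≫ iX.hom, PCTriangle.perfect_shift hR n, ?_⟩
  rw [Category.assoc, Iso.inv_hom_id_assoc, ← F.map_comp_assoc, hgk, hφ', Category.assoc, iX.inv_hom_id]
  exact Category.comp_id φ

variable [IsAffine X] (hU : IsCompact (U : Set X))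
include hU

theorem fac_ext (T : Triangle (DCoh.D (U : Scheme.{u}))) (hT : T ∈ distTriang _) (h₁ : Fac U T.obj₁)
    (h₃ : Fac U T.obj₃) : Fac U T.obj₂ := by
  haveI := PullPerf.preservesFiniteLimits_restrict U.ι
  intro Q hQ φ
  obtain ⟨R₁, g₁, k₁, hR₁, hgk₁⟩ := h₁ Q hQ (T.mor₁ ≫ φ)
  obtain ⟨F, a, δ, hF⟩ := distinguished_cocone_triangle₁ k₁
  have hFq : DCoh.IsQCohD F :=
    DQCoh.isQCohD_obj₃ (inv_rot_of_distTriang _ (inv_rot_of_distTriang _ hF))
      (DQCoh.isQCohD_shift (isQCohD_rd U hR₁) (-1)) (DQCoh.isQCohD_shift hQ (-1))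
  have hTi := inv_rot_of_distTriang _ hT
  have hm : T.invRotate.mor₁ ≫ T.mor₁ = 0 := comp_distTriang_mor_zero₁₂ _ hTi
  obtain ⟨k, hk⟩ := Triangle.coyoneda_exact₂ _ hF (T.invRotate.mor₁ ≫ g₁) (by
    show (T.invRotate.mor₁ ≫ g₁) ≫ k₁ = 0
    rw [Category.assoc, hgk₁, ← Category.assoc, hm, zero_comp])
  obtain ⟨R₃, g₃, k₃, hR₃, hgk₃⟩ := fac_shift U h₃ (-1) F hFq k
  obtain ⟨E₁, β, γ, hE₁, hβ, hβγ⟩ :=
    PerfLift.exists_lift U hU R₃ R₁ hR₃ (PerfLift.isQCohD_perfect hR₁) (k₃ ≫ a)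
  obtain ⟨C, v, w, hC⟩ := distinguished_cocone_triangle γ
  have hCT := (rd U.ι).map_distinguished _ hC
  have hzero : (rd U.ι).map γ ≫ k₁ = 0 := by
    show (DCoh.restrictD U.ι).map γ ≫ k₁ = 0
    rw [← hβγ, Category.assoc, Category.assoc, show a ≫ k₁ = 0 from comp_distTriang_mor_zero₁₂ _ hF,
      comp_zero, comp_zero]
  obtain ⟨kC, hkC⟩ := Triangle.yoneda_exact₂ _ hCT k₁ hzero
  obtain ⟨(g₂ : T.obj₂ ⟶ (rd U.ι).obj C), hg₂⟩ := Triangle.yoneda_exact₂ _ hTi (g₁ ≫ (rd U.ι).map v) (by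
    have e : (rd U.ι).map γ ≫ (rd U.ι).map v = 0 := by
      rw [← (rd U.ι).map_comp, show γ ≫ v = 0 from comp_distTriang_mor_zero₁₂ _ hC, Functor.map_zero]
    haveI := hβ
    have e' : (k₃ ≫ a) ≫ (rd U.ι).map v = 0 := by
      rw [← cancel_epi ((DCoh.restrictD U.ι).map β), ← Category.assoc, hβγ, comp_zero]
      exact e
    rw [← Category.assoc, hk, ← hgk₃]
    show ((g₃ ≫ k₃) ≫ a) ≫ (rd U.ι).map v = 0
    rw [Category.assoc g₃, Category.assoc g₃, e', comp_zero])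
  replace hkC : k₁ = (rd U.ι).map v ≫ kC := hkC
  replace hg₂ : g₁ ≫ (rd U.ι).map v = T.mor₁ ≫ g₂ := hg₂
  obtain ⟨d₃, hd₃⟩ := Triangle.yoneda_exact₂ _ hT (φ - g₂ ≫ kC) (by
    rw [Preadditive.comp_sub, ← Category.assoc, ← hg₂, Category.assoc, ← hkC, hgk₁, sub_self])
  obtain ⟨R', g', k', hR', hgk'⟩ := h₃ Q hQ d₃
  let P := rd U.ι
  haveI : PreservesBinaryBiproducts P := preservesBinaryBiproducts_of_preservesBiproducts P
  refine ⟨C ⊞ R', biprod.lift g₂ (T.mor₂ ≫ g') ≫ (P.mapBiprod C R').inv,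
    (P.mapBiprod C R').hom ≫ biprod.desc kC k',
    (PCTriangle.perfect_two_out_of_three (binaryBiproductTriangle_distinguished C R')).2.1
      (PCTriangle.perfect_cone hC hE₁ hR₁) hR', ?_⟩
  rw [Category.assoc, Iso.inv_hom_id_assoc, biprod.lift_desc, Category.assoc, hgk', ← hd₃]
  abel

theorem fac_pt [CompactSpace (U : Scheme.{u})] (Z : (U : Scheme.{u}).Opens) (hZ : IsCompact (Z : Set (U : Scheme.{u}))) :
    Fac U ((DQCoh.sec (U : Scheme.{u})).pt.obj Z) := by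
  intro Q hQ φ
  haveI := PullPerf.preservesFiniteLimits_restrict U.ι
  haveI : QuasiCompact U.ι := quasiCompact_of_compactSpace U.ι
  haveI := DCat.hasRpush U.ι
  obtain ⟨adj, hadj⟩ := AdjGeom.exists_adj U.ι
  haveI : IsIso adj.counit := hadj
  let Z' := U.ι ''ᵁ Z
  haveI := PullPerf.preservesFiniteLimits_restrict Z'.ι
  let j := X.homOfLE (U.ι_image_le Z)
  let e : (rd U.ι) ⋙ (rd j) ≅ rd Z'.ι :=
    RdComp.rdCompIso j U.ι ≪≫ eqToIso (by simp only [j, Scheme.homOfLE_ι]; rfl)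
  obtain ⟨oZ⟩ := nonempty_rd_top Z'.ι
  obtain ⟨s⟩ := DQCoh.nonempty_shriek_pt j (⊤ : (Z' : Scheme.{u}).Opens)
  have hr : j ''ᵁ (⊤ : (Z' : Scheme.{u}).Opens) = Z := by
    rw [Scheme.Hom.image_top_eq_opensRange]
    refine U.ι.image_injective ?_
    dsimp only
    rw [← Scheme.Hom.opensRange_comp]
    simp [j, Z']
  let s' : (JShriek.shriek j).mapDerivedCategory.obj ((DQCoh.sec _).pt.obj (⊤ : (Z' : Scheme.{u}).Opens)) ≅
      (DQCoh.sec (U : Scheme.{u})).pt.obj Z := s ≪≫ eqToIso (by rw [hr])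
  let a := JShriek.shriekD j
  let E' := (DCoh.Rpush U.ι).obj Q
  let cU : (rd U.ι).obj E' ≅ Q := asIso (adj.counit.app Q)
  let x := a.homEquiv _ _ (s'.hom ≫ φ)
  let t : (rd Z'.ι).obj ((DQCoh.sec X).pt.obj (⊤ : X.Opens)) ⟶ (rd Z'.ι).obj E' :=
    oZ.hom ≫ x ≫ (rd j).map cU.inv ≫ e.hom.app E'
  obtain ⟨E₁, β, γ, hE₁, hβ, hβγ⟩ := PerfLift.exists_lift Z'
    (hZ.image U.ι.continuous) _ E' PerfLift.isPerfect_pt_top (DQCoh.isQCohD_Rpush U.ι Q hQ) t
  haveI : IsIso ((rd Z'.ι).map β) := hβ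
  let y := oZ.inv ≫ inv ((rd Z'.ι).map β) ≫ e.inv.app E₁
  refine ⟨E₁, s'.inv ≫ (a.homEquiv _ _).symm y, (rd U.ι).map γ ≫ cU.hom, hE₁, ?_⟩
  rw [Category.assoc, Iso.inv_comp_eq]
  refine (a.homEquiv _ _).injective ?_
  rw [Adjunction.homEquiv_naturality_right, Equiv.apply_symm_apply]
  show y ≫ _ = x
  have h' : (rd Z'.ι).map γ = (rd Z'.ι).map β ≫ t := hβγ.symm
  have hn : e.inv.app E₁ ≫ (rd j).map ((rd U.ι).map γ) = (rd Z'.ι).map γ ≫ e.inv.app E' :=
    (e.inv.naturality γ).symm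
  simp only [y, Category.assoc, Functor.map_comp]
  rw [reassoc_of% hn, h']
  simp only [t, Category.assoc, IsIso.inv_hom_id_assoc, Iso.inv_hom_id_assoc, Iso.hom_inv_id_app_assoc]
  rw [← Functor.map_comp, cU.inv_hom_id]
  exact (congrArg (x ≫ ·) ((rd j).map_id Q)).trans (Category.comp_id x)

/-- Maps out of perfect objects on quasi-compact opens factor through restrictions of perfect objects. -/
theorem exists_factor {P Q : DCoh.D (U : Scheme.{u})} (hP : DCoh.IsPerfect P) (hQ : DCoh.IsQCohD Q) (φ : P ⟶ Q) :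
    ∃ (R : DCoh.D X) (g : P ⟶ (rd U.ι).obj R) (h : (rd U.ι).obj R ⟶ Q), DCoh.IsPerfect R ∧ g ≫ h = φ := by
  haveI : CompactSpace (U : Scheme.{u}) := isCompact_iff_compactSpace.1 hU
  haveI : QuasiSeparatedSpace (U : Scheme.{u}) := QuasiSeparatedSpace.of_isOpenEmbedding U.ι.isOpenEmbedding
  refine DQCoh.perfect_induction (P := Fac U) { iso := ?_, zero := ?_, shift := ?_, ext := fac_ext U hU }
    (fac_pt U hU) P hP Q hQ φ
  · intro K L e h Q hQ φ
    obtain ⟨R, g, k, hR, hgk⟩ := h Q hQ (e.hom ≫ φ)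
    exact ⟨R, e.inv ≫ g, k, hR, by rw [Category.assoc, hgk, e.inv_hom_id_assoc]⟩
  · intro K hK Q hQ φ
    exact ⟨0, 0, 0, PerfLift.isPerfect_isZero (isZero_zero _), hK.eq_of_src _ _⟩
  · exact fun K n h => fac_shift U h n

/-- `P ⊕ P[1]` extends from quasi-compact opens of affine schemes. -/
theorem exists_extend {P : DCoh.D (U : Scheme.{u})} (hP : DCoh.IsPerfect P) :
    ∃ R : DCoh.D X, DCoh.IsPerfect R ∧ Nonempty ((rd U.ι).obj R ≅ P ⊞ P⟦(1 : ℤ)⟧) := by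
  haveI := PullPerf.preservesFiniteLimits_restrict U.ι
  obtain ⟨R, g, k, hR, hgk⟩ := exists_factor U hU hP (PerfLift.isQCohD_perfect hP) (𝟙 P)
  obtain ⟨E₁, β, γ, hE₁, hβ, hβγ⟩ :=
    PerfLift.exists_lift U hU R R hR (PerfLift.isQCohD_perfect hR) (𝟙 _ - k ≫ g)
  obtain ⟨C, v, w, hC⟩ := distinguished_cocone_triangle γ
  haveI : IsIso ((rd U.ι).map β) := hβ
  refine ⟨C, PCTriangle.perfect_cone hC hE₁ hR, ?_⟩
  obtain ⟨C', v', w', hC'⟩ := distinguished_cocone_triangle (𝟙 ((rd U.ι).obj R) - k ≫ g)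
  obtain ⟨e⟩ := nonempty_cone_retract k g hgk hC'
  refine ⟨(Triangle.π₃.mapIso (isoTriangleOfIso₁₂ _ _ ((rd U.ι).map_distinguished _ hC) hC'
    (asIso ((rd U.ι).map β)) (Iso.refl _) ?_)) ≪≫ e⟩
  exact (Category.comp_id _).trans hβγ.symm

end Groth.Agent.Dual22Lib.PerfExtend
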