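import Groth.Agent.DCat.RHomLeft
import Groth.Agent.DCat.TensorCongr
import Groth.Agent.Dual22Lib.ShSymm
import Mathlib.Algebra.Homology.DerivedCategory.KInjective

/-!
# Natural maps out of `- ⊗^L M` with prescribed value at `O`
-/

set_option autoImplicit false
set_option backward.isDefEq.respectTransparency false
set_option backward.defeqAttrib.useBackward true
set_option linter.style.haveILetI false

universe u

open CategoryTheory CategoryTheory.Limits AlgebraicGeometry HomologicalComplex
open Groth.Agent.DCat Groth.Agent.DCat.RHomLeft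

attribute [local instance] HasDerivedCategory.standard

namespace Groth.Agent.Dual22Lib.TensorNat

variable {X : Scheme.{u}}

/-- Maps in `D` into K-injective complexes come from chain maps. -/
theorem exists_chain {A : Type*} [Category A] [Abelian A] [HasDerivedCategory A] (M J : CochainComplex A ℤ)
    [J.IsKInjective] (m : DerivedCategory.Q.obj M ⟶ DerivedCategory.Q.obj J) :
    ∃ c : M ⟶ J, DerivedCategory.Q.map c = m := by
  let e := DerivedCategory.quotientCompQhIso A
  obtain ⟨φ, hφ⟩ := (CochainComplex.IsKInjective.Qh_map_bijective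
    ((HomotopyCategory.quotient A (ComplexShape.up ℤ)).obj M) J).2 (e.hom.app M ≫ m ≫ e.inv.app J)
  obtain ⟨c, rfl⟩ := (HomotopyCategory.quotient A (ComplexShape.up ℤ)).map_surjective φ
  refine ⟨c, ?_⟩
  have h := e.hom.naturality c
  simp only [Functor.comp_map] at h
  rw [← cancel_epi (e.hom.app M), ← h, hφ, Category.assoc, Category.assoc, e.inv_hom_id_app]
  exact congrArg (e.hom.app M ≫ ·) (Category.comp_id m)

/-- A chain map `M ⟶ J` induces a natural map of derived tensor products. -/
theorem exists_lift (M J : CochainComplex X.Modules ℤ) [DCoh.HasLTensorCx M] [DCoh.HasLTensorCx J] (c : M ⟶ J) :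
    ∃ τ : DCoh.LTensorCx M ⟶ DCoh.LTensorCx J, ∀ (P : CochainComplex X.Modules ℤ) (hP : IsKFlatFor (shT X) P),
      τ.app (DerivedCategory.Q.obj P) ≫ (LTensorSheaf.ltensorCxIso J hP).hom =
        (LTensorSheaf.ltensorCxIso M hP).hom ≫ DerivedCategory.Q.map (totMap₂ (shT X) P c) := by
  refine ⟨(DCoh.LTensorCx J).leftDerivedLift (LTensorSheaf.counit J)
    (HomologicalComplex.quasiIso X.Modules (ComplexShape.up ℤ)) (DCoh.LTensorCx M)
    (LTensorSheaf.counit M ≫ Functor.whiskerRight ((DCoh.tensorCx (X := X)).flip.map c) DerivedCategory.Q), fun P hP => ?_⟩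
  have h := (DCoh.LTensorCx J).leftDerived_fac_app (LTensorSheaf.counit J)
    (HomologicalComplex.quasiIso X.Modules (ComplexShape.up ℤ)) (DCoh.LTensorCx M)
    (LTensorSheaf.counit M ≫ Functor.whiskerRight ((DCoh.tensorCx (X := X)).flip.map c) DerivedCategory.Q) P
  exact h

end Groth.Agent.Dual22Lib.TensorNat
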