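import Groth.Agent.DCat.ProjPerf

/-!
# The projection map is natural in the complex on the source
-/

set_option autoImplicit false
set_option backward.isDefEq.respectTransparency false
set_option backward.defeqAttrib.useBackward true
set_option linter.style.haveILetI false

universe v₁ v₂ v₃ u₁ u₂ u₃ v₁' v₂' v₃' u₁' u₂' u₃' u

open CategoryTheory CategoryTheory.Limits HomologicalComplex

namespace Groth.Agent.DCat.TotHom

section Comparison

variable {A : Type u₁} [Category.{v₁} A] [Abelian A] {B : Type u₂} [Category.{v₂} B] [Abelian B]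
  {C : Type u₃} [Category.{v₃} C] [Abelian C]
  {A' : Type u₁'} [Category.{v₁'} A'] [Abelian A'] {B' : Type u₂'} [Category.{v₂'} B'] [Abelian B']
  {C' : Type u₃'} [Category.{v₃'} C'] [Abelian C']
  (T : A ⥤ B ⥤ C) [T.Additive] [∀ a, (T.obj a).Additive]
  [∀ (K₁ : CochainComplex A ℤ) (K₂ : CochainComplex B ℤ), CochainComplex.HasMapBifunctor K₁ K₂ T]
  (T' : A' ⥤ B' ⥤ C') [T'.Additive] [∀ a, (T'.obj a).Additive]
  [∀ (K₁ : CochainComplex A' ℤ) (K₂ : CochainComplex B' ℤ), CochainComplex.HasMapBifunctor K₁ K₂ T']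
  (F : A' ⥤ A) [F.Additive] (H : B ⥤ B') [H.Additive] (G : C' ⥤ C) [G.Additive]
  (α : ∀ a b, (T.obj (F.obj a)).obj b ⟶ G.obj ((T'.obj a).obj (H.obj b)))

/-- Naturality in the first variable. -/
lemma totHom_natural₁ (hα₁' : ∀ {a a' : A'} (f : a ⟶ a') (b : B),
    (T.map (F.map f)).app b ≫ α a' b = α a b ≫ G.map ((T'.map f).app (H.obj b)))
    (hα₂' : ∀ (a : A') {b b' : B} (g : b ⟶ b'),
    (T.obj (F.obj a)).map g ≫ α a b' = α a b ≫ G.map ((T'.obj a).map (H.map g)))
    {M M' : CochainComplex A' ℤ} (h : M ⟶ M') (K : CochainComplex B ℤ) :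
    totMap₁ T ((F.mapHomologicalComplex (ComplexShape.up ℤ)).map h) K ≫
        totHom T T' F H G α hα₁' hα₂' M' K =
      totHom T T' F H G α hα₁' hα₂' M K ≫
        (G.mapHomologicalComplex (ComplexShape.up ℤ)).map
          (totMap₁ T' h ((H.mapHomologicalComplex (ComplexShape.up ℤ)).obj K)) := by
  ext n : 1
  refine mapBifunctor.hom_ext fun p q hpq => ?_
  dsimp [totHom]
  rw [ι_mapBifunctorMap_assoc, ι_totHomX_assoc, ← G.map_comp, ι_mapBifunctorMap]
  simp only [id_f, CategoryTheory.Functor.map_id, Category.id_comp]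
  erw [ι_totHomX]
  rw [G.map_comp]
  exact (Category.assoc _ _ _).symm.trans ((congrArg (· ≫ _) (hα₁' (h.f p) (K.X q))).trans (Category.assoc _ _ _))

end Comparison

end Groth.Agent.DCat.TotHom

namespace Groth.Agent.DCat.ProjPerf

open AlgebraicGeometry

attribute [local instance] HasDerivedCategory.standard

variable {X Y : Scheme.{u}} (f : X ⟶ Y)

theorem Theta_natural₁ {I I' : CochainComplex X.Modules ℤ} (h : I ⟶ I') (P : CochainComplex Y.Modules ℤ) :
    totMap₁ (shT Y) ((pushC f).map h) P ≫ Theta f I' P =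
      Theta f I P ≫ (pushC f).map (totMap₁ (shT X) h ((pullC f).obj P)) :=
  TotHom.totHom_natural₁ (shT Y) (shT X) (Scheme.Modules.pushforward f) (Scheme.Modules.pullback f)
    (Scheme.Modules.pushforward f) (theta f) (fun φ N => theta_nat₁ f φ N) (fun M {_ _} ψ => theta_nat₂ f M ψ) h P

theorem eta_natural₁ [DCoh.HasRpush f] {I I' : CochainComplex X.Modules ℤ} (h : I ⟶ I')
    (P : CochainComplex Y.Modules ℤ) :
    DerivedCategory.Q.map (totMap₁ (shT Y) ((pushC f).map h) P) ≫ eta f I' P =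
      eta f I P ≫ (DCoh.Rpush f).map (DerivedCategory.Q.map (totMap₁ (shT X) h ((pullC f).obj P))) := by
  have e := (unitD f).naturality (totMap₁ (shT X) h ((pullC f).obj P))
  simp only [Functor.comp_map] at e
  simp only [eta, Category.assoc]
  rw [← DerivedCategory.Q.map_comp_assoc, Theta_natural₁, DerivedCategory.Q.map_comp, Category.assoc]
  exact congrArg (_ ≫ ·) e

end Groth.Agent.DCat.ProjPerf
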