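import Groth.Agent.Dual22Lib.ProjQCoh
import Groth.Agent.Dual22Lib.TensorNat
import Groth.Agent.Dual22Lib.ThetaNat
import Groth.Agent.Dual22Lib.SumAdj
import Groth.Agent.Dual22Lib.SupportAdj
import Groth.Agent.Dual22Lib.PerfExtend
import Groth.Agent.Dual22Lib.BCSquare
import Groth.Prelude.Def_Dual3

/-!
# `a = Lf^*(-) ⊗^L a(O)` for a right adjoint commuting with sums and respecting supports
-/

set_option autoImplicit false
set_option backward.isDefEq.respectTransparency false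
set_option backward.defeqAttrib.useBackward true
set_option linter.style.haveILetI false
set_option linter.unusedSectionVars false
set_option synthInstance.maxHeartbeats 100000

universe u

open CategoryTheory CategoryTheory.Limits CategoryTheory.Pretriangulated AlgebraicGeometry HomologicalComplex
open Groth.Agent.DCat Groth.Agent.DCat.PerfLocal Groth.Agent.DCat.ProjPerf
open Groth.Agent.Dual22Lib.WeakExact Groth.Agent.Dual22Lib.AdjGeom

attribute [local instance] HasDerivedCategory.standard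
attribute [-instance] Int.instConditionallyCompleteLinearOrder

namespace Groth.Agent.Dual22Lib.RightAdjTensor

variable {X Y : Scheme.{u}}

/-- A triangle of `D` with quasi-coherent objects is a triangle of `D_qc`. -/
theorem exists_lift_triangle {T : Triangle (DCoh.D Y)} (hT : T ∈ distTriang _) (h₁ : DCoh.IsQCohD T.obj₁)
    (h₂ : DCoh.IsQCohD T.obj₂) (h₃ : DCoh.IsQCohD T.obj₃) :
    ∃ (f : (⟨T.obj₁, h₁⟩ : DCoh.DQCoh Y) ⟶ ⟨T.obj₂, h₂⟩) (g : (⟨T.obj₂, h₂⟩ : DCoh.DQCoh Y) ⟶ ⟨T.obj₃, h₃⟩)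
      (δ : (⟨T.obj₃, h₃⟩ : DCoh.DQCoh Y) ⟶ (⟨T.obj₁, h₁⟩ : DCoh.DQCoh Y)⟦(1 : ℤ)⟧),
      f.hom = T.mor₁ ∧ g.hom = T.mor₂ ∧ Triangle.mk f g δ ∈ distTriang (DCoh.DQCoh Y) := by
  refine ⟨ObjectProperty.homMk T.mor₁, ObjectProperty.homMk T.mor₂,
    ObjectProperty.homMk (T.mor₃ ≫ ((ObjectProperty.ι (qcD Y)).commShiftIso (1 : ℤ)).inv.app ⟨T.obj₁, h₁⟩),
    rfl, rfl, ?_⟩
  refine isomorphic_distinguished _ hT _ (Triangle.isoMk _ _ (Iso.refl _) (Iso.refl _) (Iso.refl _) ?_ ?_ ?_)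
  all_goals simp
  all_goals try exact (Category.comp_id _).trans (Category.id_comp _).symm
  all_goals try exact Category.comp_id _

theorem triExact_ι (Y : Scheme.{u}) : TriExact (ObjectProperty.ι (qcD Y)) := triExact_of_isTriangulated _

/-- A weakly exact functor killing what is killed on `V` inverts what is invertible on `V`. -/
theorem isIso_map_qc {D : Type*} [Category D] [Preadditive D] [HasZeroObject D] [HasShift D ℤ]
    [∀ n : ℤ, (shiftFunctor D n).Additive] [Pretriangulated D] {F : DCoh.DQCoh Y ⥤ D} (hF : TriExact F)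
    (V : Y.Opens) (hker : ∀ C : DCoh.DQCoh Y, killed V.ι C.obj → IsZero (F.obj C)) {A B : DCoh.DQCoh Y} (g : A ⟶ B)
    [IsIso ((rd V.ι).map g.hom)] : IsIso (F.map g) := by
  obtain ⟨C, c, d, hT⟩ := distinguished_cocone_triangle g
  haveI := PullPerf.preservesFiniteLimits_restrict V.ι
  obtain ⟨δ, hδ⟩ := ((triExact_ι Y).comp (TenLocal.triExact_rd V.ι)) _ hT
  have hk : killed V.ι C.obj := (Triangle.isZero₃_iff_isIso₁ _ hδ).2 ‹_›
  obtain ⟨δ', hδ'⟩ := hF _ hT
  exact (Triangle.isZero₃_iff_isIso₁ _ hδ').1 (hker C hk)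

/-- Shifts of quasi-coherent objects. -/
noncomputable def shiftObjIso (K : DCoh.DQCoh Y) (n : ℤ) (h : DCoh.IsQCohD (K.obj⟦n⟧)) :
    (⟨K.obj⟦n⟧, h⟩ : DCoh.DQCoh Y) ≅ K⟦n⟧ :=
  (ObjectProperty.fullyFaithfulι (qcD Y)).preimageIso (((ObjectProperty.ι (qcD Y)).commShiftIso n).app K).symm

variable (f : X ⟶ Y) [QuasiCompact f] [QuasiSeparated f] [DCoh.HasRpush f] {hf : DCoh.RpushPreservesQCoh f}
  {a : DCoh.DQCoh Y ⥤ DCoh.DQCoh X} (adj : DCoh.RpushQ f hf ⊣ a) [DCoh.HasLpull f]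

/-- The projection map at quasi-coherent objects. -/
theorem isIso_tau (I : CochainComplex X.Modules ℤ) [I.IsKInjective] [DCoh.HasLTensorCx I]
    [DCoh.HasLTensorCx ((pushC f).obj I)] (hI : DCoh.IsQCohD (DerivedCategory.Q.obj I))
    (τ : ProjQCoh.srcF f I ⟶ ProjQCoh.tgtF f I)
    (hτ : ∀ (P : CochainComplex Y.Modules ℤ) (hP : IsKFlatFor (shT Y) P),
      τ.app (DerivedCategory.Q.obj P) = (ProjQCoh.srcIso f I hP).hom ≫ eta f I P ≫ (ProjQCoh.tgtIso f I hP).inv)
    (K : DCoh.D Y) (hK : DCoh.IsQCohD K) : IsIso (τ.app K) := by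
  obtain ⟨P, hP, ⟨eP⟩⟩ := PullPerf.exists_kflat_rep K
  haveI := ProjQCoh.isIso_eta_qcoh f I hI hP (DQCoh.isQCohD_of_iso eP.symm hK)
  refine (NatTrans.isIso_app_iff_of_iso τ eP).1 ?_
  rw [hτ P hP]
  infer_instance

omit [DCoh.HasLpull f] in
/-- **The trace at shifts of `O` is universal.** -/
theorem bijective_trace (P : CochainComplex Y.Modules ℤ) (hP : IsKFlatFor (shT Y) P)
    (hPq : DCoh.IsQCohD (DerivedCategory.Q.obj P)) (k : ℤ) [DCoh.HasLpull f]
    (σ : (shT X).map₂CochainComplex.flip.obj ((pullC f).obj P) ≅ shiftFunctor (CochainComplex X.Modules ℤ) k)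
    (σ' : (shT Y).map₂CochainComplex.flip.obj P ≅ shiftFunctor (CochainComplex Y.Modules ℤ) k)
    (I : CochainComplex X.Modules ℤ) [I.IsKInjective] [DCoh.HasLTensorCx I] [DCoh.HasLTensorCx ((pushC f).obj I)]
    (hI : DCoh.IsQCohD (DerivedCategory.Q.obj I))
    {J : CochainComplex Y.Modules ℤ} (c : (pushC f).obj I ⟶ J)
    (hrep : ∀ Z, DCoh.IsQCohD Z →
      AdjGlue.Rep (DCoh.Rpush f) (DerivedCategory.Q.obj J) (inv ((unitD f).app I) (I := isIso_unitD f I) ≫ DerivedCategory.Q.map c) Z)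
    (Z : DCoh.D X) (hZ : DCoh.IsQCohD Z) :
    AdjGlue.Rep (DCoh.Rpush f) (DerivedCategory.Q.obj (tot (shT Y) J P))
      (inv (eta f I P) (I := ProjQCoh.isIso_eta_qcoh f I hI hP hPq) ≫ DerivedCategory.Q.map (totMap₁ (shT Y) c P)) Z := by
  obtain ⟨Z₀, s, hZ₀, hs⟩ := modules_enoughKInj X (DerivedCategory.Q.objPreimage (Z⟦-k⟧))
  haveI := hZ₀
  haveI := hs
  haveI := isIso_unitD f I
  haveI := isIso_unitD f Z₀
  let e₀ : DerivedCategory.Q.obj Z₀ ≅ Z⟦-k⟧ :=
    (asIso (DerivedCategory.Q.map s)).symm ≪≫ DerivedCategory.Q.objObjPreimageIso _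
  have hZ₀q : DCoh.IsQCohD (DerivedCategory.Q.obj Z₀) :=
    DQCoh.isQCohD_of_iso e₀.symm (DQCoh.isQCohD_shift hZ (-k))
  obtain ⟨_, _⟩ := DCat.exists_commShift_Rpush f
  haveI := LTensorSheaf.hasLTensorCx Z₀
  haveI := LTensorSheaf.hasLTensorCx ((pushC f).obj Z₀)
  haveI := ProjQCoh.isIso_eta_qcoh f I hI hP hPq
  haveI := ProjQCoh.isIso_eta_qcoh f Z₀ hZ₀q hP hPq
  let T := tot (shT X) Z₀ ((pullC f).obj P)
  refine AdjGlue.Rep.of_iso (K := DerivedCategory.Q.obj T) ?_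
    (DerivedCategory.Q.mapIso (σ.app Z₀) ≪≫ (DerivedCategory.Q.commShiftIso k).app Z₀ ≪≫
      (shiftFunctor _ k).mapIso e₀ ≪≫ (shiftFunctorCompIsoId _ (-k) k (by omega)).app Z)
  -- chain maps
  let Φ : (Z₀ ⟶ I) → (DerivedCategory.Q.obj T ⟶ DerivedCategory.Q.obj (tot (shT X) I ((pullC f).obj P))) :=
    fun h => DerivedCategory.Q.map (totMap₁ (shT X) h ((pullC f).obj P))
  have hnat : ∀ h : Z₀ ⟶ I, Φ h = (DerivedCategory.Q.mapIso (σ.app Z₀) ≪≫ (DerivedCategory.Q.commShiftIso k).app Z₀).hom ≫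
      (DerivedCategory.Q.map h)⟦k⟧' ≫
        (DerivedCategory.Q.mapIso (σ.app I) ≪≫ (DerivedCategory.Q.commShiftIso k).app I).inv := fun h => by
    rw [← Category.assoc, Iso.eq_comp_inv]
    have h₁ := congrArg DerivedCategory.Q.map (σ.hom.naturality h)
    have h₂ := (DerivedCategory.Q.commShiftIso k).hom.naturality h
    simp only [Functor.map_comp, Functor.comp_map] at h₁ h₂
    simp only [Iso.trans_hom, Functor.mapIso_hom, Iso.app_hom, Category.assoc]
    rw [← h₂]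
    exact (reassoc_of% h₁) _
  have hnat' : ∀ h : (pushC f).obj Z₀ ⟶ J, DerivedCategory.Q.map (totMap₁ (shT Y) h P) =
      (DerivedCategory.Q.mapIso (σ'.app _) ≪≫ (DerivedCategory.Q.commShiftIso k).app _).hom ≫
      (DerivedCategory.Q.map h)⟦k⟧' ≫
        (DerivedCategory.Q.mapIso (σ'.app J) ≪≫ (DerivedCategory.Q.commShiftIso k).app J).inv := fun h => by
    rw [← Category.assoc, Iso.eq_comp_inv]
    have h₁ := congrArg DerivedCategory.Q.map (σ'.hom.naturality h)
    have h₂ := (DerivedCategory.Q.commShiftIso k).hom.naturality h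
    simp only [Functor.map_comp, Functor.comp_map] at h₁ h₂
    simp only [Iso.trans_hom, Functor.mapIso_hom, Iso.app_hom, Category.assoc]
    rw [← h₂]
    exact (reassoc_of% h₁) _
  have hval : ∀ h : Z₀ ⟶ I, (DCoh.Rpush f).map (Φ h) ≫ inv (eta f I P) ≫ DerivedCategory.Q.map (totMap₁ (shT Y) c P) =
      inv (eta f Z₀ P) ≫ DerivedCategory.Q.map (totMap₁ (shT Y) ((pushC f).map h ≫ c) P) := fun h => by
    rw [IsIso.eq_inv_comp, ← reassoc_of% (eta_natural₁ f h P), IsIso.hom_inv_id_assoc, ← Functor.map_comp]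
    congr 1
    exact (((shT Y).map₂CochainComplex.flip.obj P).map_comp ((pushC f).map h) c).symm
  have hc : ∀ h : Z₀ ⟶ I, DerivedCategory.Q.map ((pushC f).map h ≫ c) =
      (unitD f).app Z₀ ≫ (DCoh.Rpush f).map (DerivedCategory.Q.map h) ≫ inv ((unitD f).app I) ≫ DerivedCategory.Q.map c := fun h => by
    have e := (unitD f).naturality h
    simp only [Functor.comp_map] at e
    rw [← reassoc_of% e, IsIso.hom_inv_id_assoc, Functor.map_comp]
  refine ⟨fun x y hxy => ?_, fun w => ?_⟩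
  · have hsurj : ∀ x : DerivedCategory.Q.obj T ⟶ DerivedCategory.Q.obj (tot (shT X) I ((pullC f).obj P)), ∃ h, Φ h = x := by
      intro x
      obtain ⟨m, hm⟩ := (shiftFunctor (DCoh.D X) k).map_surjective
        ((DerivedCategory.Q.mapIso (σ.app Z₀) ≪≫ (DerivedCategory.Q.commShiftIso k).app Z₀).inv ≫ x ≫
          (DerivedCategory.Q.mapIso (σ.app I) ≪≫ (DerivedCategory.Q.commShiftIso k).app I).hom)
      obtain ⟨h, rfl⟩ := TensorNat.exists_chain Z₀ I m
      refine ⟨h, ?_⟩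
      rw [hnat, hm]
      simp only [Category.assoc, Iso.hom_inv_id, Category.comp_id, Iso.hom_inv_id_assoc]
    obtain ⟨h, rfl⟩ := hsurj x
    obtain ⟨h', rfl⟩ := hsurj y
    simp only [hval, hnat', cancel_epi, cancel_mono] at hxy
    have hQ := (shiftFunctor (DCoh.D Y) k).map_injective hxy
    rw [hc, hc, cancel_epi] at hQ
    rw [hnat, hnat, (hrep _ hZ₀q).1 hQ]
  · obtain ⟨m, hm⟩ := (shiftFunctor (DCoh.D Y) k).map_surjective
      ((DerivedCategory.Q.mapIso (σ'.app _) ≪≫ (DerivedCategory.Q.commShiftIso k).app _).inv ≫ eta f Z₀ P ≫ w ≫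
        (DerivedCategory.Q.mapIso (σ'.app J) ≪≫ (DerivedCategory.Q.commShiftIso k).app J).hom)
    obtain ⟨g, hg⟩ := (hrep _ hZ₀q).2 (inv ((unitD f).app Z₀) ≫ m)
    obtain ⟨h, rfl⟩ := TensorNat.exists_chain Z₀ I g
    refine ⟨Φ h, ?_⟩
    simp only at hg ⊢
    rw [hval, hnat', hc, hg, IsIso.hom_inv_id_assoc, hm]
    simp only [Category.assoc, Iso.hom_inv_id, Category.comp_id, Iso.hom_inv_id_assoc, IsIso.inv_hom_id_assoc]

include adj in
/-- **`a(K) = Lf^* K ⊗^L a(O)`.** -/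
theorem nonempty_iso [CompactSpace X] [QuasiSeparatedSpace X] [CompactSpace Y] [QuasiSeparatedSpace Y]
    (hPS : SumAdj.PS a)
    (hsupp : ∀ (V : Y.Opens), IsAffineOpen V → ∀ Q : DCoh.DQCoh Y, killed V.ι Q.obj →
      killed (f ⁻¹ᵁ V).ι (a.obj Q).obj)
    (O : DCoh.DQCoh Y) (eO : O.obj ≅ DCoh.inD Y (Coh.structureModule Y))
    (E : CochainComplex X.Modules ℤ) (eE : DCoh.toD X E ≅ (a.obj O).obj) [DCoh.HasLTensorCx E] :
    Nonempty (a ⋙ ObjectProperty.ι _ ≅ ObjectProperty.ι _ ⋙ DCoh.Lpull f ⋙ DCoh.LTensorCx E) := by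
  obtain ⟨I, s, hI, hs⟩ := modules_enoughKInj X E
  haveI := hI
  haveI := hs
  haveI := LTensorSheaf.hasLTensorCx I
  haveI := LTensorSheaf.hasLTensorCx ((pushC f).obj I)
  obtain ⟨t⟩ := TensorCongr.nonempty_congr (E := I) (E' := E) (asIso (DerivedCategory.Q.map s)).symm
  let eI : DerivedCategory.Q.obj I ≅ (a.obj O).obj := (asIso (DerivedCategory.Q.map s)).symm ≪≫ eE
  have hIq : DCoh.IsQCohD (DerivedCategory.Q.obj I) := DQCoh.isQCohD_of_iso eI.symm (a.obj O).property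
  obtain ⟨τ, hτ⟩ := ProjQCoh.exists_tau f I
  let S : CochainComplex Y.Modules ℤ := (single Y.Modules (ComplexShape.up ℤ) 0).obj (Coh.structureModule Y)
  let eS : DerivedCategory.Q.obj S ≅ O.obj :=
    ((DerivedCategory.singleFunctorIsoCompQ Y.Modules 0).app (Coh.structureModule Y)).symm ≪≫ eO.symm
  -- the trace
  obtain ⟨J, r, hJ, hr⟩ := modules_enoughKInj Y S
  haveI := hJ
  haveI := hr
  haveI := LTensorSheaf.hasLTensorCx J
  haveI := LTensorSheaf.hasLTensorCx S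
  obtain ⟨tS⟩ := TensorCongr.nonempty_congr (E := J) (E' := S) (asIso (DerivedCategory.Q.map r)).symm
  obtain ⟨uS⟩ := RHomLeft.nonempty_LTensor_structure (X := Y)
  haveI := isIso_unitD f I
  let eJ : O.obj ≅ DerivedCategory.Q.obj J := eS.symm ≪≫ asIso (DerivedCategory.Q.map r)
  obtain ⟨c, hc⟩ := TensorNat.exists_chain ((pushC f).obj I) J
    ((unitD f).app I ≫ (DCoh.Rpush f).map eI.hom ≫ (adj.counit.app O).hom ≫ eJ.hom)
  obtain ⟨τl, hτl⟩ := TensorNat.exists_lift ((pushC f).obj I) J c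
  let ν : DCoh.LTensorCx ((pushC f).obj I) ⟶ 𝟭 (DCoh.D Y) := τl ≫ (tS ≪≫ uS).hom
  have hrep : ∀ Z, DCoh.IsQCohD Z → AdjGlue.Rep (DCoh.Rpush f) (DerivedCategory.Q.obj J)
      (inv ((unitD f).app I) ≫ DerivedCategory.Q.map c) Z := fun Z hZ => by
    have h := SupportAdj.rep_counit f hf a adj O Z hZ
    refine ⟨fun x y hxy => ?_, fun w => ?_⟩
    · simp only [hc, IsIso.inv_hom_id_assoc, ← Functor.map_comp_assoc] at hxy
      rw [← cancel_mono eI.hom]
      refine h.1 ?_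
      rw [← cancel_mono eJ.hom]
      simpa only [Category.assoc] using hxy
    · obtain ⟨g, hg⟩ := h.2 (w ≫ eJ.inv)
      refine ⟨g ≫ eI.inv, ?_⟩
      simp only at hg ⊢
      simp only [hc, IsIso.inv_hom_id_assoc, ← Functor.map_comp_assoc, Category.assoc, Iso.inv_hom_id, Category.comp_id]
      rw [reassoc_of% hg, Iso.inv_hom_id, Category.comp_id]
  haveI hτi : ∀ K : DCoh.DQCoh Y, IsIso (τ.app K.obj) := fun K => isIso_tau f I hIq τ hτ K.obj K.property
  let G : DCoh.DQCoh Y ⥤ DCoh.DQCoh X := ObjectProperty.lift DCoh.IsQCohD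
    (ObjectProperty.ι _ ⋙ DCoh.Lpull f ⋙ DCoh.LTensorCx I)
    (fun K => DQCoh.isQCohD_LTensorCx I hIq _ (DQCoh.isQCohD_Lpull f _ K.property))
  let β : ∀ K : DCoh.DQCoh Y, (DCoh.RpushQ f hf).obj (G.obj K) ⟶ K := fun K =>
    ObjectProperty.homMk (inv (τ.app K.obj) ≫ ν.app K.obj)
  have hβ : ∀ {K L : DCoh.DQCoh Y} (g : K ⟶ L), (DCoh.RpushQ f hf).map (G.map g) ≫ β L = β K ≫ g := fun {K L} g => by
    refine ObjectProperty.hom_ext _ ?_
    show (ProjQCoh.tgtF f I).map g.hom ≫ inv (τ.app L.obj) ≫ ν.app L.obj = (inv (τ.app K.obj) ≫ ν.app K.obj) ≫ g.hom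
    have h : (ProjQCoh.srcF f I).map g.hom ≫ τ.app L.obj = τ.app K.obj ≫ (ProjQCoh.tgtF f I).map g.hom :=
      τ.naturality g.hom
    rw [← cancel_epi (τ.app K.obj), ← Category.assoc (τ.app K.obj) ((ProjQCoh.tgtF f I).map g.hom), ← h,
      Category.assoc, IsIso.hom_inv_id_assoc, ν.naturality,
      Category.assoc, IsIso.hom_inv_id_assoc]
    rfl
  let θ : G ⟶ a :=
    { app := fun K => adj.homEquiv _ _ (β K)
      naturality := fun K L g => by
        rw [← adj.homEquiv_naturality_left, hβ g, adj.homEquiv_naturality_right] }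
  let θ' : G ⋙ ObjectProperty.ι _ ⟶ a ⋙ ObjectProperty.ι _ := Functor.whiskerRight θ (ObjectProperty.ι _)
  -- at shifts of `O`
  have hθS : ∀ (K : DCoh.DQCoh Y) (k : ℤ),
      (DerivedCategory.Q.obj ((single Y.Modules (ComplexShape.up ℤ) k).obj (Coh.structureModule Y)) ≅ K.obj) →
      IsIso (θ.app K) := by
    intro K k eK
    let P := (single Y.Modules (ComplexShape.up ℤ) k).obj (Coh.structureModule Y)
    have hP : IsKFlatFor (shT Y) P := ((RHomLeft.isKFlatFor_structure Y).shift (-k)).of_iso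
      (((CochainComplex.singleFunctors Y.Modules).shiftIso (-k) k 0 (by omega)).app (Coh.structureModule Y))
    have hPq : DCoh.IsQCohD (DerivedCategory.Q.obj P) := DQCoh.isQCohD_of_iso eK.symm K.property
    obtain ⟨σ⟩ : Nonempty ((shT X).map₂CochainComplex.flip.obj ((pullC f).obj P) ≅
        shiftFunctor (CochainComplex X.Modules ℤ) (-k)) := by
      obtain ⟨r₀⟩ := RHomLeft.nonempty_flip_single ((shT X).map₂CochainComplex) rfl (X := X)
      obtain ⟨r₁⟩ := RHomLeft.nonempty_flip_shift ((shT X).map₂CochainComplex) rfl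
        ((single X.Modules (ComplexShape.up ℤ) 0).obj (Coh.structureModule X)) (-k)
      let p : (pullC f).obj P ≅ ((single X.Modules (ComplexShape.up ℤ) 0).obj (Coh.structureModule X))⟦-k⟧ :=
        (singleMapHomologicalComplex (Scheme.Modules.pullback f) (ComplexShape.up ℤ) k).app _ ≪≫
          (single X.Modules (ComplexShape.up ℤ) k).mapIso ((Scheme.Modules.pullback f).mapIso (DQCoh.topStructIso Y).symm ≪≫
            DQCoh.pullFreeIso f ⊤ ≪≫ DQCoh.topStructIso X) ≪≫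
          (((CochainComplex.singleFunctors X.Modules).shiftIso (-k) k 0 (by omega)).app _).symm
      exact ⟨(shT X).map₂CochainComplex.flip.mapIso p ≪≫ r₁ ≪≫ Functor.isoWhiskerRight r₀ _ ≪≫ Functor.leftUnitor _⟩
    obtain ⟨σ'⟩ : Nonempty ((shT Y).map₂CochainComplex.flip.obj P ≅
        shiftFunctor (CochainComplex Y.Modules ℤ) (-k)) := by
      obtain ⟨r₀⟩ := RHomLeft.nonempty_flip_single ((shT Y).map₂CochainComplex) rfl (X := Y)
      obtain ⟨r₁⟩ := RHomLeft.nonempty_flip_shift ((shT Y).map₂CochainComplex) rfl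
        ((single Y.Modules (ComplexShape.up ℤ) 0).obj (Coh.structureModule Y)) (-k)
      exact ⟨(shT Y).map₂CochainComplex.flip.mapIso
        (((CochainComplex.singleFunctors Y.Modules).shiftIso (-k) k 0 (by omega)).app _).symm ≪≫ r₁ ≪≫
          Functor.isoWhiskerRight r₀ _ ≪≫ Functor.leftUnitor _⟩
    haveI := ProjQCoh.isIso_eta_qcoh f I hIq hP hPq
    haveI := isIso_tau f I hIq τ hτ (DerivedCategory.Q.obj P) hPq
    -- the trace at `P`
    let b := LTensorSheaf.ltensorCxIso J hP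
    let post : DerivedCategory.Q.obj (tot (shT Y) J P) ≅ DerivedCategory.Q.obj P :=
      DerivedCategory.Q.mapIso (ShSymm.symm P J).symm ≪≫ b.symm ≪≫ (tS ≪≫ uS).app _
    have hν : ν.app (DerivedCategory.Q.obj P) =
        (ProjQCoh.srcIso f I hP).hom ≫ DerivedCategory.Q.map (totMap₁ (shT Y) c P) ≫ post.hom := by
      have h := hτl P hP
      rw [← Iso.eq_comp_inv] at h
      have h' := ShSymm.symm_natural₂ P c
      rw [← Iso.eq_comp_inv] at h'
      show τl.app _ ≫ (tS ≪≫ uS).hom.app _ = _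
      rw [h, h']
      simp only [ProjQCoh.srcIso, post, b, Iso.trans_hom, Functor.mapIso_hom, Category.assoc, Iso.symm_hom, Iso.app_hom,
        Functor.map_comp]
    have hβP : inv (τ.app (DerivedCategory.Q.obj P)) ≫ ν.app (DerivedCategory.Q.obj P) =
        (ProjQCoh.tgtIso f I hP).hom ≫ inv (eta f I P) ≫ DerivedCategory.Q.map (totMap₁ (shT Y) c P) ≫ post.hom := by
      rw [IsIso.inv_comp_eq, hν, hτ P hP]
      simp
    have hβK : (β K).hom = (ProjQCoh.tgtF f I).map eK.inv ≫ inv (τ.app (DerivedCategory.Q.obj P)) ≫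
        ν.app (DerivedCategory.Q.obj P) ≫ eK.hom := by
      show inv (τ.app K.obj) ≫ ν.app K.obj = _
      have h₁ : (ProjQCoh.srcF f I).map eK.inv ≫ τ.app (DerivedCategory.Q.obj P) =
          τ.app K.obj ≫ (ProjQCoh.tgtF f I).map eK.inv := τ.naturality eK.inv
      rw [IsIso.inv_comp_eq, ← Category.assoc (τ.app K.obj) ((ProjQCoh.tgtF f I).map eK.inv), ← h₁,
        Category.assoc, IsIso.hom_inv_id_assoc, reassoc_of% (ν.naturality eK.inv)]
      simp
    let pre : (G.obj K).obj ≅ DerivedCategory.Q.obj (tot (shT X) I ((pullC f).obj P)) :=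
      (DCoh.Lpull f ⋙ DCoh.LTensorCx I).mapIso eK.symm ≪≫
        ((DCoh.LTensorCx I).mapIso (PullPerf.lpullIso f hP) ≪≫
          LTensorSheaf.ltensorCxIso I (PullTot.isKFlatFor_pullback f hP) ≪≫
          DerivedCategory.Q.mapIso (ShSymm.symm ((pullC f).obj P) I))
    have hrepK : ∀ Z : DCoh.D X, DCoh.IsQCohD Z → AdjGlue.Rep (DCoh.Rpush f) K.obj (A := (G.obj K).obj) (β K).hom Z := by
      intro Z hZ
      have h := bijective_trace f P hP hPq (-k) σ σ' I hIq c hrep Z hZ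
      have e : (β K).hom = (DCoh.Rpush f).map pre.hom ≫
          (inv (eta f I P) ≫ DerivedCategory.Q.map (totMap₁ (shT Y) c P)) ≫ (post ≪≫ eK).hom := by
        rw [hβK, reassoc_of% hβP]
        simp only [pre, ProjQCoh.tgtIso, Iso.trans_hom, Functor.mapIso_hom, Functor.map_comp, Category.assoc]
        rfl
      unfold AdjGlue.Rep at h ⊢
      refine ⟨fun x y hxy => ?_, fun w => ?_⟩
      · simp only [e, ← Functor.map_comp_assoc] at hxy
        rw [← cancel_mono pre.hom]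
        refine h.1 ?_
        rw [← cancel_mono (post ≪≫ eK).hom]
        simpa only [Category.assoc] using hxy
      · obtain ⟨g, hg⟩ := h.2 (w ≫ (post ≪≫ eK).inv)
        refine ⟨g ≫ pre.inv, ?_⟩
        simp only at hg ⊢
        simp only [e, ← Functor.map_comp_assoc, Category.assoc, Iso.inv_hom_id, Category.comp_id]
        rw [reassoc_of% hg, Iso.inv_hom_id, Category.comp_id]
    refine (isIso_iff_yoneda_map_bijective (θ.app K)).2 fun Z => ?_
    have hb : ∀ x : Z ⟶ G.obj K, x ≫ θ.app K = adj.homEquiv _ _ ((DCoh.RpushQ f hf).map x ≫ β K) := fun x =>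
      (adj.homEquiv_naturality_left _ _).symm
    have h := hrepK Z.obj Z.property
    refine ⟨fun x y hxy => ObjectProperty.hom_ext _ (h.1 ?_), fun w => ?_⟩
    · simp only [hb] at hxy
      exact congrArg InducedCategory.Hom.hom ((adj.homEquiv _ _).injective hxy)
    · obtain ⟨x, hx⟩ := h.2 ((adj.homEquiv _ _).symm w).hom
      refine ⟨ObjectProperty.homMk x, ?_⟩
      show ObjectProperty.homMk x ≫ θ.app K = w
      rw [hb, ← Equiv.eq_symm_apply]
      exact ObjectProperty.hom_ext _ hx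
  -- weak exactness
  obtain ⟨_, _⟩ := DCat.exists_commShift_Rpush f
  have hG₁ : TriExact (G ⋙ ObjectProperty.ι _) :=
    (triExact_ι Y).comp ((TenLocal.triExact_Lpull f).comp (TenLocal.triExact_LTensor I))
  have ha : TriExact (a ⋙ ObjectProperty.ι _) := by
    letI : (DCoh.RpushQ f hf).CommShift ℤ :=
      inferInstanceAs ((ObjectProperty.lift (qcD Y) (ObjectProperty.ι (qcD X) ⋙ DCoh.Rpush f)
        (fun K => hf K.obj K.property)).CommShift ℤ)
    haveI : (DCoh.RpushQ f hf).IsTriangulated :=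
      inferInstanceAs ((ObjectProperty.lift (qcD Y) (ObjectProperty.ι (qcD X) ⋙ DCoh.Rpush f)
        (fun K => hf K.obj K.property)).IsTriangulated)
    letI : a.CommShift ℤ := adj.rightAdjointCommShift ℤ
    haveI : adj.CommShift ℤ := adj.commShift_of_leftAdjoint ℤ
    haveI : a.IsTriangulated := adj.isTriangulated_rightAdjoint
    exact (triExact_of_isTriangulated a).comp (triExact_ι X)
  suffices h : ∀ K, IsIso (θ'.app K) by
    haveI := h
    haveI : IsIso θ' := NatIso.isIso_of_isIso_app _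
    exact ⟨(asIso θ').symm ≪≫ Functor.isoWhiskerLeft _ (Functor.isoWhiskerLeft _ t)⟩
  intro K
  refine ProjPerf.isIso_of_locally _ fun x => ?_
  obtain ⟨V, hV, hxV, -⟩ := exists_isAffineOpen_mem_and_subset (show f x ∈ (⊤ : Y.Opens) from trivial)
  refine ⟨f ⁻¹ᵁ V, hxV, ?_⟩
  let U := f ⁻¹ᵁ V
  haveI := hasLpull (f ∣_ V)
  haveI := PullPerf.preservesFiniteLimits_restrict U.ι
  let FG : DCoh.DQCoh Y ⥤ DCoh.D (U : Scheme.{u}) := (G ⋙ ObjectProperty.ι _) ⋙ rd U.ι
  let Fa : DCoh.DQCoh Y ⥤ DCoh.D (U : Scheme.{u}) := (a ⋙ ObjectProperty.ι _) ⋙ rd U.ι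
  let θU : FG ⟶ Fa := Functor.whiskerRight θ' (rd U.ι)
  have hFG : TriExact FG := hG₁.comp (TenLocal.triExact_rd U.ι)
  have hFa : TriExact Fa := ha.comp (TenLocal.triExact_rd U.ι)
  have kG : ∀ C : DCoh.DQCoh Y, killed V.ι C.obj → IsZero (FG.obj C) := fun C hC => by
    obtain ⟨e⟩ := TenLocal.nonempty_rd_Lpull f V C.obj
    exact TenLocal.isZero_rd_LTensor U.ι I (((TenLocal.triExact_Lpull (f ∣_ V)).map_isZero hC).of_iso e)
  have ka : ∀ C : DCoh.DQCoh Y, killed V.ι C.obj → IsZero (Fa.obj C) := fun C hC => hsupp V hV C hC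
  have hmove : ∀ {A B : DCoh.DQCoh Y} (g : A ⟶ B), IsIso ((rd V.ι).map g.hom) →
      (IsIso (θU.app A) ↔ IsIso (θU.app B)) := fun {A B} g hg => by
    haveI := hg
    haveI := isIso_map_qc hFG V kG g
    haveI := isIso_map_qc hFa V ka g
    constructor <;> intro hh
    · haveI := hh
      exact IsIso.of_isIso_fac_left (θU.naturality g)
    · haveI := hh
      exact IsIso.of_isIso_fac_right (θU.naturality g).symm
  -- the open chart
  let R : CommRingCat.{u} := Γ(Y, V)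
  let j : Spec (CommRingCat.of R) ⟶ Y := hV.fromSpec
  let e : (V : Scheme.{u}) ⟶ Spec (CommRingCat.of R) := hV.isoSpec.hom
  haveI : IsOpenImmersion j := inferInstanceAs (IsOpenImmersion hV.fromSpec)
  haveI : IsOpenImmersion e := inferInstanceAs (IsOpenImmersion hV.isoSpec.hom)
  have he : e ≫ j = V.ι := hV.isoSpec_hom_fromSpec
  haveI : QuasiCompact j := quasiCompact_of_compactSpace j
  haveI := PullPerf.preservesFiniteLimits_restrict j
  haveI := hasRpush j
  obtain ⟨_, _⟩ := DCat.exists_commShift_Rpush j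
  obtain ⟨aj, haj⟩ := exists_adj j
  haveI := haj
  have hj : DCoh.RpushPreservesQCoh j := fun M hM => DQCoh.isQCohD_Rpush j M hM
  let P : ObjectProperty (DCoh.D (Spec (CommRingCat.of R))) := fun M =>
    ∃ hM : DCoh.IsQCohD M, ∀ n : ℤ, IsIso (θU.app (⟨(DCoh.Rpush j).obj M, hj M hM⟩⟦n⟧))
  have hunit : ∀ (L : DCoh.DQCoh Y), IsIso ((rd V.ι).map (aj.unit.app L.obj)) := fun L =>
    haveI : IsIso ((rd j).map (aj.unit.app L.obj)) := BCSquare.isIso_of_comp_eq_id (aj.left_triangle_components L.obj)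
    TenLocal.isIso_rd_of_isIso_rd j e V.ι he _
  have hP : ∀ M, DCoh.IsQCohD M → P M := by
    intro M hM
    refine DQCoh.qcohD_induction R P ?_ ?_ ?_ ?_ M hM
    · rintro A B i ⟨hA, h⟩
      refine ⟨DQCoh.isQCohD_of_iso i hA, fun n => ?_⟩
      exact (NatTrans.isIso_app_iff_of_iso θU ((shiftFunctor _ n).mapIso
        ((ObjectProperty.fullyFaithfulι (qcD Y)).preimageIso (X := ⟨(DCoh.Rpush j).obj A, hj A hA⟩)
          (Y := ⟨(DCoh.Rpush j).obj B, hj B (DQCoh.isQCohD_of_iso i hA)⟩) ((DCoh.Rpush j).mapIso i)))).1 (h n)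
    · rintro T hT ⟨h₁, p₁⟩ ⟨h₂, p₂⟩
      refine ⟨DQCoh.isQCohD_obj₃ hT h₁ h₂, ?_⟩
      obtain ⟨δ, hδ⟩ := TenLocal.triExact_Rpush j T hT
      obtain ⟨g₁, g₂, g₃, -, -, hg⟩ :=
        exists_lift_triangle hδ (hj _ h₁) (hj _ h₂) (hj _ (DQCoh.isQCohD_obj₃ hT h₁ h₂))
      exact IsoShifts.cone hFG hFa hg p₁ p₂
    · intro κ Z c hc hZ
      haveI : HasCoproduct Z := ⟨⟨⟨c, hc⟩⟩⟩
      have hcq : DCoh.IsQCohD c.pt :=
        DQCoh.isQCohD_of_iso ((coproductIsCoproduct _).coconePointUniqueUpToIso hc)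
          (DQCoh.isQCohD_sigma _ fun k => (hZ k).1)
      refine ⟨hcq, fun n => ?_⟩
      let Z' : κ → DCoh.DQCoh Y := fun k => ⟨(DCoh.Rpush j).obj (Z k), hj _ (hZ k).1⟩
      let W : DCoh.DQCoh Y := ⟨(DCoh.Rpush j).obj c.pt, hj _ hcq⟩
      let c₁ : Cofan Z' := Cofan.mk W fun k => ObjectProperty.homMk ((DCoh.Rpush j).map (c.inj k))
      haveI := TenLocal.preservesColimit_Rpush j Z fun k => (hZ k).1
      have hc₁ : IsColimit c₁ := isColimitOfReflects (ObjectProperty.ι _)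
        ((Cofan.isColimitMapCoconeEquiv (ObjectProperty.ι _) _ _).symm
          ((Cofan.isColimitMapCoconeEquiv (DCoh.Rpush j) _ _).1 (isColimitOfPreserves (DCoh.Rpush j) hc)))
      let Zn : κ → DCoh.DQCoh Y := fun k => (Z' k)⟦n⟧
      let c₂ : Cofan Zn := Cofan.mk (W⟦n⟧) fun k => (c₁.inj k)⟦n⟧'
      have hc₂ : IsColimit c₂ :=
        (Cofan.isColimitMapCoconeEquiv _ _ _).1 (isColimitOfPreserves (shiftFunctor _ n) hc₁)
      haveI : HasCoproducts.{u} (DCoh.D Y) := fun J => hasCoproductsOfShape_derived enoughKInj_of_isGrothendieckAbelian J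
      haveI : HasCoproducts.{u} (DCoh.D X) := fun J => hasCoproductsOfShape_derived enoughKInj_of_isGrothendieckAbelian J
      let i₂ : W⟦n⟧ ≅ SumAdj.qsum Zn := hc₂.coconePointUniqueUpToIso (SumAdj.qsumIsColimit Zn)
      haveI := TenLocal.preservesCoproducts_rd U.ι κ
      haveI := TenLocal.preservesCoproducts_Lpull f κ
      haveI := TenLocal.preservesCoproducts_LTensor I κ
      haveI : IsIso (θU.app (SumAdj.qsum Zn)) := by
        refine WeakExact.isIso_app_of_isColimit θU (Cofan.mk (SumAdj.qsum Zn) (SumAdj.qinj Zn)) ?_ ?_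
          fun k => (hZ k).2 n
        · exact (Cofan.isColimitMapCoconeEquiv FG _ _).symm
            ((Cofan.isColimitMapCoconeEquiv (DCoh.Lpull f ⋙ DCoh.LTensorCx I ⋙ rd U.ι) _ _).1
              (isColimitOfPreserves (DCoh.Lpull f ⋙ DCoh.LTensorCx I ⋙ rd U.ι)
                (coproductIsCoproduct fun k => (Zn k).obj)))
        · haveI hps : IsIso (Sigma.desc fun k => (a.map (SumAdj.qinj Zn k)).hom) := hPS κ Zn
          have hac : IsColimit (Cofan.mk ((a.obj (SumAdj.qsum Zn)).obj) fun k => (a.map (SumAdj.qinj Zn k)).hom) :=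
            IsColimit.ofIsoColimit (coproductIsCoproduct fun k => (a.obj (Zn k)).obj)
              (Cofan.ext (@asIso _ _ _ _ (Sigma.desc fun k => (a.map (SumAdj.qinj Zn k)).hom) hps) fun k => Sigma.ι_desc _ _)
          exact (Cofan.isColimitMapCoconeEquiv Fa _ _).symm
            ((Cofan.isColimitMapCoconeEquiv (rd U.ι) _ _).1 (isColimitOfPreserves (rd U.ι) hac))
      exact (NatTrans.isIso_app_iff_of_iso θU i₂.symm).1 inferInstance
    · intro n
      refine ⟨DQCoh.isQCohD_shift (DQCoh.isQCohD_of_iso (Iso.refl _) ?_) n, fun m => ?_⟩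
      · exact PerfLift.isQCohD_perfect PerfLift.isPerfect_pt_top
      obtain ⟨w⟩ := PerfExtend.nonempty_rd_top j (X := Y)
      let pY : O.obj ≅ (DQCoh.sec Y).pt.obj ⊤ :=
        eO ≪≫ (DerivedCategory.singleFunctor Y.Modules 0).mapIso (DQCoh.topStructIso Y).symm
      let O' : DCoh.DQCoh Y := ⟨(DCoh.Rpush j).obj ((rd j).obj O.obj), hj _ (AdjGeom.isQCohD_restrictD j O.property)⟩
      let η : O ⟶ O' := ObjectProperty.homMk (aj.unit.app O.obj)
      let W : DCoh.DQCoh Y := ⟨(DCoh.Rpush j).obj (((DQCoh.sec (Spec (CommRingCat.of R))).pt.obj ⊤)⟦n⟧),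
        hj _ (DQCoh.isQCohD_shift (PerfLift.isQCohD_perfect PerfLift.isPerfect_pt_top) n)⟩
      let i₁ : O'⟦n⟧ ≅ W := (shiftObjIso O' n (DQCoh.isQCohD_shift O'.property n)).symm ≪≫
        (ObjectProperty.fullyFaithfulι (qcD Y)).preimageIso
          ((shiftFunctor (DCoh.D Y) n).mapIso ((DCoh.Rpush j).mapIso ((rd j).mapIso pY ≪≫ w)) ≪≫
            (((DCoh.Rpush j).commShiftIso n).app _).symm)
      have hsh : ∀ k : ℤ, IsIso ((rd V.ι).map (η⟦k⟧').hom) := fun k => by
        haveI := hunit O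
        haveI : IsIso ((ObjectProperty.ι (qcD Y) ⋙ rd V.ι).map η) := hunit O
        exact (NatIso.isIso_map_iff ((ObjectProperty.ι (qcD Y) ⋙ rd V.ι).commShiftIso k) η).2
          (show IsIso (((ObjectProperty.ι (qcD Y) ⋙ rd V.ι).map η)⟦k⟧') from inferInstance)
      have hOk : ∀ k : ℤ, IsIso (θU.app (O⟦k⟧)) := fun k => by
        haveI : IsIso (θ.app (O⟦k⟧)) := hθS _ (-k)
          (DerivedCategory.Q.mapIso (((CochainComplex.singleFunctors Y.Modules).shiftIso k (-k) 0 (by omega)).app _).symm ≪≫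
            (DerivedCategory.Q.commShiftIso k).app _ ≪≫ (shiftFunctor _ k).mapIso eS ≪≫
            (((ObjectProperty.ι (qcD Y)).commShiftIso k).app O).symm)
        exact inferInstanceAs (IsIso ((rd U.ι).map ((ObjectProperty.ι _).map (θ.app (O⟦k⟧)))))
      refine (NatTrans.isIso_app_iff_of_iso θU ((shiftFunctor _ m).mapIso i₁)).1 ?_
      refine (NatTrans.isIso_app_iff_of_iso θU ((shiftFunctorAdd' _ n m (n + m) rfl).app O')).1 ?_
      exact (hmove (η⟦n + m⟧') (hsh _)).1 (hOk _)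
  let KV : DCoh.DQCoh Y := ⟨(DCoh.Rpush j).obj ((rd j).obj K.obj), hj _ (AdjGeom.isQCohD_restrictD j K.property)⟩
  obtain ⟨hM, hKV⟩ := hP ((rd j).obj K.obj) (AdjGeom.isQCohD_restrictD j K.property)
  exact (hmove (B := KV) (ObjectProperty.homMk (aj.unit.app K.obj)) (hunit K)).2
    (WeakExact.IsoShifts.app (τ := θU) (K := KV) hKV)

end Groth.Agent.Dual22Lib.RightAdjTensor
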