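import Groth.Agent.Dual22Lib.ScalarD
import Groth.Agent.Dual22Lib.OpenInduct
import Groth.Agent.DQCoh.PscNoeth
import Groth.Agent.DCat.MVTriangles
import Groth.Agent.Dual22Lib.AdjExists

/-!
# Torsion of maps from bounded above coherent objects into objects supported on a zero locus
-/

set_option autoImplicit false
set_option backward.isDefEq.respectTransparency false
set_option backward.defeqAttrib.useBackward true
set_option linter.style.haveILetI false
set_option linter.unusedSectionVars false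
set_option synthInstance.maxHeartbeats 100000

universe u

open CategoryTheory CategoryTheory.Limits CategoryTheory.Pretriangulated AlgebraicGeometry Opposite
open Groth.Agent.DCat

attribute [local instance] HasDerivedCategory.standard
attribute [-instance] Int.instConditionallyCompleteLinearOrder

namespace Groth.Agent.Dual22Lib.CohTors

variable {A : Type u} [CommRing A]

/-- The locus where the scalar is invertible. -/
noncomputable abbrev dop (a : A) (T : Scheme.{u}) [T.Over (Spec (CommRingCat.of A))] : T.Opens :=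
  T.basicOpen (Coh.toGlobal (T ↘ Spec (CommRingCat.of A)) a)

theorem preimage_dop (a : A) {W T : Scheme.{u}} [W.Over (Spec (CommRingCat.of A))] [T.Over (Spec (CommRingCat.of A))]
    (j : W ⟶ T) [j.IsOver (Spec (CommRingCat.of A))] : j ⁻¹ᵁ dop a T = dop a W := by
  have h : Coh.toGlobal (W ↘ Spec (CommRingCat.of A)) a = j.appTop (Coh.toGlobal (T ↘ Spec (CommRingCat.of A)) a) := by
    rw [← KLin.toGlobal_comp j (T ↘ Spec (CommRingCat.of A)) a, comp_over j (Spec (CommRingCat.of A))]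
  rw [dop, dop, h]
  exact j.preimage_basicOpen _

theorem killed_congr {T : Scheme.{u}} {U V : T.Opens} (h : U = V) {K : DCoh.D T} (hK : AdjGeom.killed U.ι K) :
    AdjGeom.killed V.ι K := h ▸ hK

theorem killed_dop_restrict (a : A) {W T : Scheme.{u}} [W.Over (Spec (CommRingCat.of A))]
    [T.Over (Spec (CommRingCat.of A))] (j : W ⟶ T) [IsOpenImmersion j] [j.IsOver (Spec (CommRingCat.of A))]
    {L : DCoh.D T} (h : AdjGeom.killed (dop a T).ι L) :
    AdjGeom.killed (dop a W).ι ((DCoh.restrictD j).obj L) :=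
  killed_congr (preimage_dop a j) (GammaZ.killed_restrict j (dop a T) h)

theorem isCohD_restrictD {W T : Scheme.{u}} (j : W ⟶ T) [IsOpenImmersion j] [IsLocallyNoetherian W] {P : DCoh.D T}
    (h : DCoh.IsCohD P) : DCoh.IsCohD ((DCoh.restrictD j).obj P) := fun i =>
  Coherent.isCoh_iso (DCat.SuppOpen.hdMapIso (Scheme.Modules.restrictFunctor j) P i).symm
    (AmpleLib.isCoh_restrict j _ (h i))

theorem isGE_restrictD {W T : Scheme.{u}} (j : W ⟶ T) [IsOpenImmersion j] {L : DCoh.D T} (c : ℤ) (h : L.IsGE c) :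
    ((DCoh.restrictD j).obj L).IsGE c := by
  rw [DerivedCategory.isGE_iff] at h ⊢
  exact fun i hi => IsZero.of_iso ((Scheme.Modules.restrictFunctor j).map_isZero (h i hi))
    (DCat.SuppOpen.hdMapIso _ L i)

/-- The statement on a scheme. -/
def TorsAt (a : A) (T : Scheme.{u}) : Prop :=
  IsLocallyNoetherian T → ∀ (_ : T.Over (Spec (CommRingCat.of A))) (P L : DCoh.D T) (b c : ℤ),
    DCoh.IsCohD P → P.IsLE b → DCoh.IsQCohD L → L.IsGE c → AdjGeom.killed (dop a T).ι L →
      ∀ φ : P ⟶ L, ∃ n : ℕ, (a ^ n) • φ = 0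

theorem torsAt_spec (a : A) (R : CommRingCat.{u}) : TorsAt a (Spec R) := by
  intro hN _ P L b c hP hb hL hc hk φ
  haveI : IsLocallyNoetherian (Spec R) := hN
  haveI := hb
  haveI := hc
  haveI := AffSchLib.preservesFiniteLimits_tilde R
  haveI := DQCoh.preservesFiniteColimits_tilde R
  obtain ⟨M, ⟨e⟩⟩ := ((DQCoh.tildeD_main R).2.2 _).1 (fun i => (hP i).1 : DCoh.IsQCohD P)
  obtain ⟨E, a₁, b₁, α, hE, hfree, h₁, h₂⟩ : DRing.IsPseudoCoherent (R : Type u) (c - 1) M :=
    DQCoh.pc_of_psc_tildeD (PCTriangle.psc_iso e.symm (DQCoh.psc_of_isCoh P (fun i => (hP i).1) b (c - 1) fun i _ => hP i))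
  let T := DCoh.tildeD R
  have hperf : DCoh.IsPerfect (T.obj (DRing.toD E)) := DQCoh.isPerfect_tildeD
    ⟨E, a₁, b₁, hE, fun i => by
      haveI := (hfree i).1
      haveI := (hfree i).2
      exact ⟨inferInstance, inferInstance⟩, ⟨Iso.refl _⟩⟩
  have hsupp : ∀ i : ℤ, CohB1.support (DCoh.HD L i) ⊆
      ((Spec R).zeroLocus (U := ⊤) {Coh.toGlobal ((Spec R) ↘ Spec (CommRingCat.of A)) a} : Set (Spec R)) := by
    intro i x hx
    refine ((Spec R).mem_zeroLocus_iff _ x).2 fun r hr hxr => ?_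
    obtain rfl : r = Coh.toGlobal ((Spec R) ↘ Spec (CommRingCat.of A)) a := hr
    exact hx ((AdjGeom.killed_iff (dop a (Spec R)).ι L).1 hk i x (by rwa [Scheme.Opens.opensRange_ι]))
  let β := T.map α ≫ e.hom
  obtain ⟨n, hn⟩ := Torsion.exists_pow_smul_eq_zero A a hperf hL hsupp (β ≫ φ)
  refine ⟨n, ?_⟩
  obtain ⟨C, g, δ, hT⟩ := distinguished_cocone_triangle β
  have hC : C.IsLE (c - 1 - 1) :=
    (PullPerf.apx_iff_isLE (c - 1) _ hT).1 ((DQCoh.apx_tildeD α ⟨h₁, h₂⟩).comp (PullPerf.apx_of_isIso _ _))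
  obtain ⟨ψ, hψ⟩ := Triangle.yoneda_exact₂ _ hT ((a ^ n) • φ) (by
    show β ≫ ((a ^ n) • φ) = 0
    rw [Linear.comp_smul, hn])
  haveI : DerivedCategory.TStructure.t.IsLE (Triangle.mk β g δ).obj₃ (c - 1 - 1) := hC
  rw [hψ, DerivedCategory.TStructure.t.zero ψ (c - 1 - 1) c (by omega)]
  exact comp_zero

theorem torsAt_of_isAffine (a : A) (T : Scheme.{u}) (hT : IsAffine T) : TorsAt a T := by
  intro hN _ P L b c hP hb hL hc hk φ
  let j : Spec Γ(T, ⊤) ⟶ T := T.isoSpec.inv
  letI : (Spec Γ(T, ⊤)).Over (Spec (CommRingCat.of A)) := ⟨j ≫ T ↘ Spec (CommRingCat.of A)⟩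
  haveI : j.IsOver (Spec (CommRingCat.of A)) := ⟨rfl⟩
  haveI : IsLocallyNoetherian (Spec Γ(T, ⊤)) := isLocallyNoetherian_of_isOpenImmersion j
  haveI := PullPerf.preservesFiniteLimits_restrict j
  haveI : DCoh.HasRpush j := DCat.hasRpush j
  obtain ⟨adj, -⟩ := AdjGeom.exists_adj j
  haveI := GammaZ.isIso_counit j adj
  have hu : IsIso (adj.unit.app L) := by
    obtain ⟨C, g, δ, hT'⟩ := distinguished_cocone_triangle (adj.unit.app L)
    refine (Triangle.isZero₃_iff_isIso₁ _ hT').1 (AdjGeom.isZero_of_killed_top j (Scheme.Hom.opensRange_of_isIso j) ?_)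
    haveI : IsIso ((DCoh.restrictD j).map (adj.unit.app L)) := by
      rw [show (DCoh.restrictD j).map (adj.unit.app L) = inv (adj.counit.app ((DCoh.restrictD j).obj L)) from
        IsIso.eq_inv_of_inv_hom_id (adj.left_triangle_components L)]
      infer_instance
    exact (Triangle.isZero₃_iff_isIso₁ _ ((DCoh.restrictD j).map_distinguished _ hT')).2 ‹_›
  obtain ⟨n, hn⟩ := torsAt_spec a Γ(T, ⊤) inferInstance inferInstance _ _ b c (isCohD_restrictD j hP)
    (PerfLocal.isLE_rd j P b hb) (AdjGeom.isQCohD_restrictD j hL) (isGE_restrictD j c hc)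
    (killed_dop_restrict a j hk) ((DCoh.restrictD j).map φ)
  refine ⟨n, ?_⟩
  rw [← cancel_mono (adj.unit.app L), zero_comp]
  refine (adj.unit.naturality ((a ^ n) • φ)).trans ?_
  have hφ0 : (DCoh.restrictD j).map ((a ^ n) • φ) = 0 := by
    rw [show (a ^ n) • φ = (a ^ n • 𝟙 P) ≫ φ by rw [Linear.smul_comp, Category.id_comp], Functor.map_comp,
      ScalarD.restrictD_map_smul_id, Linear.smul_comp, Category.id_comp, hn]
  haveI : (DCoh.Rpush j).IsRightAdjoint := DCat.isRightAdjoint_Rpush j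
  rw [Functor.comp_map, hφ0, Functor.map_zero, comp_zero]

theorem torsAt_of_isEmpty (a : A) (T : Scheme.{u}) (hT : IsEmpty T) : TorsAt a T := by
  haveI : IsAffine T := isAffine_of_isEmpty
  exact torsAt_of_isAffine a T ‹_›

theorem torsAt_supStep (a : A) : OpenInduct.SupStep.{u} (TorsAt a) := by
  intro T _ U V hUV _ _ _ hU hV hUV' hN _ P L b c hP hb hL hc hk φ
  haveI := fun W : T.Opens => DCat.hasRpush W.ι
  haveI := fun W : T.Opens => PullPerf.preservesFiniteLimits_restrict W.ι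
  haveI : IsLocallyNoetherian T := hN
  haveI := fun W : T.Opens => isLocallyNoetherian_of_isOpenImmersion W.ι
  have key : ∀ (W : T.Opens), TorsAt a (W : Scheme.{u}) → ∀ (P' : DCoh.D T) (b' : ℤ), DCoh.IsCohD P' → P'.IsLE b' →
      ∀ ψ : P' ⟶ (DCoh.Rpush W.ι).obj ((DCoh.restrictD W.ι).obj L), ∃ n : ℕ, (a ^ n) • ψ = 0 := by
    intro W hW P' b' hP' hb' ψ
    letI : (W : Scheme.{u}).Over (Spec (CommRingCat.of A)) := ⟨W.ι ≫ T ↘ Spec (CommRingCat.of A)⟩
    haveI : W.ι.IsOver (Spec (CommRingCat.of A)) := ⟨rfl⟩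
    obtain ⟨adj, -⟩ := AdjGeom.exists_adj W.ι
    obtain ⟨n, hn⟩ := hW inferInstance inferInstance _ _ b' c (isCohD_restrictD W.ι hP')
      (PerfLocal.isLE_rd W.ι P' b' hb') (AdjGeom.isQCohD_restrictD W.ι hL) (isGE_restrictD W.ι c hc)
      (killed_dop_restrict a W.ι hk) ((adj.homEquiv _ _).symm ψ)
    refine ⟨n, ?_⟩
    refine (adj.homEquiv _ _).symm.injective ?_
    haveI : (DCoh.Rpush W.ι).PreservesZeroMorphisms :=
      haveI : (DCoh.Rpush W.ι).IsRightAdjoint := DCat.isRightAdjoint_Rpush W.ι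
      inferInstance
    have hz : (adj.homEquiv P' ((DCoh.restrictD W.ι).obj L)).symm 0 = 0 := by
      rw [Adjunction.homEquiv_counit, Functor.map_zero, zero_comp]
    rw [hz, show (a ^ n) • ψ = (a ^ n • 𝟙 P') ≫ ψ by rw [Linear.smul_comp, Category.id_comp],
      Adjunction.homEquiv_naturality_left_symm, ScalarD.restrictD_map_smul_id, Linear.smul_comp, Category.id_comp, hn]
  obtain ⟨α, β, γ, hT⟩ := MV.exists_triangle_id hUV L
  obtain ⟨n₁, hn₁⟩ := key U hU P b hP hb (φ ≫ α ≫ biprod.fst)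
  obtain ⟨n₂, hn₂⟩ := key V hV P b hP hb (φ ≫ α ≫ biprod.snd)
  have h0 : ((a ^ (n₁ + n₂)) • φ) ≫ α = 0 := by
    apply biprod.hom_ext
    · rw [zero_comp, Category.assoc, Linear.smul_comp, pow_add, mul_comm, mul_smul, hn₁, smul_zero]
    · rw [zero_comp, Category.assoc, Linear.smul_comp, pow_add, mul_smul, hn₂, smul_zero]
  obtain ⟨ψ, hψ⟩ := Triangle.coyoneda_exact₂ _ (inv_rot_of_distTriang _ hT) ((a ^ (n₁ + n₂)) • φ) h0
  let R3 := (DCoh.Rpush (U ⊓ V).ι).obj ((DCoh.restrictD (U ⊓ V).ι).obj L)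
  let d := shiftFunctorCompIsoId (DCoh.D T) (-1 : ℤ) 1 (by omega)
  haveI := hb
  obtain ⟨m, hm⟩ := key (U ⊓ V) hUV' (P⟦(1 : ℤ)⟧) (b - 1)
    (fun i => Coherent.isCoh_iso
      (((DerivedCategory.homologyFunctor T.Modules 0).shiftIso 1 i (i + 1) (by omega)).app P).symm (hP (i + 1)))
    (DerivedCategory.TStructure.t.isLE_shift P b 1 (b - 1) (by omega)) (ψ⟦(1 : ℤ)⟧' ≫ d.hom.app R3)
  have hm' : (a ^ m) • ψ = 0 := by
    refine (shiftFunctor (DCoh.D T) (1 : ℤ)).map_injective ?_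
    rw [Functor.map_zero, ← cancel_mono (d.hom.app R3), zero_comp, Functor.map_smul, Linear.smul_comp, hm]
  refine ⟨m + (n₁ + n₂), ?_⟩
  rw [pow_add, mul_smul, hψ, ← Linear.smul_comp]
  exact (congrArg (· ≫ _) hm').trans zero_comp

/-- Maps from bounded above coherent objects into bounded below objects supported on the zero locus are torsion. -/
theorem exists_pow_smul_eq_zero (a : A) {T : Scheme.{u}} [IsNoetherian T] [T.Over (Spec (CommRingCat.of A))]
    {P L : DCoh.D T} (b c : ℤ) [hb : P.IsLE b] [hc : L.IsGE c] (hP : DCoh.IsCohD P) (hL : DCoh.IsQCohD L)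
    (hk : AdjGeom.killed (dop a T).ι L) (φ : P ⟶ L) : ∃ n : ℕ, (a ^ n) • φ = 0 :=
  OpenInduct.scheme_induction (P := TorsAt a) (torsAt_of_isAffine a) (torsAt_of_isEmpty a) (torsAt_supStep a)
    inferInstance inferInstance P L b c hP hb hL hc hk φ

end Groth.Agent.Dual22Lib.CohTors
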