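import Groth.Agent.CycLib28.LTensorCoh

/-!
# Coherence of the derived tensor product with a pseudo-coherent object
-/

set_option autoImplicit false
set_option backward.isDefEq.respectTransparency false
set_option backward.defeqAttrib.useBackward true
set_option linter.style.haveILetI false
set_option synthInstance.maxHeartbeats 100000
set_option backward.isDefEq.respectTransparency.types false

universe u

open CategoryTheory CategoryTheory.Limits CategoryTheory.Pretriangulated DerivedCategory Opposite TopologicalSpace AlgebraicGeometry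
open Groth.Agent.SiteDer16 Groth.Agent.DCat Groth.Agent.Coherent Groth.Agent.DCat.PerfLocal Groth.Agent.DCat.PullPerf

attribute [local instance] HasDerivedCategory.standard
attribute [-instance] Int.instConditionallyCompleteLinearOrder

namespace Groth.Agent.DQCoh

open ZeroObject

variable {X : Scheme.{u}}

/-- `L ⊗^L N` has coherent cohomology and is bounded above, for pseudo-coherent `L`. -/
theorem isCohD_LTensor_of_psc [IsLocallyNoetherian X] (N : CochainComplex X.Modules ℤ) (hN : IsKFlatFor (shT X) N) (b : ℤ)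
    (hNb : ∀ n, b < n → IsZero (N.X n)) (hNc : DCoh.IsCohD (DerivedCategory.Q.obj N)) [DCoh.HasLTensorCx N]
    (L : DCoh.D X) (hL : ∀ m, DCoh.IsPseudoCoherentD m L) : DCoh.IsCohD ((DCoh.LTensorCx N).obj L) := fun i => by
  obtain ⟨n, hn⟩ : ∃ n : ℤ, n = i - b - 2 := ⟨_, rfl⟩
  have hpsc : DCoh.IsPseudoCoherentD n L := hL n
  choose W k hk E a' b' α hx hE hfree hα using exists_free_approx hpsc
  haveI := hk
  have key : ∀ x, Coh.IsCoh ((Scheme.Modules.restrictFunctor (k x)).obj (DCoh.HD ((DCoh.LTensorCx N).obj L) i)) := by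
    intro x
    haveI : IsLocallyNoetherian (W x) := isLocallyNoetherian_of_isOpenImmersion (k x)
    haveI : DCoh.HasLpull (k x) := hasLpull _
    let N' := ((Scheme.Modules.pullback (k x)).mapHomologicalComplex (ComplexShape.up ℤ)).obj N
    haveI := LTensorSheaf.hasLTensorCx N'
    have hN' : IsKFlatFor (shT (W x)) N' := PullTot.isKFlatFor_pullback (k x) hN
    obtain ⟨eN⟩ := nonempty_Lpull_restrict (k x) (DerivedCategory.Q.obj N)
    have hN'c : DCoh.IsCohD (DerivedCategory.Q.obj N') := fun j =>
      Coherent.isCoh_iso ((homologyFunctor _ j).mapIso ((lpullIso (k x) hN).symm ≪≫ eN) ≪≫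
        SuppOpen.hdMapIso (Scheme.Modules.restrictFunctor (k x)) (DerivedCategory.Q.obj N) j).symm
        (AmpleLib.isCoh_restrict (k x) _ (hNc j))
    obtain ⟨eL⟩ := nonempty_Lpull_restrict (k x) L
    obtain ⟨e⟩ := PullTot.nonempty_Lpull_LTensor (k x) hN L
    obtain ⟨eT⟩ := nonempty_Lpull_restrict (k x) ((DCoh.LTensorCx N).obj L)
    let G := DCoh.LTensorCx N'
    have hmid : coh (W x) (DCoh.HD (G.obj ((rd (k x)).obj L)) i) := by
      obtain ⟨C, g, δ, hT⟩ := distinguished_cocone_triangle (α x)
      have hC : C.IsLE (n - 1) := (apx_iff_isLE n _ hT).1 (hα x)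
      haveI := hC
      haveI := RHomExist.hasRSheafHom N'
      obtain ⟨δ', hδ'⟩ := exists_triangle_LTensorCx N' hN' hT
      have hGC : (G.obj C).IsLE (n + b - 1) := by
        have := isLE_LTensor N' hN' b (fun m hm => (Scheme.Modules.pullback (k x)).map_isZero (hNb m hm)) C (n - 1)
        rwa [show n - 1 + b = n + b - 1 by ring] at this
      haveI : IsIso ((homologyFunctor (W x).Modules i).map (G.map (α x))) :=
        ((apx_iff_isLE (n + b) _ hδ').2 hGC).1 i (by omega)
      exact (coh (W x)).prop_of_iso (asIso ((homologyFunctor _ i).map (G.map (α x))))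
        (cohIn_LTensor_free N' hN' hN'c (E x) (hE x) (hfree x) i)
    exact Coherent.isCoh_iso ((SuppOpen.hdMapIso (Scheme.Modules.restrictFunctor (k x)) ((DCoh.LTensorCx N).obj L) i).symm ≪≫
      (homologyFunctor _ i).mapIso (eT.symm ≪≫ e ≪≫ G.mapIso eL)).symm hmid
  exact ⟨isQCoh_of_openImmersion_cover _ k (fun x => ⟨x, hx x⟩) fun x => (key x).1,
    isFT_of_local _ fun x => ⟨W x, k x, inferInstance, hx x, (key x).2⟩⟩

end Groth.Agent.DQCoh
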