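import Mathlib.CategoryTheory.Triangulated.Functor
import Mathlib.CategoryTheory.Triangulated.Subcategory

/-!
# Gluing right adjoints along two localizations

For a triangulated functor `F` and an object `M` of the target, representability of `Hom(F -, M)` on the
local objects of two localizations, and of their common refinement, implies representability everywhere.
-/

set_option autoImplicit false
set_option backward.isDefEq.respectTransparency false
set_option backward.defeqAttrib.useBackward true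
set_option linter.style.haveILetI false

universe v v' u u'

open CategoryTheory CategoryTheory.Limits CategoryTheory.Pretriangulated

namespace Groth.Agent.Dual22Lib.AdjGlue

variable {D : Type u} [Category.{v} D] [Preadditive D] [HasZeroObject D] [HasShift D ℤ]
  [∀ n : ℤ, (shiftFunctor D n).Additive] [Pretriangulated D]
  (S : ObjectProperty D) [S.IsTriangulated] [S.IsClosedUnderIsomorphisms] (Z : ObjectProperty D)

/-- Objects receiving no maps from the objects in `Z`. -/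
def Loc (K : D) : Prop := ∀ N : D, S N → Z N → ∀ g : N ⟶ K, g = 0

variable {S Z}

theorem Loc.of_iso {K L : D} (h : Loc S Z K) (e : K ≅ L) : Loc S Z L := fun N hN hZ g => by
  rw [← cancel_mono e.inv, zero_comp]
  exact h N hN hZ _

theorem Loc.shift [Z.IsStableUnderShift ℤ] {K : D} (h : Loc S Z K) (n : ℤ) : Loc S Z (K⟦n⟧) :=
  fun N hN hZ g => by
  let e := (shiftFunctorCompIsoId D n (-n) (by omega)).app K
  apply (shiftFunctor D (-n)).map_injective
  rw [Functor.map_zero, ← cancel_mono e.hom, zero_comp]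
  exact h _ (S.le_shift (-n) N hN) (Z.le_shift (-n) N hZ) _

theorem Loc.obj₂ {T : Triangle D} (hT : T ∈ distTriang D) (h₁ : Loc S Z T.obj₁) (h₃ : Loc S Z T.obj₃) :
    Loc S Z T.obj₂ := fun N hN hZ g => by
  obtain ⟨g', rfl⟩ := Triangle.coyoneda_exact₂ T hT g (h₃ N hN hZ _)
  rw [h₁ N hN hZ g', zero_comp]

theorem Loc.obj₁ [Z.IsStableUnderShift ℤ] {T : Triangle D} (hT : T ∈ distTriang D) (h₂ : Loc S Z T.obj₂)
    (h₃ : Loc S Z T.obj₃) : Loc S Z T.obj₁ :=
  Loc.obj₂ (inv_rot_of_distTriang T hT) (h₃.shift (-1)) h₂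

/-- A local object with a localization triangle is its own localization. -/
theorem isZero_of_loc [Z.IsStableUnderShift ℤ] {N K L : D} {a : N ⟶ K} {b : K ⟶ L} {c : L ⟶ N⟦(1 : ℤ)⟧}
    (hT : Triangle.mk a b c ∈ distTriang D) (hN : S N) (hNZ : Z N) (hK : Loc S Z K) (hL : Loc S Z L) :
    IsZero N :=
  (IsZero.iff_id_eq_zero N).2 ((Loc.obj₁ hT hK hL) N hN hNZ (𝟙 N))

section Glue

variable {E : Type u'} [Category.{v'} E] [Preadditive E] [HasZeroObject E] [HasShift E ℤ]
  [∀ n : ℤ, (shiftFunctor E n).Additive] [Pretriangulated E]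
  (F : D ⥤ E) [F.CommShift ℤ] [F.IsTriangulated] (M : E)

/-- Maps into `A` compute maps from `F -` into `M`. -/
def Rep {A : D} (ε : F.obj A ⟶ M) (K : D) : Prop :=
  Function.Bijective fun g : K ⟶ A => F.map g ≫ ε

variable {F M}

theorem Rep.zero {A : D} {ε : F.obj A ⟶ M} {K : D} (h : Rep F M ε K) {g : K ⟶ A}
    (hg : F.map g ≫ ε = 0) : g = 0 :=
  h.1 (by simp [hg])

/-- Five lemma. -/
theorem Rep.obj₂ {A : D} {ε : F.obj A ⟶ M} {T : Triangle D} (hT : T ∈ distTriang D)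
    (h₁ : Rep F M ε T.obj₁) (h₁' : Rep F M ε (T.obj₁⟦(1 : ℤ)⟧)) (h₃ : Rep F M ε T.obj₃)
    (h₃' : Rep F M ε (T.obj₃⟦(-1 : ℤ)⟧)) : Rep F M ε T.obj₂ := by
  have hFT := F.map_distinguished T hT
  refine ⟨fun x y hxy => sub_eq_zero.1 ?_, fun z => ?_⟩
  · have hg : F.map (x - y) ≫ ε = 0 := by simpa [Functor.map_sub, sub_eq_zero] using hxy
    obtain ⟨k, hk⟩ := Triangle.yoneda_exact₂ T hT (x - y) (h₁.zero (by
      rw [F.map_comp, Category.assoc, hg, comp_zero]))
    obtain ⟨z', hz'⟩ := Triangle.yoneda_exact₃ _ hFT (F.map k ≫ ε) (by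
      change F.map T.mor₂ ≫ F.map k ≫ ε = 0
      rw [← F.map_comp_assoc, ← hk, hg])
    obtain ⟨k', hk'⟩ := h₁'.2 ((F.commShiftIso (1 : ℤ)).hom.app _ ≫ z')
    have e : k = T.mor₃ ≫ k' := by
      refine h₃.1 ?_
      simp only [F.map_comp, Category.assoc] at hk' ⊢
      rw [hk', hz']
      simp
    rw [hk, e, comp_distTriang_mor_zero₂₃_assoc _ hT, zero_comp]
  · obtain ⟨g₁, hg₁⟩ := h₁.2 (F.map T.mor₁ ≫ z)
    simp only at hg₁
    obtain ⟨g, hg⟩ := Triangle.yoneda_exact₂ _ (inv_rot_of_distTriang T hT) g₁ (h₃'.zero (by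
      rw [F.map_comp, Category.assoc, hg₁, ← F.map_comp_assoc]
      have := comp_distTriang_mor_zero₁₂ _ (inv_rot_of_distTriang T hT)
      simp only [Triangle.invRotate_mor₁, Triangle.invRotate_mor₂] at this
      exact (congrArg (fun t => F.map t ≫ z) this).trans (by simp)))
    simp only [Triangle.invRotate_mor₂] at hg
    change T.obj₂ ⟶ A at g
    obtain ⟨z₃, hz₃⟩ := Triangle.yoneda_exact₂ _ hFT (z - F.map g ≫ ε) (by
      change F.map T.mor₁ ≫ (z - F.map g ≫ ε) = 0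
      rw [Preadditive.comp_sub, ← hg₁, hg, F.map_comp, Category.assoc, sub_self])
    obtain ⟨g₃, hg₃⟩ := h₃.2 z₃
    refine ⟨g + T.mor₂ ≫ g₃, ?_⟩
    simp only at hg₃ ⊢
    rw [F.map_add, Preadditive.add_comp, F.map_comp, Category.assoc, hg₃]
    exact eq_add_of_sub_eq' hz₃ |>.symm

/-- Representability for all shifts. -/
def RepS {A : D} (ε : F.obj A ⟶ M) (K : D) : Prop := ∀ n : ℤ, Rep F M ε (K⟦n⟧)

theorem Rep.of_iso {A : D} {ε : F.obj A ⟶ M} {K L : D} (h : Rep F M ε K) (e : K ≅ L) :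
    Rep F M ε L := by
  refine ⟨fun x y hxy => (cancel_epi e.hom).1 (h.1 ?_), fun z => ?_⟩
  · simp only [F.map_comp, Category.assoc] at hxy ⊢
    rw [hxy]
  · obtain ⟨g, hg⟩ := h.2 (F.map e.hom ≫ z)
    refine ⟨e.inv ≫ g, ?_⟩
    simp only [F.map_comp, Category.assoc] at hg ⊢
    rw [hg, Iso.map_inv_hom_id_assoc]

theorem RepS.self {A : D} {ε : F.obj A ⟶ M} {K : D} (h : RepS ε K) : Rep F M ε K :=
  (h 0).of_iso ((shiftFunctorZero D ℤ).app K)

theorem RepS.obj₂ {A : D} {ε : F.obj A ⟶ M} {T : Triangle D} (hT : T ∈ distTriang D)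
    (h₁ : RepS ε T.obj₁) (h₃ : RepS ε T.obj₃) : RepS ε T.obj₂ := fun n =>
  Rep.obj₂ (Triangle.shift_distinguished T hT n) (h₁ n)
    ((h₁ (n + 1)).of_iso ((shiftFunctorAdd' D n 1 (n + 1) rfl).app _))
    (h₃ n) ((h₃ (n - 1)).of_iso ((shiftFunctorAdd' D n (-1) (n - 1) (by omega)).app _))

variable (S F M) in
/-- A representing object on the local objects. -/
structure LocRep (Z : ObjectProperty D) where
  /-- The object. -/
  A : D
  mem : S A
  loc : Loc S Z A
  /-- The universal element. -/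
  ε : F.obj A ⟶ M
  rep : ∀ K : D, S K → Loc S Z K → Rep F M ε K

/-- Gluing of representing objects along two localizations. -/
theorem exists_rep {ZU ZV ZW : ObjectProperty D} [ZU.IsStableUnderShift ℤ] [ZV.IsStableUnderShift ℤ]
    [ZW.IsStableUnderShift ℤ]
    (hlocU : ∀ K, S K → ∃ (N L : D) (a : N ⟶ K) (b : K ⟶ L) (c : L ⟶ N⟦(1 : ℤ)⟧),
      Triangle.mk a b c ∈ distTriang D ∧ S N ∧ ZU N ∧ S L ∧ Loc S ZU L)
    (hlocW : ∀ K, S K → ∃ (N L : D) (a : N ⟶ K) (b : K ⟶ L) (c : L ⟶ N⟦(1 : ℤ)⟧),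
      Triangle.mk a b c ∈ distTriang D ∧ S N ∧ ZW N ∧ S L ∧ Loc S ZW L)
    (hUW : ∀ K, S K → ZU K → ZW K) (hVW : ∀ K, S K → ZV K → ZW K)
    (hUV : ∀ K, S K → ZU K → Loc S ZV K) (hVU : ∀ K, S K → ZV K → Loc S ZU K)
    (hWV : ∀ K, S K → Loc S ZU K → ZW K → ZV K)
    (rU : LocRep S F M ZU) (rV : LocRep S F M ZV) (rW : LocRep S F M ZW) :
    ∃ (A : D) (ε : F.obj A ⟶ M), S A ∧ ∀ K, S K → Rep F M ε K := by
  have hlU : ∀ K, Loc S ZW K → Loc S ZU K := fun K h N hN hZ g => h N hN (hUW N hN hZ) g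
  have hlV : ∀ K, Loc S ZW K → Loc S ZV K := fun K h N hN hZ g => h N hN (hVW N hN hZ) g
  obtain ⟨wU, hwU⟩ := (rU.rep _ rW.mem (hlU _ rW.loc)).2 rW.ε
  obtain ⟨wV, hwV⟩ := (rV.rep _ rW.mem (hlV _ rW.loc)).2 rW.ε
  simp only at hwU hwV
  let B := rU.A ⊞ rV.A
  let w : rW.A ⟶ B := biprod.lift wU (-wV)
  let ψ : F.obj B ⟶ M := F.map biprod.fst ≫ rU.ε + F.map biprod.snd ≫ rV.ε
  obtain ⟨A, v, c, hT⟩ := distinguished_cocone_triangle w
  obtain ⟨ε, hε⟩ := Triangle.yoneda_exact₂ _ (F.map_distinguished _ hT) ψ (by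
    change F.map w ≫ ψ = 0
    simp only [ψ, w, Preadditive.comp_add, ← F.map_comp_assoc, biprod.lift_fst, biprod.lift_snd,
      F.map_neg, Preadditive.neg_comp, hwU, hwV, add_neg_cancel])
  change F.obj A ⟶ M at ε
  change ψ = F.map v ≫ ε at hε
  have hB : S B := S.ext_of_isTriangulatedClosed₂ _ (binaryBiproductTriangle_distinguished rU.A rV.A)
    rU.mem rV.mem
  refine ⟨A, ε, S.ext_of_isTriangulatedClosed₃ _ hT rW.mem hB, ?_⟩
  have key : ∀ {K : D} (a : K ⟶ rU.A) (b : K ⟶ rV.A),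
      F.map (biprod.lift a b ≫ v) ≫ ε = F.map a ≫ rU.ε + F.map b ≫ rV.ε := fun a b => by
    rw [F.map_comp, Category.assoc, ← hε]
    simp only [ψ, Preadditive.comp_add, ← F.map_comp_assoc, biprod.lift_fst, biprod.lift_snd]
  -- objects killed by one localization
  have case1 : ∀ (K : D), S K → ZU K → Rep F M ε K := fun K hK hZ => by
    have h0 : ∀ g : K ⟶ rU.A, g = 0 := rU.loc K hK hZ
    have hW0 : ∀ g : K ⟶ rW.A, g = 0 := rW.loc K hK (hUW K hK hZ)
    have hb := rV.rep K hK (hUV K hK hZ)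
    have hc : ∀ g : K ⟶ A, ∃ b : K ⟶ rV.A, g = biprod.lift 0 b ≫ v := fun g => by
      obtain ⟨y, hy⟩ := Triangle.coyoneda_exact₃ _ hT g
        ((rW.loc.shift 1) K hK (hUW K hK hZ) _)
      change K ⟶ B at y
      refine ⟨y ≫ biprod.snd, hy.trans (congrArg (· ≫ v) (biprod.hom_ext _ _ ?_ (by simp)))⟩
      exact (h0 _).trans (by simp)
    refine ⟨fun x y hxy => sub_eq_zero.1 ?_, fun z => ?_⟩
    · obtain ⟨b, hb'⟩ := hc (x - y)
      have hk := key (0 : K ⟶ rU.A) b
      rw [← hb'] at hk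
      rw [hb', hb.zero (g := b) (by simpa [Functor.map_sub, sub_eq_zero.2 hxy] using hk.symm)]
      rw [show biprod.lift (0 : K ⟶ rU.A) (0 : K ⟶ rV.A) = 0 from biprod.hom_ext _ _ (by simp) (by simp),
        zero_comp]
    · obtain ⟨b, hb'⟩ := hb.2 z
      exact ⟨biprod.lift 0 b ≫ v, (key 0 b).trans (by simpa using hb')⟩
  have case1' : ∀ (K : D), S K → ZV K → Rep F M ε K := fun K hK hZ => by
    have h0 : ∀ g : K ⟶ rV.A, g = 0 := rV.loc K hK hZ
    have hb := rU.rep K hK (hVU K hK hZ)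
    have hc : ∀ g : K ⟶ A, ∃ b : K ⟶ rU.A, g = biprod.lift b 0 ≫ v := fun g => by
      obtain ⟨y, hy⟩ := Triangle.coyoneda_exact₃ _ hT g
        ((rW.loc.shift 1) K hK (hVW K hK hZ) _)
      change K ⟶ B at y
      refine ⟨y ≫ biprod.fst, hy.trans (congrArg (· ≫ v) (biprod.hom_ext _ _ (by simp) ?_))⟩
      exact (h0 _).trans (by simp)
    refine ⟨fun x y hxy => sub_eq_zero.1 ?_, fun z => ?_⟩
    · obtain ⟨b, hb'⟩ := hc (x - y)
      have hk := key b (0 : K ⟶ rV.A)
      rw [← hb'] at hk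
      rw [hb', hb.zero (g := b) (by simpa [Functor.map_sub, sub_eq_zero.2 hxy] using hk.symm)]
      rw [show biprod.lift (0 : K ⟶ rU.A) (0 : K ⟶ rV.A) = 0 from biprod.hom_ext _ _ (by simp) (by simp),
        zero_comp]
    · obtain ⟨b, hb'⟩ := hb.2 z
      exact ⟨biprod.lift b 0 ≫ v, (key b 0).trans (by simpa using hb')⟩
  -- local objects for the common refinement
  have case2 : ∀ (K : D), S K → Loc S ZW K → Rep F M ε K := fun K hK hl => by
    have bU := rU.rep K hK (hlU _ hl)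
    have bV := rV.rep K hK (hlV _ hl)
    have lift : ∀ a : K ⟶ rU.A, ∃ e : K ⟶ rW.A, e ≫ wU = a := fun a => by
      obtain ⟨e, he⟩ := (rW.rep K hK hl).2 (F.map a ≫ rU.ε)
      refine ⟨e, bU.1 ?_⟩
      simp only [F.map_comp, Category.assoc, hwU] at he ⊢
      exact he
    have winj : ∀ (L : D), S L → Loc S ZW L → ∀ e : L ⟶ rW.A, e ≫ w = 0 → e = 0 := fun L hL hl' e he => by
      refine (rW.rep L hL hl').zero ?_
      have := congrArg (· ≫ biprod.fst) he
      simp only [w, Category.assoc, biprod.lift_fst, zero_comp] at this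
      rw [← hwU, ← F.map_comp_assoc, this, F.map_zero, zero_comp]
    have surj : ∀ g : K ⟶ A, ∃ y : K ⟶ B, g = y ≫ v := fun g => by
      refine Triangle.coyoneda_exact₃ _ hT g ?_
      change g ≫ c = 0
      let e := (shiftFunctorCompIsoId D (-1) (1 : ℤ) (by omega)).app K
      obtain ⟨h', hh'⟩ := (shiftFunctor D (1 : ℤ)).map_surjective (e.hom ≫ g ≫ c)
      have h0 : h' = 0 := winj _ (S.le_shift (-1) K hK) (hl.shift (-1)) h' (by
        apply (shiftFunctor D (1 : ℤ)).map_injective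
        rw [Functor.map_comp, hh', Functor.map_zero, Category.assoc, Category.assoc]
        have := comp_distTriang_mor_zero₃₁ _ hT
        change c ≫ w⟦(1 : ℤ)⟧' = 0 at this
        rw [this, comp_zero, comp_zero])
      rw [← cancel_epi e.hom, ← hh', h0, Functor.map_zero, comp_zero]
    refine ⟨fun x y hxy => sub_eq_zero.1 ?_, fun z => ?_⟩
    · obtain ⟨q, hq⟩ := surj (x - y)
      obtain ⟨e, he⟩ := lift (q ≫ biprod.fst)
      have hval : F.map (q ≫ biprod.fst) ≫ rU.ε + F.map (q ≫ biprod.snd) ≫ rV.ε = 0 := by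
        rw [← key, show biprod.lift (q ≫ biprod.fst) (q ≫ biprod.snd) = q from
          biprod.hom_ext _ _ (by simp) (by simp), ← hq, F.map_sub, Preadditive.sub_comp,
          sub_eq_zero.2 hxy]
      have h2 : q ≫ biprod.snd = -(e ≫ wV) := by
        refine bV.1 ?_
        simp only [F.map_neg, Preadditive.neg_comp, F.map_comp, Category.assoc, hwV]
        rw [← he, F.map_comp, Category.assoc, hwU, F.map_comp, Category.assoc] at hval
        exact eq_neg_of_add_eq_zero_right hval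
      have hqe : q = e ≫ w := biprod.hom_ext _ _ (by simp [w, he]) (by simp [w, h2])
      have hwv : w ≫ v = 0 := comp_distTriang_mor_zero₁₂ _ hT
      rw [hq, hqe, Category.assoc, hwv, comp_zero]
    · obtain ⟨a, ha⟩ := bU.2 z
      exact ⟨biprod.lift a 0 ≫ v, (key a 0).trans (by simpa using ha)⟩
  have sV : ∀ (K : D), S K → ZV K → RepS ε K := fun K hK hZ n =>
    case1' _ (S.le_shift n K hK) (ZV.le_shift n K hZ)
  intro K hK
  obtain ⟨N, L, a, b, c', hTU, hN, hNZ, hL, hLl⟩ := hlocU K hK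
  obtain ⟨N', L', a', b', c'', hTW, hN', hNZ', hL', hLl'⟩ := hlocW L hL
  have hN'l : Loc S ZU N' := Loc.obj₁ hTW hLl (hlU _ hLl')
  have hL2 : RepS ε L := RepS.obj₂ hTW (sV N' hN' (hWV N' hN' hN'l hNZ'))
    (fun n => case2 _ (S.le_shift n L' hL') (hLl'.shift n))
  exact (RepS.obj₂ hTU (fun n => case1 _ (S.le_shift n N hN) (ZU.le_shift n N hNZ)) hL2).self

end Glue

end Groth.Agent.Dual22Lib.AdjGlue
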