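import Groth.Agent.Dual22Lib.BCAlg
import Groth.Agent.DCat.LTensorModule
import Groth.Prelude.Def_DRing2
import Mathlib.CategoryTheory.Abelian.Projective.Extend
import Mathlib.RingTheory.IsTensorProduct

/-!
# Base change for derived categories of modules along a tor-independent pushout of rings
-/

set_option autoImplicit false
set_option backward.isDefEq.respectTransparency false
set_option backward.defeqAttrib.useBackward true
set_option linter.style.haveILetI false
set_option linter.unusedSimpArgs false
set_option synthInstance.maxHeartbeats 100000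

universe u

open CategoryTheory CategoryTheory.Limits CategoryTheory.Pretriangulated MonoidalCategory DerivedCategory
open Groth.Agent.DCat

attribute [local instance] HasDerivedCategory.standard

namespace Groth.Agent.Dual22Lib.BCModule

/-- Tor vanishing along a ring map against a module. -/
def TorZero {A B : Type u} [CommRing A] [CommRing B] (φ : A →+* B) (N : ModuleCat.{u} A) : Prop :=
  ∀ i : ℕ, 0 < i → Subsingleton (@DRing.Tor A _ i B N _ φ.toModule _ N.isModule)

section Heart

variable {A B : Type u} [CommRing A] [CommRing B] (φ : A →+* B)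

/-- Exactness of a base changed short complex only depends on the underlying tensor product. -/
theorem exact_extendScalars_iff (S : ShortComplex (ModuleCat.{u} A)) :
    letI := φ.toModule
    (S.map (ModuleCat.extendScalars.{u, u, u} φ)).Exact ↔ (S.map (tensorLeft (ModuleCat.of A B))).Exact := by
  letI := φ.toAlgebra
  rw [ShortComplex.ShortExact.moduleCat_exact_iff_function_exact,
    ShortComplex.ShortExact.moduleCat_exact_iff_function_exact]
  exact Iff.rfl

/-- Base change of a module without higher Tor is concentrated in degree `0`. -/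
theorem exists_single_lbaseChange [DRing.HasLBaseChange φ] (N : ModuleCat.{u} A) (h : TorZero φ N) :
    ∃ M₀ : ModuleCat.{u} B, Nonempty ((DRing.LBaseChange φ).obj ((singleFunctor _ 0).obj N) ≅
      (singleFunctor _ 0).obj M₀) := by
  letI := φ.toModule
  obtain ⟨P⟩ : Nonempty (ProjectiveResolution N) := HasProjectiveResolution.out
  let K : CochainComplex (ModuleCat.{u} B) ℤ := ((ModuleCat.extendScalars.{u, u, u} φ).mapHomologicalComplex (ComplexShape.up ℤ)).obj P.cochainComplex
  have hK : IsKFlatFor (modT A) P.cochainComplex :=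
    isKFlatFor_of_vanishesAbove _ 0 (fun n hn => CochainComplex.isZero_of_isStrictlyLE _ 0 n hn) fun n => by
      haveI hp : Projective (P.cochainComplex.X n) := inferInstance
      haveI : Module.Projective A (P.cochainComplex.X n) :=
        (IsProjective.iff_projective (R := A) (P.cochainComplex.X n)).2 hp
      infer_instance
  haveI : IsIso (DerivedCategory.Q.map P.π') := (DerivedCategory.isIso_Q_map_iff_quasiIso _ _).2 inferInstance
  let e : (DRing.LBaseChange φ).obj ((singleFunctor _ 0).obj N) ≅ DerivedCategory.Q.obj K :=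
    (DRing.LBaseChange φ).mapIso (((singleFunctorIsoCompQ (ModuleCat.{u} A) 0).app N) ≪≫
      (asIso (DerivedCategory.Q.map P.π')).symm) ≪≫ DCat.lbaseChangeIso φ hK
  haveI : K.IsStrictlyLE 0 := (CochainComplex.isStrictlyLE_iff _ 0).2 fun i hi =>
    (ModuleCat.extendScalars.{u, u, u} φ).map_isZero (CochainComplex.isZero_of_isStrictlyLE _ 0 i hi)
  haveI : K.IsGE 0 := (CochainComplex.isGE_iff _ 0).2 fun i hi => by
    obtain ⟨k, rfl⟩ : ∃ k : ℕ, i = -((k + 1 : ℕ) : ℤ) := ⟨(-i).toNat - 1, by omega⟩
    rw [HomologicalComplex.exactAt_iff' K (-((k + 2 : ℕ) : ℤ)) _ (-(k : ℤ))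
      (by simp; try omega) (by simp; try omega)]
    let S := P.complex.sc' (k + 2) (k + 1) k
    have hS : (S.map (tensorLeft (ModuleCat.of A B))).Exact := by
      have hz : IsZero (((tensorLeft (ModuleCat.of A B)).mapHomologicalComplex _).obj P.complex |>.homology (k + 1)) :=
        (@ModuleCat.isZero_of_subsingleton _ _ _ (h (k + 1) (Nat.succ_pos k))).of_iso
          (P.isoLeftDerivedObj (tensorLeft (ModuleCat.of A B)) (k + 1)).symm
      exact (HomologicalComplex.exactAt_iff' _ (k + 2) (k + 1) k (by simp) (by simp)).1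
        ((HomologicalComplex.exactAt_iff_isZero_homology _ _).2 hz)
    refine ShortComplex.exact_of_iso ?_ ((exact_extendScalars_iff φ S).2 hS)
    let F := ModuleCat.extendScalars.{u, u, u} φ
    refine ShortComplex.isoMk
      (F.mapIso (P.cochainComplexXIso (-((k + 2 : ℕ) : ℤ)) (k + 2) rfl).symm)
      (F.mapIso (P.cochainComplexXIso (-((k + 1 : ℕ) : ℤ)) (k + 1) rfl).symm)
      (F.mapIso (P.cochainComplexXIso (-(k : ℤ)) k rfl).symm) ?_ ?_
    · show F.map _ ≫ F.map (P.cochainComplex.d _ _) = F.map (P.complex.d _ _) ≫ F.map _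
      rw [← F.map_comp, ← F.map_comp, P.cochainComplex_d _ _ (k + 2) (k + 1) rfl rfl]
      simp
    · show F.map _ ≫ F.map (P.cochainComplex.d _ _) = F.map (P.complex.d _ _) ≫ F.map _
      rw [← F.map_comp, ← F.map_comp, P.cochainComplex_d _ _ (k + 1) k rfl rfl]
      simp
  haveI : (DerivedCategory.Q.obj K).IsLE 0 := inferInstance
  haveI : (DerivedCategory.Q.obj K).IsGE 0 := inferInstance
  haveI := DerivedCategory.TStructure.t.isLE_of_iso e.symm 0
  haveI := DerivedCategory.TStructure.t.isGE_of_iso e.symm 0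
  exact exists_iso_singleFunctor_obj_of_isGE_of_isLE _ 0

/-- Base change of a free module of rank one. -/
theorem nonempty_lbaseChange_ring [DRing.HasLBaseChange φ] :
    Nonempty ((DRing.LBaseChange φ).obj ((singleFunctor _ 0).obj (ModuleCat.of A A)) ≅
      (singleFunctor _ 0).obj (ModuleCat.of B B)) := by
  have hK : IsKFlatFor (modT A) ((HomologicalComplex.single (ModuleCat.{u} A) (ComplexShape.up ℤ) 0).obj
      (ModuleCat.of A A)) :=
    isKFlatFor_of_vanishesAbove _ 0
      (fun n hn => HomologicalComplex.isZero_single_obj_X _ _ _ _ (by omega)) fun n => by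
      by_cases hn : n = 0
      · subst hn
        exact Module.Flat.of_linearEquiv
          (HomologicalComplex.singleObjXSelf (ComplexShape.up ℤ) 0 (ModuleCat.of A A)).toLinearEquiv
      · haveI := ModuleCat.subsingleton_of_isZero
          (HomologicalComplex.isZero_single_obj_X (ComplexShape.up ℤ) 0 (ModuleCat.of A A) n hn)
        infer_instance
  let r : (ModuleCat.extendScalars.{u, u, u} φ).obj (ModuleCat.of A A) ≅ ModuleCat.of B B :=
    letI := φ.toAlgebra
    LinearEquiv.toModuleIso (TensorProduct.AlgebraTensorModule.rid A B B)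
  exact ⟨(DRing.LBaseChange φ).mapIso ((singleFunctorIsoCompQ (ModuleCat.{u} A) 0).app _) ≪≫
    DCat.lbaseChangeIso φ hK ≪≫
    DerivedCategory.Q.mapIso ((HomologicalComplex.singleMapHomologicalComplex _ (ComplexShape.up ℤ) 0).app _) ≪≫
    ((singleFunctorIsoCompQ (ModuleCat.{u} B) 0).app _).symm ≪≫ (singleFunctor _ 0).mapIso r⟩

end Heart

section Main

variable {A B C D : Type u} [CommRing A] [CommRing B] [CommRing C] [CommRing D]
  (φ : A →+* B) (ψ : A →+* C) (φ' : C →+* D) (ψ' : B →+* D)

/-- Restriction of scalars and objects in degree zero. -/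
noncomputable def res₀ (N : ModuleCat.{u} B) :
    (DRing.restrictD φ).obj ((singleFunctor _ 0).obj N) ≅
      (singleFunctor _ 0).obj ((ModuleCat.restrictScalars.{u} φ).obj N) :=
  ((ModuleCat.restrictScalars.{u} φ).mapDerivedCategorySingleFunctor 0).app N

theorem res₀_natural {N N' : ModuleCat.{u} B} (t : N ⟶ N') :
    (DRing.restrictD φ).map ((singleFunctor _ 0).map t) ≫ (res₀ φ N').hom =
      (res₀ φ N).hom ≫ (singleFunctor _ 0).map ((ModuleCat.restrictScalars.{u} φ).map t) :=
  ((ModuleCat.restrictScalars.{u} φ).mapDerivedCategorySingleFunctor 0).hom.naturality t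

/-- The base change map at `C` is invertible. -/
theorem isIso_bc_single (hsq : ψ'.comp φ = φ'.comp ψ)
    (hpush : letI := φ.toAlgebra; letI := ψ.toAlgebra; letI := φ'.toAlgebra; letI := ψ'.toAlgebra;
      letI := (ψ'.comp φ).toAlgebra
      haveI : IsScalarTower A B D := IsScalarTower.of_algebraMap_eq' rfl
      haveI : IsScalarTower A C D := IsScalarTower.of_algebraMap_eq' hsq
      Algebra.IsPushout A B C D)
    [DRing.HasLBaseChange φ] [DRing.HasLBaseChange φ']
    (htor : TorZero φ ((ModuleCat.restrictScalars.{u} ψ).obj (ModuleCat.of C C)))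
    (adj : DRing.LBaseChange φ ⊣ DRing.restrictD φ) (adj' : DRing.LBaseChange φ' ⊣ DRing.restrictD φ')
    (e : DRing.restrictD φ' ⋙ DRing.restrictD ψ ≅ DRing.restrictD ψ' ⋙ DRing.restrictD φ) :
    IsIso ((BCAlg.bc adj adj' e).app ((singleFunctor _ 0).obj (ModuleCat.of C C))) := by
  letI := φ.toAlgebra
  letI := ψ.toAlgebra
  letI := φ'.toAlgebra
  letI := ψ'.toAlgebra
  letI := (ψ'.comp φ).toAlgebra
  haveI : IsScalarTower A B D := IsScalarTower.of_algebraMap_eq' rfl
  haveI : IsScalarTower A C D := IsScalarTower.of_algebraMap_eq' hsq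
  let SC := (singleFunctor (ModuleCat.{u} C) 0).obj (ModuleCat.of C C)
  obtain ⟨j'⟩ := nonempty_lbaseChange_ring φ'
  -- the source is concentrated in degree zero
  obtain ⟨M₀, ⟨i⟩⟩ : ∃ M₀ : ModuleCat.{u} B,
      Nonempty ((DRing.LBaseChange φ).obj ((DRing.restrictD ψ).obj SC) ≅ (singleFunctor _ 0).obj M₀) := by
    obtain ⟨M₀, ⟨i⟩⟩ := exists_single_lbaseChange φ _ htor
    exact ⟨M₀, ⟨(DRing.LBaseChange φ).mapIso (res₀ ψ _) ≪≫ i⟩⟩
  let N₀ : ModuleCat.{u} B := (ModuleCat.restrictScalars.{u} ψ').obj (ModuleCat.of D D)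
  let nI : (DRing.restrictD ψ').obj ((DRing.LBaseChange φ').obj SC) ≅ (singleFunctor _ 0).obj N₀ :=
    (DRing.restrictD ψ').mapIso j' ≪≫ res₀ ψ' _
  -- the adjunct of the base change map, in degree zero
  obtain ⟨u₁, hu₁⟩ : ∃ u₁ : ModuleCat.of C C ⟶ (ModuleCat.restrictScalars.{u} φ').obj (ModuleCat.of D D),
      (singleFunctor _ 0).map u₁ = adj'.unit.app SC ≫ (DRing.restrictD φ').map j'.hom ≫ (res₀ φ' _).hom :=
    (singleFunctor _ 0).map_surjective _
  let RR₁ := (ModuleCat.restrictScalars.{u} ψ).obj ((ModuleCat.restrictScalars.{u} φ').obj (ModuleCat.of D D))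
  let RR₂ := (ModuleCat.restrictScalars.{u} φ).obj N₀
  let eI : (singleFunctor _ 0).obj RR₁ ≅ (singleFunctor _ 0).obj RR₂ :=
    (res₀ ψ _).symm ≪≫ (DRing.restrictD ψ).mapIso (res₀ φ' _).symm ≪≫ e.app _ ≪≫
      (DRing.restrictD φ).mapIso (res₀ ψ' _) ≪≫ res₀ φ _
  let v : RR₁ ≅ RR₂ := (singleFunctor _ 0).preimageIso eI
  have hvd : ∀ (d x : D), (show D from v.hom (show RR₁ from d * x)) = d * (show D from v.hom (show RR₁ from x)) := by
    intro d x
    let t : ModuleCat.of D D ⟶ ModuleCat.of D D := ModuleCat.ofHom (d • LinearMap.id)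
    have h1 := e.hom.naturality ((singleFunctor (ModuleCat.{u} D) 0).map t)
    simp only [Functor.comp_map, Functor.comp_obj] at h1
    have h2 : (ModuleCat.restrictScalars.{u} ψ).map ((ModuleCat.restrictScalars.{u} φ').map t) ≫ v.hom =
        v.hom ≫ (ModuleCat.restrictScalars.{u} φ).map ((ModuleCat.restrictScalars.{u} ψ').map t) := by
      refine (singleFunctor _ 0).map_injective ?_
      rw [Functor.map_comp, Functor.map_comp]
      simp only [v, Functor.preimageIso_hom, Functor.map_preimage, eI, Iso.trans_hom, Iso.symm_hom,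
        Functor.mapIso_hom, Iso.app_hom, Functor.mapIso_inv, Category.assoc]
      have a₁ : (singleFunctor _ 0).map ((ModuleCat.restrictScalars.{u} ψ).map
          ((ModuleCat.restrictScalars.{u} φ').map t)) ≫ (res₀ ψ _).inv =
          (res₀ ψ _).inv ≫ (DRing.restrictD ψ).map ((singleFunctor _ 0).map
            ((ModuleCat.restrictScalars.{u} φ').map t)) := by
        rw [Iso.comp_inv_eq, Category.assoc, res₀_natural, Iso.inv_hom_id_assoc]
      have a₂ : (DRing.restrictD ψ).map ((singleFunctor _ 0).map ((ModuleCat.restrictScalars.{u} φ').map t)) ≫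
          (DRing.restrictD ψ).map (res₀ φ' _).inv =
          (DRing.restrictD ψ).map (res₀ φ' _).inv ≫
            (DRing.restrictD ψ).map ((DRing.restrictD φ').map ((singleFunctor _ 0).map t)) := by
        rw [← Functor.map_comp, ← Functor.map_comp]
        congr 1
        rw [Iso.comp_inv_eq, Category.assoc, res₀_natural, Iso.inv_hom_id_assoc]
      rw [reassoc_of% a₁, reassoc_of% a₂, reassoc_of% h1, ← Functor.map_comp_assoc (DRing.restrictD φ),
        res₀_natural, Functor.map_comp_assoc, res₀_natural]
    exact congrArg (fun m => m.hom (show RR₁ from x)) h2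
  let k : (ModuleCat.restrictScalars.{u} ψ).obj (ModuleCat.of C C) ⟶ RR₂ :=
    (ModuleCat.restrictScalars.{u} ψ).map u₁ ≫ v.hom
  have hk : (DRing.restrictD ψ).map (adj'.unit.app SC) ≫ e.hom.app _ ≫ (DRing.restrictD φ).map nI.hom =
      (res₀ ψ _).hom ≫ (singleFunctor _ 0).map k ≫ (res₀ φ _).inv := by
    rw [Functor.map_comp]
    simp only [v, Functor.preimageIso_hom, Functor.map_preimage, eI, Iso.trans_hom, Iso.symm_hom,
      Functor.mapIso_hom, Iso.app_hom, Functor.mapIso_inv, Category.assoc, Iso.hom_inv_id, Category.comp_id]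
    rw [← reassoc_of% (res₀_natural ψ u₁), hu₁, Iso.hom_inv_id_assoc, Functor.map_comp, Functor.map_comp,
      Category.assoc, Category.assoc, ← Functor.map_comp_assoc (DRing.restrictD ψ) (res₀ φ' _).hom, Iso.hom_inv_id,
      CategoryTheory.Functor.map_id, Category.id_comp]
    have h1 := e.hom.naturality j'.hom
    simp only [Functor.comp_map, Functor.comp_obj] at h1
    rw [reassoc_of% h1]
    simp only [nI, N₀, Iso.trans_hom, Functor.mapIso_hom, Functor.map_comp, Category.assoc, Iso.hom_inv_id,
      Category.comp_id]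
    rfl
  -- universality: units
  let one : ModuleCat.of C C := (1 : C)
  let u : D := u₁ one
  let w : D := u * (show D from v.hom (show RR₁ from (1 : D)))
  have hu : IsUnit u := by
    let t₀ : ModuleCat.of C C ⟶ (ModuleCat.restrictScalars.{u} φ').obj (ModuleCat.of D D) := ModuleCat.ofHom (LinearMap.toSpanSingleton C ((ModuleCat.restrictScalars.{u} φ').obj (ModuleCat.of D D))
      (1 : D))
    obtain ⟨t, ht⟩ := (singleFunctor (ModuleCat.{u} D) 0).map_surjective
      (j'.inv ≫ (adj'.homEquiv _ _).symm ((singleFunctor _ 0).map t₀ ≫ (res₀ φ' _).inv))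
    have h1 : u₁ ≫ (ModuleCat.restrictScalars.{u} φ').map t = t₀ := by
      refine (singleFunctor _ 0).map_injective ?_
      rw [Functor.map_comp, hu₁, Category.assoc, Category.assoc, ← res₀_natural, ← Functor.map_comp_assoc,
        ← Category.assoc (adj'.unit.app SC), ht, Iso.hom_inv_id_assoc]
      erw [← adj'.homEquiv_unit, Equiv.apply_symm_apply]
      rw [Category.assoc, Iso.inv_hom_id, Category.comp_id]
    refine IsUnit.of_mul_eq_one (show D from t (show ModuleCat.of D D from (1 : D))) ?_
    have h2 : t.hom u = u * t.hom (1 : D) := by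
      conv_lhs => rw [← mul_one u]
      exact t.hom.map_smul u 1
    refine h2.symm.trans ?_
    refine (congrArg (fun m => m.hom one) h1).trans ?_
    exact one_smul C (show ((ModuleCat.restrictScalars.{u} φ').obj (ModuleCat.of D D)) from (1 : D))
  have hw : IsUnit w := by
    refine hu.mul ?_
    refine IsUnit.of_mul_eq_one (show D from v.inv (show RR₂ from (1 : D))) ?_
    rw [mul_comm, ← hvd, mul_one]
    exact congrArg (fun m => m.hom (show RR₂ from (1 : D))) v.inv_hom_id
  have hk' : ∀ c : C, (show D from k (show (ModuleCat.restrictScalars.{u} ψ).obj (ModuleCat.of C C) from c)) =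
      φ' c * w := by
    intro c
    show (show D from v.hom (show RR₁ from u₁ (show ModuleCat.of C C from c))) = _
    have h1 : (show D from u₁ (show ModuleCat.of C C from c)) = φ' c * u := by
      refine (congrArg (fun z : C => (show D from u₁ (show ModuleCat.of C C from z))) (mul_one c).symm).trans ?_
      exact u₁.hom.map_smul c one
    rw [h1, ← mul_one (φ' c * u), hvd]
    exact mul_assoc _ _ _
  -- Yoneda
  suffices h : IsIso (i.inv ≫ (BCAlg.bc adj adj' e).app SC ≫ nI.hom) by
    rwa [isIso_comp_left_iff, isIso_comp_right_iff] at h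
  obtain ⟨b₀, hb₀⟩ := (singleFunctor (ModuleCat.{u} B) 0).map_surjective
    (i.inv ≫ (BCAlg.bc adj adj' e).app SC ≫ nI.hom)
  rw [← hb₀]
  suffices h : IsIso b₀ by infer_instance
  have key : ∀ {Z : ModuleCat.{u} B} (s : N₀ ⟶ Z),
      adj.homEquiv _ _ ((i.hom ≫ (singleFunctor _ 0).map (b₀ ≫ s))) =
        (res₀ ψ _).hom ≫ (singleFunctor _ 0).map (k ≫ (ModuleCat.restrictScalars.{u} φ).map s) ≫ (res₀ φ _).inv := by
    intro Z s
    rw [Functor.map_comp, hb₀]
    simp only [Category.assoc, Iso.hom_inv_id_assoc]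
    refine (adj.homEquiv_naturality_right _ _).trans ?_
    refine (congrArg (· ≫ _) (BCAlg.unit_bc adj adj' e SC)).trans ?_
    rw [Functor.map_comp, Category.assoc, reassoc_of% hk, Functor.map_comp, Category.assoc]
    have hs : (res₀ φ N₀).inv ≫ (DRing.restrictD φ).map ((singleFunctor _ 0).map s) =
        (singleFunctor _ 0).map ((ModuleCat.restrictScalars.{u} φ).map s) ≫ (res₀ φ Z).inv := by
      rw [Iso.inv_comp_eq, ← Category.assoc, ← res₀_natural, Category.assoc, Iso.hom_inv_id, Category.comp_id]
    rw [hs]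
    simp only [k, Functor.map_comp, Category.assoc]
  have hb : IsBaseChange B (IsScalarTower.toAlgHom A C D).toLinearMap := hpush.out
  obtain ⟨wu, hwu⟩ := hw
  refine (isIso_iff_coyoneda_map_bijective b₀).2 fun Z => ?_
  refine ⟨fun s s' hs => ?_, fun g => ?_⟩
  · have h1 := congrArg (fun t => adj.homEquiv _ _ (i.hom ≫ (singleFunctor _ 0).map t)) hs
    simp only [key, cancel_epi, cancel_mono] at h1
    have h2 := (singleFunctor _ 0).map_injective h1
    letI : Module A Z := Module.compHom Z φ
    haveI : IsScalarTower A B Z := ⟨fun a b z => mul_smul (φ a) b z⟩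
    refine ModuleCat.hom_ext (LinearMap.ext fun x => ?_)
    have h3 := hb.algHom_ext (s.hom.comp (LinearMap.mulRight B (↑wu : D))) (s'.hom.comp (LinearMap.mulRight B (↑wu : D)))
      fun c => by
        have h4 := congrArg (fun m => m.hom (show (ModuleCat.restrictScalars.{u} ψ).obj (ModuleCat.of C C) from c)) h2
        show s.hom (show D from φ' c * ↑wu) = s'.hom (show D from φ' c * ↑wu)
        rw [hwu, ← hk' c]
        exact h4
    have h5 := LinearMap.congr_fun h3 (show D from (show D from x) * ↑wu⁻¹)
    have hx : (show D from x) * (↑wu⁻¹ : D) * ↑wu = x := Units.inv_mul_cancel_right _ wu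
    exact (congrArg s.hom hx).symm.trans (Eq.trans h5 (congrArg s'.hom hx))
  · obtain ⟨g', hg'⟩ := (singleFunctor _ 0).map_surjective
      ((res₀ ψ _).inv ≫ adj.homEquiv _ _ (i.hom ≫ (singleFunctor _ 0).map g) ≫ (res₀ φ _).hom)
    letI : Module A Z := Module.compHom Z φ
    haveI : IsScalarTower A B Z := ⟨fun a b z => mul_smul (φ a) b z⟩
    let g'' : C →ₗ[A] Z :=
      { toFun := fun c => g'.hom (show (ModuleCat.restrictScalars.{u} ψ).obj (ModuleCat.of C C) from c)
        map_add' := fun c c' => g'.hom.map_add _ _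
        map_smul' := fun a c => g'.hom.map_smul a _ }
    let T : N₀ ⟶ Z := ModuleCat.ofHom ((hb.lift g'').comp (LinearMap.mulRight B (↑wu⁻¹ : D)))
    refine ⟨T, ?_⟩
    refine (singleFunctor _ 0).map_injective ((cancel_epi i.hom).1 ((adj.homEquiv _ _).injective ?_))
    rw [key]
    rw [show k ≫ (ModuleCat.restrictScalars.{u} φ).map T = g' from ModuleCat.hom_ext (LinearMap.ext fun c => by
      show hb.lift g'' ((show D from k.hom c) * ↑wu⁻¹) = g'.hom c
      rw [hk' c, ← hwu, Units.mul_inv_cancel_right]
      exact hb.lift_eq g'' c)]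
    simp [hg']
    rfl

end Main

end Groth.Agent.Dual22Lib.BCModule
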