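import Groth.Agent.Dual22Lib.BCSquare
import Groth.Agent.Dual22Lib.BCModule
import Groth.Agent.DQCoh.TildePush
import Groth.Agent.DQCoh.Local
import Mathlib.AlgebraicGeometry.Pullbacks
import Mathlib.Algebra.Category.Ring.Constructions

/-!
# Base change over affine schemes
-/

set_option autoImplicit false
set_option backward.isDefEq.respectTransparency false
set_option backward.defeqAttrib.useBackward true
set_option linter.style.haveILetI false
set_option synthInstance.maxHeartbeats 100000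

universe u

open CategoryTheory CategoryTheory.Limits CategoryTheory.Pretriangulated AlgebraicGeometry
open Groth.Agent.DCat Groth.Agent.DCat.PerfLocal Groth.Agent.Dual22Lib.WeakExact Groth.Agent.DQCoh
open Groth.Agent.Coherent Groth.Agent.SiteDer16 Groth.Agent.Dual22Lib.BCSquare

attribute [local instance] HasDerivedCategory.standard

namespace Groth.Agent.Dual22Lib.BCAffine

attribute [local instance] AffSchLib.preservesFiniteLimits_tilde

variable {A B C D : CommRingCat.{u}} (φ : A ⟶ B) (ψ : A ⟶ C) (φ' : C ⟶ D) (ψ' : B ⟶ D)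

/-- Base change at the structure sheaf. -/
theorem isIso_bc_gen (hpo : IsPushout φ ψ ψ' φ')
    (htor : BCModule.TorZero φ.hom ((ModuleCat.restrictScalars.{u} ψ.hom).obj (ModuleCat.of C C)))
    [DCoh.HasRpush (Spec.map ψ)] [DCoh.HasRpush (Spec.map φ)] [DCoh.HasLpull (Spec.map φ)]
    [DCoh.HasRpush (Spec.map ψ')] [DCoh.HasRpush (Spec.map φ')] [DCoh.HasLpull (Spec.map φ')]
    (adj : DCoh.Lpull (Spec.map φ) ⊣ DCoh.Rpush (Spec.map φ))
    (adj' : DCoh.Lpull (Spec.map φ') ⊣ DCoh.Rpush (Spec.map φ'))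
    (e : DCoh.Rpush (Spec.map φ') ⋙ DCoh.Rpush (Spec.map ψ) ≅ DCoh.Rpush (Spec.map ψ') ⋙ DCoh.Rpush (Spec.map φ)) :
    IsIso ((BCAlg.bc adj adj' e).app ((DCoh.tildeD C).obj (gen C))) := by
  haveI : DRing.HasLBaseChange φ.hom := DCat.hasLBaseChange φ.hom
  haveI : DRing.HasLBaseChange φ'.hom := DCat.hasLBaseChange φ'.hom
  have ff : ∀ R : CommRingCat.{u}, Nonempty (DCoh.tildeD R).FullyFaithful := fun R => by
    obtain ⟨h₁, h₂, -⟩ := tildeD_main R
    exact ⟨Functor.FullyFaithful.ofFullyFaithful _⟩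
  obtain ⟨fA⟩ := ff A
  obtain ⟨fB⟩ := ff B
  obtain ⟨fC⟩ := ff C
  obtain ⟨fD⟩ := ff D
  obtain ⟨cF⟩ := nonempty_tildeD_Rpush ψ
  obtain ⟨cF'⟩ := nonempty_tildeD_Rpush ψ'
  obtain ⟨cR⟩ := nonempty_tildeD_Rpush φ
  obtain ⟨cR'⟩ := nonempty_tildeD_Rpush φ'
  obtain ⟨cL⟩ := nonempty_LBaseChange_tildeD φ
  obtain ⟨cL'⟩ := nonempty_LBaseChange_tildeD φ'
  rw [BCAlg.isIso_bc_conj_iff fC fD fA fB adj adj' cF cF' cL.symm cR cL'.symm cR' e]
  have hsq : ψ'.hom.comp φ.hom = φ'.hom.comp ψ.hom := congrArg CommRingCat.Hom.hom hpo.w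
  refine BCModule.isIso_bc_single φ.hom ψ.hom φ'.hom ψ'.hom hsq ?_ htor _ _ _
  letI := φ.hom.toAlgebra
  letI := ψ.hom.toAlgebra
  letI := φ'.hom.toAlgebra
  letI := ψ'.hom.toAlgebra
  letI := (ψ'.hom.comp φ.hom).toAlgebra
  haveI : IsScalarTower A B D := IsScalarTower.of_algebraMap_eq' rfl
  haveI : IsScalarTower A C D := IsScalarTower.of_algebraMap_eq' hsq
  exact CommRingCat.isPushout_iff_isPushout.1 hpo

/-- Base change for affine schemes. -/
theorem good_spec (hpo : IsPushout φ ψ ψ' φ')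
    (htor : BCModule.TorZero φ.hom ((ModuleCat.restrictScalars.{u} ψ.hom).obj (ModuleCat.of C C))) :
    Good (Spec.map ψ) (Spec.map φ) (Spec.map ψ') (Spec.map φ') := by
  intro _ _ _ _ _ _ adj adj' e E hE
  let F₀ := DCoh.Rpush (Spec.map ψ) ⋙ DCoh.Lpull (Spec.map φ)
  let G₀ := DCoh.Lpull (Spec.map φ') ⋙ DCoh.Rpush (Spec.map ψ')
  have hF : TriExact F₀ := (TenLocal.triExact_Rpush _).comp (TenLocal.triExact_Lpull _)
  have hG : TriExact G₀ := (TenLocal.triExact_Lpull _).comp (TenLocal.triExact_Rpush _)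
  let τ : F₀ ⟶ G₀ := BCAlg.bc adj adj' e
  refine IsoShifts.app (τ := τ) ((qcohD_induction C (fun L => DCoh.IsQCohD L ∧ IsoShifts τ L)
    (fun a h => ⟨isQCohD_of_iso a h.1, h.2.of_iso a⟩)
    (fun T hT h₁ h₂ => ⟨isQCohD_obj₃ hT h₁.1 h₂.1, IsoShifts.cone hF hG hT h₁.2 h₂.2⟩)
    (fun κ Z c hc h => ⟨?_, fun n => ?_⟩) (fun n => ?_) E hE).2)
  · haveI : HasCoproduct Z := ⟨⟨⟨c, hc⟩⟩⟩
    exact isQCohD_of_iso ((coproductIsCoproduct _).coconePointUniqueUpToIso hc) (isQCohD_sigma _ fun k => (h k).1)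
  · let sh := shiftFunctor (DCoh.D (Spec (CommRingCat.of C))) n
    let c' : Cofan fun k => (Z k)⟦n⟧ := Cofan.mk (c.pt⟦n⟧) fun k => (c.inj k)⟦n⟧'
    have hc' : IsColimit c' := (Cofan.isColimitMapCoconeEquiv _ _ _).1 (isColimitOfPreserves sh hc)
    haveI := TenLocal.preservesCoproducts_Lpull (Spec.map φ) κ
    haveI := TenLocal.preservesCoproducts_Lpull (Spec.map φ') κ
    haveI := TenLocal.preservesColimit_Rpush (Spec.map ψ) (fun k => (Z k)⟦n⟧) fun k => isQCohD_shift (h k).1 n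
    haveI := TenLocal.preservesColimit_Rpush (Spec.map ψ')
      ((DCoh.Lpull (Spec.map φ')).obj ∘ fun k => (Z k)⟦n⟧) fun k => isQCohD_Lpull _ _ (isQCohD_shift (h k).1 n)
    haveI : PreservesColimit (Discrete.functor (fun k => (Z k)⟦n⟧) ⋙ DCoh.Lpull (Spec.map φ'))
        (DCoh.Rpush (Spec.map ψ')) :=
      preservesColimit_of_iso_diagram _ (Discrete.compNatIsoDiscrete (fun k => (Z k)⟦n⟧) _).symm
    exact WeakExact.isIso_app_of_isColimit τ c' (isColimitOfPreserves F₀ hc') (isColimitOfPreserves G₀ hc')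
      fun k => (h k).2 n
  · refine ⟨isQCohD_shift (isQCohD_of_iso (genIso C) (isQCohD_tildeD C _)) n, ?_⟩
    refine (IsoShifts.shift ?_ n).of_iso (Iso.refl _)
    intro m
    refine (NatTrans.isIso_app_iff_of_iso τ ((shiftFunctor _ m).mapIso (genIso C))).1 ?_
    obtain ⟨_, _⟩ := exists_commShift_Rpush (Spec.map ψ)
    obtain ⟨_, _⟩ := exists_commShift_Rpush (Spec.map ψ')
    obtain ⟨_, _⟩ := exists_commShift_Rpush (Spec.map φ)
    obtain ⟨_, _⟩ := exists_commShift_Rpush (Spec.map φ')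
    obtain ⟨_, _⟩ := PullPerf.exists_commShift_Lpull (Spec.map φ)
    obtain ⟨_, _⟩ := PullPerf.exists_commShift_Lpull (Spec.map φ')
    have fs : ∀ S : Scheme.{u}, (shiftFunctor (DCoh.D S) m).FullyFaithful := fun S =>
      (shiftEquiv (DCoh.D S) m).fullyFaithfulFunctor
    exact (BCAlg.isIso_bc_conj_iff (fs _) (fs _) (fs _) (fs _) adj adj'
      ((DCoh.Rpush (Spec.map ψ)).commShiftIso m) ((DCoh.Rpush (Spec.map ψ')).commShiftIso m)
      ((DCoh.Lpull (Spec.map φ)).commShiftIso m) ((DCoh.Rpush (Spec.map φ)).commShiftIso m)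
      ((DCoh.Lpull (Spec.map φ')).commShiftIso m) ((DCoh.Rpush (Spec.map φ')).commShiftIso m) e _).2
      (isIso_bc_gen φ ψ φ' ψ' hpo htor _ _ _)

/-- A map of schemes invertible after restriction along the identity is invertible. -/
theorem isIso_of_Lpull_id {X : Scheme.{u}} [DCoh.HasLpull (𝟙 X)] {K L : DCoh.D X} (a : K ⟶ L)
    [IsIso ((DCoh.Lpull (𝟙 X)).map a)] : IsIso a := by
  obtain ⟨β⟩ := nonempty_Lpull_rd (𝟙 X)
  haveI : IsIso ((rd (𝟙 X)).map a) := (NatIso.isIso_map_iff β a).1 ‹_›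
  exact ProjPerf.isIso_of_locally _ fun x => ⟨⊤, trivial,
    TenLocal.isIso_rd_of_isIso_rd (𝟙 X) (⊤ : X.Opens).ι (⊤ : X.Opens).ι (Category.comp_id _) a⟩

/-- Base change for a pullback square of affine schemes. -/
theorem good_affine {X' : Scheme.{u}} {f' : X' ⟶ Spec B} {g' : X' ⟶ Spec C}
    (hsq : IsPullback g' f' (Spec.map ψ) (Spec.map φ))
    (htor : BCModule.TorZero φ.hom ((ModuleCat.restrictScalars.{u} ψ.hom).obj (ModuleCat.of C C))) :
    Good (Spec.map ψ) (Spec.map φ) f' g' := by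
  have hpo : IsPushout φ ψ (pushout.inl φ ψ) (pushout.inr φ ψ) := IsPushout.of_hasPushout φ ψ
  have hpb : IsPullback (Spec.map (pushout.inr φ ψ)) (Spec.map (pushout.inl φ ψ)) (Spec.map ψ) (Spec.map φ) :=
    (isPullback_SpecMap_of_isPushout _ _ _ _ hpo).flip
  let i := hpb.isoIsPullback _ _ hsq
  intro _ _ _ _ _ _ adj adj' e E hE
  haveI := hasLpull (𝟙 (Spec B))
  have hid : IsPullback i.hom (Spec.map (pushout.inl φ ψ)) f' (𝟙 (Spec B)) :=
    IsPullback.of_horiz_isIso ⟨by simp [i]⟩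
  haveI := isIso_map_bc_of_comp (Category.id_comp _) (hpb.isoIsPullback_hom_fst _ _ hsq) hid.w
    (good_spec φ ψ (pushout.inr φ ψ) (pushout.inl φ ψ) hpo htor) (good_of_open hid) adj adj' e E hE
  exact isIso_of_Lpull_id _

end Groth.Agent.Dual22Lib.BCAffine
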