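import Mathlib.CategoryTheory.Adjunction.Restrict
import Mathlib.CategoryTheory.Adjunction.Unique
import Mathlib.CategoryTheory.Functor.FullyFaithful
import Mathlib.CategoryTheory.Whiskering

/-!
# Base change maps of squares of functors

For a square `R' ⋙ F ≅ F' ⋙ R` and adjunctions `L ⊣ R`, `L' ⊣ R'`, the base change map
`F ⋙ L ⟶ L' ⋙ F'`, its pasting, and its invariance under isomorphisms of the functors.
-/

set_option autoImplicit false
set_option linter.style.haveILetI false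

universe v₁ v₂ v₃ v₄ v₅ v₆ u₁ u₂ u₃ u₄ u₅ u₆

open CategoryTheory

namespace Groth.Agent.Dual22Lib.BCAlg

variable {A : Type u₁} [Category.{v₁} A] {B : Type u₂} [Category.{v₂} B]
  {A' : Type u₃} [Category.{v₃} A'] {B' : Type u₄} [Category.{v₄} B']
  {F : A ⥤ B} {F' : A' ⥤ B'} {L : B ⥤ B'} {R : B' ⥤ B} {L' : A ⥤ A'} {R' : A' ⥤ A}

/-- The base change map. -/
noncomputable def bc (adj : L ⊣ R) (adj' : L' ⊣ R') (e : R' ⋙ F ≅ F' ⋙ R) : F ⋙ L ⟶ L' ⋙ F' where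
  app E := (adj.homEquiv _ _).symm (F.map (adj'.unit.app E) ≫ e.hom.app (L'.obj E))
  naturality {E₁ E₂} a := by
    show L.map (F.map a) ≫ (adj.homEquiv _ _).symm _ = (adj.homEquiv _ _).symm _ ≫ F'.map (L'.map a)
    rw [← adj.homEquiv_naturality_left_symm, ← adj.homEquiv_naturality_right_symm]
    congr 1
    have h := e.hom.naturality (L'.map a)
    have h' := adj'.unit.naturality a
    dsimp at h h'
    rw [Category.assoc, ← h, ← F.map_comp_assoc, h', F.map_comp_assoc]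

theorem bc_app (adj : L ⊣ R) (adj' : L' ⊣ R') (e : R' ⋙ F ≅ F' ⋙ R) (E : A) :
    (bc adj adj' e).app E = (adj.homEquiv _ _).symm (F.map (adj'.unit.app E) ≫ e.hom.app (L'.obj E)) := rfl

theorem bc_app' (adj : L ⊣ R) (adj' : L' ⊣ R') (e : R' ⋙ F ≅ F' ⋙ R) (E : A) :
    (bc adj adj' e).app E =
      L.map (F.map (adj'.unit.app E) ≫ e.hom.app (L'.obj E)) ≫ adj.counit.app (F'.obj (L'.obj E)) :=
  adj.homEquiv_counit _ _ _

theorem unit_bc (adj : L ⊣ R) (adj' : L' ⊣ R') (e : R' ⋙ F ≅ F' ⋙ R) (E : A) :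
    adj.homEquiv (F.obj E) (F'.obj (L'.obj E)) ((bc adj adj' e).app E) =
      F.map (adj'.unit.app E) ≫ e.hom.app (L'.obj E) := (adj.homEquiv _ _).apply_symm_apply _

section Left

variable {M : B ⥤ B'} {M' : A ⥤ A'}

/-- Change of the left adjoints. -/
theorem bc_ofNatIsoLeft (adj : L ⊣ R) (adj' : L' ⊣ R') (α : L ≅ M) (α' : L' ≅ M') (e : R' ⋙ F ≅ F' ⋙ R) (E : A) :
    (bc (adj.ofNatIsoLeft α) (adj'.ofNatIsoLeft α') e).app E =
      α.inv.app (F.obj E) ≫ (bc adj adj' e).app E ≫ F'.map (α'.hom.app E) := by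
  have h := e.hom.naturality (α'.hom.app E)
  have h' := adj.counit.naturality (F'.map (α'.hom.app E))
  dsimp at h h'
  rw [bc_app', bc_app', Category.assoc, ← h', ← L.map_comp_assoc, Category.assoc, ← h, ← F.map_comp_assoc]
  simp [Adjunction.ofNatIsoLeft]

end Left

section Right

variable {S : B' ⥤ B} {S' : A' ⥤ A}

/-- The square, moved to other right adjoints. -/
noncomputable def moveE (adj : L ⊣ R) (adj₂ : L ⊣ S) (adj' : L' ⊣ R') (adj₂' : L' ⊣ S')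
    (e : R' ⋙ F ≅ F' ⋙ R) : S' ⋙ F ≅ F' ⋙ S :=
  Functor.isoWhiskerRight (adj'.rightAdjointUniq adj₂').symm F ≪≫ e ≪≫
    Functor.isoWhiskerLeft F' (adj.rightAdjointUniq adj₂)

/-- Change of the right adjoints. -/
theorem bc_moveE (adj : L ⊣ R) (adj₂ : L ⊣ S) (adj' : L' ⊣ R') (adj₂' : L' ⊣ S')
    (e : R' ⋙ F ≅ F' ⋙ R) (E : A) :
    (bc adj₂ adj₂' (moveE adj adj₂ adj' adj₂' e)).app E = (bc adj adj' e).app E := by
  apply (adj₂.homEquiv _ _).injective
  refine (unit_bc adj₂ adj₂' _ E).trans ?_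
  rw [adj₂.homEquiv_unit, ← Adjunction.unit_rightAdjointUniq_hom_app adj adj₂,
    ← Adjunction.unit_rightAdjointUniq_hom_app adj' adj₂', Category.assoc]
  have h := (adj.rightAdjointUniq adj₂).hom.naturality ((bc adj adj' e).app E)
  dsimp [moveE] at h ⊢
  rw [← h, ← Category.assoc (adj.unit.app _),
    show adj.unit.app (F.obj E) ≫ R.map ((bc adj adj' e).app E) = F.map (adj'.unit.app E) ≫ e.hom.app (L'.obj E) from
      (adj.homEquiv_unit _ _ _).symm.trans (unit_bc adj adj' e E),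
    Category.assoc, ← F.map_comp_assoc, Category.assoc, Iso.hom_inv_id_app]
  simp

end Right

section VComp

variable {A'' : Type u₅} [Category.{v₅} A''] {B'' : Type u₆} [Category.{v₆} B'']
  {F'' : A'' ⥤ B''} {L₂ : B' ⥤ B''} {R₂ : B'' ⥤ B'} {L₂' : A' ⥤ A''} {R₂' : A'' ⥤ A'}

/-- The pasted square. -/
noncomputable def vE (e : R' ⋙ F ≅ F' ⋙ R) (e₂ : R₂' ⋙ F' ≅ F'' ⋙ R₂) :
    (R₂' ⋙ R') ⋙ F ≅ F'' ⋙ (R₂ ⋙ R) :=
  Functor.associator _ _ _ ≪≫ Functor.isoWhiskerLeft R₂' e ≪≫ (Functor.associator _ _ _).symm ≪≫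
    Functor.isoWhiskerRight e₂ R ≪≫ Functor.associator _ _ _

/-- Pasting along the left adjoints. -/
theorem bc_vcomp (adj : L ⊣ R) (adj' : L' ⊣ R') (adj₂ : L₂ ⊣ R₂) (adj₂' : L₂' ⊣ R₂')
    (e : R' ⋙ F ≅ F' ⋙ R) (e₂ : R₂' ⋙ F' ≅ F'' ⋙ R₂) (E : A) :
    (bc (adj.comp adj₂) (adj'.comp adj₂') (vE e e₂)).app E =
      L₂.map ((bc adj adj' e).app E) ≫ (bc adj₂ adj₂' e₂).app (L'.obj E) := by
  apply ((adj.comp adj₂).homEquiv _ _).injective
  refine (unit_bc _ _ _ E).trans ?_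
  simp only [Adjunction.comp_homEquiv, Equiv.trans_apply]
  erw [adj₂.homEquiv_naturality_left]
  refine Eq.trans ?_ (congrArg (fun t => adj.homEquiv (F.obj E) _ ((bc adj adj' e).app E ≫ t))
    (unit_bc adj₂ adj₂' e₂ (L'.obj E))).symm
  erw [adj.homEquiv_naturality_right, unit_bc adj]
  have h := e.hom.naturality (adj₂'.unit.app (L'.obj E))
  dsimp [vE] at h ⊢
  simp only [Functor.map_comp, Category.assoc, Adjunction.comp_unit_app, Category.id_comp, Category.comp_id]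
  rw [reassoc_of% h]

end VComp

section HComp

variable {A₀ : Type u₅} [Category.{v₅} A₀] {A₀' : Type u₆} [Category.{v₆} A₀']
  {J : A₀ ⥤ A} {J' : A₀' ⥤ A'} {L₀ : A₀ ⥤ A₀'} {R₀ : A₀' ⥤ A₀}

/-- The pasted square. -/
noncomputable def hE (e : R' ⋙ F ≅ F' ⋙ R) (e₀ : R₀ ⋙ J ≅ J' ⋙ R') :
    R₀ ⋙ (J ⋙ F) ≅ (J' ⋙ F') ⋙ R :=
  (Functor.associator _ _ _).symm ≪≫ Functor.isoWhiskerRight e₀ F ≪≫ Functor.associator _ _ _ ≪≫
    Functor.isoWhiskerLeft J' e ≪≫ (Functor.associator _ _ _).symm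

/-- Pasting along the direct images. -/
theorem bc_hcomp (adj : L ⊣ R) (adj' : L' ⊣ R') (adj₀ : L₀ ⊣ R₀)
    (e : R' ⋙ F ≅ F' ⋙ R) (e₀ : R₀ ⋙ J ≅ J' ⋙ R') (E : A₀) :
    (bc adj adj₀ (hE e e₀)).app E =
      (bc adj adj' e).app (J.obj E) ≫ F'.map ((bc adj' adj₀ e₀).app E) := by
  apply (adj.homEquiv _ _).injective
  refine (unit_bc _ _ _ E).trans ?_
  erw [adj.homEquiv_naturality_right, unit_bc adj adj']
  have h := e.hom.naturality ((bc adj' adj₀ e₀).app E)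
  dsimp [hE] at h ⊢
  rw [Category.assoc, ← h, ← F.map_comp_assoc, ← adj'.homEquiv_unit, unit_bc adj' adj₀]
  simp

end HComp

section Push

variable {G : A ⥤ B} {G' : A' ⥤ B'}

/-- Change of the direct images. -/
theorem bc_iso (adj : L ⊣ R) (adj' : L' ⊣ R') (β : F ≅ G) (β' : F' ≅ G') (e : R' ⋙ F ≅ F' ⋙ R) (E : A) :
    (bc adj adj' (Functor.isoWhiskerLeft R' β.symm ≪≫ e ≪≫ Functor.isoWhiskerRight β' R)).app E =
      L.map (β.inv.app E) ≫ (bc adj adj' e).app E ≫ β'.hom.app (L'.obj E) := by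
  apply (adj.homEquiv _ _).injective
  refine (unit_bc _ _ _ E).trans ?_
  erw [adj.homEquiv_naturality_left, adj.homEquiv_naturality_right, unit_bc adj adj']
  have h := β.inv.naturality (adj'.unit.app E)
  dsimp at h ⊢
  rw [reassoc_of% h, Category.assoc]

end Push

section Conj

variable {A₀ : Type u₅} [Category.{v₅} A₀] {B₀ : Type u₆} [Category.{v₆} B₀]
  {A₀' : Type u₃} [Category.{v₃} A₀'] {B₀' : Type u₄} [Category.{v₄} B₀']
  {iA : A₀ ⥤ A} {iB : B₀ ⥤ B} {iA' : A₀' ⥤ A'} {iB' : B₀' ⥤ B'}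
  {F₀ : A₀ ⥤ B₀} {F₀' : A₀' ⥤ B₀'} {L₀ : B₀ ⥤ B₀'} {R₀ : B₀' ⥤ B₀} {L₀' : A₀ ⥤ A₀'} {R₀' : A₀' ⥤ A₀}

/-- The square induced on full subcategories. -/
noncomputable def conjE (hB : iB.FullyFaithful) (cF : iA ⋙ F ≅ F₀ ⋙ iB) (cF' : iA' ⋙ F' ≅ F₀' ⋙ iB')
    (cR : iB' ⋙ R ≅ R₀ ⋙ iB) (cR' : iA' ⋙ R' ≅ R₀' ⋙ iA) (e : R' ⋙ F ≅ F' ⋙ R) :
    R₀' ⋙ F₀ ≅ F₀' ⋙ R₀ :=
  NatIso.ofComponents (fun X => hB.preimageIso
    ((cF.app (R₀'.obj X)).symm ≪≫ F.mapIso (cR'.app X).symm ≪≫ e.app (iA'.obj X) ≪≫ R.mapIso (cF'.app X) ≪≫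
      cR.app (F₀'.obj X)))
    fun {X Y} a => hB.map_injective (by
      simp only [Functor.map_comp, Functor.FullyFaithful.preimageIso_hom, Functor.FullyFaithful.map_preimage,
        Iso.trans_hom, Iso.symm_hom, Iso.app_hom, Iso.app_inv, Functor.mapIso_hom, Category.assoc]
      have h₁ := cF.inv.naturality (R₀'.map a)
      have h₂ := congrArg F.map (cR'.inv.naturality a)
      have h₃ := e.hom.naturality (iA'.map a)
      have h₄ := congrArg R.map (cF'.hom.naturality a)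
      have h₅ := cR.hom.naturality (F₀'.map a)
      simp only [Functor.map_comp, Functor.comp_map, Functor.comp_obj, Iso.symm_inv]
        at h₁ h₂ h₃ h₄ h₅ ⊢
      rw [reassoc_of% h₁, reassoc_of% h₂, reassoc_of% h₃, reassoc_of% h₄, h₅])

/-- The base change map on full subcategories. -/
theorem map_bc_conj (hA : iA.FullyFaithful) (hA' : iA'.FullyFaithful) (hB : iB.FullyFaithful)
    (hB' : iB'.FullyFaithful) (adj : L ⊣ R) (adj' : L' ⊣ R') (cF : iA ⋙ F ≅ F₀ ⋙ iB)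
    (cF' : iA' ⋙ F' ≅ F₀' ⋙ iB') (cL : iB ⋙ L ≅ L₀ ⋙ iB') (cR : iB' ⋙ R ≅ R₀ ⋙ iB)
    (cL' : iA ⋙ L' ≅ L₀' ⋙ iA') (cR' : iA' ⋙ R' ≅ R₀' ⋙ iA) (e : R' ⋙ F ≅ F' ⋙ R) (E : A₀) :
    (bc adj adj' e).app (iA.obj E) ≫ F'.map (cL'.hom.app E) ≫ cF'.hom.app (L₀'.obj E) =
      L.map (cF.hom.app E) ≫ cL.hom.app (F₀.obj E) ≫
        iB'.map ((bc (adj.restrictFullyFaithful hB hB' cL cR) (adj'.restrictFullyFaithful hA hA' cL' cR')
          (conjE hB cF cF' cR cR' e)).app E) := by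
  let a₀ := adj.restrictFullyFaithful hB hB' cL cR
  let a₀' := adj'.restrictFullyFaithful hA hA' cL' cR'
  let b₀ := (bc a₀ a₀' (conjE hB cF cF' cR cR' e)).app E
  have hb : adj.unit.app (iB.obj (F₀.obj E)) ≫ R.map (cL.hom.app (F₀.obj E) ≫ iB'.map b₀) ≫
      cR.hom.app (F₀'.obj (L₀'.obj E)) =
      iB.map (F₀.map (a₀'.unit.app E) ≫ (conjE hB cF cF' cR cR' e).hom.app (L₀'.obj E)) := by
    rw [← unit_bc a₀ a₀' (conjE hB cF cF' cR cR' e) E, a₀.homEquiv_unit, Functor.map_comp, Functor.map_comp]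
    have h := cR.hom.naturality b₀
    simp only [Functor.comp_map] at h
    erw [Adjunction.map_restrictFullyFaithful_unit_app]
    simp only [Category.assoc]
    exact congrArg (fun t => adj.unit.app _ ≫ R.map (cL.hom.app _) ≫ t) h
  apply (adj.homEquiv _ _).injective
  rw [← cancel_mono (cR.hom.app (F₀'.obj (L₀'.obj E)))]
  rw [adj.homEquiv_naturality_left, Category.assoc]
  refine Eq.trans ?_ (congrArg (cF.hom.app E ≫ ·) ((congrArg (· ≫ _) (adj.homEquiv_unit _ _ _)).trans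
    ((Category.assoc _ _ _).trans hb))).symm
  erw [adj.homEquiv_naturality_right]
  refine (congrArg (fun t => (t ≫ R.map (F'.map (cL'.hom.app E) ≫ cF'.hom.app (L₀'.obj E))) ≫
    cR.hom.app (F₀'.obj (L₀'.obj E))) (unit_bc adj adj' e (iA.obj E))).trans ?_
  rw [iB.map_comp]
  simp only [conjE, NatIso.ofComponents_hom_app, Functor.FullyFaithful.preimageIso_hom,
    Functor.FullyFaithful.map_preimage, Iso.trans_hom, Iso.symm_hom, Iso.app_hom, Iso.app_inv,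
    Functor.mapIso_hom, Category.assoc, Functor.map_comp]
  have h₀ := cF.hom.naturality (a₀'.unit.app E)
  have h₁ := e.hom.naturality (cL'.hom.app E)
  simp only [Functor.comp_map, Functor.comp_obj, Functor.id_obj] at h₀ h₁ ⊢
  rw [← reassoc_of% h₀, Adjunction.map_restrictFullyFaithful_unit_app]
  simp only [Functor.map_comp, Category.assoc, Functor.comp_obj, Functor.id_obj]
  rw [Iso.hom_inv_id_app_assoc]
  simp only [← Functor.map_comp_assoc, Iso.hom_inv_id_app, Category.comp_id, Functor.comp_obj]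
  simp only [Functor.map_comp, Category.assoc]
  rw [reassoc_of% h₁]

/-- Invertibility transfers to full subcategories. -/
theorem isIso_bc_conj_iff (hA : iA.FullyFaithful) (hA' : iA'.FullyFaithful) (hB : iB.FullyFaithful)
    (hB' : iB'.FullyFaithful) (adj : L ⊣ R) (adj' : L' ⊣ R') (cF : iA ⋙ F ≅ F₀ ⋙ iB)
    (cF' : iA' ⋙ F' ≅ F₀' ⋙ iB') (cL : iB ⋙ L ≅ L₀ ⋙ iB') (cR : iB' ⋙ R ≅ R₀ ⋙ iB)
    (cL' : iA ⋙ L' ≅ L₀' ⋙ iA') (cR' : iA' ⋙ R' ≅ R₀' ⋙ iA) (e : R' ⋙ F ≅ F' ⋙ R) (E : A₀) :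
    IsIso ((bc adj adj' e).app (iA.obj E)) ↔
      IsIso ((bc (adj.restrictFullyFaithful hB hB' cL cR) (adj'.restrictFullyFaithful hA hA' cL' cR')
          (conjE hB cF cF' cR cR' e)).app E) := by
  have h := map_bc_conj hA hA' hB hB' adj adj' cF cF' cL cR cL' cR' e E
  constructor
  · intro hh
    haveI := hh
    haveI := hB'.full
    haveI := hB'.faithful
    have h' : IsIso (L.map (cF.hom.app E) ≫ cL.hom.app (F₀.obj E) ≫
        iB'.map ((bc (adj.restrictFullyFaithful hB hB' cL cR) (adj'.restrictFullyFaithful hA hA' cL' cR')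
          (conjE hB cF cF' cR cR' e)).app E)) := by
      rw [← h]
      infer_instance
    rw [isIso_comp_left_iff, isIso_comp_left_iff] at h'
    exact isIso_of_reflects_iso _ iB'
  · intro hh
    haveI := hh
    exact @IsIso.of_isIso_comp_right _ _ _ _ _ _ (F'.map (cL'.hom.app E) ≫ cF'.hom.app (L₀'.obj E)) inferInstance
      (by rw [h]; infer_instance)

end Conj

end Groth.Agent.Dual22Lib.BCAlg
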