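import Groth.Agent.Dual22Lib.TwistGenCoh
import Groth.Agent.Coherent.Chow
import Groth.Agent.KZeroLib.PerfectCoh

/-!
# The right adjoint of the direct image of a proper morphism preserves coherence
-/

set_option autoImplicit false
set_option backward.isDefEq.respectTransparency false
set_option backward.defeqAttrib.useBackward true
set_option linter.style.haveILetI false
set_option linter.unusedSectionVars false
set_option synthInstance.maxHeartbeats 100000

universe u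

open CategoryTheory CategoryTheory.Limits CategoryTheory.Pretriangulated AlgebraicGeometry Opposite
open Groth.Agent.DCat
open scoped ZeroObject

attribute [local instance] HasDerivedCategory.standard
attribute [-instance] Int.instConditionallyCompleteLinearOrder

namespace Groth.Agent.Dual22Lib.CohAdj

/-- Affine schemes of finite type are closed in the standard chart of a projective space. -/
theorem exists_closed_chart (R : Type u) [CommRing R] {U : Scheme.{u}} [IsAffine U]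
    (h : U ⟶ Spec (CommRingCat.of R)) [LocallyOfFiniteType h] :
    ∃ (n : ℕ) (V : Scheme.{u}) (_ : IsAffine V) (ι : V ⟶ CohB1.ProjSpace n R) (_ : IsOpenImmersion ι)
      (c : U ⟶ V), IsClosedImmersion c ∧ c ≫ ι ≫ CohB1.ProjSpace.toSpec n R = h := by
  let B : CommRingCat.{u} := Γ(U, ⊤)
  let φ : CommRingCat.of R ⟶ B := Spec.preimage (U.isoSpec.inv ≫ h)
  let : Algebra R B := φ.hom.toAlgebra
  have hφ : Spec.map φ = U.isoSpec.inv ≫ h := Spec.map_preimage _
  have hft : φ.hom.FiniteType := by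
    refine (HasRingHomProperty.Spec_iff (P := @LocallyOfFiniteType)).1 ?_
    rw [hφ]; infer_instance
  obtain ⟨s, hs⟩ := (show Algebra.FiniteType R B from hft).out
  let x : Fin s.card → B := fun i => (s.equivFin.symm i).1
  have hx : Algebra.adjoin R (Set.range x) = ⊤ := by
    rw [← hs]
    congr 1
    ext b
    exact ⟨by rintro ⟨i, rfl⟩; exact (s.equivFin.symm i).2,
      fun hb => ⟨s.equivFin ⟨b, hb⟩, by simp [x]⟩⟩
  have hc : IsClosedImmersion (Spec.map (CommRingCat.ofHom (Coherent.chartEval s.card R x))) :=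
    IsClosedImmersion.spec_of_surjective _ (Coherent.chartEval_surjective s.card R x hx)
  refine ⟨s.card, _, inferInstance, Proj.awayι (CohB1.polyGrading s.card R) (MvPolynomial.X 0)
      (ProjLib.X_mem_polyGrading s.card R 0) one_pos, inferInstance,
    U.isoSpec.hom ≫ Spec.map (CommRingCat.ofHom (Coherent.chartEval s.card R x)), inferInstance, ?_⟩
  have hw := ProjLib.awayι_toSpec s.card R (ProjLib.X_mem_polyGrading s.card R 0) one_pos
  rw [hw]
  refine (Category.assoc _ _ _).trans ?_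
  rw [← Spec.map_comp, show CommRingCat.ofHom (ProjLib.toAway s.card R (MvPolynomial.X 0)) ≫
    CommRingCat.ofHom (Coherent.chartEval s.card R x) = φ from
      CommRingCat.hom_ext (RingHom.ext (Coherent.chartEval_toAway s.card R x)), hφ, Iso.hom_inv_id_assoc]

theorem surjective_toGlobal_isoSpec (Y : Scheme.{u}) [IsAffine Y] [i : Y.Over (Spec Γ(Y, ⊤))]
    (h : (Y ↘ Spec Γ(Y, ⊤)) = Y.isoSpec.hom) :
    Function.Surjective (Coh.toGlobal (Y ↘ Spec (CommRingCat.of Γ(Y, ⊤)))) := by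
  haveI : IsIso (Y ↘ Spec (CommRingCat.of Γ(Y, ⊤))) := by
    change IsIso (Y ↘ Spec Γ(Y, ⊤))
    rw [h]; infer_instance
  exact (ConcreteCategory.bijective_of_isIso ((Scheme.ΓSpecIso _).inv ≫ (Y ↘ Spec (CommRingCat.of Γ(Y, ⊤))).appTop)).2

theorem isCohD_of_cover {X : Scheme.{u}} {P : DCoh.D X} {ι : Type u} (U : ι → X.Opens)
    (hU : TopologicalSpace.IsOpenCover U) (h : ∀ i, DCoh.IsCohD ((DCoh.restrictD (U i).ι).obj P))
    [∀ i, IsLocallyNoetherian (U i : Scheme.{u})] : DCoh.IsCohD P := fun p =>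
  KZeroLib.isCoh_of_cover _ U hU fun i =>
    Coherent.isCoh_iso (DCat.SuppOpen.hdMapIso (Scheme.Modules.restrictFunctor (U i).ι) P p) (h i p)

/-- Coherence on an affine open of the source, over an affine base. -/
theorem isCohD_restrict_affine {X Y : Scheme.{u}} [IsAffine Y] [IsNoetherian Y] (f : X ⟶ Y) [IsProper f]
    {Q : DCoh.D Y} {A : DCoh.D X} (hA : RepLib.RepObj f Q A) (c : ℤ) [hc : Q.IsGE c] (hQ : DCoh.IsCohD Q)
    {U : X.Opens} (hU : IsAffineOpen U) : DCoh.IsCohD ((DCoh.restrictD U.ι).obj A) := by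
  haveI : IsAffine (U : Scheme.{u}) := hU
  haveI : IsLocallyNoetherian X := LocallyOfFiniteType.isLocallyNoetherian f
  haveI : CompactSpace X := QuasiCompact.compactSpace_of_compactSpace f
  haveI : IsNoetherian X := { }
  let R : CommRingCat.{u} := Γ(Y, ⊤)
  haveI : IsNoetherianRing R := IsLocallyNoetherian.component_noetherian ⟨⊤, isAffineOpen_top Y⟩
  letI oY : Y.Over (Spec (CommRingCat.of R)) := ⟨Y.isoSpec.hom⟩
  obtain ⟨n, V, _, ιV, _, cU, hcU, hfac⟩ := exists_closed_chart R (U.ι ≫ f ≫ Y.isoSpec.hom)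
  let P := CohB1.ProjSpace n R
  let π := CohB1.ProjSpace.toSpec n R
  haveI : IsProper π := Coherent.isProper_projSpace_toSpec n R
  let π' : P ⟶ Y := π ≫ Y.isoSpec.inv
  haveI : IsProper π' := inferInstance
  haveI : IsLocallyNoetherian P := LocallyOfFiniteType.isLocallyNoetherian π'
  haveI : CompactSpace P := QuasiCompact.compactSpace_of_compactSpace π'
  haveI : IsNoetherian P := { }
  haveI : P.IsSeparated := ⟨by
    rw [show terminal.from P = π' ≫ terminal.from Y from terminal.hom_ext _ _]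
    infer_instance⟩
  letI oP : P.Over (Spec (CommRingCat.of R)) := ⟨π⟩
  haveI : π'.IsOver (Spec (CommRingCat.of R)) := ⟨by
    show (π ≫ Y.isoSpec.inv) ≫ Y.isoSpec.hom = π
    simp⟩
  -- the representing object on projective space
  obtain ⟨B, hB⟩ := RepLib.exists_repObj π' Q
  have hBc : DCoh.IsCohD B :=
    TwistSys.isCohD_of_rep_twistSys (surjective_toGlobal_isoSpec Y rfl) π' (Coherent.projPowCover n R)
      (Coherent.twistGens n R) (fun N => by
        haveI := Coherent.isQCoh_twistProjSpace (n := n) (R := R) (-(N : ℤ))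
        exact Coherent.isCoh_of_gens (Coherent.twistGens n R N)) hB c hQ
  obtain ⟨b, hb⟩ := RepLib.exists_isGE c hB
  -- the fibre product
  let W := pullback f π'
  let p : W ⟶ X := pullback.fst f π'
  let q : W ⟶ P := pullback.snd f π'
  haveI : CompactSpace W := QuasiCompact.compactSpace_of_compactSpace p
  haveI : IsLocallyNoetherian W := LocallyOfFiniteType.isLocallyNoetherian p
  haveI : IsNoetherian W := { }
  obtain ⟨C, hC⟩ := RepLib.exists_repObj q B
  obtain ⟨C', hC'⟩ := RepLib.exists_repObj p A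
  obtain ⟨eC⟩ := ((RepLib.RepObj.comp f hA hC').congr pullback.condition).unique (RepLib.RepObj.comp π' hB hC)
  have hpC : RepLib.RepObj p A C := hC'.ofIso eC
  obtain ⟨a, ha⟩ := RepLib.exists_isGE c hA
  -- the section over the affine open
  have hw : U.ι ≫ f = (cU ≫ ιV) ≫ π' := by
    show _ = (cU ≫ ιV) ≫ π ≫ Y.isoSpec.inv
    rw [← cancel_mono Y.isoSpec.hom]
    simp only [Category.assoc, Iso.inv_hom_id, Category.comp_id]
    exact hfac.symm
  let s : (U : Scheme.{u}) ⟶ W := pullback.lift U.ι (cU ≫ ιV) hw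
  have hsp : s ≫ p = U.ι := pullback.lift_fst _ _ _
  have hsq : s ≫ q = cU ≫ ιV := pullback.lift_snd _ _ _
  let O₁ : W.Opens := p ⁻¹ᵁ U
  let V' : P.Opens := ιV.opensRange
  let O₂ : W.Opens := q ⁻¹ᵁ V'
  let O₃ : W.Opens := O₁ ⊓ O₂
  have hs₃ : Set.range s ⊆ Set.range O₃.ι := by
    rw [Scheme.Opens.range_ι]
    rintro _ ⟨x, rfl⟩
    refine ⟨?_, ?_⟩
    · show p (s x) ∈ U
      rw [← Scheme.Hom.comp_apply, hsp]
      exact x.2
    · show q (s x) ∈ V'
      rw [← Scheme.Hom.comp_apply, hsq, Scheme.Hom.comp_apply]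
      exact ⟨cU x, rfl⟩
  let σ : (U : Scheme.{u}) ⟶ O₃ := IsOpenImmersion.lift O₃.ι s hs₃
  have hσ : σ ≫ O₃.ι = s := IsOpenImmersion.lift_fac _ _ _
  let i₁ : (O₃ : Scheme.{u}) ⟶ O₁ := W.homOfLE inf_le_left
  let i₂ : (O₃ : Scheme.{u}) ⟶ O₂ := W.homOfLE inf_le_right
  let s₁ : (U : Scheme.{u}) ⟶ O₁ := σ ≫ i₁
  let s₂ : (U : Scheme.{u}) ⟶ O₂ := σ ≫ i₂
  let p₁ : (O₁ : Scheme.{u}) ⟶ U := p ∣_ U
  haveI : IsProper p₁ := inferInstance
  let q₂ : (O₂ : Scheme.{u}) ⟶ V := (q ∣_ V') ≫ ιV.isoOpensRange.inv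
  haveI : IsProper q₂ := inferInstance
  have hq₂ : O₂.ι ≫ q = q₂ ≫ ιV := by
    show _ = ((q ∣_ V') ≫ ιV.isoOpensRange.inv) ≫ ιV
    rw [Category.assoc, Scheme.Hom.isoOpensRange_inv_comp, morphismRestrict_ι]
  have h1 : s₁ ≫ p₁ = 𝟙 _ := by
    rw [← cancel_mono U.ι]
    show ((σ ≫ i₁) ≫ (p ∣_ U)) ≫ U.ι = _
    rw [Category.assoc, morphismRestrict_ι, Category.assoc, Scheme.homOfLE_ι_assoc, ← Category.assoc, hσ, hsp,
      Category.id_comp]
  have h2 : s₂ ≫ q₂ = cU := by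
    rw [← cancel_mono ιV, Category.assoc, ← hq₂]
    show (σ ≫ i₂) ≫ O₂.ι ≫ q = _
    rw [Category.assoc, Scheme.homOfLE_ι_assoc, ← Category.assoc, hσ, hsq]
  haveI : IsProper s₁ := by
    have : IsProper (s₁ ≫ p₁) := by rw [h1]; infer_instance
    exact IsProper.of_comp s₁ p₁
  haveI : IsProper s₂ := by
    have : IsProper (s₂ ≫ q₂) := by rw [h2]; infer_instance
    exact IsProper.of_comp s₂ q₂
  haveI : CompactSpace (O₁ : Scheme.{u}) := isCompact_iff_compactSpace.1 (TopologicalSpace.NoetherianSpace.isCompact _)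
  haveI : IsNoetherian (O₁ : Scheme.{u}) := { }
  haveI : CompactSpace (O₂ : Scheme.{u}) := isCompact_iff_compactSpace.1 (TopologicalSpace.NoetherianSpace.isCompact _)
  haveI : IsNoetherian (O₂ : Scheme.{u}) := { }
  haveI : IsNoetherian (U : Scheme.{u}) := { }
  haveI : IsLocallyNoetherian V := isLocallyNoetherian_of_isOpenImmersion ιV
  haveI : IsNoetherian V := { }
  -- representing objects over the opens
  have hq₁ := hpC.restrict a hA.mem U.ι O₁.ι p₁ (morphismRestrict_ι p U).symm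
    (by rw [Scheme.Opens.opensRange_ι, Scheme.Opens.opensRange_ι])
  have hq₂' := hC.restrict b hB.mem ιV O₂.ι q₂ hq₂ (by rw [Scheme.Opens.opensRange_ι])
  let C₁ := (DCoh.restrictD O₁.ι).obj C
  let C₂ := (DCoh.restrictD O₂.ι).obj C
  obtain ⟨d, hd⟩ := RepLib.exists_isGE b hC
  haveI : C₁.IsGE d := CohTors.isGE_restrictD O₁.ι d hd
  haveI : C₂.IsGE d := CohTors.isGE_restrictD O₂.ι d hd
  obtain ⟨E₁, hE₁⟩ := RepLib.exists_repObj s₁ C₁
  obtain ⟨E₂, hE₂⟩ := RepLib.exists_repObj s₂ C₂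
  -- compare on the intersection
  have hr₁ := hE₁.restrict d (AdjGeom.isQCohD_restrictD O₁.ι hC.mem) i₁ (𝟙 _) σ (Category.id_comp _) (by
    ext x
    simp only [Scheme.Hom.opensRange_of_isIso, TopologicalSpace.Opens.coe_top, Set.mem_univ, true_iff]
    exact ⟨σ x, rfl⟩)
  have hr₂ := hE₂.restrict d (AdjGeom.isQCohD_restrictD O₂.ι hC.mem) i₂ (𝟙 _) σ (Category.id_comp _) (by
    ext x
    simp only [Scheme.Hom.opensRange_of_isIso, TopologicalSpace.Opens.coe_top, Set.mem_univ, true_iff]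
    exact ⟨σ x, rfl⟩)
  obtain ⟨e₁⟩ := PerfLocal.rd_comp i₁ O₁.ι C
  obtain ⟨e₂⟩ := PerfLocal.rd_comp i₂ O₂.ι C
  obtain ⟨eE⟩ := (hr₁.ofIsoTarget (e₁.symm ≪≫ RepLib.restrictCongr
      ((Scheme.homOfLE_ι W _).trans (Scheme.homOfLE_ι W _).symm) C ≪≫ e₂)).unique hr₂
  -- coherence through the projective space
  haveI : IsProper cU := inferInstance
  let R' : CommRingCat.{u} := Γ(V, ⊤)
  haveI : IsNoetherianRing R' := IsLocallyNoetherian.component_noetherian ⟨⊤, isAffineOpen_top V⟩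
  letI oV : V.Over (Spec (CommRingCat.of R')) := ⟨V.isoSpec.hom⟩
  letI oU : (U : Scheme.{u}).Over (Spec (CommRingCat.of R')) := ⟨cU ≫ V.isoSpec.hom⟩
  haveI : cU.IsOver (Spec (CommRingCat.of R')) := ⟨rfl⟩
  haveI : ((DCoh.restrictD ιV).obj B).IsGE b := CohTors.isGE_restrictD ιV b hb
  have hE₂c : DCoh.IsCohD E₂ :=
    FinHom.isCohD_of_rep_affine (surjective_toGlobal_isoSpec V rfl) cU
      ((RepLib.RepObj.comp q₂ hq₂' hE₂).congr h2) b (CohTors.isCohD_restrictD ιV hBc)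
  have hE₁r : DCoh.IsCohD ((DCoh.restrictD (𝟙 (U : Scheme.{u}))).obj E₁) :=
    RepLib.isCohD_of_iso eE.symm (CohTors.isCohD_restrictD (𝟙 _) hE₂c)
  -- back to `A`
  let AU := (DCoh.restrictD U.ι).obj A
  obtain ⟨eA⟩ := ((RepLib.RepObj.comp p₁ hq₁ hE₁).congr h1).unique
    (RepLib.repObj_isIso (𝟙 _) (AdjGeom.isQCohD_restrictD U.ι hA.mem))
  obtain ⟨u₁⟩ := PerfLocal.rd_comp (𝟙 (U : Scheme.{u})) (𝟙 (U : Scheme.{u})) AU
  obtain ⟨u₂⟩ := PerfLocal.rd_comp (𝟙 (U : Scheme.{u})) U.ι A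
  exact RepLib.isCohD_of_iso
    ((DCoh.restrictD (𝟙 _)).mapIso eA ≪≫ u₁.symm ≪≫ RepLib.restrictCongr (Category.comp_id _) AU ≪≫
      u₂.symm ≪≫ RepLib.restrictCongr (Category.id_comp _) A) hE₁r

/-- The representing object of a bounded below coherent object under a proper morphism is coherent. -/
theorem isCohD_of_rep {X Y : Scheme.{u}} [IsNoetherian Y] (f : X ⟶ Y) [IsProper f] {Q : DCoh.D Y} {A : DCoh.D X}
    (hA : RepLib.RepObj f Q A) (c : ℤ) [hc : Q.IsGE c] (hQ : DCoh.IsCohD Q) : DCoh.IsCohD A := by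
  haveI : IsLocallyNoetherian X := LocallyOfFiniteType.isLocallyNoetherian f
  let ι := Σ T : Y.affineOpens, (f ⁻¹ᵁ T.1 : Scheme.{u}).affineOpens
  refine isCohD_of_cover (fun i : ι => (f ⁻¹ᵁ i.1.1).ι ''ᵁ i.2.1) ?_ fun ⟨T, U⟩ => ?_
  · refine TopologicalSpace.IsOpenCover.mk (top_unique fun x _ => ?_)
    obtain ⟨T, hT, hxT, -⟩ := exists_isAffineOpen_mem_and_subset (U := (⊤ : Y.Opens)) (x := f x) trivial
    obtain ⟨U, hU, hxU, -⟩ := exists_isAffineOpen_mem_and_subset (U := (⊤ : (f ⁻¹ᵁ T : Scheme.{u}).Opens))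
      (x := (⟨x, hxT⟩ : (f ⁻¹ᵁ T : X.Opens))) trivial
    exact TopologicalSpace.Opens.mem_iSup.2 ⟨⟨⟨T, hT⟩, ⟨U, hU⟩⟩, ⟨⟨x, hxT⟩, hxU, rfl⟩⟩
  · haveI : IsAffine (T.1 : Scheme.{u}) := T.2
    haveI : IsNoetherian (T.1 : Scheme.{u}) := { }
    haveI : ((DCoh.restrictD T.1.ι).obj Q).IsGE c := CohTors.isGE_restrictD T.1.ι c hc
    have h := isCohD_restrict_affine (f ∣_ T.1) (hA.restrictOpen c (fun i => (hQ i).1) T.1) c
      (CohTors.isCohD_restrictD T.1.ι hQ) U.2
    obtain ⟨e₁⟩ := PerfLocal.rd_comp U.1.ι (f ⁻¹ᵁ T.1).ι A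
    let w : (((f ⁻¹ᵁ T.1).ι ''ᵁ U.1 : X.Opens) : Scheme.{u}) ≅ (U.1 : Scheme.{u}) :=
      IsOpenImmersion.isoOfRangeEq ((f ⁻¹ᵁ T.1).ι ''ᵁ U.1).ι (U.1.ι ≫ (f ⁻¹ᵁ T.1).ι) (by
        rw [Scheme.Opens.range_ι, Scheme.Hom.comp_base, TopCat.coe_comp, Set.range_comp, Scheme.Opens.range_ι]
        rfl)
    obtain ⟨e₂⟩ := PerfLocal.rd_comp w.hom (U.1.ι ≫ (f ⁻¹ᵁ T.1).ι) A
    haveI : IsLocallyNoetherian ((((f ⁻¹ᵁ T.1).ι ''ᵁ U.1) : X.Opens) : Scheme.{u}) := inferInstance
    exact RepLib.isCohD_of_iso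
      ((DCoh.restrictD w.hom).mapIso e₁.symm ≪≫ e₂.symm ≪≫
        RepLib.restrictCongr (IsOpenImmersion.isoOfRangeEq_hom_fac _ _ _) A)
      (CohTors.isCohD_restrictD w.hom h)

end Groth.Agent.Dual22Lib.CohAdj
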