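import Groth.Agent.DQCoh.PerfectHom
import Groth.Agent.Dual22Lib.PerfLift
import Groth.Agent.DQCoh.Coproduct
import Mathlib.CategoryTheory.Limits.FullSubcategory

/-!
# Right adjoints of functors preserving compact generators preserve direct sums
-/

set_option autoImplicit false
set_option backward.isDefEq.respectTransparency false
set_option backward.defeqAttrib.useBackward true
set_option linter.style.haveILetI false
set_option linter.unusedSectionVars false
set_option synthInstance.maxHeartbeats 100000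

universe w u

open CategoryTheory CategoryTheory.Limits CategoryTheory.Pretriangulated AlgebraicGeometry Opposite
open Groth.Agent.DCat
open scoped ZeroObject

attribute [-instance] Int.instConditionallyCompleteLinearOrder

namespace Groth.Agent.Dual22Lib.CompAdjoint

section General

variable {C D : Type*} [Category C] [Category D] [Preadditive C] [Preadditive D]

/-- Compactness inside a full subcategory closed under sums. -/
theorem sumFac_of_emb (E : C ⥤ D) [E.Full] [E.Faithful] [E.PreservesZeroMorphisms] {ι : Type w} (K : ι → C)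
    [HasCoproduct K] [HasCoproduct fun i => E.obj (K i)] [PreservesColimit (Discrete.functor K) E] (P : C)
    (h : DQCoh.SumFac (fun i => E.obj (K i)) (E.obj P)) : DQCoh.SumFac K P := fun α => by
  classical
  let c := PreservesCoproduct.iso E K
  obtain ⟨s, hs⟩ := h (E.map α ≫ c.hom)
  refine ⟨s, E.map_injective ?_⟩
  rw [← cancel_mono c.hom, Functor.map_comp, Category.assoc]
  refine Eq.trans (congrArg (E.map α ≫ ·) ?_) ((Category.assoc _ _ _).symm.trans hs)
  rw [← cancel_epi c.inv]
  refine Sigma.hom_ext _ _ fun k => ?_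
  rw [PreservesCoproduct.inv_hom, ι_comp_sigmaComparison_assoc, ι_comp_sigmaComparison_assoc,
    ← Functor.map_comp_assoc, DQCoh.ι_subSum]
  have hk : E.map (Sigma.ι K k) ≫ c.hom = Sigma.ι (fun k => E.obj (K k)) k := by
    rw [← ι_comp_sigmaComparison E K k, ← PreservesCoproduct.inv_hom, Category.assoc, Iso.inv_hom_id,
      Category.comp_id]
  rw [reassoc_of% hk, DQCoh.ι_subSum]
  split_ifs
  · exact hk
  · simp

/-- The comparison map of a right adjoint is bijective on maps out of objects compact on both sides. -/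
theorem bijective_comparison {F : C ⥤ D} {a : D ⥤ C} (adj : F ⊣ a) [a.Additive] {ι : Type w} (K : ι → D)
    [HasCoproduct K] [HasCoproduct fun i => a.obj (K i)] (P : C)
    (h₁ : DQCoh.SumFac (fun i => a.obj (K i)) P) (h₂ : DQCoh.SumFac K (F.obj P)) :
    Function.Bijective (fun h : P ⟶ ∐ fun i => a.obj (K i) => h ≫ sigmaComparison a K) := by
  classical
  constructor
  · intro x y hxy
    obtain ⟨s, hs⟩ := h₁ (x - y)
    refine sub_eq_zero.1 ?_
    rw [← hs, DQCoh.subSum_eq_sum, Preadditive.comp_sum]
    refine Finset.sum_eq_zero fun i _ => ?_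
    have e : sigmaComparison a K ≫ a.map (DQCoh.coord K i) = DQCoh.coord (fun i => a.obj (K i)) i :=
      Sigma.hom_ext _ _ fun j => by
        simp only [DQCoh.coord, ι_comp_sigmaComparison_assoc, Sigma.ι_desc, ← a.map_comp]
        split_ifs with hj
        · subst hj
          simp
        · exact a.map_zero _ _
    have hxy' : (x - y) ≫ sigmaComparison a K = 0 := by rw [Preadditive.sub_comp, sub_eq_zero]; exact hxy
    rw [← Category.assoc, ← e, reassoc_of% hxy', zero_comp, zero_comp]
  · intro y
    obtain ⟨s, hs⟩ := h₂ ((adj.homEquiv _ _).symm y)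
    refine ⟨∑ i ∈ s, adj.homEquiv _ _ ((adj.homEquiv _ _).symm y ≫ DQCoh.coord K i) ≫
      Sigma.ι (fun i => a.obj (K i)) i, ?_⟩
    have hy := congrArg (adj.homEquiv _ _) hs
    rw [Equiv.apply_symm_apply, Adjunction.homEquiv_naturality_right, Equiv.apply_symm_apply] at hy
    conv_rhs => rw [← hy]
    rw [DQCoh.subSum_eq_sum, Functor.map_sum, Preadditive.comp_sum]
    show (∑ i ∈ s, _) ≫ _ = _
    rw [Preadditive.sum_comp]
    refine Finset.sum_congr rfl fun i _ => ?_
    rw [Category.assoc, ι_comp_sigmaComparison, Adjunction.homEquiv_naturality_right, Equiv.apply_symm_apply,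
      Functor.map_comp, Category.assoc]

end General

attribute [local instance] HasDerivedCategory.standard

variable {X : Scheme.{u}}

/-- Isomorphisms are detected by a generator. -/
theorem isIso_of_bijective_gen (G : DCoh.D X)
    (hgen : ∀ E : DCoh.D X, DCoh.IsQCohD E → (∀ (n : ℤ) (φ : G⟦n⟧ ⟶ E), φ = 0) → IsZero E)
    {A B : DCoh.D X} (φ : A ⟶ B) (hA : DCoh.IsQCohD A) (hB : DCoh.IsQCohD B)
    (h : ∀ n : ℤ, Function.Bijective (fun y : G⟦n⟧ ⟶ A => y ≫ φ)) : IsIso φ := by
  obtain ⟨C, v, w, hT⟩ := distinguished_cocone_triangle φ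
  refine (Triangle.isZero₃_iff_isIso₁ _ hT).1 (hgen C (DQCoh.isQCohD_obj₃ hT hA hB) fun n y => ?_)
  have hw : y ≫ w = 0 := by
    refine SiteDer16.eq_zero_of_comp_shift_eq_zero φ 1 (fun z hz => ?_) _ ?_
    · let e2 : G⟦n - 1⟧ ≅ (G⟦n⟧)⟦-(1 : ℤ)⟧ := (shiftFunctorAdd' (DCoh.D X) n (-1) (n - 1) (by omega)).app _
      rw [← cancel_epi e2.hom, comp_zero]
      apply (h (n - 1)).1
      simp [hz]
    · rw [Category.assoc]
      exact (congrArg (y ≫ ·) (comp_distTriang_mor_zero₃₁ _ hT)).trans comp_zero
  obtain ⟨y', rfl⟩ := Triangle.coyoneda_exact₃ _ hT y hw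
  obtain ⟨y'', rfl⟩ := (h n).2 y'
  exact (Category.assoc _ _ _).trans ((congrArg (y'' ≫ ·) (comp_distTriang_mor_zero₁₂ _ hT)).trans comp_zero)

/-- Coproducts in `D_qc`. -/
theorem isClosed_qc (J : Type u) :
    (AdjGeom.qcD X).IsClosedUnderColimitsOfShape (Discrete J) := by
  constructor
  rintro K ⟨c⟩
  haveI : HasCoproducts.{u} (DCoh.D X) := fun J => hasCoproductsOfShape_derived enoughKInj_of_isGrothendieckAbelian J
  refine DQCoh.isQCohD_of_iso ?_ (DQCoh.isQCohD_sigma (fun j => c.diag.obj ⟨j⟩) fun j => c.prop_diag_obj ⟨j⟩)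
  exact (HasColimit.isoOfNatIso (Discrete.natIsoFunctor (F := c.diag))).symm ≪≫
    (colimit.isColimit c.diag).coconePointUniqueUpToIso c.isColimit

theorem hasCoproducts_DQCoh (J : Type u) : HasColimitsOfShape (Discrete J) (DCoh.DQCoh X) := by
  haveI := isClosed_qc (X := X) J
  haveI : HasColimitsOfShape (Discrete J) (DCoh.D X) := hasCoproductsOfShape_derived enoughKInj_of_isGrothendieckAbelian J
  exact hasColimitsOfShape_of_closedUnderColimits (AdjGeom.qcD X) (J := Discrete J)

theorem preserves_ι (J : Type u) :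
    PreservesColimitsOfShape (Discrete J) (AdjGeom.qcD X).ι := by
  haveI := isClosed_qc (X := X) J
  haveI : HasColimitsOfShape (Discrete J) (DCoh.D X) := hasCoproductsOfShape_derived enoughKInj_of_isGrothendieckAbelian J
  haveI := createsColimitsOfShapeFullSubcategoryInclusion (Discrete J) (AdjGeom.qcD X)
  infer_instance

theorem sumFac_DQCoh [CompactSpace X] [QuasiSeparatedSpace X] (P : DCoh.DQCoh X) (hP : DCoh.IsPerfect P.obj)
    {J : Type u} (K : J → DCoh.DQCoh X) [HasCoproduct K] : DQCoh.SumFac K P := by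
  haveI := preserves_ι (X := X) J
  haveI : HasColimitsOfShape (Discrete J) (DCoh.D X) := hasCoproductsOfShape_derived enoughKInj_of_isGrothendieckAbelian J
  exact sumFac_of_emb (AdjGeom.qcD X).ι K P
    (((DQCoh.qCompact_perfect P.obj hP) (fun j => (K j).obj) (fun j => (K j).property) 0).of_iso
      ((shiftFunctorZero (DCoh.D X) ℤ).app P.obj))

/-- The right adjoint of a direct image preserving perfect objects commutes with direct sums. -/
theorem preservesCoproducts_rightAdjoint {Y : Scheme.{u}} [CompactSpace X] [QuasiSeparatedSpace X] [CompactSpace Y]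
    [QuasiSeparatedSpace Y] (G : DCoh.D X) (hG : DCoh.IsPerfect G)
    (hgen : ∀ E : DCoh.D X, DCoh.IsQCohD E → (∀ (n : ℤ) (φ : G⟦n⟧ ⟶ E), φ = 0) → IsZero E)
    (F : DCoh.DQCoh X ⥤ DCoh.DQCoh Y) (a : DCoh.DQCoh Y ⥤ DCoh.DQCoh X) (adj : F ⊣ a)
    (hF : ∀ P : DCoh.DQCoh X, DCoh.IsPerfect P.obj → DCoh.IsPerfect (F.obj P).obj) (J : Type u) :
    PreservesColimitsOfShape (Discrete J) a := by
  haveI := hasCoproducts_DQCoh (X := X) J
  haveI := hasCoproducts_DQCoh (X := Y) J
  haveI : a.IsRightAdjoint := adj.isRightAdjoint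
  haveI : HasBinaryBiproducts (DCoh.DQCoh Y) := inferInstance
  haveI : PreservesBinaryBiproducts a := preservesBinaryBiproducts_of_preservesBinaryProducts _
  haveI : a.Additive := Functor.additive_of_preservesBinaryBiproducts a
  suffices hK : ∀ K : J → DCoh.DQCoh Y, PreservesColimit (Discrete.functor K) a from
    ⟨fun {K} => haveI := hK fun j => K.obj ⟨j⟩; preservesColimit_of_iso_diagram a Discrete.natIsoFunctor.symm⟩
  intro K
  suffices IsIso (sigmaComparison a K) from PreservesCoproduct.of_iso_comparison a K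
  let ι := (AdjGeom.qcD X).ι
  suffices IsIso (ι.map (sigmaComparison a K)) from isIso_of_fully_faithful ι _
  refine isIso_of_bijective_gen G hgen _ (∐ fun j => a.obj (K j) : DCoh.DQCoh X).property
    (a.obj (∐ K)).property fun n => ?_
  have hGn := PCTriangle.perfect_shift hG n
  let P : DCoh.DQCoh X := ⟨G⟦n⟧, PerfLift.isQCohD_perfect hGn⟩
  have hb := bijective_comparison adj K P (sumFac_DQCoh P hGn _) (sumFac_DQCoh (F.obj P) (hF P hGn) _)
  constructor
  · intro x y hxy
    obtain ⟨x', rfl⟩ := ι.map_surjective (X := P) x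
    obtain ⟨y', rfl⟩ := ι.map_surjective (X := P) y
    exact congrArg ι.map (hb.1 (ι.map_injective (by simpa only [Functor.map_comp] using hxy)))
  · intro y
    obtain ⟨y', rfl⟩ := ι.map_surjective (X := P) y
    obtain ⟨x', hx'⟩ := hb.2 y'
    exact ⟨ι.map x', (ι.map_comp _ _).symm.trans (congrArg ι.map hx')⟩

end Groth.Agent.Dual22Lib.CompAdjoint
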