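import Groth.Agent.Dual22Lib.AdjExists
import Groth.Agent.Dual22Lib.OpenInduct
import Groth.Agent.DQCoh.Bound
import Groth.Agent.DQCoh.PerfectClass
import Groth.Agent.DCat.MVTriangles
import Groth.Agent.EulerLib.CohSub
import Groth.Prelude.Def_CxOX

/-!
# Cohomological bound of the coreflection onto `D_qc`
-/

set_option autoImplicit false
set_option backward.isDefEq.respectTransparency false
set_option backward.defeqAttrib.useBackward true
set_option linter.style.haveILetI false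
set_option linter.unusedSectionVars false
set_option synthInstance.maxHeartbeats 100000

universe u

open CategoryTheory CategoryTheory.Limits CategoryTheory.Pretriangulated DerivedCategory AlgebraicGeometry Opposite
open Groth.Agent.SiteDer16 Groth.Agent.DCat Groth.Agent.Coherent

attribute [local instance] HasDerivedCategory.standard
attribute [-instance] Int.instConditionallyCompleteLinearOrder

namespace Groth.Agent.Dual22Lib.CorefBound

variable {X T : Scheme.{u}}

/-- `Z` is a coreflection of `M`. -/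
def IsCorefl {Z M : DCoh.D X} (ε : Z ⟶ M) : Prop :=
  ∀ W : DCoh.D X, DCoh.IsQCohD W → Function.Bijective (fun g : W ⟶ Z => g ≫ ε)

theorem exists_corefl [CompactSpace X] [QuasiSeparatedSpace X] (M : DCoh.D X) :
    ∃ (Z : DCoh.D X) (ε : Z ⟶ M), DCoh.IsQCohD Z ∧ IsCorefl ε := by
  haveI : QuasiSeparated (𝟙 X) := inferInstance
  haveI := DCat.hasRpush (𝟙 X)
  obtain ⟨a, ha⟩ := AdjGeom.exists_adj (𝟙 X)
  haveI := ha
  let hR := a.fullyFaithfulROfIsIsoCounit
  obtain ⟨A, ε, hA, hrep⟩ := AdjGeom.hasRep (𝟙 X) ((DCoh.Rpush (𝟙 X)).obj M)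
  obtain ⟨ε₀, rfl⟩ := (hR.map_bijective _ _).2 ε
  refine ⟨A, ε₀, hA, fun W hW => (Function.Bijective.of_comp_iff' (hR.map_bijective W M) _).1 ?_⟩
  have := hrep W hW
  unfold AdjGlue.Rep at this
  simpa [Function.comp_def, Functor.map_comp] using this

theorem nonempty_iso_of_corefl {Z Z' M : DCoh.D X} {ε : Z ⟶ M} {ε' : Z' ⟶ M} (hZ : DCoh.IsQCohD Z)
    (hZ' : DCoh.IsQCohD Z') (h : IsCorefl ε) (h' : IsCorefl ε') : Nonempty (Z ≅ Z') := by
  obtain ⟨g, hg⟩ := (h' Z hZ).2 ε
  obtain ⟨g', hg'⟩ := (h Z' hZ').2 ε'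
  exact ⟨⟨g, g', (h Z hZ).1 (by simp at hg hg' ⊢; rw [hg', hg]),
    (h' Z' hZ').1 (by simp at hg hg' ⊢; rw [hg, hg'])⟩⟩

/-- No maps from the generators of affine opens in degrees outside `[a, b]`. -/
def Cond (T : Scheme.{u}) (K : DCoh.D T) (a b : ℤ) : Prop :=
  ∀ U : T.Opens, IsAffineOpen U → ∀ i : ℤ, i < a ∨ b < i → ∀ φ : ((DQCoh.sec T).pt.obj U)⟦-i⟧ ⟶ K, φ = 0

theorem cond_restrict (j : T ⟶ X) [IsOpenImmersion j] {K : DCoh.D X} {a b : ℤ} (h : Cond X K a b) :
    Cond T ((DCoh.restrictD j).obj K) a b := by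
  intro U hU i hi φ
  obtain ⟨e⟩ := DQCoh.nonempty_shriek_pt j U
  refine (((JShriek.shriekD j)).homEquiv _ K).symm.injective ?_
  have hz : ∀ ψ : (JShriek.shriek j).mapDerivedCategory.obj (((DQCoh.sec T).pt.obj U)⟦-i⟧) ⟶ K, ψ = 0 := fun ψ => by
    rw [← cancel_epi ((shiftFunctor (DCoh.D X) (-i)).map e.inv ≫
      ((JShriek.shriek j).mapDerivedCategory.commShiftIso (-i)).inv.app _), comp_zero]
    exact h _ (hU.image_of_isOpenImmersion j) i hi _
  exact (hz _).trans (hz _).symm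

/-- The bound. -/
def Bd (T : Scheme.{u}) : Prop :=
  ∃ N : ℕ, ∀ (K : DCoh.D T) (a b : ℤ), Cond T K a b → ∀ (Z : DCoh.D T) (ε : Z ⟶ K), DCoh.IsQCohD Z →
    IsCorefl ε → ∀ i : ℤ, i < a ∨ b + (N : ℤ) < i → IsZero (DCoh.HD Z i)

theorem freeEquiv_zero (U : X.Opens) (M : X.Modules) : freeModOnEquiv U M 0 = 0 := by
  simpa using freeModOnEquiv_comp U (0 : (freeModOn X).obj U ⟶ M) (0 : M ⟶ M)

theorem bd_of_isAffine (T : Scheme.{u}) (hT : IsAffine T) : Bd T := by
  refine ⟨0, fun K a b h Z ε hZ hε i hi => ?_⟩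
  refine EulerLib.isZero_of_sections_cover (hZ i) (fun _ : Unit => (⊤ : T.Opens)) (fun _ => isAffineOpen_top T)
    (fun x => ⟨(), trivial⟩) fun _ => ?_
  have hP : DCoh.IsQCohD (((DQCoh.sec T).pt.obj (⊤ : T.Opens))⟦-i⟧) := by
    refine DQCoh.isQCohD_shift (fun n => ?_) (-i)
    by_cases hn : n = 0
    · subst hn
      refine Coherent.isQCoh_of_iso ((singleFunctorCompHomologyFunctorIso T.Modules 0).app
        ((freeModOn T).obj ⊤)).symm (h := ?_)
      exact Coherent.isQCoh_of_iso (DQCoh.topStructIso T).symm (h := Coherent.isQCoh_structureModule)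
    · refine Coherent.isQCoh_of_isZero ?_
      rcases lt_or_gt_of_ne hn with hlt | hlt
      · exact isZero_of_isGE ((singleFunctor T.Modules 0).obj ((freeModOn T).obj ⊤)) 0 n hlt
      · exact isZero_of_isLE ((singleFunctor T.Modules 0).obj ((freeModOn T).obj ⊤)) 0 n hlt
  have h0 : ∀ y : (DQCoh.sec T).pt.obj (⊤ : T.Opens) ⟶ Z⟦i⟧, y = 0 := fun y => by
    refine (shiftFunctor (DCoh.D T) (-i)).map_injective ?_
    rw [Functor.map_zero, ← cancel_mono ((shiftFunctorCompIsoId (DCoh.D T) i (-i) (by omega)).hom.app Z), zero_comp]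
    refine (hε _ hP).1 ?_
    simp only [zero_comp]
    exact h ⊤ (isAffineOpen_top T) i (by omega) _
  refine subsingleton_of_forall_eq 0 fun s => ?_
  let e := ((homologyFunctor T.Modules 0).shiftIso i 0 i (by omega)).app Z
  let x : (DQCoh.sec T).P.obj (⊤ : T.Opens) ⟶ (homologyFunctor T.Modules i).obj Z :=
    (freeModOnEquiv ⊤ ((homologyFunctor T.Modules i).obj Z)).symm s
  obtain ⟨y, hy⟩ := (DQCoh.bijective_θ (Z⟦i⟧) (DQCoh.isQCohD_shift hZ i) (isAffineOpen_top T)).2 (x ≫ e.inv)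
  have hx : x = 0 := by
    rw [← cancel_mono e.inv, ← hy, h0 y, zero_comp]
    simp [Sections.θ]
  refine (freeModOnEquiv ⊤ ((homologyFunctor T.Modules i).obj Z)).symm.injective ?_
  refine hx.trans ((freeModOnEquiv ⊤ ((homologyFunctor T.Modules i).obj Z)).injective ?_)
  rw [Equiv.apply_symm_apply, freeEquiv_zero]

theorem bd_of_isEmpty (T : Scheme.{u}) (hT : IsEmpty T) : Bd T := by
  haveI : IsAffine T := isAffine_of_isEmpty
  exact bd_of_isAffine T ‹_›

theorem bd_supStep : OpenInduct.SupStep.{u} (fun T => CompactSpace T → Bd T) := by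
  intro T _ U V hUV _ _ _ hU hV hUV' hc
  haveI := hc
  haveI := fun W : T.Opens => DCat.hasRpush W.ι
  haveI := fun W : T.Opens => PullPerf.preservesFiniteLimits_restrict W.ι
  have hcs : ∀ (W : T.Opens) [QuasiCompact W.ι], CompactSpace (W : Scheme.{u}) := fun W _ =>
    QuasiCompact.compactSpace_of_compactSpace W.ι
  obtain ⟨N₁, h₁⟩ := hU (hcs U)
  obtain ⟨N₂, h₂⟩ := hV (hcs V)
  obtain ⟨N₃, h₃⟩ := hUV' (hcs (U ⊓ V))
  haveI : (ObjectProperty.ι (DCoh.IsQCohD (X := T))).IsLeftAdjoint := by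
    refine Functor.isLeftAdjoint_of_rightAdjointObjIsDefined_eq_top ?_
    ext M
    simp only [Pi.top_apply, Prop.top_eq_true, iff_true]
    obtain ⟨A, ε₀, hA, hb⟩ := exists_corefl M
    rw [Functor.rightAdjointObjIsDefined_iff]
    exact Functor.RepresentableBy.isRepresentable (Y := ⟨A, hA⟩)
      { homEquiv := fun {K} => ((ObjectProperty.fullyFaithfulι DCoh.IsQCohD).homEquiv (X := K) (Y := ⟨A, hA⟩)).trans
          (Equiv.ofBijective _ (hb K.obj K.property))
        homEquiv_comp := fun {K K'} p g => Category.assoc p.hom g.hom ε₀ }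
  let ι := ObjectProperty.ι (AdjGeom.qcD T)
  let adj := Adjunction.ofIsLeftAdjoint (ObjectProperty.ι (DCoh.IsQCohD (X := T)))
  let G : DCoh.D T ⥤ (AdjGeom.qcD T).FullSubcategory := (ObjectProperty.ι (DCoh.IsQCohD (X := T))).rightAdjoint
  letI : G.CommShift ℤ := (adj : ι ⊣ G).rightAdjointCommShift ℤ
  haveI : (adj : ι ⊣ G).CommShift ℤ := (adj : ι ⊣ G).commShift_of_leftAdjoint ℤ
  haveI : G.IsTriangulated := (adj : ι ⊣ G).isTriangulated_rightAdjoint
  haveI : ι.IsTriangulated := inferInstance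
  let G' := G ⋙ ι
  have hcor : ∀ M : DCoh.D T, IsCorefl ((adj : ι ⊣ G).counit.app M) := fun M W hW =>
    Function.bijective_iff_has_inverse.2 ⟨fun y => ((adj : ι ⊣ G).homEquiv ⟨W, hW⟩ M y).hom,
      fun g => by
        have := ((adj : ι ⊣ G).homEquiv ⟨W, hW⟩ M).apply_symm_apply (ObjectProperty.homMk g)
        rw [Adjunction.homEquiv_counit] at this
        exact congrArg (fun t => t.hom) this,
      fun y => by
        have := ((adj : ι ⊣ G).homEquiv ⟨W, hW⟩ M).symm_apply_apply y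
        rw [Adjunction.homEquiv_counit] at this
        exact this⟩
  -- amplitude of the direct images
  have hpush : ∀ (W : T.Opens) [QuasiCompact W.ι], ∃ c : ℕ, ∀ (Z : DCoh.D (W : Scheme.{u})) (a b : ℤ),
      DCoh.IsQCohD Z → (∀ i : ℤ, i < a ∨ b < i → IsZero (DCoh.HD Z i)) →
      ∀ i : ℤ, i < a ∨ b + (c : ℤ) < i → IsZero (DCoh.HD ((DCoh.Rpush W.ι).obj Z) i) := by
    intro W _
    obtain ⟨N, hN⟩ := DQCoh.exists_uniform_bound W.ι
    refine ⟨N.toNat, fun Z a b hZ hz i hi => ?_⟩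
    rcases hi with hi | hi
    · haveI : Z.IsGE a := (isGE_iff Z a).2 fun k hk => hz k (Or.inl hk)
      obtain ⟨adj', -⟩ := AdjGeom.exists_adj W.ι
      haveI : ((DCoh.Rpush W.ι).obj Z).IsGE a := by
        refine (DerivedCategory.TStructure.t.isGE_iff_orthogonal (a - 1) a (by omega) _).2 fun Y f hY => ?_
        haveI : ((DCoh.restrictD W.ι).obj Y).IsLE (a - 1) := PerfLocal.isLE_rd W.ι Y (a - 1) hY
        refine (adj'.homEquiv _ _).symm.injective ?_
        exact (DerivedCategory.TStructure.t.zero _ (a - 1) a (by omega)).trans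
          (DerivedCategory.TStructure.t.zero _ (a - 1) a (by omega)).symm
      exact isZero_of_isGE _ a i hi
    · obtain ⟨_, _⟩ := DCat.exists_commShift_Rpush W.ι
      haveI hle : Z.IsLE b := (isLE_iff Z b).2 fun k hk => hz k (Or.inr hk)
      haveI : (Z⟦b⟧).IsLE 0 := DerivedCategory.TStructure.t.isLE_shift Z b b 0 (by omega)
      refine (hN (Z⟦b⟧) (DQCoh.isQCohD_shift hZ b) ‹_› (i - b) (by omega)).of_iso ?_
      exact (((homologyFunctor T.Modules 0).shiftIso b (i - b) i (by omega)).app _).symm ≪≫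
        (homologyFunctor T.Modules (i - b)).mapIso (((DCoh.Rpush W.ι).commShiftIso b).app Z).symm
  obtain ⟨c₁, hc₁⟩ := hpush U
  obtain ⟨c₂, hc₂⟩ := hpush V
  obtain ⟨c₃, hc₃⟩ := hpush (U ⊓ V)
  refine ⟨N₁ + c₁ + (N₂ + c₂) + (N₃ + c₃) + 1, fun K a b h Z ε hZ hε i hi => ?_⟩
  -- coreflections of the terms
  have key : ∀ (W : T.Opens) [QuasiCompact W.ι] (N c : ℕ),
      (∀ (K : DCoh.D (W : Scheme.{u})) (a b : ℤ), Cond (W : Scheme.{u}) K a b → ∀ (Z : DCoh.D (W : Scheme.{u}))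
        (ε : Z ⟶ K), DCoh.IsQCohD Z → IsCorefl ε → ∀ i : ℤ, i < a ∨ b + (N : ℤ) < i → IsZero (DCoh.HD Z i)) →
      (∀ (Z : DCoh.D (W : Scheme.{u})) (a b : ℤ), DCoh.IsQCohD Z → (∀ i : ℤ, i < a ∨ b < i → IsZero (DCoh.HD Z i)) →
        ∀ i : ℤ, i < a ∨ b + (c : ℤ) < i → IsZero (DCoh.HD ((DCoh.Rpush W.ι).obj Z) i)) →
      ∀ k : ℤ, k < a ∨ b + (N : ℤ) + (c : ℤ) < k →
        IsZero ((homologyFunctor T.Modules k).obj (G'.obj ((DCoh.Rpush W.ι).obj ((DCoh.restrictD W.ι).obj K)))) := by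
    intro W _ N c hW hcW k hk
    haveI := hcs W
    haveI : QuasiSeparatedSpace (W : Scheme.{u}) := QuasiSeparatedSpace.of_isOpenEmbedding W.ι.isOpenEmbedding
    obtain ⟨Zw, εw, hZw, hεw⟩ := exists_corefl ((DCoh.restrictD W.ι).obj K)
    obtain ⟨adj', -⟩ := AdjGeom.exists_adj W.ι
    have hq := DQCoh.isQCohD_Rpush W.ι Zw hZw
    have hcr : IsCorefl ((DCoh.Rpush W.ι).map εw) := fun Y hY => by
      have e : (fun g : Y ⟶ (DCoh.Rpush W.ι).obj Zw => g ≫ (DCoh.Rpush W.ι).map εw) =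
          (adj'.homEquiv _ _) ∘ (fun g => g ≫ εw) ∘ (adj'.homEquiv _ _).symm := by
        funext g
        simp [Adjunction.homEquiv_naturality_right]
      rw [e]
      exact (adj'.homEquiv _ _).bijective.comp
        ((hεw _ (AdjGeom.isQCohD_restrictD W.ι hY)).comp (adj'.homEquiv _ _).symm.bijective)
    obtain ⟨e⟩ := nonempty_iso_of_corefl hq (G.obj _).property hcr (hcor ((DCoh.Rpush W.ι).obj ((DCoh.restrictD W.ι).obj K)))
    exact (hcW Zw a (b + (N : ℤ)) hZw (hW _ a b (cond_restrict W.ι h) Zw εw hZw hεw) k hk).of_iso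
      ((homologyFunctor T.Modules k).mapIso e.symm)
  obtain ⟨α, β, γ, hT⟩ := MV.exists_triangle_id hUV K
  have hT' := G'.map_distinguished _ hT
  obtain ⟨eZ⟩ := nonempty_iso_of_corefl (G.obj K).property hZ (hcor K) hε
  refine IsZero.of_iso ?_ ((homologyFunctor T.Modules i).mapIso eZ).symm
  refine (HomologySequence.exact₂ _ (inv_rot_of_distTriang _ hT') i).isZero_of_both_zeros ?_ ?_
  · refine IsZero.eq_of_src ?_ _ _
    exact (key (U ⊓ V) N₃ c₃ h₃ hc₃ (i - 1) (by omega)).of_iso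
      (((homologyFunctor T.Modules 0).shiftIso (-1) i (i - 1) (by omega)).app _)
  · refine IsZero.eq_of_tgt ?_ _ _
    haveI := preservesBinaryBiproducts_of_preservesBiproducts (G' ⋙ homologyFunctor T.Modules i)
    exact ((biprod_isZero_iff _ _).2 ⟨key U N₁ c₁ h₁ hc₁ i (by omega), key V N₂ c₂ h₂ hc₂ i (by omega)⟩).of_iso
      ((G' ⋙ homologyFunctor T.Modules i).mapBiprod _ _)

theorem bd (T : Scheme.{u}) [CompactSpace T] [QuasiSeparatedSpace T] : Bd T :=
  OpenInduct.scheme_induction (P := fun T => CompactSpace T → Bd T) (fun T h _ => bd_of_isAffine T h)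
    (fun T h _ => bd_of_isEmpty T h) bd_supStep ‹_›

/-- Vanishing of derived sections gives vanishing of maps from the generator. -/
theorem eq_zero_of_RΓ [∀ U : X.Opens, DCoh.HasRΓ (U : Scheme.{u})] (K : DCoh.D X) (U : X.Opens) (i : ℤ)
    [PreservesFiniteLimits (Scheme.Modules.restrictFunctor U.ι)]
    (h : IsZero ((homologyFunctor AddCommGrpCat.{u} i).obj ((DCoh.RΓ (U : Scheme.{u})).obj ((DCoh.restrictD U.ι).obj K))))
    (φ : ((DQCoh.sec X).pt.obj U)⟦-i⟧ ⟶ K) : φ = 0 := by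
  obtain ⟨I, hI, -, ⟨e⟩⟩ := MV.exists_rep K
  let C := ((DCoh.gammaAb (U : Scheme.{u})).mapHomologicalComplex (ComplexShape.up ℤ)).obj
    (((Scheme.Modules.restrictFunctor U.ι).mapHomologicalComplex (ComplexShape.up ℤ)).obj I)
  have hC : C.ExactAt i := by
    rw [HomologicalComplex.exactAt_iff_isZero_homology]
    exact h.of_iso (((homologyFunctorFactors AddCommGrpCat.{u} i).app C).symm ≪≫
      (homologyFunctor AddCommGrpCat.{u} i).mapIso (MV.rfRestrictIso U (DCoh.gammaAb (U : Scheme.{u})) e))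
  let P := (freeModOn X).obj U
  let c : ((DQCoh.sec X).pt.obj U)⟦-i⟧ ≅
      DerivedCategory.Q.obj ((HomologicalComplex.single X.Modules (ComplexShape.up ℤ) i).obj P) :=
    (((singleFunctors X.Modules).shiftIso (-i) i 0 (by omega)).app P) ≪≫ (singleFunctorIsoCompQ X.Modules i).app P
  rw [← cancel_epi c.inv, comp_zero, ← cancel_mono e.inv, zero_comp]
  obtain ⟨g, hg⟩ := (CochainComplex.IsKInjective.Qh_map_bijective ((HomotopyCategory.quotient _ _).obj
    ((HomologicalComplex.single X.Modules (ComplexShape.up ℤ) i).obj P)) I).2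
    ((quotientCompQhIso _).hom.app _ ≫ ((c.inv ≫ φ) ≫ e.inv) ≫ (quotientCompQhIso _).inv.app I)
  obtain ⟨f, rfl⟩ := (HomotopyCategory.quotient _ _).map_surjective g
  suffices hf : (HomotopyCategory.quotient X.Modules (ComplexShape.up ℤ)).map f = 0 by
    rw [hf, Functor.map_zero] at hg
    rw [← cancel_epi ((quotientCompQhIso _).hom.app _), ← cancel_mono ((quotientCompQhIso _).inv.app I), comp_zero,
      zero_comp, Category.assoc]
    exact hg.symm
  let x : P ⟶ I.X i := (HomologicalComplex.singleObjXSelf (ComplexShape.up ℤ) i P).inv ≫ f.f i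
  have hx : x ≫ I.d i (i + 1) = 0 := by
    simp only [x, Category.assoc, HomologicalComplex.Hom.comm, HomologicalComplex.single_obj_d, zero_comp, comp_zero]
  have hle : U ≤ U.ι ''ᵁ ⊤ := by rw [Scheme.Opens.ι_image_top]
  have hle' : U.ι ''ᵁ ⊤ ≤ U := by rw [Scheme.Opens.ι_image_top]
  rw [C.exactAt_iff' (i - 1) i (i + 1) (by simp) (by simp), ShortComplex.ab_exact_iff] at hC
  obtain ⟨t, ht⟩ := hC (resM (I.X i) hle' (freeModOnEquiv U _ x)) (by
    change (I.d i (i + 1)).app (U.ι ''ᵁ ⊤) (resM (I.X i) hle' (freeModOnEquiv U _ x)) = 0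
    rw [app_resM, ← freeModOnEquiv_comp, hx, freeEquiv_zero, map_zero])
  let a : P ⟶ I.X (i - 1) := (freeModOnEquiv U (I.X (i - 1))).symm (resM (I.X (i - 1)) hle t)
  have ha : a ≫ I.d (i - 1) i = x := by
    refine (freeModOnEquiv U (I.X i)).injective ?_
    rw [freeModOnEquiv_comp, Equiv.apply_symm_apply, app_resM]
    refine (congrArg (resM (I.X i) hle) ht).trans ?_
    rw [resM_resM]
    exact resM_refl _ _
  let hh : ∀ p q, (ComplexShape.up ℤ).Rel q p →
      (((HomologicalComplex.single X.Modules (ComplexShape.up ℤ) i).obj P).X p ⟶ I.X q) := fun p q hpq =>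
    if hp : p = i then
      eqToHom (by rw [hp]) ≫ (HomologicalComplex.singleObjXSelf (ComplexShape.up ℤ) i P).hom ≫ a ≫
        eqToHom (by simp only [ComplexShape.up_Rel] at hpq; rw [show q = i - 1 by omega])
    else 0
  have hf : f = Homotopy.nullHomotopicMap' hh := by
    refine HomologicalComplex.from_single_hom_ext ?_
    rw [Homotopy.nullHomotopicMap'_f (c := ComplexShape.up ℤ) (k₂ := i - 1) (k₁ := i) (k₀ := i + 1) (by simp) (by simp)]
    simp only [HomologicalComplex.single_obj_d, zero_comp, zero_add, hh, dif_pos, eqToHom_refl, Category.id_comp,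
      Category.comp_id, Category.assoc, ha]
    simp [x]
  rw [hf, HomotopyCategory.eq_of_homotopy _ _ (Homotopy.nullHomotopy' hh), Functor.map_zero]

end Groth.Agent.Dual22Lib.CorefBound
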