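import Groth.Agent.Dual22Lib.RepLib
import Groth.Agent.Coherent.ProperFinite

/-!
# Finiteness of maps between coherent objects over affine schemes
-/

set_option autoImplicit false
set_option backward.isDefEq.respectTransparency false
set_option backward.defeqAttrib.useBackward true
set_option linter.style.haveILetI false
set_option linter.unusedSectionVars false
set_option synthInstance.maxHeartbeats 100000

universe u

open CategoryTheory CategoryTheory.Limits CategoryTheory.Pretriangulated AlgebraicGeometry Opposite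
open Groth.Agent.DCat Groth.Agent.SiteDer16 Groth.Agent.Coherent
open scoped ZeroObject

attribute [local instance] HasDerivedCategory.standard
attribute [-instance] Int.instConditionallyCompleteLinearOrder

namespace Groth.Agent.Dual22Lib.FinHom

variable {R : Type u} [CommRing R] {X : Scheme.{u}} [X.Over (Spec (CommRingCat.of R))]

/-- Maps out of an object into a bounded below coherent one are finite. -/
def FinOut (G : DCoh.D X) : Prop :=
  ∀ (K : DCoh.D X) (c : ℤ), K.IsGE c → DCoh.IsCohD K → Module.Finite R (G ⟶ K)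

theorem isCohD_shift [IsLocallyNoetherian X] {K : DCoh.D X} (h : DCoh.IsCohD K) (n : ℤ) :
    DCoh.IsCohD (K⟦n⟧) := fun i =>
  Coherent.isCoh_iso (((DerivedCategory.homologyFunctor X.Modules 0).shiftIso n i (n + i) rfl).app K).symm (h (n + i))

/-- Shifting is a linear bijection on maps. -/
theorem finite_shift [IsNoetherianRing R] {P K : DCoh.D X} (n : ℤ) (h : Module.Finite R (P ⟶ K)) :
    Module.Finite R (P⟦n⟧ ⟶ K⟦n⟧) := by
  haveI := h
  exact Module.Finite.of_surjective ((shiftFunctor (DCoh.D X) n).mapLinearMap R)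
    (fun g => (shiftFunctor (DCoh.D X) n).map_surjective g)

theorem finite_of_iso {P P' K K' : DCoh.D X} (e : P ≅ P') (e' : K ≅ K') (h : Module.Finite R (P ⟶ K)) :
    Module.Finite R (P' ⟶ K') := by
  haveI := h
  exact Module.Finite.equiv (Linear.homCongr R e e')

/-- Finiteness is closed under extensions. -/
theorem finite_middle [IsNoetherianRing R] {T : Triangle (DCoh.D X)} (hT : T ∈ distTriang _) {K : DCoh.D X}
    (h₁ : Module.Finite R (T.obj₁ ⟶ K)) (h₃ : Module.Finite R (T.obj₃ ⟶ K)) : Module.Finite R (T.obj₂ ⟶ K) := by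
  haveI := h₁
  haveI := h₃
  let p := Linear.leftComp R K T.mor₁
  let q := Linear.leftComp R K T.mor₂
  haveI : Module.Finite R (LinearMap.range p) :=
    Module.Finite.of_injective (LinearMap.range p).subtype Subtype.val_injective
  haveI : Module.Finite R ((T.obj₂ ⟶ K) ⧸ LinearMap.ker p) := Module.Finite.equiv p.quotKerEquivRange.symm
  suffices Module.Finite R (LinearMap.ker p) from Module.Finite.of_submodule_quotient (LinearMap.ker p)
  refine Module.Finite.of_surjective (q.codRestrict (LinearMap.ker p) fun g => ?_) fun g => ?_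
  · show T.mor₁ ≫ T.mor₂ ≫ g = 0
    rw [comp_distTriang_mor_zero₁₂_assoc _ hT, zero_comp]
  · obtain ⟨ψ, hψ⟩ := Triangle.yoneda_exact₂ _ hT g.1 g.2
    exact ⟨ψ, Subtype.ext hψ.symm⟩

section Sections

variable [IsAffine X]

/-- Maps out of the generator are the global sections of cohomology, linearly. -/
theorem exists_secLin (K : DCoh.D X) (hK : DCoh.IsQCohD K) :
    let φ : R →+* Γ(X, ⊤) := Coh.toGlobal (X ↘ Spec (CommRingCat.of R))
    letI : Module R Γ(DCoh.HD K 0, ⊤) := Module.compHom _ φ
    Nonempty (((DQCoh.sec X).pt.obj (⊤ : X.Opens) ⟶ K) ≃ₗ[R] Γ(DCoh.HD K 0, ⊤)) := by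
  let φ : R →+* Γ(X, ⊤) := Coh.toGlobal (X ↘ Spec (CommRingCat.of R))
  letI : Module R Γ(DCoh.HD K 0, ⊤) := Module.compHom _ φ
  let ν : ((DQCoh.sec X).pt.obj (⊤ : X.Opens) ⟶ K) →ₗ[R] Γ(DCoh.HD K 0, ⊤) :=
    { toFun := fun y => freeModOnEquiv ⊤ (DCoh.HD K 0) ((DQCoh.sec X).θ y)
      map_add' := fun y z => by
        dsimp only [Sections.θ]
        simp only [Functor.map_add, Preadditive.comp_add]
        exact (secMod ⊤ _).map_add _ _
      map_smul' := fun a y => by
        show freeModOnEquiv ⊤ (DCoh.HD K 0) _ = φ a • freeModOnEquiv ⊤ (DCoh.HD K 0) _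
        rw [show a • y = y ≫ (a • 𝟙 K) by rw [Linear.comp_smul, Category.comp_id], Sections.θ_comp,
          Torsion.homologyMap_smul_id, Linear.comp_smul, Category.comp_id]
        rw [← app_genMod, ← app_genMod, KLin.smul_app_apply]
        congr 1
        rw [show (homOfLE (le_top : (⊤ : X.Opens) ≤ ⊤)).op = 𝟙 _ from rfl, X.presheaf.map_id]
        rfl }
  exact ⟨LinearEquiv.ofBijective ν
    ((freeModOnEquiv ⊤ (DCoh.HD K 0)).bijective.comp (DQCoh.bijective_θ K hK (isAffineOpen_top X)))⟩

end Sections

variable [IsNoetherianRing R] [IsLocallyNoetherian X] [IsAffine X]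

/-- Maps out of the generator are finite, for surjective base maps. -/
theorem finite_unit (hsurj : Function.Surjective (Coh.toGlobal (X ↘ Spec (CommRingCat.of R))))
    (K : DCoh.D X) (hK : DCoh.IsCohD K) :
    Module.Finite R ((DQCoh.sec X).pt.obj (⊤ : X.Opens) ⟶ K) := by
  haveI : Coh.IsQCoh (DCoh.HD K 0) := (hK 0).1
  haveI hfin : Module.Finite Γ(X, ⊤) Γ(DCoh.HD K 0, ⊤) :=
    ((isCoh_iff_finite_sections _).1 (hK 0)).2 _ (isAffineOpen_top X)
  let φ : R →+* Γ(X, ⊤) := Coh.toGlobal (X ↘ Spec (CommRingCat.of R))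
  obtain ⟨e⟩ := exists_secLin (R := R) K (fun i => (hK i).1)
  letI : Module R Γ(DCoh.HD K 0, ⊤) := Module.compHom _ φ
  haveI : Module.Finite R Γ(DCoh.HD K 0, ⊤) := by
    obtain ⟨s, hs⟩ := hfin.fg_top
    refine ⟨⟨s, eq_top_iff.2 fun x hx' => ?_⟩⟩
    have hx : x ∈ Submodule.span Γ(X, ⊤) (s : Set Γ(DCoh.HD K 0, ⊤)) := hs.ge trivial
    clear hx'
    induction hx using Submodule.span_induction with
    | mem y hy => exact Submodule.subset_span hy
    | zero => exact Submodule.zero_mem _
    | add y z _ _ hy hz => exact Submodule.add_mem _ hy hz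
    | smul r y _ hy =>
      obtain ⟨a, rfl⟩ := hsurj r
      exact Submodule.smul_mem _ a hy
  exact Module.Finite.equiv e.symm

theorem fin_single_coh (hsurj : Function.Surjective (Coh.toGlobal (X ↘ Spec (CommRingCat.of R)))) :
    ∀ (k : ℕ) (G : X.Modules), Coh.IsCoh G → ∀ K : DCoh.D X, K.IsGE (1 - (k : ℤ)) → DCoh.IsCohD K →
      Module.Finite R ((DerivedCategory.singleFunctor X.Modules 0).obj G ⟶ K) := by
  intro k
  induction k with
  | zero =>
    intro G _ K hKc _
    haveI := hKc
    haveI : Subsingleton ((DerivedCategory.singleFunctor X.Modules 0).obj G ⟶ K) :=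
      subsingleton_of_forall_eq 0 fun g => DerivedCategory.TStructure.t.zero g 0 (1 - ((0 : ℕ) : ℤ)) (by simp)
    infer_instance
  | succ k ih =>
    intro G hG K hKc hK
    haveI := hG.1
    haveI := hasFiniteBiproducts X
    obtain ⟨I, _, π₀, hπ₀⟩ := exists_epi_free_of_finite G
      (((isCoh_iff_finite_sections _).1 hG).2 _ (isAffineOpen_top X))
    obtain ⟨m, ⟨eI⟩⟩ := Finite.exists_equiv_fin I
    let L : X.Modules := ⨁ fun _ : Fin m => Coh.structureModule X
    let π : L ⟶ G := biproduct.desc fun i => freeInj (eI.symm i) ≫ π₀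
    haveI : Epi π := by
      have hfac : freeDesc (fun i => biproduct.ι (fun _ : Fin m => Coh.structureModule X) (eI i)) ≫ π = π₀ := by
        refine Cofan.IsColimit.hom_ext (SheafOfModules.isColimitFreeCofan I) _ _ fun i => ?_
        show freeInj i ≫ _ ≫ π = freeInj i ≫ π₀
        rw [freeInj_freeDesc_assoc, biproduct.ι_desc, Equiv.symm_apply_apply]
      exact epi_of_epi_fac hfac
    have hLc : Coh.IsCoh L := isCoh_biproduct _ fun _ => isCoh_structureModule X
    let S : ShortComplex X.Modules := ShortComplex.mk (kernel.ι π) π (kernel.condition π)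
    have hS : S.ShortExact :=
      { exact := ShortComplex.exact_of_f_is_kernel _ (kernelIsKernel π)
        mono_f := inferInstanceAs (Mono (kernel.ι π))
        epi_g := ‹Epi π› }
    let s₀ := DerivedCategory.singleFunctor X.Modules 0
    have hL : Module.Finite R (s₀.obj L ⟶ K) := by
      haveI : ∀ _ : Fin m, Module.Finite R (s₀.obj (Coh.structureModule X) ⟶ K) := fun _ =>
        finite_of_iso (s₀.mapIso (DQCoh.topStructIso X)) (Iso.refl K) (finite_unit hsurj K hK)
      let ρ : (s₀.obj L ⟶ K) →ₗ[R] (Fin m → (s₀.obj (Coh.structureModule X) ⟶ K)) :=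
        LinearMap.pi fun i => Linear.leftComp R K (s₀.map (biproduct.ι (fun _ : Fin m => Coh.structureModule X) i))
      refine Module.Finite.of_injective ρ fun y z h => ?_
      have e : 𝟙 (s₀.obj L) = ∑ i : Fin m, s₀.map (biproduct.π _ i) ≫
          s₀.map (biproduct.ι (fun _ : Fin m => Coh.structureModule X) i) := by
        simp only [← Functor.map_comp, ← Functor.map_sum, biproduct.total, L]
        exact (CategoryTheory.Functor.map_id _ _).symm
      rw [← Category.id_comp y, ← Category.id_comp z, e, Preadditive.sum_comp, Preadditive.sum_comp]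
      refine Finset.sum_congr rfl fun i _ => ?_
      rw [Category.assoc, Category.assoc]
      exact congrArg _ (congrFun h i)
    let t : Triangulated.TStructure (DCoh.D X) := DerivedCategory.TStructure.t
    haveI := hKc
    haveI : (K⟦(-1 : ℤ)⟧).IsGE (1 - (k : ℤ)) :=
      t.isGE_shift K (1 - ((k + 1 : ℕ) : ℤ)) (-1) (1 - (k : ℤ)) (by push_cast; ring)
    have hKer : Module.Finite R ((s₀.obj (kernel π))⟦(1 : ℤ)⟧ ⟶ K) :=
      finite_of_iso (Iso.refl _) ((shiftFunctorCompIsoId (DCoh.D X) (-1 : ℤ) 1 (by omega)).app K)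
        (finite_shift 1 (ih (kernel π) (isCoh_kernel π hLc hG.1) (K⟦(-1 : ℤ)⟧) ‹_› (isCohD_shift hK (-1))))
    exact finite_middle (rot_of_distTriang _ hS.singleTriangle_distinguished) hL hKer

/-- Maps from bounded coherent objects into bounded below coherent objects are finite. -/
theorem fin_bounded (hsurj : Function.Surjective (Coh.toGlobal (X ↘ Spec (CommRingCat.of R))))
    (P : DCoh.D X) (a b : ℤ) (ha : P.IsGE a) (hb : P.IsLE b) (hP : DCoh.IsCohD P) : FinOut (R := R) P := by
  obtain ⟨n, hn⟩ : ∃ n : ℕ, b < a + n := ⟨(b - a + 1).toNat, by omega⟩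
  induction n generalizing P b with
  | zero =>
    intro K c _ _
    haveI := ha
    haveI := hb
    haveI : Subsingleton (P ⟶ K) := subsingleton_of_forall_eq 0 fun g => by
      have hz : IsZero P := DCat.SuppOpen.isZero_of_hd _ fun i => by
        rcases lt_or_ge i a with h | h
        · exact DerivedCategory.isZero_of_isGE P a i h
        · exact DerivedCategory.isZero_of_isLE P b i (by push_cast at hn; omega)
      exact hz.eq_of_src _ _
    infer_instance
  | succ n ih =>
    intro K c hKc hK
    haveI := ha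
    haveI := hb
    let t : Triangulated.TStructure (DCoh.D X) := DerivedCategory.TStructure.t
    have hT := t.triangleLTGE_distinguished b P
    let L := (t.truncLT b).obj P
    let U := (t.truncGE b).obj P
    have hq : DCoh.IsQCohD P := fun i => (hP i).1
    haveI : L.IsLE (b - 1) := t.isLE_truncLT_obj P b (b - 1) (by omega)
    have hL : ∀ i, i < b → IsIso ((DerivedCategory.homologyFunctor X.Modules i).map ((t.truncLTι b).app P)) :=
      fun i hi => by
        haveI := DCat.mono_homology_truncLTι P b i
        haveI : Epi ((DerivedCategory.homologyFunctor X.Modules i).map ((t.truncLTι b).app P)) :=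
          (DerivedCategory.HomologySequence.epi_homologyMap_mor₁_iff _ hT i).2
            ((DerivedCategory.isZero_of_isGE U b i hi).eq_of_tgt _ _)
        exact isIso_of_mono_of_epi _
    have hLc : DCoh.IsCohD L := fun i => by
      rcases lt_or_ge i b with hi | hi
      · haveI := hL i hi
        exact Coherent.isCoh_iso (asIso ((DerivedCategory.homologyFunctor X.Modules i).map ((t.truncLTι b).app P))).symm
          (hP i)
      · exact (DQCoh.coh_ops X).1 _ (DerivedCategory.isZero_of_isLE L (b - 1) i (by omega))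
    haveI : L.IsGE a := (DerivedCategory.isGE_iff _ _).2 fun i hi => by
      rcases lt_or_ge i b with hib | hib
      · haveI := hL i hib
        exact (DerivedCategory.isZero_of_isGE P a i hi).of_iso
          (asIso ((DerivedCategory.homologyFunctor X.Modules i).map ((t.truncLTι b).app P)))
      · exact DerivedCategory.isZero_of_isLE L (b - 1) i (by omega)
    have hU1 : IsIso ((DerivedCategory.homologyFunctor X.Modules b).map ((t.truncGEπ b).app P)) := by
      haveI : Mono ((DerivedCategory.homologyFunctor X.Modules b).map ((t.truncGEπ b).app P)) :=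
        (DerivedCategory.HomologySequence.mono_homologyMap_mor₂_iff _ hT b).2
          ((DerivedCategory.isZero_of_isLE L (b - 1) b (by omega)).eq_of_src _ _)
      haveI : Epi ((DerivedCategory.homologyFunctor X.Modules b).map ((t.truncGEπ b).app P)) :=
        (DerivedCategory.HomologySequence.epi_homologyMap_mor₂_iff _ hT b (b + 1) rfl).2
          ((DerivedCategory.isZero_of_isLE L (b - 1) (b + 1) (by omega)).eq_of_tgt _ _)
      exact isIso_of_mono_of_epi _
    haveI : U.IsLE b := (DerivedCategory.isLE_iff _ _).2 fun i hi =>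
      (DerivedCategory.HomologySequence.exact₂ _ (rot_of_distTriang _ hT) i).isZero_of_both_zeros
        ((DerivedCategory.isZero_of_isLE P b i hi).eq_of_src _ _)
        (IsZero.eq_of_tgt ((DerivedCategory.isZero_of_isLE L (b - 1) (i + 1) (by omega)).of_iso
          (((DerivedCategory.homologyFunctor X.Modules 0).shiftIso 1 i (i + 1) (by omega)).app L)) _ _)
    obtain ⟨M, ⟨eM⟩⟩ := DerivedCategory.exists_iso_singleFunctor_obj_of_isGE_of_isLE U b
    have hM : Coh.IsCoh M :=
      Coherent.isCoh_iso ((@asIso _ _ _ _ ((DerivedCategory.homologyFunctor X.Modules b).map ((t.truncGEπ b).app P)) hU1) ≪≫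
        (DerivedCategory.homologyFunctor X.Modules b).mapIso eM ≪≫
        (DerivedCategory.singleFunctorCompHomologyFunctorIso X.Modules b).app M) (hP b)
    have hU : Module.Finite R (U ⟶ K) := by
      haveI := hKc
      obtain ⟨k, hk⟩ : ∃ k : ℕ, 1 - (k : ℤ) ≤ c - b := ⟨(1 - (c - b)).toNat, by omega⟩
      haveI : (K⟦b⟧).IsGE (c - b) := t.isGE_shift K c b (c - b) (by omega)
      haveI := t.isGE_of_ge (K⟦b⟧) (1 - (k : ℤ)) (c - b) hk
      have h0 := fin_single_coh hsurj k M hM (K⟦b⟧) ‹_› (isCohD_shift hK b)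
      exact finite_of_iso
        ((((DerivedCategory.singleFunctors X.Modules).shiftIso (-b) b 0 (by omega)).app M) ≪≫ eM.symm)
        ((shiftFunctorCompIsoId (DCoh.D X) b (-b) (by omega)).app K) (finite_shift (-b) h0)
    exact finite_middle hT (ih L (b - 1) ‹_› ‹_› hLc (by push_cast at hn ⊢; omega) K c hKc hK) hU

end Groth.Agent.Dual22Lib.FinHom

namespace Groth.Agent.Dual22Lib.FinHom

variable {R : Type u} [CommRing R] [IsNoetherianRing R] {X Y : Scheme.{u}} [IsAffine Y] [IsNoetherian Y]
  [X.Over (Spec (CommRingCat.of R))] [Y.Over (Spec (CommRingCat.of R))]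

/-- Maps from coherent modules in any degree into a representing object are finite. -/
theorem finite_rep (hsurj : Function.Surjective (Coh.toGlobal (Y ↘ Spec (CommRingCat.of R)))) (f : X ⟶ Y) [IsProper f]
    [f.IsOver (Spec (CommRingCat.of R))] {Q : DCoh.D Y} {A : DCoh.D X} (h : RepLib.RepObj f Q A) (c : ℤ)
    [hc : Q.IsGE c] (hQ : DCoh.IsCohD Q) (G : X.Modules) (hG : Coh.IsCoh G) (p : ℤ) :
    Module.Finite R ((DerivedCategory.singleFunctor X.Modules p).obj G ⟶ A) := by
  haveI : IsLocallyNoetherian X := LocallyOfFiniteType.isLocallyNoetherian f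
  haveI := DCat.hasRpush f
  obtain ⟨hA, ε, hε⟩ := h.out
  let P := (DerivedCategory.singleFunctor X.Modules p).obj G
  have hP : DCoh.IsCohD P := fun i => by
    by_cases hi : i = p
    · subst hi
      exact Coherent.isCoh_iso ((DerivedCategory.singleFunctorCompHomologyFunctorIso X.Modules i).app G).symm hG
    · refine (DQCoh.coh_ops X).1 _ ?_
      rcases lt_or_gt_of_ne hi with hlt | hlt
      · exact DerivedCategory.isZero_of_isGE P p i hlt
      · exact DerivedCategory.isZero_of_isLE P p i hlt
  obtain ⟨N, hN⟩ := SupportAdj.exists_isLE_Rpush f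
  haveI : ((DCoh.Rpush f).obj P).IsLE (p + N) := hN P p (fun i => (hP i).1) inferInstance
  haveI : ((DCoh.Rpush f).obj P).IsGE p := RepLib.isGE_Rpush f P p
  haveI := fin_bounded hsurj ((DCoh.Rpush f).obj P) p (p + N) ‹_› ‹_› (SupportAdj.isCohD_Rpush f P p hP) Q c hc hQ
  let ν : (P ⟶ A) →ₗ[R] ((DCoh.Rpush f).obj P ⟶ Q) :=
    { toFun := fun g => (DCoh.Rpush f).map g ≫ ε
      map_add' := fun g g' => by
        haveI : (DCoh.Rpush f).Additive := by
          obtain ⟨_, _⟩ := DCat.exists_commShift_Rpush f
          infer_instance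
        rw [Functor.map_add, Preadditive.add_comp]
      map_smul' := fun a g => by
        show (DCoh.Rpush f).map (a • g) ≫ ε = a • ((DCoh.Rpush f).map g ≫ ε)
        rw [show a • g = (a • 𝟙 _) ≫ g by rw [Linear.smul_comp, Category.id_comp], Functor.map_comp,
          ScalarD.Rpush_map_smul_id, Linear.smul_comp, Category.id_comp, Linear.smul_comp] }
  exact Module.Finite.of_injective ν (hε P fun i => (hP i).1).1

/-- For a finite morphism to an affine scheme the representing object is coherent. -/
theorem isCohD_of_rep_affine [IsAffine X] (hsurj : Function.Surjective (Coh.toGlobal (Y ↘ Spec (CommRingCat.of R))))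
    (f : X ⟶ Y) [IsProper f] [f.IsOver (Spec (CommRingCat.of R))] {Q : DCoh.D Y} {A : DCoh.D X}
    (h : RepLib.RepObj f Q A) (c : ℤ) [hc : Q.IsGE c] (hQ : DCoh.IsCohD Q) : DCoh.IsCohD A := by
  haveI : IsLocallyNoetherian X := LocallyOfFiniteType.isLocallyNoetherian f
  intro i
  let B := A⟦i⟧
  have hB : DCoh.IsQCohD B := DQCoh.isQCohD_shift h.mem i
  refine Coherent.isCoh_iso
    (((DerivedCategory.homologyFunctor X.Modules 0).shiftIso i 0 i (by omega)).app A) ?_
  change Coh.IsCoh (DCoh.HD B 0)
  refine isCoh_of_finite_sections_cover _ (hB 0) (fun _ : PUnit.{u + 1} => (⊤ : X.Opens))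
    (fun _ => isAffineOpen_top X) (fun _ => ⟨PUnit.unit, trivial⟩) fun _ => ?_
  let O₁ := (freeModOn X).obj (⊤ : X.Opens)
  haveI : Module.Finite R ((DQCoh.sec X).pt.obj (⊤ : X.Opens) ⟶ B) :=
    finite_of_iso (((DerivedCategory.singleFunctors X.Modules).shiftIso i 0 i (by omega)).app O₁) (Iso.refl _)
      (finite_shift i
        (finite_rep hsurj f h c hQ O₁ (Coherent.isCoh_iso (DQCoh.topStructIso X).symm (isCoh_structureModule X)) i))
  let φ : R →+* Γ(X, ⊤) := Coh.toGlobal (X ↘ Spec (CommRingCat.of R))
  obtain ⟨e⟩ := exists_secLin (R := R) B hB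
  letI : Module R Γ(DCoh.HD B 0, ⊤) := Module.compHom _ φ
  haveI hfin : Module.Finite R Γ(DCoh.HD B 0, ⊤) := Module.Finite.equiv e
  obtain ⟨s, hs⟩ := hfin.fg_top
  refine ⟨⟨s, eq_top_iff.2 fun x hx' => ?_⟩⟩
  clear hx'
  have hx : x ∈ Submodule.span R (s : Set Γ(DCoh.HD B 0, ⊤)) := hs.ge trivial
  induction hx using Submodule.span_induction with
  | mem y hy => exact Submodule.subset_span hy
  | zero => exact Submodule.zero_mem _
  | add y z _ _ hy hz => exact Submodule.add_mem _ hy hz
  | smul r y _ hy => exact Submodule.smul_mem _ (φ r) hy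

end Groth.Agent.Dual22Lib.FinHom
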