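import Groth.Agent.Dual22Lib.PscPush
import Groth.Agent.RelVALib.ChowPn
import Groth.Agent.Coherent.ProjSpaceFlat
import Groth.Agent.Coherent.CohBC.PushStructureIso

/-!
# Consequences of pseudo-coherence of direct images
-/

set_option autoImplicit false
set_option backward.isDefEq.respectTransparency false
set_option backward.defeqAttrib.useBackward true
set_option linter.style.haveILetI false
set_option synthInstance.maxHeartbeats 100000

universe u

open CategoryTheory CategoryTheory.Limits CategoryTheory.Pretriangulated AlgebraicGeometry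
open Groth.Agent.DCat

attribute [local instance] HasDerivedCategory.standard
attribute [-instance] Int.instConditionallyCompleteLinearOrder

namespace Groth.Agent.Dual22Lib.PscPushApps

variable {X Y : Scheme.{u}}

local notation "t₀" => (DerivedCategory.TStructure.t : CategoryTheory.Triangulated.TStructure (DCoh.D X))

/-- A bound on pseudo-coherence of direct images of bounded objects gives it for all objects. -/
theorem psc_Rpush_of_bounded (f : X ⟶ Y) [QuasiCompact f] [QuasiSeparated f] [CompactSpace Y] [DCoh.HasRpush f] (k : ℤ)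
    (hK : ∀ (F : DCoh.D X) (n a b : ℤ), F.IsGE a → F.IsLE b → DCoh.IsPseudoCoherentD n F →
      DCoh.IsPseudoCoherentD (n + k) ((DCoh.Rpush f).obj F))
    (F : DCoh.D X) (hF : ∀ m : ℤ, DCoh.IsPseudoCoherentD m F) (m : ℤ) :
    DCoh.IsPseudoCoherentD m ((DCoh.Rpush f).obj F) := by
  haveI : CompactSpace X := QuasiCompact.compactSpace_of_compactSpace f
  obtain ⟨_, _⟩ := DCat.exists_commShift_Rpush f
  obtain ⟨N, hN⟩ := SupportAdj.exists_isLE_Rpush f
  obtain ⟨b, hb⟩ := DQCoh.exists_isLE_psc (hF 0)
  haveI := hb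
  let a := min (m - k) (m - N)
  have hT := (t₀).triangleLTGE_distinguished a F
  let A := ((t₀).truncLT a).obj F
  let B := ((t₀).truncGE a).obj F
  have hAle : A.IsLE (a - 1) := (t₀).isLE_truncLT_obj F a (a - 1) (by omega)
  have hAq : DCoh.IsQCohD A := DQCoh.isQCohD_truncLT F (DQCoh.isQCohD_of_psc hF) a
  have hBp : DCoh.IsPseudoCoherentD (m - k) B :=
    PCTriangle.psc_cone hT (PCTriangle.psc_of_gpsc (PCTriangle.psc_of_isLE (by omega) hAle)) (hF _)
  have hBle : B.IsLE b := inferInstance
  have h₃ : DCoh.IsPseudoCoherentD m ((DCoh.Rpush f).obj B) := by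
    simpa using hK B (m - k) a b inferInstance hBle hBp
  have h₁ : DCoh.IsPseudoCoherentD m ((DCoh.Rpush f).obj A) :=
    PCTriangle.psc_of_gpsc (PCTriangle.psc_of_isLE (by omega : a - 1 + N < m) (hN A _ hAq hAle))
  exact PCTriangle.psc_ext ((DCoh.Rpush f).map_distinguished _ hT) h₁ h₃

theorem locallyOfFinitePresentation_toBase (n : ℕ) (S : Scheme.{u}) :
    LocallyOfFinitePresentation (CohB1.ProjSpaceOver.toBase n S) := by
  haveI := Coherent.isProper_projSpace_toSpec n (ULift.{u} ℤ)
  haveI : IsNoetherianRing (ULift.{u} ℤ) := isNoetherianRing_of_ringEquiv ℤ ULift.ringEquiv.symm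
  haveI : LocallyOfFinitePresentation (CohB1.ProjSpace.toSpec n (ULift.{u} ℤ)) :=
    Coherent.CohBC.locallyOfFinitePresentation_of_isLocallyNoetherian _
  exact MorphismProperty.pullback_snd _ _ inferInstance

/-- Closed subschemes of projective spaces. -/
theorem psc_Rpush_projSpace (r : ℕ) (i : X ⟶ CohB1.ProjSpaceOver r Y) [DCoh.HasRpush i]
    [DCoh.HasRpush (i ≫ CohB1.ProjSpaceOver.toBase r Y)] (E : DCoh.D X)
    (hE : ∀ m : ℤ, DCoh.IsPseudoCoherentD m ((DCoh.Rpush i).obj E)) (m : ℤ) :
    DCoh.IsPseudoCoherentD m ((DCoh.Rpush (i ≫ CohB1.ProjSpaceOver.toBase r Y)).obj E) := by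
  haveI := RelVALib.isProper_toBase r Y
  haveI := locallyOfFinitePresentation_toBase r Y
  haveI := hasRpush (CohB1.ProjSpaceOver.toBase r Y)
  obtain ⟨β⟩ := DCat.nonempty_RpushComp i (CohB1.ProjSpaceOver.toBase r Y)
  exact PCTriangle.psc_iso (β.app E) (PscPush.psc_Rpush_flat _ _ hE m)

end Groth.Agent.Dual22Lib.PscPushApps
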