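import Groth.Agent.Dual22Lib.PscPush
import Groth.Agent.Dual22Lib.PscPushApps
import Groth.Agent.DQCoh.PscFinite
import Groth.Agent.FlatMorPerfect.Source
import Groth.Agent.FlatMorPerfect.Smooth
import Groth.Agent.FlatCx12.PCFiniteModule

/-!
# Direct images along finite pseudo-coherent and finite perfect morphisms
-/

set_option autoImplicit false
set_option backward.isDefEq.respectTransparency false
set_option backward.defeqAttrib.useBackward true
set_option linter.style.haveILetI false
set_option linter.unusedSectionVars false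
set_option synthInstance.maxHeartbeats 100000

universe u

open CategoryTheory CategoryTheory.Limits AlgebraicGeometry
open Groth.Agent.DCat Groth.Agent.Dual22Lib.BCSquare

attribute [local instance] HasDerivedCategory.standard
attribute [-instance] Int.instConditionallyCompleteLinearOrder

namespace Groth.Agent.Dual22Lib.FinitePerfPush

variable {X Y : Scheme.{u}}

/-- The pseudo-coherent module underlying a finite pseudo-coherent morphism of affine schemes. -/
theorem pc_restrict {A B : CommRingCat.{u}} (ψ : A ⟶ B) [IsFinite (Spec.map ψ)]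
    (h : MoreMor.IsPseudoCoherentMor (Spec.map ψ)) (m : ℤ) :
    DRing.IsPseudoCoherent A m ((DerivedCategory.singleFunctor (ModuleCat.{u} A) 0).obj
      ((ModuleCat.restrictScalars.{u} ψ.hom).obj (ModuleCat.of B B))) := by
  have hr : FlatMorPerfect.RingPC ψ.hom := (HasRingHomProperty.Spec_iff (P := @MoreMor.IsPseudoCoherentMor)).1 h
  letI := ψ.hom.toAlgebra
  haveI : Module.Finite A B := (IsFinite.SpecMap_iff (f := ψ)).1 inferInstance
  have h' : DRing.IsPseudoCoherentModule' A B := FlatCx12.PCFiniteModule.pcHom_iff_module.1 hr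
  let e : ModuleCat.of A B ≅ (ModuleCat.restrictScalars.{u} ψ.hom).obj (ModuleCat.of B B) :=
    LinearEquiv.toModuleIso
      { toFun := id
        invFun := id
        left_inv := fun _ => rfl
        right_inv := fun _ => rfl
        map_add' := fun _ _ => rfl
        map_smul' := fun a b => Algebra.smul_def a b }
  exact DRingLib.pc_iso ((DerivedCategory.singleFunctor (ModuleCat.{u} A) 0).mapIso e) (DRingLib.pc_of_pc' h' m)

/-- `f_* O` is pseudo-coherent for a finite pseudo-coherent morphism. -/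
theorem psc_Rpush_structure (f : X ⟶ Y) [IsFinite f] (hf : MoreMor.IsPseudoCoherentMor f) [DCoh.HasRpush f] (m : ℤ) :
    DCoh.IsPseudoCoherentD m ((DCoh.Rpush f).obj (DCoh.inD X (Coh.structureModule X))) := by
  refine DQCoh.psc_of_local _ fun y => ?_
  obtain ⟨V, hV, hy, -⟩ := exists_isAffineOpen_mem_and_subset (show y ∈ (⊤ : Y.Opens) from trivial)
  let a := hV.fromSpec
  let P := pullback f a
  haveI : IsAffine P := isAffine_of_isAffineHom (pullback.snd f a)
  let q : Spec Γ(P, ⊤) ⟶ X := P.isoSpec.inv ≫ pullback.fst f a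
  let g : Spec Γ(P, ⊤) ⟶ Spec Γ(Y, V) := P.isoSpec.inv ≫ pullback.snd f a
  let ψ : Γ(Y, V) ⟶ Γ(P, ⊤) := Spec.preimage g
  have hψ : Spec.map ψ = g := Spec.map_preimage g
  have sq : IsPullback q (Spec.map ψ) f a := by
    rw [hψ]
    exact (IsPullback.of_hasPullback f a).of_iso P.isoSpec (Iso.refl _) (Iso.refl _) (Iso.refl _)
      (by simp [q]) (by simp [g]) (by simp) (by simp)
  haveI := hasRpush a
  haveI := hasRpush q
  haveI := hasRpush (Spec.map ψ)
  haveI := hasLpull a
  haveI := hasLpull q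
  obtain ⟨ab⟩ := nonempty_pullPushAdj a
  obtain ⟨abX⟩ := nonempty_pullPushAdj q
  obtain ⟨eb⟩ := exists_e sq.w
  haveI := QCohLoc.isQCoh_structureModule X
  have hOq : DCoh.IsQCohD (DCoh.inD X (Coh.structureModule X)) :=
    DQCoh.isQCohD_of_psc (fun k => DQCoh.psc_of_perfect DCat.RHomDual.perfect_structure k)
  haveI := good_of_open sq inferInstance inferInstance inferInstance inferInstance inferInstance inferInstance
    ab abX eb _ hOq
  obtain ⟨β⟩ := nonempty_Lpull_rd a
  obtain ⟨β'⟩ := nonempty_Lpull_rd q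
  haveI := AffSchLib.preservesFiniteLimits_tilde Γ(P, ⊤)
  haveI := AffSchLib.preservesFiniteLimits_tilde Γ(Y, V)
  obtain ⟨e₀⟩ := DQCoh.nonempty_rd_structure Γ(P, ⊤) q
  obtain ⟨c⟩ := DQCoh.nonempty_tildeD_Rpush ψ
  haveI : IsFinite (Spec.map ψ) := MorphismProperty.of_isPullback sq inferInstance
  refine ⟨_, a, inferInstance, by rw [hV.opensRange_fromSpec]; exact hy,
    PCTriangle.psc_iso ((asIso ((BCAlg.bc ab abX eb).app _)).symm ≪≫ β.app _) ?_⟩
  refine PCTriangle.psc_iso ((c.app _).symm ≪≫ (DCoh.Rpush (Spec.map ψ)).mapIso (e₀ ≪≫ (β'.app _).symm))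
    (DQCoh.psc_tildeD (DRingLib.pc_iso
      (((ModuleCat.restrictScalars.{u} ψ.hom).mapDerivedCategorySingleFunctor 0).app _).symm
      (pc_restrict ψ (FlatMorPerfect.pcMor_baseChange sq hf) m)))

/-- Finite pseudo-coherent morphisms preserve pseudo-coherence. -/
theorem psc_Rpush (f : X ⟶ Y) [IsFinite f] (hf : MoreMor.IsPseudoCoherentMor f) [DCoh.HasRpush f] (E : DCoh.D X)
    (hq : DCoh.IsQCohD E) (m : ℤ) (hE : DCoh.IsPseudoCoherentD m E) :
    DCoh.IsPseudoCoherentD m ((DCoh.Rpush f).obj E) := by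
  haveI := QCohLoc.isQCoh_structureModule X
  obtain ⟨e⟩ := DQCoh.nonempty_Rpush_inD f (Coh.structureModule X)
  exact (DQCoh.psc_iff_Rpush f (fun k => PCTriangle.psc_iso e (psc_Rpush_structure f hf k)) E hq m).1 hE

/-- Finite morphisms of finite tor dimension, over quasi-compact bases. -/
theorem perfect_Rpush [CompactSpace Y] [QuasiSeparatedSpace Y] (f : X ⟶ Y) [IsFinite f]
    (hf : MoreMor.IsPerfectMor f) [DCoh.HasRpush f] (E : DCoh.D X) (hE : DCoh.IsPerfect E) :
    DCoh.IsPerfect ((DCoh.Rpush f).obj E) := by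
  haveI : CompactSpace X := QuasiCompact.compactSpace_of_compactSpace f
  let N := DerivedCategory.Q.objPreimage E
  let eN : DCoh.toD X N ≅ E := DerivedCategory.Q.objObjPreimageIso E
  have hN : DCoh.IsPerfect (DCoh.toD X N) := PCTriangle.perfect_iso eN.symm hE
  have hq : DCoh.IsQCohD (DCoh.toD X N) := PerfLift.isQCohD_perfect hN
  obtain ⟨a, b, hamp⟩ := PerfMorPush.hasFiniteTorAmplitude f hf N hN
  obtain ⟨c, hac, hc⟩ := PscPush.exists_torAmplitude_Rpush f N hq a b hamp
  exact PCTriangle.perfect_iso ((DCoh.Rpush f).mapIso eN)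
    (DQCoh.isPerfect_of_flatAmp _ a c hac (DCat.flatAmp_of_torAmp hac hc)
      (psc_Rpush f (fun U W hU hW h => (hf U W hU hW h).1) _ hq _ (DQCoh.psc_of_perfect hN _)))

/-- Finite perfect morphisms preserve perfect objects. -/
theorem pp_finite (f : X ⟶ Y) [IsFinite f] (hf : MoreMor.IsPerfectMor f) : SumAdj.PP f := by
  refine PPFlat.pp_of_local f fun y => ?_
  obtain ⟨V, hV, hy, -⟩ := exists_isAffineOpen_mem_and_subset (show y ∈ (⊤ : Y.Opens) from trivial)
  refine ⟨_, hV.fromSpec, inferInstance, by rw [hV.opensRange_fromSpec]; exact hy, ?_⟩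
  intro _ P hP
  exact perfect_Rpush _ (FlatMorPerfect.perfectMor_baseChange (IsPullback.of_hasPullback _ _) hf) P hP

/-- A finite morphism into a smooth proper one, with perfect composite. -/
theorem perfect_Rpush_comp {P : Scheme.{u}} (i : X ⟶ P) (t : P ⟶ Y) [IsFinite i] [Smooth t] [IsProper t]
    (hf : MoreMor.IsPerfectMor (i ≫ t)) [DCoh.HasRpush (i ≫ t)] (E : DCoh.D X)
    (hE : DCoh.IsPerfect E) : DCoh.IsPerfect ((DCoh.Rpush (i ≫ t)).obj E) := by
  haveI := hasRpush t
  haveI := hasRpush i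
  obtain ⟨β⟩ := DCat.nonempty_RpushComp i t
  exact PCTriangle.perfect_iso (β.app E) (PPFlat.pp_flat t _
    (pp_finite i (FlatMorPerfect.perfectMor_of_comp_smooth i t hf) E hE))

end Groth.Agent.Dual22Lib.FinitePerfPush
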