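import Groth.Agent.Dual22Lib.GammaZ
import Groth.Agent.DQCoh.RpushSum

/-!
# Sections with support: compatibilities
-/

set_option autoImplicit false
set_option backward.isDefEq.respectTransparency false
set_option backward.defeqAttrib.useBackward true
set_option linter.style.haveILetI false
set_option linter.unusedSectionVars false

universe u

open CategoryTheory CategoryTheory.Limits CategoryTheory.Pretriangulated AlgebraicGeometry

attribute [local instance] HasDerivedCategory.standard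

namespace Groth.Agent.Dual22Lib.GammaZ

open AdjGeom

variable {X Y T : Scheme.{u}}

/-- Direct images of objects killed on the preimage are killed. -/
theorem killed_Rpush (f : X ⟶ Y) [DCoh.HasRpush f] (U : Y.Opens) {K : DCoh.D X}
    (h : killed (f ⁻¹ᵁ U).ι K) : killed U.ι ((DCoh.Rpush f).obj K) := by
  haveI := DCat.hasRpush (f ∣_ U)
  haveI : (DCoh.Rpush (f ∣_ U)).IsRightAdjoint := DCat.isRightAdjoint_Rpush _
  exact IsZero.of_iso ((DCoh.Rpush (f ∣_ U)).map_isZero h)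
    ((DCat.OpenDerived.rpushRestrictIso f U).app K)

theorem killed_restrict (j : T ⟶ X) [IsOpenImmersion j] (O : X.Opens) {K : DCoh.D X} (h : killed O.ι K) :
    killed (j ⁻¹ᵁ O).ι ((DCoh.restrictD j).obj K) :=
  (killed_iff _ _).2 fun i t ht => by
    rw [Scheme.Opens.opensRange_ι] at ht
    haveI := DCat.SuppOpen.subsingleton_stalk_restrict j (DCoh.HD K i) t
      ((killed_iff O.ι K).1 h i _ (by rw [Scheme.Opens.opensRange_ι]; exact ht))
    exact DCat.SuppOpen.subsingleton_of_isZero_stalkFunctor _ t ((DCat.SuppOpen.isZero_stalkFunctor _ t).of_iso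
      ((DerSch.stalkFunctor _ t).mapIso (DCat.SuppOpen.hdMapIso (Scheme.Modules.restrictFunctor j) K i)))

theorem killed_of_two {T' T'' : Scheme.{u}} (j : T ⟶ X) [IsOpenImmersion j] (j' : T' ⟶ X) [IsOpenImmersion j']
    (j'' : T'' ⟶ X) [IsOpenImmersion j''] (hc : (j''.opensRange : Set X) ⊆ j.opensRange ∪ j'.opensRange)
    {K : DCoh.D X} (h : killed j K) (h' : killed j' K) : killed j'' K :=
  (killed_iff j'' K).2 fun i x hx => (hc hx).elim ((killed_iff j K).1 h i x) ((killed_iff j' K).1 h' i x)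

theorem isIso_counit (j : T ⟶ X) [IsOpenImmersion j] [DCoh.HasRpush j] (adj : DCoh.restrictD j ⊣ DCoh.Rpush j) :
    IsIso adj.counit := by
  obtain ⟨a, ha⟩ := exists_adj j
  haveI := ha
  haveI := a.fullyFaithfulROfIsIsoCounit.full
  haveI := a.fullyFaithfulROfIsIsoCounit.faithful
  infer_instance

theorem killed_fibre_unit (j : T ⟶ X) [IsOpenImmersion j] [DCoh.HasRpush j]
    (adj : DCoh.restrictD j ⊣ DCoh.Rpush j) {K N : DCoh.D X} {a : N ⟶ K}
    {c : (DCoh.Rpush j).obj ((DCoh.restrictD j).obj K) ⟶ N⟦(1 : ℤ)⟧}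
    (hT : Triangle.mk a (adj.unit.app K) c ∈ distTriang (DCoh.D X)) : killed j N := by
  haveI := isIso_counit j adj
  haveI : IsIso ((DCoh.restrictD j).map (adj.unit.app K)) := by
    rw [show (DCoh.restrictD j).map (adj.unit.app K) = inv (adj.counit.app _) from
      IsIso.eq_inv_of_inv_hom_id (adj.left_triangle_components K)]
    infer_instance
  exact (Triangle.isZero₁_iff_isIso₂ _ ((DCoh.restrictD j).map_distinguished _ hT)).2
    (show IsIso ((DCoh.restrictD j).map (adj.unit.app K)) from inferInstance)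

/-- The unit at sections supported in a closed subset of the open is invertible. -/
theorem isIso_unit_RgammaZ (j : T ⟶ X) [IsOpenImmersion j] (W : X.Opens)
    (hW : (W : Set X)ᶜ ⊆ Set.range j.base) [DCoh.HasRpush j] [CxOX.HasRgammaZ W.ι]
    (adj : DCoh.restrictD j ⊣ DCoh.Rpush j) (G : DCoh.D X) :
    IsIso (adj.unit.app ((CxOX.RgammaZ W.ι).obj G)) := by
  haveI := DCat.hasRpush W.ι
  obtain ⟨N, a, c, hT⟩ := distinguished_cocone_triangle₁ (adj.unit.app ((CxOX.RgammaZ W.ι).obj G))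
  refine (Triangle.isZero₁_iff_isIso₂ _ hT).1 ?_
  have h1 := killed_RgammaZ W.ι G
  have h2 := killed_Rpush j W (killed_restrict j W h1)
  have h3 : killed W.ι N := by
    refine (Triangle.isZero₁_iff_isIso₂ _ ((DCoh.restrictD W.ι).map_distinguished _ hT)).2 ?_
    exact ⟨0, h1.eq_of_src _ _, h2.eq_of_src _ _⟩
  refine DCat.SuppOpen.isZero_of_hd _ fun i => ModStalk.isZero_of_stalks fun x => ?_
  haveI : Subsingleton ((DCoh.HD N i).presheaf.stalk x) := by
    by_cases hx : x ∈ W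
    · exact (killed_iff W.ι N).1 h3 i x (by rw [Scheme.Opens.opensRange_ι]; exact hx)
    · exact (killed_iff j N).1 (killed_fibre_unit j adj hT) i x (hW hx)
  exact DCat.SuppOpen.isZero_stalkFunctor (DCoh.HD N i) x

/-- A triangle whose third vertex receives no maps from killed objects. -/
theorem bijective_of_triangle (j : T ⟶ X) [IsOpenImmersion j] {A B L : DCoh.D X} {a : A ⟶ B} {b : B ⟶ L}
    {c : L ⟶ A⟦(1 : ℤ)⟧} (hT : Triangle.mk a b c ∈ distTriang (DCoh.D X))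
    (hL : ∀ N, killed j N → ∀ g : N ⟶ L, g = 0) {N : DCoh.D X} (hN : killed j N) :
    Function.Bijective fun g : N ⟶ A => g ≫ a := by
  refine ⟨fun g g' hg => sub_eq_zero.1 ?_, fun x => ?_⟩
  · obtain ⟨y, hy⟩ := Triangle.coyoneda_exact₂ _ (inv_rot_of_distTriang _ hT) (g - g') (by
      change (g - g') ≫ a = 0
      rw [Preadditive.sub_comp]
      exact sub_eq_zero.2 hg)
    have hy0 : y = 0 := by
      apply (shiftFunctor (DCoh.D X) (1 : ℤ)).map_injective
      rw [Functor.map_zero, ← cancel_mono ((shiftFunctorCompIsoId (DCoh.D X) (-1) (1 : ℤ) (by omega)).hom.app _),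
        zero_comp]
      exact hL _ ((killed j).le_shift (1 : ℤ) N hN) _
    rw [hy, hy0, zero_comp]
  · obtain ⟨g, hg⟩ := Triangle.coyoneda_exact₂ _ hT x (hL N hN _)
    exact ⟨g, hg.symm⟩

/-- Two coreflections into killed objects agree. -/
theorem isIso_of_coreflection (j : T ⟶ X) [IsOpenImmersion j] [CxOX.HasRgammaZ j] [DCoh.HasRpush j]
    {A B : DCoh.D X} {a : A ⟶ B} (hA : killed j A)
    (hb : ∀ N, killed j N → Function.Bijective fun g : N ⟶ A => g ≫ a)
    (α : A ⟶ (CxOX.RgammaZ j).obj B) (hα : α ≫ (CxOX.RgammaZToId j).app B = a) : IsIso α := by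
  obtain ⟨β, hβ⟩ := (hb _ (killed_RgammaZ j B)).2 ((CxOX.RgammaZToId j).app B)
  simp only at hβ
  refine ⟨β, (hb A hA).1 ?_, (bijective_comp j (killed_RgammaZ j B) B).1 ?_⟩
  · simp [hβ, hα]
  · simp [hβ, hα]

/-- `Rf_* RΓ_{f⁻¹Z} ≅ RΓ_Z Rf_*`. -/
theorem Rpush_RgammaZ (f : X ⟶ Y) (U : Y.Opens) [CxOX.HasRgammaZ U.ι] [CxOX.HasRgammaZ (f ⁻¹ᵁ U).ι]
    [DCoh.HasRpush f] (K : DCoh.D X) :
    (∃ α : (DCoh.Rpush f).obj ((CxOX.RgammaZ (f ⁻¹ᵁ U).ι).obj K) ⟶
        (CxOX.RgammaZ U.ι).obj ((DCoh.Rpush f).obj K),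
      α ≫ (CxOX.RgammaZToId U.ι).app ((DCoh.Rpush f).obj K) =
        (DCoh.Rpush f).map ((CxOX.RgammaZToId (f ⁻¹ᵁ U).ι).app K)) ∧
    ∀ α : (DCoh.Rpush f).obj ((CxOX.RgammaZ (f ⁻¹ᵁ U).ι).obj K) ⟶
        (CxOX.RgammaZ U.ι).obj ((DCoh.Rpush f).obj K),
      α ≫ (CxOX.RgammaZToId U.ι).app ((DCoh.Rpush f).obj K) =
        (DCoh.Rpush f).map ((CxOX.RgammaZToId (f ⁻¹ᵁ U).ι).app K) → IsIso α := by
  haveI := DCat.hasRpush U.ι
  haveI := DCat.hasRpush (f ⁻¹ᵁ U).ι
  haveI := DCat.hasRpush (f ∣_ U)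
  haveI : DCoh.HasRpush ((f ⁻¹ᵁ U).ι ≫ f) := DCat.hasRpush _
  haveI : DCoh.HasRpush ((f ∣_ U) ≫ U.ι) := DCat.hasRpush _
  have hA := killed_Rpush f U (killed_RgammaZ (f ⁻¹ᵁ U).ι K)
  refine ⟨(bijective_comp U.ι hA _).2 _, fun α hα => ?_⟩
  obtain ⟨b, c, hT, -⟩ := exists_triangle (f ⁻¹ᵁ U).ι K
  obtain ⟨_, _⟩ := DCat.exists_commShift_Rpush f
  refine isIso_of_coreflection U.ι hA (fun N hN => bijective_of_triangle U.ι
    ((DCoh.Rpush f).map_distinguished _ hT) (fun N' hN' g => ?_) hN) α hα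
  obtain ⟨e₁⟩ := DCat.nonempty_RpushComp (f ⁻¹ᵁ U).ι f
  obtain ⟨e₂⟩ := DCat.nonempty_RpushComp (f ∣_ U) U.ι
  let M := (DCoh.restrictD (f ⁻¹ᵁ U).ι).obj K
  let e : (DCoh.Rpush f).obj ((DCoh.Rpush (f ⁻¹ᵁ U).ι).obj M) ≅
      (DCoh.Rpush U.ι).obj ((DCoh.Rpush (f ∣_ U)).obj M) :=
    e₁.app M ≪≫ eqToIso (by simp only [morphismRestrict_ι]) ≪≫ (e₂.app M).symm
  exact (cancel_mono e.hom).1 ((eq_zero_of_killed U.ι hN' _).trans zero_comp.symm)

/-- `RΓ_Z` commutes with sums of objects with quasi-coherent cohomology. -/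
theorem isIso_sigmaDesc_RgammaZ (j : T ⟶ X) [IsOpenImmersion j] [QuasiCompact j] [CxOX.HasRgammaZ j]
    {ι : Type u} (E : ι → DCoh.D X) (hE : ∀ i, DCoh.IsQCohD (E i)) [HasCoproduct E]
    [HasCoproduct (fun i => (CxOX.RgammaZ j).obj (E i))] :
    IsIso (Sigma.desc (fun i => (CxOX.RgammaZ j).map (Sigma.ι E i))) := by
  haveI := DCat.hasRpush j
  haveI : HasColimitsOfShape (Discrete ι) (DCoh.D T) :=
    DCat.hasCoproductsOfShape_derived (DCat.modules_enoughKInj T) ι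
  haveI : HasColimitsOfShape (Discrete ι) (DCoh.D X) :=
    DCat.hasCoproductsOfShape_derived (DCat.modules_enoughKInj X) ι
  obtain ⟨adj, -⟩ := exists_adj j
  let M := fun i => (DCoh.restrictD j).obj (E i)
  choose b c hT hb using fun i => exists_triangle j (E i)
  have hsum := DCat.coproduct_distinguished
    (fun i => Triangle.mk ((CxOX.RgammaZToId j).app (E i)) (b i) (c i)) hT
  have hA : killed j (∐ fun i => (CxOX.RgammaZ j).obj (E i)) := by
    haveI : (DCoh.restrictD j).IsLeftAdjoint := adj.isLeftAdjoint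
    refine (IsZero.iff_id_eq_zero _).2 ?_
    refine Cofan.IsColimit.hom_ext (isColimitCofanMkObjOfIsColimit (DCoh.restrictD j) _ _
      (coproductIsCoproduct fun i => (CxOX.RgammaZ j).obj (E i))) _ _ fun i => ?_
    exact (killed_RgammaZ j (E i)).eq_of_src _ _
  refine isIso_of_coreflection j hA (fun N hN => bijective_of_triangle j hsum (fun N' hN' g => ?_) hN) _ ?_
  · haveI := DQCoh.isIso_sigmaDesc_Rpush j M fun i => isQCohD_restrictD j (hE i)
    exact (cancel_mono (Sigma.desc fun i => (DCoh.Rpush j).map (Sigma.ι M i))).1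
      ((eq_zero_of_killed j hN' _).trans zero_comp.symm)
  · refine Sigma.hom_ext _ _ fun i => ?_
    simp


end Groth.Agent.Dual22Lib.GammaZ

namespace Groth.Agent.Dual22Lib.GammaZ

open AdjGeom

variable {X Xbar : Scheme.{u}}

/-- `Rj_*` on supported objects. -/
theorem Rpush_supported (j : X ⟶ Xbar) [IsOpenImmersion j] (U : X.Opens) (U' T : Xbar.Opens)
    (hU' : (U' : Set Xbar) = (closure (j.base '' ((U : Set X)ᶜ)))ᶜ)
    (hT : (T : Set Xbar) = (U' : Set Xbar) ∪ Set.range j.base) [DCoh.HasRpush j] [CxOX.HasRgammaZ T.ι]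
    (adj : DCoh.restrictD j ⊣ DCoh.Rpush j) :
    (∀ F : DCoh.D X, DCoh.IsQCohD F → CxOX.IsSuppD U.ι F →
        CxOX.IsSuppD U'.ι ((DCoh.Rpush j).obj F) ∧ IsZero ((CxOX.RgammaZ T.ι).obj ((DCoh.Rpush j).obj F))) ∧
    (∀ F : DCoh.D X, IsIso (adj.counit.app F)) ∧
    (∀ G : DCoh.D Xbar, DCoh.IsQCohD G → CxOX.IsSuppD U'.ι G → IsZero ((CxOX.RgammaZ T.ι).obj G) →
      IsIso (adj.unit.app G) ∧ DCoh.IsQCohD ((DCoh.restrictD j).obj G) ∧
        CxOX.IsSuppD U.ι ((DCoh.restrictD j).obj G)) := by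
  haveI := DCat.hasRpush T.ι
  have hjT : j.opensRange ≤ T.ι.opensRange := fun x hx => by
    rw [Scheme.Opens.opensRange_ι]
    show x ∈ (T : Set Xbar)
    exact hT ▸ Or.inr hx
  have hle : j ⁻¹ᵁ U' ≤ U := fun x hx => by
    by_contra hc
    have h : j x ∈ (U' : Set Xbar) := hx
    rw [hU'] at h
    exact h (subset_closure ⟨x, hc, rfl⟩)
  have hge : U ≤ j ⁻¹ᵁ U' := fun x hx => by
    show j x ∈ (U' : Set Xbar)
    rw [hU']
    intro h
    obtain ⟨_, hw, ⟨y, hy, rfl⟩⟩ := mem_closure_iff.1 h _ (j ''ᵁ U).2 ⟨x, hx, rfl⟩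
    obtain ⟨z, hz, hzy⟩ := hw
    exact hy (j.isOpenEmbedding.injective hzy ▸ hz)
  refine ⟨fun F _ hF => ⟨?_, ?_⟩, fun F => ?_, fun G hG hGs hG0 => ?_⟩
  · rw [← killed_iff_isSuppD] at hF ⊢
    exact killed_Rpush j U' (killed_mono U.ι _ (by simpa using hle) hF)
  · exact isZero_of_local T.ι fun N hN g => eq_zero_of_killed j (killed_mono T.ι j hjT hN) g
  · haveI := isIso_counit j adj
    infer_instance
  · rw [← killed_iff_isSuppD] at hGs
    have hr := killed_restrict j U' hGs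
    refine ⟨?_, isQCohD_restrictD j hG, (killed_iff_isSuppD _ _).1 (killed_mono (j ⁻¹ᵁ U').ι _ (by simpa using hge) hr)⟩
    obtain ⟨N, a, c, hTr⟩ := distinguished_cocone_triangle₁ (adj.unit.app G)
    refine (Triangle.isZero₁_iff_isIso₂ _ hTr).1 ?_
    have h2 : killed U'.ι N :=
      (Triangle.isZero₁_iff_isIso₂ _ ((DCoh.restrictD U'.ι).map_distinguished _ hTr)).2
        (show IsIso ((DCoh.restrictD U'.ι).map (adj.unit.app G)) from
          ⟨0, IsZero.eq_of_src hGs _ _, IsZero.eq_of_src (killed_Rpush j U' hr) _ _⟩)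
    have hNT : killed T.ι N := killed_of_two U'.ι j T.ι (by
      rw [Scheme.Opens.opensRange_ι, Scheme.Opens.opensRange_ι, hT]
      rfl) h2 (killed_fibre_unit j adj hTr)
    have ha : a = 0 := local_of_isZero T.ι hG0 hNT a
    obtain ⟨s, hs⟩ := Triangle.coyoneda_exact₁ _ hTr (𝟙 (N⟦(1 : ℤ)⟧)) (by
      change 𝟙 _ ≫ a⟦(1 : ℤ)⟧' = 0
      rw [ha, Functor.map_zero, comp_zero])
    have hz : IsZero (N⟦(1 : ℤ)⟧) := (IsZero.iff_id_eq_zero _).2 (by
      rw [hs]
      have := eq_zero_of_killed j ((killed j).le_shift (1 : ℤ) N (killed_fibre_unit j adj hTr)) s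
      rw [this, zero_comp])
    exact ((shiftFunctor (DCoh.D Xbar) (-1 : ℤ)).map_isZero hz).of_iso
      ((shiftFunctorCompIsoId (DCoh.D Xbar) (1 : ℤ) (-1) (by omega)).app N).symm

end Groth.Agent.Dual22Lib.GammaZ
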