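import Groth.Agent.DCat.MVTriangles
import Groth.Agent.DCat.RDUnbounded
import Groth.Agent.DCat.GPDerived
import Groth.Agent.DCat.PullPerf
import Groth.Agent.DCat.SuppOpen
import Groth.Agent.TwistLib.G.RelExact
import Groth.Prelude.Def_DCoh2

/-!
# Derived sections on affine opens detect isomorphisms
-/

set_option autoImplicit false
set_option backward.isDefEq.respectTransparency false
set_option backward.defeqAttrib.useBackward true
set_option linter.style.haveILetI false
set_option linter.unusedSectionVars false

universe u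

open CategoryTheory CategoryTheory.Limits CategoryTheory.Pretriangulated AlgebraicGeometry Opposite TopologicalSpace
open Groth.Agent.Coherent

attribute [local instance] HasDerivedCategory.standard

namespace Groth.Agent.Dual22Lib.GammaDetect

variable {X : Scheme.{u}}

/-- The complex of sections on `U`, computed on `U`. -/
noncomputable abbrev gammaOn (U : X.Opens) : CochainComplex X.Modules ℤ ⥤ CochainComplex AddCommGrpCat.{u} ℤ :=
  (Scheme.Modules.restrictFunctor U.ι).mapHomologicalComplex (ComplexShape.up ℤ) ⋙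
    (DCoh.gammaAb (U : Scheme.{u})).mapHomologicalComplex (ComplexShape.up ℤ)

/-- A complex which is exact on sections over all affine opens is exact. -/
theorem exactAt_of_sections (K : CochainComplex X.Modules ℤ) (i : ℤ)
    (h : ∀ U : X.Opens, IsAffineOpen U → ((gammaOn U).obj K).ExactAt i) : K.ExactAt i := by
  rw [K.exactAt_iff' (i - 1) i (i + 1) (by simp) (by simp)]
  refine TwistLib.G.exact_of_locally _ _ _ fun W s hs x hx => ?_
  obtain ⟨U, hU, hxU, hUW⟩ := exists_isAffineOpen_mem_and_subset (x := x) (U := W) hx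
  have hle : U.ι ''ᵁ ⊤ ≤ W := by rw [Scheme.Opens.ι_image_top]; exact hUW
  have hx' : x ∈ U.ι ''ᵁ ⊤ := by rw [Scheme.Opens.ι_image_top]; exact hxU
  have hex := h U hU
  rw [((gammaOn U).obj K).exactAt_iff' (i - 1) i (i + 1) (by simp) (by simp), ShortComplex.ab_exact_iff] at hex
  obtain ⟨a, ha⟩ := hex (resM (K.X i) hle s) (by
    change (K.d i (i + 1)).app (U.ι ''ᵁ ⊤) (resM (K.X i) hle s) = 0
    rw [app_resM, show (K.d i (i + 1)).app W s = 0 from hs, map_zero])
  exact ⟨_, hle, hx', a, ha⟩

variable [hR : ∀ U : X.Opens, DCoh.HasRΓ (U : Scheme.{u})]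

/-- A map of K-injective complexes inverted by derived sections gives a quasi-isomorphism of sections. -/
theorem isIso_gammaOn_of (U : X.Opens) {I J : CochainComplex X.Modules ℤ} [I.IsKInjective] [J.IsKInjective]
    (f : I ⟶ J) [PreservesFiniteLimits (Scheme.Modules.restrictFunctor U.ι)]
    (h : IsIso ((DCoh.RΓ (U : Scheme.{u})).map ((DCoh.restrictD U.ι).map (DerivedCategory.Q.map f)))) :
    IsIso (DerivedCategory.Q.map ((gammaOn U).map f)) := by
  let G := (Scheme.Modules.restrictFunctor U.ι).mapHomologicalComplex (ComplexShape.up ℤ)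
  let R := DCoh.RΓ (U : Scheme.{u})
  let F := DCoh.gammaKh (U : Scheme.{u})
  let η := F.totalRightDerivedUnit DerivedCategory.Qh
    (HomotopyCategory.quasiIso (U : Scheme.{u}).Modules (ComplexShape.up ℤ))
  haveI hI : IsIso (η.app ((HomotopyCategory.quotient _ _).obj (G.obj I))) :=
    DCat.isIso_unit_of_kInj (DCat.modules_enoughKInj _) F _ (DCat.OpenDerived.isKInjective_restrict U.ι I)
  haveI hJ : IsIso (η.app ((HomotopyCategory.quotient _ _).obj (G.obj J))) :=
    DCat.isIso_unit_of_kInj (DCat.modules_enoughKInj _) F _ (DCat.OpenDerived.isKInjective_restrict U.ι J)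
  haveI h1 : IsIso (R.map (DerivedCategory.Q.map (G.map f))) := by
    have e : R.map (DerivedCategory.Q.map (G.map f)) =
        R.map ((Scheme.Modules.restrictFunctor U.ι).mapDerivedCategoryFactors.inv.app I) ≫
          R.map ((DCoh.restrictD U.ι).map (DerivedCategory.Q.map f)) ≫
            R.map ((Scheme.Modules.restrictFunctor U.ι).mapDerivedCategoryFactors.hom.app J) := by
      rw [← R.map_comp, ← R.map_comp]
      congr 1
      have hn := (Scheme.Modules.restrictFunctor U.ι).mapDerivedCategoryFactors.inv.naturality f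
      dsimp at hn
      dsimp [G]
      rw [← reassoc_of% hn, Iso.inv_hom_id_app]
      exact (Category.comp_id _).symm
    rw [e]
    infer_instance
  haveI h2 : IsIso (R.map (DerivedCategory.Qh.map ((HomotopyCategory.quotient _ _).map (G.map f)))) :=
    (NatIso.isIso_map_iff (Functor.isoWhiskerRight (DerivedCategory.quotientCompQhIso _) R) (G.map f)).2 h1
  haveI h3 : IsIso (F.map ((HomotopyCategory.quotient _ _).map (G.map f))) := by
    have hn := η.naturality ((HomotopyCategory.quotient _ _).map (G.map f))
    rw [show F.map ((HomotopyCategory.quotient _ _).map (G.map f)) =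
      (η.app _ ≫ (DerivedCategory.Qh ⋙ R).map ((HomotopyCategory.quotient _ _).map (G.map f))) ≫ inv (η.app _) from
      by rw [← hn, Category.assoc, IsIso.hom_inv_id, Category.comp_id]]
    haveI : IsIso ((DerivedCategory.Qh ⋙ R).map ((HomotopyCategory.quotient _ _).map (G.map f))) := h2
    infer_instance
  exact (NatIso.isIso_map_iff (DerivedCategory.quotientCompQhIso AddCommGrpCat.{u})
    ((gammaOn U).map f)).1 h3

/-- Derived sections on affine opens detect isomorphisms. -/
theorem isIso_of_RΓ {G₁ G₂ : DCoh.D X} (φ : G₁ ⟶ G₂)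
    (h : ∀ U : X.Opens, IsAffineOpen U → IsIso ((DCoh.RΓ (U : Scheme.{u})).map ((DCoh.restrictD U.ι).map φ))) :
    IsIso φ := by
  obtain ⟨I, hI, -, ⟨e₁⟩⟩ := DCat.MV.exists_rep G₁
  obtain ⟨J, hJ, -, ⟨e₂⟩⟩ := DCat.MV.exists_rep G₂
  obtain ⟨g, hg⟩ := (CochainComplex.IsKInjective.Qh_map_bijective ((HomotopyCategory.quotient _ _).obj I) J).2
    ((DerivedCategory.quotientCompQhIso _).hom.app I ≫ (e₁.hom ≫ φ ≫ e₂.inv) ≫
      (DerivedCategory.quotientCompQhIso _).inv.app J)
  obtain ⟨f, rfl⟩ := (HomotopyCategory.quotient _ _).map_surjective g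
  have hQ : DerivedCategory.Q.map f = e₁.hom ≫ φ ≫ e₂.inv := by
    have hn := (DerivedCategory.quotientCompQhIso X.Modules).hom.naturality f
    dsimp at hn
    rw [hg, Category.assoc, Category.assoc, Iso.inv_hom_id_app] at hn
    rw [← cancel_epi ((DerivedCategory.quotientCompQhIso X.Modules).hom.app I)]
    exact hn.symm.trans (congrArg _ (Category.comp_id _))
  suffices IsIso (DerivedCategory.Q.map f) by
    rw [show φ = e₁.inv ≫ DerivedCategory.Q.map f ≫ e₂.hom by simp [hQ]]
    infer_instance
  refine (Triangle.isZero₃_iff_isIso₁ _ (DerivedCategory.mappingCone_triangle_distinguished f)).1 ?_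
  refine DCat.SuppOpen.isZero_of_hd _ fun i => ?_
  refine ((exactAt_of_sections (CochainComplex.mappingCone f) i fun U hU => ?_).isZero_homology).of_iso
    ((DerivedCategory.homologyFunctorFactors X.Modules i).app _)
  haveI := DCat.PullPerf.preservesFiniteLimits_restrict U.ι
  haveI : IsIso ((DCoh.RΓ (U : Scheme.{u})).map ((DCoh.restrictD U.ι).map φ)) := h U hU
  have := isIso_gammaOn_of U f (by
    rw [hQ]
    simp only [Functor.map_comp]
    infer_instance)
  have hz := (Triangle.isZero₃_iff_isIso₁ _
    (DerivedCategory.mappingCone_triangle_distinguished ((gammaOn U).map f))).2 this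
  let c : (gammaOn U).obj (CochainComplex.mappingCone f) ≅ CochainComplex.mappingCone ((gammaOn U).map f) :=
    ((DCoh.gammaAb (U : Scheme.{u})).mapHomologicalComplex _).mapIso
      (CochainComplex.mappingCone.mapHomologicalComplexIso f _) ≪≫
      CochainComplex.mappingCone.mapHomologicalComplexIso _ _
  rw [HomologicalComplex.exactAt_iff_isZero_homology]
  exact ((DerivedCategory.homologyFunctor _ i).map_isZero hz).of_iso
    ((HomologicalComplex.homologyFunctor _ _ i).mapIso c ≪≫
      ((DerivedCategory.homologyFunctorFactors AddCommGrpCat.{u} i).app _).symm)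

end Groth.Agent.Dual22Lib.GammaDetect
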