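import Groth.Agent.Dual22Lib.PushAcyclic
import Groth.Agent.DCat.KInjRes
import Groth.Agent.DCat.OpenDerived
import Groth.Prelude.Def_DCoh3

/-!
# `RΓ(Y, Rf_* -) = RΓ(X, -)`
-/

set_option autoImplicit false
set_option backward.isDefEq.respectTransparency false
set_option backward.defeqAttrib.useBackward true
set_option linter.style.haveILetI false
set_option linter.unusedSectionVars false
set_option synthInstance.maxHeartbeats 100000

universe u

open CategoryTheory CategoryTheory.Limits AlgebraicGeometry Opposite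
open Groth.Agent.DCat

attribute [local instance] HasDerivedCategory.standard
attribute [-instance] Int.instConditionallyCompleteLinearOrder

namespace Groth.Agent.Dual22Lib.GammaPush

variable {X Y : Scheme.{u}}

/-- Sections on equal opens. -/
noncomputable def secIso {U V : X.Opens} (h : U = V) :
    Scheme.Modules.toPresheaf X ⋙ (evaluation _ _).obj (op U) ≅
      Scheme.Modules.toPresheaf X ⋙ (evaluation _ _).obj (op V) :=
  eqToIso (by rw [h])

section

variable {A : Type (u + 1)} [Category.{u} A] [Abelian A] (h : EnoughKInj A)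
  {H : Type*} [Category H] (F : HomotopyCategory A (ComplexShape.up ℤ) ⥤ H)
  [F.HasRightDerivedFunctor (HomotopyCategory.quasiIso A (ComplexShape.up ℤ))]

/-- A composite through the derived category, computed on K-injective complexes. -/
noncomputable def viaRho {H' : Type*} [Category H'] (G : DerivedCategory A ⥤ H') :
    G ≅ rho h ⋙ (DerivedCategory.Qh ⋙ G) :=
  (Functor.leftUnitor G).symm ≪≫ Functor.isoWhiskerRight (asIso (rhoAdj h).counit).symm G ≪≫
    Functor.associator _ _ _

end

/-- The unit at a restricted direct image. -/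
theorem isIso_unit_restrict_push (f : X ⟶ Y) (B : CochainComplex X.Modules ℤ) [B.IsKInjective] (U : Y.Opens)
    [DCoh.HasRΓ (U : Scheme.{u})] :
    IsIso (((DCoh.gammaKh (U : Scheme.{u})).totalRightDerivedUnit DerivedCategory.Qh
      (HomotopyCategory.quasiIso (U : Scheme.{u}).Modules (ComplexShape.up ℤ))).app
      ((HomotopyCategory.quotient (U : Scheme.{u}).Modules (ComplexShape.up ℤ)).obj
        (((Scheme.Modules.restrictFunctor U.ι).mapHomologicalComplex (ComplexShape.up ℤ)).obj
          (((Scheme.Modules.pushforward f).mapHomologicalComplex (ComplexShape.up ℤ)).obj B)))) := by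
  haveI := PullPerf.preservesFiniteLimits_restrict U.ι
  obtain ⟨J, η, h₁, h₂, -, -⟩ := exists_kInj_res (((Scheme.Modules.pushforward f).mapHomologicalComplex (ComplexShape.up ℤ)).obj B)
  haveI := h₁
  haveI : QuasiIso η := inferInstance
  let G := (Scheme.Modules.restrictFunctor U.ι).mapHomologicalComplex (ComplexShape.up ℤ)
  let F := DCoh.gammaKh (U : Scheme.{u})
  let R := DCoh.RΓ (U : Scheme.{u})
  let u := F.totalRightDerivedUnit DerivedCategory.Qh
    (HomotopyCategory.quasiIso (U : Scheme.{u}).Modules (ComplexShape.up ℤ))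
  let g := (HomotopyCategory.quotient (U : Scheme.{u}).Modules (ComplexShape.up ℤ)).map (G.map η)
  haveI : IsIso (u.app ((HomotopyCategory.quotient _ _).obj (G.obj J))) :=
    isIso_unit_of_kInj (modules_enoughKInj _) F _ (OpenDerived.isKInjective_restrict U.ι J)
  haveI : IsIso (DerivedCategory.Qh.map g) := Localization.inverts DerivedCategory.Qh
    (HomotopyCategory.quasiIso (U : Scheme.{u}).Modules (ComplexShape.up ℤ)) g
    ((HomotopyCategory.quotient_map_mem_quasiIso_iff (G.map η)).2 (by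
      rw [HomologicalComplex.mem_quasiIso_iff]; infer_instance))
  haveI : IsIso (F.map g) := (NatIso.isIso_map_iff (DerivedCategory.quotientCompQhIso AddCommGrpCat.{u})
    ((GammaDetect.gammaOn U).map η)).2 (PushAcyclic.isIso_gammaOn_resolution f B J η U)
  haveI : IsIso (u.app ((HomotopyCategory.quotient _ _).obj
      (G.obj (((Scheme.Modules.pushforward f).mapHomologicalComplex (ComplexShape.up ℤ)).obj B))) ≫
      R.map (DerivedCategory.Qh.map g)) := by
    have hn := u.naturality g
    rw [show u.app _ ≫ R.map (DerivedCategory.Qh.map g) = F.map g ≫ u.app _ from hn.symm]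
    infer_instance
  exact IsIso.of_isIso_comp_right _ (R.map (DerivedCategory.Qh.map g))

/-- The unit at a direct image. -/
theorem isIso_unit_push (f : X ⟶ Y) (B : CochainComplex X.Modules ℤ) [B.IsKInjective] [DCoh.HasRΓ Y] :
    IsIso (((DCoh.gammaKh Y).totalRightDerivedUnit DerivedCategory.Qh
      (HomotopyCategory.quasiIso Y.Modules (ComplexShape.up ℤ))).app
      ((HomotopyCategory.quotient Y.Modules (ComplexShape.up ℤ)).obj
          (((Scheme.Modules.pushforward f).mapHomologicalComplex (ComplexShape.up ℤ)).obj B))) := by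
  obtain ⟨J, η, h₁, h₂, -, -⟩ := exists_kInj_res (((Scheme.Modules.pushforward f).mapHomologicalComplex (ComplexShape.up ℤ)).obj B)
  haveI := h₁
  haveI : QuasiIso η := inferInstance
  let F := DCoh.gammaKh Y
  let u := F.totalRightDerivedUnit DerivedCategory.Qh (HomotopyCategory.quasiIso Y.Modules (ComplexShape.up ℤ))
  let g := (HomotopyCategory.quotient Y.Modules (ComplexShape.up ℤ)).map η
  haveI : IsIso (u.app ((HomotopyCategory.quotient _ _).obj J)) := isIso_unit_of_kInj (modules_enoughKInj _) F _ h₁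
  haveI : IsIso (DerivedCategory.Qh.map g) := Localization.inverts DerivedCategory.Qh
    (HomotopyCategory.quasiIso Y.Modules (ComplexShape.up ℤ)) g
    ((HomotopyCategory.quotient_map_mem_quasiIso_iff η).2 (by
      rw [HomologicalComplex.mem_quasiIso_iff]; infer_instance))
  haveI : IsIso (F.map g) := by
    let T : Y.Opens := ⊤
    let τ : DCoh.gammaAb Y ≅ Scheme.Modules.restrictFunctor T.ι ⋙ DCoh.gammaAb (T : Scheme.{u}) :=
      secIso (Scheme.Opens.ι_image_top T).symm
    exact (NatIso.isIso_map_iff (DerivedCategory.quotientCompQhIso AddCommGrpCat.{u})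
      (((DCoh.gammaAb Y).mapHomologicalComplex (ComplexShape.up ℤ)).map η)).2
      ((NatIso.isIso_map_iff (Functor.isoWhiskerRight (NatIso.mapHomologicalComplex τ (ComplexShape.up ℤ))
        DerivedCategory.Q) η).2 (PushAcyclic.isIso_gammaOn_resolution f B J η T))
  haveI : IsIso (u.app ((HomotopyCategory.quotient _ _).obj
      (((Scheme.Modules.pushforward f).mapHomologicalComplex (ComplexShape.up ℤ)).obj B)) ≫
      (DCoh.RΓ Y).map (DerivedCategory.Qh.map g)) := by
    have hn := u.naturality g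
    rw [show u.app _ ≫ (DCoh.RΓ Y).map (DerivedCategory.Qh.map g) = F.map g ≫ u.app _ from hn.symm]
    infer_instance
  exact IsIso.of_isIso_comp_right _ ((DCoh.RΓ Y).map (DerivedCategory.Qh.map g))

/-- `RΓ(Y, Rf_* -) ≅ RΓ(X, -)`. -/
theorem nonempty_RΓ_Rpush (f : X ⟶ Y) [DCoh.HasRpush f] [DCoh.HasRΓ X] [DCoh.HasRΓ Y] :
    Nonempty (DCoh.Rpush f ⋙ DCoh.RΓ Y ≅ DCoh.RΓ X) := by
  let h := modules_enoughKInj X
  let P := (Scheme.Modules.pushforward f).mapHomotopyCategory (ComplexShape.up ℤ)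
  let u := (DCoh.gammaKh Y).totalRightDerivedUnit DerivedCategory.Qh (HomotopyCategory.quasiIso Y.Modules (ComplexShape.up ℤ))
  haveI : ∀ E : DCoh.D X, IsIso ((Functor.whiskerLeft (rho h ⋙ P) u).app E) := fun E => by
    haveI : CochainComplex.IsKInjective ((rho h).obj E).as := kInj_rho h E
    exact isIso_unit_push f ((rho h).obj E).as
  haveI : IsIso (Functor.whiskerLeft (rho h ⋙ P) u) := NatIso.isIso_of_isIso_app _
  let e₁ : DCoh.gammaKh X ≅ P ⋙ DCoh.gammaKh Y :=
    Functor.isoWhiskerRight (Functor.mapHomotopyCategoryCompIso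
      (Iso.refl (Scheme.Modules.pushforward f ⋙ DCoh.gammaAb Y) :
        Scheme.Modules.pushforward f ⋙ DCoh.gammaAb Y ≅ DCoh.gammaAb X) (ComplexShape.up ℤ)).symm DerivedCategory.Qh ≪≫
      Functor.associator _ _ _
  exact ⟨Functor.isoWhiskerRight (rfIso h (DCoh.pushKh f)) (DCoh.RΓ Y) ≪≫
    Functor.isoWhiskerRight (Functor.associator (rho h) P DerivedCategory.Qh).symm _ ≪≫
    Functor.associator (rho h ⋙ P) DerivedCategory.Qh (DCoh.RΓ Y) ≪≫
    (asIso (Functor.whiskerLeft (rho h ⋙ P) u)).symm ≪≫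
    Functor.associator _ _ _ ≪≫
    Functor.isoWhiskerLeft (rho h) e₁.symm ≪≫
    (rfIso h (DCoh.gammaKh X)).symm⟩

/-- `RΓ(f⁻¹V, E) ≅ RΓ(V, Rf_* E)`. -/
theorem nonempty_RΓ_restrict_Rpush (f : X ⟶ Y) (V : Y.Opens) [DCoh.HasRpush f] [DCoh.HasRΓ (V : Scheme.{u})]
    [DCoh.HasRΓ (f ⁻¹ᵁ V : Scheme.{u})] [PreservesFiniteLimits (Scheme.Modules.restrictFunctor V.ι)]
    [PreservesFiniteLimits (Scheme.Modules.restrictFunctor (f ⁻¹ᵁ V).ι)] :
    Nonempty (DCoh.restrictD (f ⁻¹ᵁ V).ι ⋙ DCoh.RΓ (f ⁻¹ᵁ V : Scheme.{u}) ≅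
      DCoh.Rpush f ⋙ DCoh.restrictD V.ι ⋙ DCoh.RΓ (V : Scheme.{u})) := by
  let h := modules_enoughKInj X
  let W := f ⁻¹ᵁ V
  let P := (Scheme.Modules.pushforward f).mapHomotopyCategory (ComplexShape.up ℤ)
  let RW := (Scheme.Modules.restrictFunctor W.ι).mapHomotopyCategory (ComplexShape.up ℤ)
  let RV := (Scheme.Modules.restrictFunctor V.ι).mapHomotopyCategory (ComplexShape.up ℤ)
  let uW := (DCoh.gammaKh (W : Scheme.{u})).totalRightDerivedUnit DerivedCategory.Qh
    (HomotopyCategory.quasiIso (W : Scheme.{u}).Modules (ComplexShape.up ℤ))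
  let uV := (DCoh.gammaKh (V : Scheme.{u})).totalRightDerivedUnit DerivedCategory.Qh
    (HomotopyCategory.quasiIso (V : Scheme.{u}).Modules (ComplexShape.up ℤ))
  haveI : IsIso (Functor.whiskerLeft (rho h ⋙ RW) uW) := by
    haveI : ∀ E : DCoh.D X, IsIso ((Functor.whiskerLeft (rho h ⋙ RW) uW).app E) := fun E => by
      haveI : CochainComplex.IsKInjective ((rho h).obj E).as := kInj_rho h E
      exact isIso_unit_of_kInj (modules_enoughKInj _) (DCoh.gammaKh (W : Scheme.{u})) _
        (OpenDerived.isKInjective_restrict W.ι ((rho h).obj E).as)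
    exact NatIso.isIso_of_isIso_app _
  haveI : IsIso (Functor.whiskerLeft (rho h ⋙ P ⋙ RV) uV) := by
    haveI : ∀ E : DCoh.D X, IsIso ((Functor.whiskerLeft (rho h ⋙ P ⋙ RV) uV).app E) := fun E => by
      haveI : CochainComplex.IsKInjective ((rho h).obj E).as := kInj_rho h E
      exact isIso_unit_restrict_push f ((rho h).obj E).as V
    exact NatIso.isIso_of_isIso_app _
  have himg : W.ι ''ᵁ ⊤ = f ⁻¹ᵁ (V.ι ''ᵁ ⊤) := by simp [W]
  let τ : Scheme.Modules.restrictFunctor W.ι ⋙ DCoh.gammaAb (W : Scheme.{u}) ≅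
      (Scheme.Modules.pushforward f ⋙ Scheme.Modules.restrictFunctor V.ι) ⋙ DCoh.gammaAb (V : Scheme.{u}) :=
    secIso himg
  let e₁ : RW ⋙ DCoh.gammaKh (W : Scheme.{u}) ≅ (P ⋙ RV) ⋙ DCoh.gammaKh (V : Scheme.{u}) :=
    (Functor.associator _ _ _).symm ≪≫
      Functor.isoWhiskerRight (Functor.mapHomotopyCategoryCompIso τ (ComplexShape.up ℤ) ≪≫
        (Functor.mapHomotopyCategoryCompIso (Iso.refl ((Scheme.Modules.pushforward f ⋙
          Scheme.Modules.restrictFunctor V.ι) ⋙ DCoh.gammaAb (V : Scheme.{u}))) (ComplexShape.up ℤ)).symm ≪≫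
        Functor.isoWhiskerRight (Functor.mapHomotopyCategoryCompIso (Iso.refl
          (Scheme.Modules.pushforward f ⋙ Scheme.Modules.restrictFunctor V.ι)) (ComplexShape.up ℤ)).symm _) DerivedCategory.Qh ≪≫
      Functor.associator _ _ _
  let eL : DCoh.restrictD W.ι ⋙ DCoh.RΓ (W : Scheme.{u}) ≅ rho h ⋙ RW ⋙ DCoh.gammaKh (W : Scheme.{u}) :=
    viaRho h _ ≪≫
      Functor.isoWhiskerLeft (rho h) ((Functor.associator _ _ _).symm ≪≫
        Functor.isoWhiskerRight (Scheme.Modules.restrictFunctor W.ι).mapDerivedCategoryFactorsh _ ≪≫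
        Functor.associator RW DerivedCategory.Qh _) ≪≫
      (Functor.associator _ _ _).symm ≪≫ (asIso (Functor.whiskerLeft (rho h ⋙ RW) uW)).symm ≪≫ Functor.associator _ _ _
  let eR : DCoh.Rpush f ⋙ DCoh.restrictD V.ι ⋙ DCoh.RΓ (V : Scheme.{u}) ≅
      rho h ⋙ (P ⋙ RV) ⋙ DCoh.gammaKh (V : Scheme.{u}) :=
    Functor.isoWhiskerRight (rfIso h (DCoh.pushKh f)) _ ≪≫ Functor.associator _ _ _ ≪≫
      Functor.isoWhiskerLeft (rho h) (Functor.associator P DerivedCategory.Qh _ ≪≫
        Functor.isoWhiskerLeft P ((Functor.associator _ _ _).symm ≪≫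
          Functor.isoWhiskerRight (Scheme.Modules.restrictFunctor V.ι).mapDerivedCategoryFactorsh _ ≪≫
          Functor.associator RV DerivedCategory.Qh _) ≪≫ (Functor.associator P RV _).symm) ≪≫
      (Functor.associator _ _ _).symm ≪≫ (asIso (Functor.whiskerLeft (rho h ⋙ P ⋙ RV) uV)).symm ≪≫
      Functor.associator _ _ _
  exact ⟨eL ≪≫ Functor.isoWhiskerLeft (rho h) e₁ ≪≫ eR.symm⟩

end Groth.Agent.Dual22Lib.GammaPush
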