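import Groth.Agent.Dual22Lib.AdjGeom
import Groth.Agent.DCat.TriSum
import Groth.Agent.DCat.Derived
import Groth.Agent.Coherent.ModExt
import Groth.Prelude.Def_CxOX

/-!
# The triangle of sections with support
-/

set_option autoImplicit false
set_option backward.isDefEq.respectTransparency false
set_option backward.defeqAttrib.useBackward true
set_option linter.style.haveILetI false
set_option linter.unusedSectionVars false

universe u

open CategoryTheory CategoryTheory.Limits CategoryTheory.Pretriangulated AlgebraicGeometry Opposite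

attribute [local instance] HasDerivedCategory.standard

namespace Groth.Agent.Dual22Lib.GammaZ

open AdjGeom

variable {X T : Scheme.{u}}

instance additive_gammaZ' (j : T ⟶ X) [IsOpenImmersion j] : (DCoh.gammaZ j).Additive :=
  inferInstance

/-- The unit at an injective module is an epimorphism. -/
theorem epi_unit (j : T ⟶ X) [IsOpenImmersion j] (M : X.Modules) [Injective M] :
    Epi ((Scheme.Modules.restrictAdjunction j).unit.app M) := by
  haveI := Coherent.isFlasque_toAb_of_injective M
  refine (SheafOfModules.forget X.ringCatSheaf).epi_of_epi_map (PresheafOfModules.epi_of_surjective ?_)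
  intro W
  have h := TopCat.Presheaf.IsFlasque.epi (F := (Coh.toAb M).obj) (homOfLE (j.image_preimage_le W.unop)).op
  exact (AddCommGrpCat.epi_iff_surjective _).1 h

variable (j : T ⟶ X) [IsOpenImmersion j]

/-- The short complex `Γ_Z M → M → j_* j^* M`. -/
noncomputable def supSC (M : X.Modules) : ShortComplex X.Modules :=
  ShortComplex.mk (kernel.ι ((Scheme.Modules.restrictAdjunction j).unit.app M))
    ((Scheme.Modules.restrictAdjunction j).unit.app M) (kernel.condition _)

theorem supSC_shortExact (M : X.Modules) [Injective M] : (supSC j M).ShortExact := by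
  haveI := epi_unit j M
  exact { exact := ShortComplex.exact_of_f_is_kernel _ (kernelIsKernel _)
          mono_f := (inferInstance : Mono (kernel.ι ((Scheme.Modules.restrictAdjunction j).unit.app M)))
          epi_g := (inferInstance : Epi ((Scheme.Modules.restrictAdjunction j).unit.app M)) }

variable [CxOX.HasRgammaZ j] [DCoh.HasRpush j]

/-- The localization triangle of sections with support. -/
theorem exists_triangle (K : DCoh.D X) :
    ∃ (b : K ⟶ (DCoh.Rpush j).obj ((DCoh.restrictD j).obj K))
      (c : (DCoh.Rpush j).obj ((DCoh.restrictD j).obj K) ⟶ ((CxOX.RgammaZ j).obj K)⟦(1 : ℤ)⟧),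
      Triangle.mk ((CxOX.RgammaZToId j).app K) b c ∈ distTriang (DCoh.D X) ∧
        IsIso ((DCoh.restrictD j).map b) := by
  let h := DCat.modules_enoughKInj X
  obtain ⟨I, i₀, hI, hq, -, hinj⟩ := DCat.exists_kInj_res (DerivedCategory.Q.objPreimage K)
  haveI := hq
  let e : DerivedCategory.Q.obj I ≅ K :=
    (asIso (DerivedCategory.Q.map i₀)).symm ≪≫ DerivedCategory.Q.objObjPreimageIso K
  let RJ := Scheme.Modules.restrictFunctor j ⋙ Scheme.Modules.pushforward j
  let f : ((DCoh.gammaZ j).mapHomologicalComplex (ComplexShape.up ℤ)).obj I ⟶ I :=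
    { f := fun n => (CxOX.gammaZι j).app (I.X n)
      comm' := fun p q _ => ((CxOX.gammaZι j).naturality (I.d p q)).symm }
  let g : I ⟶ (RJ.mapHomologicalComplex (ComplexShape.up ℤ)).obj I :=
    { f := fun n => (Scheme.Modules.restrictAdjunction j).unit.app (I.X n)
      comm' := fun p q _ => ((Scheme.Modules.restrictAdjunction j).unit.naturality (I.d p q)).symm }
  let S := ShortComplex.mk f g (by ext n : 1; exact kernel.condition _)
  have hS : S.ShortExact := HomologicalComplex.shortExact_of_degreewise_shortExact _ fun n => by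
    haveI := hinj n
    exact supSC_shortExact j (I.X n)
  let W := HomotopyCategory.quasiIso X.Modules (ComplexShape.up ℤ)
  let α := (CxOX.gammaZKh j).totalRightDerivedUnit DerivedCategory.Qh W
  let qI := (HomotopyCategory.quotient X.Modules (ComplexShape.up ℤ)).obj I
  haveI : IsIso (α.app qI) :=
    DCat.isIso_unit_of_mem (DCat.kInj_resolution h) (DCat.kInj_isIso_map _) α hI
  haveI := DCat.OpenDerived.isKInjective_restrict j I
  let i₁ : DerivedCategory.Q.obj S.X₁ ≅ (CxOX.RgammaZ j).obj K :=
    ((DerivedCategory.quotientCompQhIso X.Modules).app _).symm ≪≫ asIso (α.app qI) ≪≫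
      (CxOX.RgammaZ j).mapIso ((DerivedCategory.quotientCompQhIso X.Modules).app I ≪≫ e)
  let i₃ : DerivedCategory.Q.obj S.X₃ ≅ (DCoh.Rpush j).obj ((DCoh.restrictD j).obj K) :=
    DerivedCategory.Q.mapIso (HomologicalComplex.Hom.isoOfComponents (fun n => Iso.refl _)
        (fun p q _ => (Category.id_comp _).trans (Category.comp_id _).symm)) ≪≫
      ((DerivedCategory.quotientCompQhIso X.Modules).app _).symm ≪≫
      (DCat.OpenDerived.rfQIso (DCat.modules_enoughKInj T) (DCoh.pushKh j)
        (((Scheme.Modules.restrictFunctor j).mapHomologicalComplex (ComplexShape.up ℤ)).obj I)).symm ≪≫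
      (DCoh.Rpush j).mapIso (((Scheme.Modules.restrictFunctor j).mapDerivedCategoryFactors.app I).symm ≪≫
        (DCoh.restrictD j).mapIso e)
  have h₁ : i₁.hom ≫ (CxOX.RgammaZToId j).app K = DerivedCategory.Q.map f ≫ e.hom := by
    have hn := (CxOX.RgammaZToId j).naturality (((DerivedCategory.quotientCompQhIso X.Modules).app I ≪≫ e).hom)
    simp only [i₁, Iso.trans_hom, Iso.symm_hom, asIso_hom, Functor.mapIso_hom, Category.assoc]
    simp only [Functor.id_map, Iso.trans_hom] at hn
    rw [hn]
    have hf := Functor.rightDerived_fac_app (RF := CxOX.RgammaZ j) (α := α) (W := W) (G := 𝟭 (DCoh.D X))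
      (β := CxOX.gammaZKhι j ≫ (Functor.rightUnitor _).inv) qI
    rw [← Category.assoc (α.app qI)]
    erw [hf]
    simp [CxOX.gammaZKhι, qI]
    erw [Quotient.natTransLift_app]
    simp only [NatTrans.comp_app]
    simp
    erw [Category.id_comp, Category.id_comp, ← Category.assoc]
    congr 1
    have h0 : ((DCoh.gammaZ j).mapHomotopyCategoryFactors (ComplexShape.up ℤ)).hom.app I = 𝟙 _ := rfl
    erw [h0, CategoryTheory.Functor.map_id, Category.id_comp]
    rfl
    have h1 : (Functor.mapHomologicalComplexIdIso X.Modules (ComplexShape.up ℤ)).hom.app I = 𝟙 I := by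
      ext n : 1
      rfl
    rw [h1]
    erw [CategoryTheory.Functor.map_id, Category.id_comp]
  refine ⟨e.inv ≫ DerivedCategory.Q.map g ≫ i₃.hom,
    i₃.inv ≫ DerivedCategory.triangleOfSESδ hS ≫ (shiftFunctor (DCoh.D X) (1 : ℤ)).map i₁.hom, ?_, ?_⟩
  · refine isomorphic_distinguished _ (DerivedCategory.triangleOfSES_distinguished hS) _
      (Triangle.isoMk _ _ i₁.symm e.symm i₃.symm ?_ ?_ ?_)
    · dsimp [DerivedCategory.triangleOfSES, S]
      rw [Iso.comp_inv_eq, Category.assoc, ← h₁, Iso.inv_hom_id_assoc]
    · dsimp [DerivedCategory.triangleOfSES, S]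
      simp
    · dsimp [DerivedCategory.triangleOfSES, S]
      refine (Category.assoc _ _ _).trans (congrArg (i₃.inv ≫ ·) ?_)
      refine (Category.assoc _ _ _).trans ((congrArg (DerivedCategory.triangleOfSESδ hS ≫ ·) ?_).trans (Category.comp_id _))
      exact ((shiftFunctor (DCoh.D X) (1 : ℤ)).mapIso i₁).hom_inv_id
  · haveI : IsIso ((DCoh.restrictD j).map (DerivedCategory.Q.map g)) := by
      haveI : IsIso (((Scheme.Modules.restrictFunctor j).mapHomologicalComplex (ComplexShape.up ℤ)).map g) := by
        haveI : ∀ n, IsIso ((((Scheme.Modules.restrictFunctor j).mapHomologicalComplex (ComplexShape.up ℤ)).map g).f n) :=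
          fun n => by
            show IsIso ((Scheme.Modules.restrictFunctor j).map ((Scheme.Modules.restrictAdjunction j).unit.app (I.X n)))
            rw [show (Scheme.Modules.restrictFunctor j).map ((Scheme.Modules.restrictAdjunction j).unit.app (I.X n)) =
              inv ((Scheme.Modules.restrictAdjunction j).counit.app _) from
              IsIso.eq_inv_of_inv_hom_id ((Scheme.Modules.restrictAdjunction j).left_triangle_components (I.X n))]
            infer_instance
        exact HomologicalComplex.Hom.isIso_of_components _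
      exact (NatIso.isIso_map_iff (Scheme.Modules.restrictFunctor j).mapDerivedCategoryFactors g).2
        (Functor.map_isIso DerivedCategory.Q _)
    simp only [Functor.map_comp]
    infer_instance

omit [CxOX.HasRgammaZ j] in
/-- No maps from objects killed on the open to direct images from it. -/
theorem eq_zero_of_killed {N : DCoh.D X} (hN : killed j N) {L : DCoh.D T} (g : N ⟶ (DCoh.Rpush j).obj L) :
    g = 0 := by
  obtain ⟨adj, -⟩ := exists_adj j
  exact (adj.homEquiv N L).symm.injective (hN.eq_of_src _ _)

/-- `RΓ_Z K` is killed on the open. -/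
theorem killed_RgammaZ (K : DCoh.D X) : killed j ((CxOX.RgammaZ j).obj K) := by
  obtain ⟨b, c, hT, hb⟩ := exists_triangle j K
  exact (Triangle.isZero₁_iff_isIso₂ _ ((DCoh.restrictD j).map_distinguished _ hT)).2 hb

/-- The universal property of `RΓ_Z`. -/
theorem bijective_comp {N : DCoh.D X} (hN : killed j N) (K : DCoh.D X) :
    Function.Bijective fun g : N ⟶ (CxOX.RgammaZ j).obj K => g ≫ (CxOX.RgammaZToId j).app K := by
  obtain ⟨b, c, hT, -⟩ := exists_triangle j K
  refine ⟨fun g g' hg => sub_eq_zero.1 ?_, fun x => ?_⟩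
  · obtain ⟨y, hy⟩ := Triangle.coyoneda_exact₂ _ (inv_rot_of_distTriang _ hT) (g - g') (by
      change (g - g') ≫ (CxOX.RgammaZToId j).app K = 0
      rw [Preadditive.sub_comp]
      exact sub_eq_zero.2 hg)
    have hy0 : y = 0 := by
      apply (shiftFunctor (DCoh.D X) (1 : ℤ)).map_injective
      rw [Functor.map_zero, ← cancel_mono ((shiftFunctorCompIsoId (DCoh.D X) (-1) (1 : ℤ) (by omega)).hom.app _),
        zero_comp]
      exact eq_zero_of_killed j ((killed j).le_shift (1 : ℤ) N hN) _
    rw [hy, hy0, zero_comp]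
  · obtain ⟨g, hg⟩ := Triangle.coyoneda_exact₂ _ hT x (eq_zero_of_killed j hN _)
    exact ⟨g, hg.symm⟩

theorem isIso_of_killed {K : DCoh.D X} (hK : killed j K) : IsIso ((CxOX.RgammaZToId j).app K) := by
  obtain ⟨s, hs⟩ := (bijective_comp j hK K).2 (𝟙 K)
  simp only at hs
  refine ⟨s, (bijective_comp j (killed_RgammaZ j K) K).1 ?_, hs⟩
  simp [hs]

/-- An object receiving no maps from killed objects has no sections with support. -/
theorem isZero_of_local {K : DCoh.D X} (h : ∀ N, killed j N → ∀ g : N ⟶ K, g = 0) :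
    IsZero ((CxOX.RgammaZ j).obj K) := by
  refine (IsZero.iff_id_eq_zero _).2 ((bijective_comp j (killed_RgammaZ j K) K).1 ?_)
  exact (h _ (killed_RgammaZ j K) _).trans (h _ (killed_RgammaZ j K) _).symm

theorem local_of_isZero {K : DCoh.D X} (h : IsZero ((CxOX.RgammaZ j).obj K)) {N : DCoh.D X} (hN : killed j N)
    (g : N ⟶ K) : g = 0 := by
  obtain ⟨s, rfl⟩ := (bijective_comp j hN K).2 g
  simp [h.eq_of_tgt s 0]

theorem isQCohD_RgammaZ [QuasiCompact j] {K : DCoh.D X} (hK : DCoh.IsQCohD K) :
    DCoh.IsQCohD ((CxOX.RgammaZ j).obj K) := by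
  obtain ⟨b, c, hT, -⟩ := exists_triangle j K
  exact DQCoh.isQCohD_obj₃ (inv_rot_of_distTriang _ (inv_rot_of_distTriang _ hT))
    (DQCoh.isQCohD_shift hK (-1))
    (DQCoh.isQCohD_shift (DQCoh.isQCohD_Rpush j _ (isQCohD_restrictD j hK)) (-1))

omit [CxOX.HasRgammaZ j] [DCoh.HasRpush j] in
theorem killed_iff_isSuppD (K : DCoh.D X) : killed j K ↔ CxOX.IsSuppD j K := by
  rw [killed_iff]
  refine ⟨fun h i x hx hxr => hx (h i x hxr), fun h i x hx => ?_⟩
  by_contra hc
  exact h i hc hx

end Groth.Agent.Dual22Lib.GammaZ
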