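import Groth.Agent.Dual22Lib.PerfGen
import Groth.Agent.Dual22Lib.GenEnv
import Groth.Agent.Dual22Lib.SupportAdj

/-!
# Bounds on cohomology seen by maps out of perfect objects
-/

set_option autoImplicit false
set_option backward.isDefEq.respectTransparency false
set_option backward.defeqAttrib.useBackward true
set_option linter.style.haveILetI false
set_option linter.unusedSectionVars false
set_option synthInstance.maxHeartbeats 100000

universe u

open CategoryTheory CategoryTheory.Limits CategoryTheory.Pretriangulated AlgebraicGeometry Opposite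
open Groth.Agent.DCat Groth.Agent.SiteDer16 Groth.Agent.DCat.PerfLocal Groth.Agent.Dual22Lib.AdjGeom Groth.Agent.Dual22Lib.PerfSupp
open scoped ZeroObject

attribute [local instance] HasDerivedCategory.standard
attribute [-instance] Int.instConditionallyCompleteLinearOrder

namespace Groth.Agent.Dual22Lib.GenBound

variable {X : Scheme.{u}}

local notation "t₀" => (DerivedCategory.TStructure.t : CategoryTheory.Triangulated.TStructure (DCoh.D X))

/-- `Hom(P[-i], E) = 0` for `i ≪ 0`. -/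
def VanishLow (E P : DCoh.D X) : Prop := ∃ N : ℤ, ∀ i : ℤ, i ≤ N → ∀ φ : P⟦-i⟧ ⟶ E, φ = 0

/-- `Hom(P[-i], E) = 0` for `i ≫ 0`. -/
def VanishHigh (E P : DCoh.D X) : Prop := ∃ N : ℤ, ∀ i : ℤ, N ≤ i → ∀ φ : P⟦-i⟧ ⟶ E, φ = 0

theorem vanish_retract {E P Q : DCoh.D X} (r : Retract Q P) (i : ℤ) (h : ∀ φ : P⟦i⟧ ⟶ E, φ = 0)
    (φ : Q⟦i⟧ ⟶ E) : φ = 0 := by
  have := congrArg (r.i⟦i⟧' ≫ ·) (h (r.r⟦i⟧' ≫ φ))
  simpa [← Functor.map_comp_assoc, r.retract] using this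

theorem vanish_shift {E P : DCoh.D X} (n i : ℤ) (h : ∀ φ : P⟦n + i⟧ ⟶ E, φ = 0) (φ : (P⟦n⟧)⟦i⟧ ⟶ E) : φ = 0 := by
  rw [← cancel_epi ((shiftFunctorAdd (DCoh.D X) n i).hom.app P), comp_zero]
  exact h _

theorem vanish_ext {E : DCoh.D X} {T : Triangle (DCoh.D X)} (hT : T ∈ distTriang _) (i : ℤ)
    (h₁ : ∀ φ : T.obj₁⟦i⟧ ⟶ E, φ = 0) (h₃ : ∀ φ : T.obj₃⟦i⟧ ⟶ E, φ = 0) (φ : T.obj₂⟦i⟧ ⟶ E) : φ = 0 := by
  obtain ⟨g, hg⟩ := Triangle.yoneda_exact₂ _ (Triangle.shift_distinguished T hT i) φ (h₁ _)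
  rw [hg, h₃ g]
  exact comp_zero

theorem isDev_vanishLow (E : DCoh.D X) : DQCoh.IsDev (VanishLow E) where
  iso := fun {K L} e ⟨N, h⟩ => ⟨N, fun i hi φ => vanish_retract ⟨e.inv, e.hom, e.inv_hom_id⟩ (-i) (h i hi) φ⟩
  zero := fun K hK => ⟨0, fun i _ φ => ((shiftFunctor (DCoh.D X) (-i)).map_isZero hK).eq_of_src _ _⟩
  shift := fun P n ⟨N, h⟩ => ⟨N + n, fun i hi φ => vanish_shift n (-i) (by
    rw [show n + -i = -(i - n) by omega]
    exact h (i - n) (by omega)) φ⟩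
  ext := fun T hT ⟨N₁, h₁⟩ ⟨N₃, h₃⟩ => ⟨min N₁ N₃, fun i hi φ =>
    vanish_ext hT (-i) (h₁ i (by omega)) (h₃ i (by omega)) φ⟩

theorem isDev_vanishHigh (E : DCoh.D X) : DQCoh.IsDev (VanishHigh E) where
  iso := fun {K L} e ⟨N, h⟩ => ⟨N, fun i hi φ => vanish_retract ⟨e.inv, e.hom, e.inv_hom_id⟩ (-i) (h i hi) φ⟩
  zero := fun K hK => ⟨0, fun i _ φ => ((shiftFunctor (DCoh.D X) (-i)).map_isZero hK).eq_of_src _ _⟩
  shift := fun P n ⟨N, h⟩ => ⟨N + n, fun i hi φ => vanish_shift n (-i) (by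
    rw [show n + -i = -(i - n) by omega]
    exact h (i - n) (by omega)) φ⟩
  ext := fun T hT ⟨N₁, h₁⟩ ⟨N₃, h₃⟩ => ⟨max N₁ N₃, fun i hi φ =>
    vanish_ext hT (-i) (h₁ i (by omega)) (h₃ i (by omega)) φ⟩

instance (E : DCoh.D X) : ObjectProperty.IsStableUnderRetracts (VanishLow E) :=
  ⟨fun r ⟨N, h⟩ => ⟨N, fun i hi φ => vanish_retract r (-i) (h i hi) φ⟩⟩

instance (E : DCoh.D X) : ObjectProperty.IsStableUnderRetracts (VanishHigh E) :=
  ⟨fun r ⟨N, h⟩ => ⟨N, fun i hi φ => vanish_retract r (-i) (h i hi) φ⟩⟩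

/-- The pieces of an object along `U ∪ V`. -/
theorem exists_pieces [QuasiSeparatedSpace X] (U V : X.Opens) (hUV : U ⊔ V = ⊤) (hU : IsCompact (U : Set X))
    (hV : IsAffineOpen V) [DCoh.HasRpush U.ι] (E : DCoh.D X) (hE : DCoh.IsQCohD E) :
    ∃ (C K : DCoh.D X) (c : C ⟶ E) (η : E ⟶ (DCoh.Rpush U.ι).obj ((DCoh.restrictD U.ι).obj E))
      (d : (DCoh.Rpush U.ι).obj ((DCoh.restrictD U.ι).obj E) ⟶ C⟦(1 : ℤ)⟧),
      Triangle.mk c η d ∈ distTriang _ ∧ DCoh.IsQCohD C ∧ DCoh.IsPerfect K ∧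
      (∀ (i : ℤ) (ψ : K⟦i⟧ ⟶ (DCoh.Rpush U.ι).obj ((DCoh.restrictD U.ι).obj E)), ψ = 0) ∧
      (∀ i : ℤ, (∀ φ : K⟦-i⟧ ⟶ C, φ = 0) → IsZero (DCoh.HD C i)) := by
  haveI : IsAffine V := hV
  haveI : CompactSpace (U : Scheme.{u}) := isCompact_iff_compactSpace.1 hU
  haveI : CompactSpace (V : Scheme.{u}) := isCompact_iff_compactSpace.1 hV.isCompact
  haveI : QuasiCompact U.ι := quasiCompact_of_compactSpace U.ι
  haveI := DCat.hasRpush V.ι
  haveI := PullPerf.preservesFiniteLimits_restrict U.ι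
  haveI := PullPerf.preservesFiniteLimits_restrict V.ι
  obtain ⟨K, hK, hkK, hdK⟩ := PerfGen.exists_gen_affine_deg (X := (V : Scheme.{u})) (V.ι ⁻¹ᵁ U)
    (isCompact_preimage V.ι hU)
  let K' := (DCoh.Rpush V.ι).obj K
  have hcov : ∀ x : X, x ∈ V.ι.opensRange ∨ x ∈ U := fun x => by
    rcases (hUV ▸ trivial : x ∈ U ⊔ V) with hx | hx
    · exact Or.inr hx
    · exact Or.inl (by simpa using hx)
  have hK' : DCoh.IsPerfect K' := PerfSupp.isPerfect_rpush V.ι _ hcov hK hkK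
  have hkK' : killed U.ι K' := killed_rpush V.ι _ hkK
  obtain ⟨aU, haU⟩ := AdjGeom.exists_adj U.ι
  obtain ⟨aV, haV⟩ := AdjGeom.exists_adj V.ι
  haveI := haU
  haveI := haV
  obtain ⟨C, c, d, hT⟩ := distinguished_cocone_triangle₁ (aU.unit.app E)
  have hC : DCoh.IsQCohD C := DQCoh.isQCohD_obj₃ (inv_rot_of_distTriang _ (inv_rot_of_distTriang _ hT))
    (DQCoh.isQCohD_shift hE (-1))
    (DQCoh.isQCohD_shift (DQCoh.isQCohD_Rpush U.ι _ (AdjGeom.isQCohD_restrictD U.ι hE)) (-1))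
  have hkC : killed U.ι C := by
    haveI : IsIso ((DCoh.restrictD U.ι).map (aU.unit.app E)) := by
      rw [show (DCoh.restrictD U.ι).map (aU.unit.app E) = inv (aU.counit.app _) from
        IsIso.eq_inv_of_inv_hom_id (aU.left_triangle_components E)]
      infer_instance
    exact (Triangle.isZero₁_iff_isIso₂ _ ((DCoh.restrictD U.ι).map_distinguished _ hT)).2 ‹_›
  have hkCV : killed (V.ι ⁻¹ᵁ U).ι ((DCoh.restrictD V.ι).obj C) := by
    refine (killed_rd_iff _ _ _).2 (killed_mono U.ι _ ?_ hkC)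
    rw [Scheme.Hom.opensRange_comp, Scheme.Opens.opensRange_ι, Scheme.Opens.opensRange_ι]
    rintro _ ⟨y, hy, rfl⟩
    exact hy
  haveI : IsIso (aV.unit.app C) := by
    obtain ⟨N, p, q, hN⟩ := distinguished_cocone_triangle (aV.unit.app C)
    refine (Triangle.isZero₃_iff_isIso₁ _ hN).1 (PerfSupp.isZero_of_killed fun x => ?_)
    rcases hcov x with hx | hx
    · refine ⟨_, V.ι, inferInstance, hx, ?_⟩
      haveI : IsIso ((DCoh.restrictD V.ι).map (aV.unit.app C)) := by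
        rw [show (DCoh.restrictD V.ι).map (aV.unit.app C) = inv (aV.counit.app _) from
          IsIso.eq_inv_of_inv_hom_id (aV.left_triangle_components C)]
        infer_instance
      exact (Triangle.isZero₃_iff_isIso₁ _ ((DCoh.restrictD V.ι).map_distinguished _ hN)).2 ‹_›
    · exact ⟨_, U.ι, inferInstance, by simpa using hx, Triangle.isZero₃_of_isZero₁₂ _
        ((DCoh.restrictD U.ι).map_distinguished _ hN) hkC (killed_rpush V.ι _ hkCV)⟩
  refine ⟨C, K', c, aU.unit.app E, d, hT, hC, hK',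
    fun i ψ => (aU.homEquiv _ _).symm.injective ((killed_shift U.ι hkK' i).eq_of_src _ _), fun i h => ?_⟩
  have hz := hdK _ (AdjGeom.isQCohD_restrictD V.ι hC) hkCV i fun ψ => by
    let e : (DCoh.restrictD V.ι).obj (K'⟦-i⟧) ≅ K⟦-i⟧ :=
      ((DCoh.restrictD V.ι).commShiftIso (-i)).app K' ≪≫
        (shiftFunctor (DCoh.D (V : Scheme.{u})) (-i)).mapIso (asIso (aV.counit.app K))
    have h0 : aV.homEquiv _ _ (e.hom ≫ ψ) = 0 := by
      rw [← cancel_mono (inv (aV.unit.app C)), zero_comp]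
      exact h _
    rw [← cancel_epi e.hom, comp_zero]
    apply (aV.homEquiv _ _).injective
    rw [h0, Adjunction.homEquiv_unit, Functor.map_zero, comp_zero]
  refine ModStalk.isZero_of_stalks fun x => ?_
  haveI : Subsingleton ((DCoh.HD C i).presheaf.stalk x) := by
    rcases hcov x with ⟨t, rfl⟩ | hx
    · exact DCat.SuppOpen.subsingleton_stalk_of_restrict V.ι _ t
        (DCat.SuppOpen.subsingleton_of_isZero_stalkFunctor _ t ((DerSch.stalkFunctor _ t).map_isZero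
          (hz.of_iso (DCat.SuppOpen.hdMapIso (Scheme.Modules.restrictFunctor V.ι) C i).symm)))
    · exact (killed_iff U.ι C).1 hkC i x (by simpa using hx)
  exact DCat.SuppOpen.isZero_stalkFunctor _ x

/-- Maps from extended perfect objects into `Rj_*` compute maps on `U`. -/
theorem vanish_on_open [QuasiSeparatedSpace X] (U V : X.Opens) (hUV : U ⊔ V = ⊤) (hU : IsCompact (U : Set X))
    (hV : IsAffineOpen V) [DCoh.HasRpush U.ι] {P : DCoh.D (U : Scheme.{u})} (hP : DCoh.IsPerfect P) :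
    ∃ F : DCoh.D X, DCoh.IsPerfect F ∧ ∀ (Q : DCoh.D (U : Scheme.{u})) (i : ℤ),
      (∀ φ : F⟦i⟧ ⟶ (DCoh.Rpush U.ι).obj Q, φ = 0) → ∀ ψ : P⟦i⟧ ⟶ Q, ψ = 0 := by
  haveI := PullPerf.preservesFiniteLimits_restrict U.ι
  have hcompact : IsCompact ((⊥ : X.Opens) : Set X) := by simp
  obtain ⟨F, hF, -, ⟨eF⟩⟩ := exists_extend_step U V hUV hU hV ⊥ hcompact hP
    ((killed_iff _ _).2 fun j x hx => by
      rw [Scheme.Opens.opensRange_ι] at hx
      exact hx.elim)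
  obtain ⟨aU, -⟩ := AdjGeom.exists_adj U.ι
  refine ⟨F, hF, fun Q i h ψ => ?_⟩
  let e : (DCoh.restrictD U.ι).obj (F⟦i⟧) ≅ (P ⊞ P⟦(1 : ℤ)⟧)⟦i⟧ :=
    ((DCoh.restrictD U.ι).commShiftIso i).app F ≪≫ (shiftFunctor (DCoh.D (U : Scheme.{u})) i).mapIso eF
  have h0 : e.hom ≫ (biprod.fst : P ⊞ P⟦(1 : ℤ)⟧ ⟶ P)⟦i⟧' ≫ ψ = 0 := by
    apply (aU.homEquiv _ _).injective
    rw [h (aU.homEquiv _ _ (e.hom ≫ _)), Adjunction.homEquiv_unit, Functor.map_zero, comp_zero]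
  have h1 := congrArg (fun z => (biprod.inl : P ⟶ P ⊞ P⟦(1 : ℤ)⟧)⟦i⟧' ≫ e.inv ≫ z) h0
  simpa [← Functor.map_comp_assoc] using h1

/-- Boundedness below from vanishing. -/
def LowCrit (X : Scheme.{u}) : Prop :=
  ∀ E : DCoh.D X, DCoh.IsQCohD E → (∀ P : DCoh.D X, DCoh.IsPerfect P → VanishLow E P) → ∃ a : ℤ, E.IsGE a

/-- Boundedness above from vanishing. -/
def HighCrit (X : Scheme.{u}) : Prop :=
  ∀ E : DCoh.D X, DCoh.IsQCohD E → (∀ P : DCoh.D X, DCoh.IsPerfect P → VanishHigh E P) → ∃ b : ℤ, E.IsLE b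

theorem lowCrit_affine [IsAffine X] : LowCrit X := fun E hE h => by
  obtain ⟨N, hN⟩ := h _ PerfLift.isPerfect_pt_top
  exact ⟨N + 1, (DerivedCategory.isGE_iff _ _).2 fun i hi => PerfGen.isZero_HD_of_pt_top hE i (hN i (by omega))⟩

theorem highCrit_affine [IsAffine X] : HighCrit X := fun E hE h => by
  obtain ⟨N, hN⟩ := h _ PerfLift.isPerfect_pt_top
  exact ⟨N - 1, (DerivedCategory.isLE_iff _ _).2 fun i hi => PerfGen.isZero_HD_of_pt_top hE i (hN i (by omega))⟩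

theorem lowCrit_step [CompactSpace X] [QuasiSeparatedSpace X] (U V : X.Opens) (hUV : U ⊔ V = ⊤)
    (hU : IsCompact (U : Set X)) (hV : IsAffineOpen V) (ih : LowCrit (U : Scheme.{u})) : LowCrit X := by
  intro E hE h
  haveI := DCat.hasRpush U.ι
  haveI := PullPerf.preservesFiniteLimits_restrict U.ι
  obtain ⟨C, K, c, η, d, hT, hC, hK, hKL, hdet⟩ := exists_pieces U V hUV hU hV E hE
  obtain ⟨N, hN⟩ := h K hK
  have hC0 : ∀ i, i ≤ N → IsZero (DCoh.HD C i) := fun i hi => hdet i fun φ =>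
    DQCoh.hom_vanish_trans (inv_rot_of_distTriang _ hT) (fun χ => by
      apply (shiftFunctor (DCoh.D X) (1 : ℤ)).map_injective
      rw [Functor.map_zero, ← cancel_mono ((shiftFunctorCompIsoId (DCoh.D X) (-1 : ℤ) 1 (by omega)).hom.app _),
        zero_comp, ← cancel_epi ((shiftFunctorAdd (DCoh.D X) (-i) 1).hom.app K), comp_zero]
      exact hKL _ _) (hN i hi) φ
  haveI hCge : C.IsGE (N + 1) := (DerivedCategory.isGE_iff _ _).2 fun i hi => hC0 i (by omega)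
  obtain ⟨a, ha⟩ := ih _ (AdjGeom.isQCohD_restrictD U.ι hE) fun P hP => by
    obtain ⟨F, hF, hFU⟩ := vanish_on_open U V hUV hU hV hP
    obtain ⟨N', hN'⟩ := h F hF
    obtain ⟨b, hb⟩ := DQCoh.exists_isLE_perfect F hF
    haveI := hb
    haveI hC1 : (C⟦(1 : ℤ)⟧).IsGE N := (t₀).isGE_shift C (N + 1) 1 N (by omega)
    refine ⟨min N' (N - b - 1), fun i hi ψ => hFU _ (-i) (fun φ => ?_) ψ⟩
    exact DQCoh.hom_vanish_trans (rot_of_distTriang _ hT) (hN' i (by omega))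
      (fun χ => @DQCoh.eq_zero_of_isGE _ _ _ b N hb hC1 i (by omega) χ) φ
  haveI := ha
  haveI : ((DCoh.Rpush U.ι).obj ((DCoh.restrictD U.ι).obj E)).IsGE a :=
    isGE_totalRightDerived (modules_enoughKInj _) (Scheme.Modules.pushforward U.ι) _ a
  haveI := (t₀).isGE_of_ge C (min a (N + 1)) (N + 1) (min_le_right _ _)
  haveI := (t₀).isGE_of_ge ((DCoh.Rpush U.ι).obj ((DCoh.restrictD U.ι).obj E)) (min a (N + 1)) a (min_le_left _ _)
  exact ⟨_, (t₀).isGE₂ _ hT (min a (N + 1)) ‹_› ‹_›⟩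

theorem highCrit_step [CompactSpace X] [QuasiSeparatedSpace X] (U V : X.Opens) (hUV : U ⊔ V = ⊤)
    (hU : IsCompact (U : Set X)) (hV : IsAffineOpen V) (ih : HighCrit (U : Scheme.{u})) : HighCrit X := by
  intro E hE h
  haveI := DCat.hasRpush U.ι
  haveI := PullPerf.preservesFiniteLimits_restrict U.ι
  haveI : CompactSpace (U : Scheme.{u}) := isCompact_iff_compactSpace.1 hU
  haveI : QuasiCompact U.ι := quasiCompact_of_compactSpace U.ι
  obtain ⟨C, K, c, η, d, hT, hC, hK, hKL, hdet⟩ := exists_pieces U V hUV hU hV E hE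
  obtain ⟨N, hN⟩ := h K hK
  have hC0 : ∀ i, N ≤ i → IsZero (DCoh.HD C i) := fun i hi => hdet i fun φ =>
    DQCoh.hom_vanish_trans (inv_rot_of_distTriang _ hT) (fun χ => by
      apply (shiftFunctor (DCoh.D X) (1 : ℤ)).map_injective
      rw [Functor.map_zero, ← cancel_mono ((shiftFunctorCompIsoId (DCoh.D X) (-1 : ℤ) 1 (by omega)).hom.app _),
        zero_comp, ← cancel_epi ((shiftFunctorAdd (DCoh.D X) (-i) 1).hom.app K), comp_zero]
      exact hKL _ _) (hN i hi) φ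
  haveI hCle : C.IsLE (N - 1) := (DerivedCategory.isLE_iff _ _).2 fun i hi => hC0 i (by omega)
  obtain ⟨b, hb⟩ := ih _ (AdjGeom.isQCohD_restrictD U.ι hE) fun P hP => by
    obtain ⟨F, hF, hFU⟩ := vanish_on_open U V hUV hU hV hP
    obtain ⟨N', hN'⟩ := h F hF
    obtain ⟨M, hM⟩ := DQCoh.upperBound_perfect F hF
    haveI : (C⟦(1 : ℤ)⟧).IsLE (N - 2) := (t₀).isLE_shift C (N - 1) 1 (N - 2) (by omega)
    refine ⟨max N' (N - 2 + M), fun i hi ψ => hFU _ (-i) (fun φ => ?_) ψ⟩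
    exact DQCoh.hom_vanish_trans (rot_of_distTriang _ hT) (hN' i (by omega))
      (fun χ => hM _ (N - 2) (DQCoh.isQCohD_shift hC 1) inferInstance i (by omega) χ) φ
  obtain ⟨M, hM⟩ := SupportAdj.exists_isLE_Rpush U.ι
  haveI := hM _ b (AdjGeom.isQCohD_restrictD U.ι hE) hb
  let L := (DCoh.Rpush U.ι).obj ((DCoh.restrictD U.ι).obj E)
  haveI := (t₀).isLE_of_le C (N - 1) (max (b + M) (N - 1)) (le_max_right _ _)
  haveI := (t₀).isLE_of_le L (b + M) (max (b + M) (N - 1)) (le_max_left _ _)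
  exact ⟨_, (t₀).isLE₂ _ hT (max (b + M) (N - 1)) ‹_› ‹_›⟩

theorem crit [CompactSpace X] [QuasiSeparatedSpace X] : LowCrit X ∧ HighCrit X := by
  let P : Scheme.{u} → Prop := fun T => LowCrit T ∧ HighCrit T
  have haff : ∀ T : Scheme.{u}, IsAffine T → P T := fun T hT => ⟨lowCrit_affine, highCrit_affine⟩
  have hat : ∀ O : X.Opens, IsCompact (O : Set X) → OpenInduct.At P O := fun O hO => by
    refine compact_open_induction_on (P := OpenInduct.At P) O hO ?_ fun S hS U ih => ?_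
    · exact OpenInduct.at_bot fun T hT => haff T inferInstance
    intro T j hj0 hj
    haveI : QuasiSeparatedSpace T := QuasiSeparatedSpace.of_isOpenEmbedding j.isOpenEmbedding
    haveI : CompactSpace T := by
      refine isCompact_univ_iff.1 (j.isOpenEmbedding.isInducing.isCompact_iff.2 ?_)
      rw [Set.image_univ, show Set.range j = ((S ⊔ U.1 : X.Opens) : Set X) from congrArg SetLike.coe hj]
      exact hS.union U.2.isCompact
    have hr : ∀ A : X.Opens, A ≤ S ⊔ U.1 → ((j ⁻¹ᵁ A).ι ≫ j).opensRange = A := fun A hA => by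
      rw [Scheme.Hom.opensRange_comp, Scheme.Opens.opensRange_ι, Scheme.Hom.image_preimage_eq_opensRange_inf, hj]
      exact inf_eq_right.2 hA
    have hcov : j ⁻¹ᵁ S ⊔ j ⁻¹ᵁ U.1 = ⊤ := by rw [← Scheme.Hom.preimage_sup, ← hj, Scheme.Hom.preimage_opensRange]
    have haffV : IsAffineOpen (j ⁻¹ᵁ U.1) := by
      haveI : IsAffine ((j ⁻¹ᵁ U.1).ι ≫ j).opensRange := by rw [hr _ le_sup_right]; exact U.2
      exact IsAffine.of_isIso ((j ⁻¹ᵁ U.1).ι ≫ j).isoOpensRange.hom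
    obtain ⟨h₁, h₂⟩ := ih _ _ (hr _ le_sup_left)
    exact ⟨lowCrit_step _ _ hcov (isCompact_preimage j hS) haffV h₁,
      highCrit_step _ _ hcov (isCompact_preimage j hS) haffV h₂⟩
  exact hat ⊤ isCompact_univ X (𝟙 X) (Scheme.Hom.opensRange_of_isIso _)

theorem boundedBelow_iff [CompactSpace X] [QuasiSeparatedSpace X] (G : DCoh.D X) (hG : DCoh.IsPerfect G)
    (hgen : ∀ E : DCoh.D X, DCoh.IsQCohD E → (∀ (n : ℤ) (φ : G⟦n⟧ ⟶ E), φ = 0) → IsZero E)
    (E : DCoh.D X) (hE : DCoh.IsQCohD E) : (∃ a : ℤ, E.IsGE a) ↔ VanishLow E G := by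
  refine ⟨fun ⟨a, _⟩ => ?_, fun h => crit.1 E hE fun P hP =>
    GenEnv.prop_of_perfect G hG hgen (isDev_vanishLow E) h P hP⟩
  obtain ⟨b, hb⟩ := DQCoh.exists_isLE_perfect G hG
  haveI := hb
  exact ⟨a - b - 1, fun i hi φ => DQCoh.eq_zero_of_isGE b a i (by omega) φ⟩

theorem boundedAbove_iff [CompactSpace X] [QuasiSeparatedSpace X] (G : DCoh.D X) (hG : DCoh.IsPerfect G)
    (hgen : ∀ E : DCoh.D X, DCoh.IsQCohD E → (∀ (n : ℤ) (φ : G⟦n⟧ ⟶ E), φ = 0) → IsZero E)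
    (E : DCoh.D X) (hE : DCoh.IsQCohD E) : (∃ b : ℤ, E.IsLE b) ↔ VanishHigh E G := by
  refine ⟨fun ⟨b, hb⟩ => ?_, fun h => crit.2 E hE fun P hP =>
    GenEnv.prop_of_perfect G hG hgen (isDev_vanishHigh E) h P hP⟩
  obtain ⟨N, hN⟩ := DQCoh.upperBound_perfect G hG
  exact ⟨b + N, hN E b hE hb⟩

end Groth.Agent.Dual22Lib.GenBound
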