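import Groth.Agent.Dual22Lib.FinHom
import Groth.Agent.Coherent.GradedCoh

/-!
# Maps from systems of coherent modules with jointly invertible operators are eventually generated
-/

set_option autoImplicit false
set_option backward.isDefEq.respectTransparency false
set_option backward.defeqAttrib.useBackward true
set_option linter.style.haveILetI false
set_option linter.unusedSectionVars false
set_option synthInstance.maxHeartbeats 100000

universe u

open CategoryTheory CategoryTheory.Limits CategoryTheory.Pretriangulated AlgebraicGeometry Opposite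
open Groth.Agent.DCat Groth.Agent.Coherent
open scoped ZeroObject

attribute [local instance] HasDerivedCategory.standard
attribute [-instance] Int.instConditionallyCompleteLinearOrder

namespace Groth.Agent.Dual22Lib.GradedHom

theorem isIso_of_forks {C : Type*} [Category C] [HasZeroMorphisms C] {A B A' B' : C} {u : A ⟶ B} {u' : A' ⟶ B'}
    (c : KernelFork u) (hc : IsLimit c) (c' : KernelFork u') (hc' : IsLimit c') (a : A ⟶ A') (b : B ⟶ B')
    (g : c.pt ⟶ c'.pt) (w : u ≫ b = a ≫ u') (hg : g ≫ c'.ι = c.ι ≫ a) [IsIso a] [IsIso b] : IsIso g := by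
  have hz : (c'.ι ≫ inv a) ≫ u = 0 := by
    rw [← cancel_mono b, zero_comp, Category.assoc, Category.assoc, w, IsIso.inv_hom_id_assoc, c'.condition]
  refine ⟨hc.lift (KernelFork.ofι _ hz), Fork.IsLimit.hom_ext hc ?_, Fork.IsLimit.hom_ext hc' ?_⟩
  · rw [Category.assoc, Fork.IsLimit.lift_ι, Fork.ι_ofι, reassoc_of% hg, IsIso.hom_inv_id, Category.comp_id,
      Category.id_comp]
  · rw [Category.assoc, hg, ← Category.assoc, Fork.IsLimit.lift_ι, Fork.ι_ofι, Category.assoc, IsIso.inv_hom_id,
      Category.comp_id, Category.id_comp]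

theorem isIso_of_coforks {C : Type*} [Category C] [HasZeroMorphisms C] {A B A' B' : C} {u : A ⟶ B} {u' : A' ⟶ B'}
    (c : CokernelCofork u) (hc : IsColimit c) (c' : CokernelCofork u') (hc' : IsColimit c') (a : A ⟶ A') (b : B ⟶ B')
    (g : c.pt ⟶ c'.pt) (w : u ≫ b = a ≫ u') (hg : c.π ≫ g = b ≫ c'.π) [IsIso a] [IsIso b] : IsIso g := by
  have hz : u' ≫ inv b ≫ c.π = 0 := by
    rw [← cancel_epi a, comp_zero, ← Category.assoc, ← w, Category.assoc, IsIso.hom_inv_id_assoc, c.condition]
  refine ⟨hc'.desc (CokernelCofork.ofπ _ hz), Cofork.IsColimit.hom_ext hc ?_, Cofork.IsColimit.hom_ext hc' ?_⟩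
  · rw [reassoc_of% hg, Cofork.IsColimit.π_desc, Cofork.π_ofπ, IsIso.hom_inv_id_assoc, Category.comp_id]
  · rw [← Category.assoc, Cofork.IsColimit.π_desc, Cofork.π_ofπ, Category.assoc, hg, IsIso.inv_hom_id_assoc,
      Category.comp_id]

variable {R : Type u} [CommRing R] {X : Scheme.{u}}

/-- At every point either all stalks vanish or one operator is invertible in every degree. -/
def Cond {r : ℕ} (F : ℕ → X.Modules) (T : Fin r → ∀ n, F (n + 1) ⟶ F n) : Prop :=
  ∀ x : X, (∀ n, IsZero ((DerSch.stalkFunctor X x).obj (F n))) ∨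
    ∃ i, ∀ n, IsIso ((DerSch.stalkFunctor X x).map (T i n))

theorem cond_ker {r : ℕ} {F : ℕ → X.Modules} {T : Fin (r + 1) → ∀ n, F (n + 1) ⟶ F n}
    (hcomm : ∀ i j n, T j (n + 1) ≫ T i n = T i (n + 1) ≫ T j n) (h : Cond F T) :
    Cond (fun n => kernel (T (Fin.last r) n)) (fun (i : Fin r) n => kernel.map (T (Fin.last r) (n + 1))
      (T (Fin.last r) n) (T i.castSucc (n + 1)) (T i.castSucc n) (hcomm _ _ n)) := by
  intro x
  let S := DerSch.stalkFunctor X x
  rcases h x with hz | ⟨i, hi⟩
  · exact Or.inl fun n => IsZero.of_mono (S.map (kernel.ι (T (Fin.last r) n))) (hz (n + 1))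
  induction i using Fin.lastCases with
  | last =>
    refine Or.inl fun n => ?_
    haveI := hi n
    rw [IsZero.iff_id_eq_zero, ← cancel_mono (S.map (kernel.ι (T (Fin.last r) n))), Category.id_comp, zero_comp,
      ← cancel_mono (S.map (T (Fin.last r) n)), zero_comp, ← S.map_comp, kernel.condition, S.map_zero]
  | cast i =>
    refine Or.inr ⟨i, fun n => ?_⟩
    haveI := hi n
    haveI := hi (n + 1)
    exact isIso_of_forks _ (isLimitForkMapOfIsLimit' S (kernel.condition _) (kernelIsKernel (T (Fin.last r) (n + 1))))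
      _ (isLimitForkMapOfIsLimit' S (kernel.condition _) (kernelIsKernel (T (Fin.last r) n))) (S.map (T i.castSucc (n + 1)))
      (S.map (T i.castSucc n)) (S.map _) (by rw [← S.map_comp, ← S.map_comp, hcomm]) (by
        simp only [Fork.ι_ofι, ← S.map_comp, kernel.lift_ι])

theorem cond_coker {r : ℕ} {F : ℕ → X.Modules} {T : Fin (r + 1) → ∀ n, F (n + 1) ⟶ F n}
    (hcomm : ∀ i j n, T j (n + 1) ≫ T i n = T i (n + 1) ≫ T j n) (h : Cond F T) :
    Cond (fun n => cokernel (T (Fin.last r) n)) (fun (i : Fin r) n => cokernel.map (T (Fin.last r) (n + 1))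
      (T (Fin.last r) n) (T i.castSucc (n + 1)) (T i.castSucc n) (hcomm _ _ n)) := by
  intro x
  let S := DerSch.stalkFunctor X x
  rcases h x with hz | ⟨i, hi⟩
  · exact Or.inl fun n => IsZero.of_epi (S.map (cokernel.π (T (Fin.last r) n))) (hz n)
  induction i using Fin.lastCases with
  | last =>
    refine Or.inl fun n => ?_
    haveI := hi n
    rw [IsZero.iff_id_eq_zero, ← cancel_epi (S.map (cokernel.π (T (Fin.last r) n))), Category.comp_id, comp_zero,
      ← cancel_epi (S.map (T (Fin.last r) n)), comp_zero, ← S.map_comp, cokernel.condition, S.map_zero]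
  | cast i =>
    refine Or.inr ⟨i, fun n => ?_⟩
    haveI := hi n
    haveI := hi (n + 1)
    exact isIso_of_coforks _ (isColimitCoforkMapOfIsColimit' S (cokernel.condition _) (cokernelIsCokernel (T (Fin.last r) (n + 1))))
      _ (isColimitCoforkMapOfIsColimit' S (cokernel.condition _) (cokernelIsCokernel (T (Fin.last r) n))) (S.map (T i.castSucc (n + 1)))
      (S.map (T i.castSucc n)) (S.map _) (by rw [← S.map_comp, ← S.map_comp, hcomm]) (by
        simp only [Cofork.π_ofπ, ← S.map_comp, cokernel.π_desc])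

variable [X.Over (Spec (CommRingCat.of R))]

local notation "sg" => DerivedCategory.singleFunctor X.Modules 0

/-- Finiteness of maps from coherent modules in all degrees. -/
def FinAll (R : Type u) [CommRing R] [X.Over (Spec (CommRingCat.of R))] (B : DCoh.D X) : Prop :=
  ∀ (G : X.Modules), Coh.IsCoh G → ∀ q : ℤ, Module.Finite R ((sg).obj G ⟶ B⟦q⟧)

theorem FinAll.self [IsNoetherianRing R] {B : DCoh.D X} (h : FinAll R B) {G : X.Modules} (hG : Coh.IsCoh G) :
    Module.Finite R ((sg).obj G ⟶ B) :=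
  FinHom.finite_of_iso (Iso.refl _) ((shiftFunctorZero (DCoh.D X) ℤ).app B) (h G hG 0)

theorem FinAll.shift [IsNoetherianRing R] {B : DCoh.D X} (h : FinAll R B) (k : ℤ) : FinAll R (B⟦k⟧) :=
  fun G hG q => FinHom.finite_of_iso (Iso.refl _) ((shiftFunctorAdd' (DCoh.D X) k q (k + q) rfl).app B) (h G hG (k + q))

theorem eg_hom [IsNoetherianRing R] [IsLocallyNoetherian X] : ∀ (r : ℕ) (F : ℕ → X.Modules)
    (_ : ∀ n, Coh.IsCoh (F n)) (T : Fin r → ∀ n, F (n + 1) ⟶ F n)
    (_ : ∀ i j n, T j (n + 1) ≫ T i n = T i (n + 1) ≫ T j n) (_ : Cond F T) (B : DCoh.D X) (_ : FinAll R B),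
    EG (H := fun n => (sg).obj (F n) ⟶ B) fun i n => Linear.leftComp R B ((sg).map (T i n)) := by
  intro r
  induction r with
  | zero =>
    intro F _ T _ hc B _
    refine ⟨0, fun n _ x => ⟨fun i => i.elim0, ?_⟩⟩
    have hz : IsZero (F (n + 1)) := ModStalk.isZero_of_stalks fun z => by
      rcases hc z with h | ⟨i, -⟩
      · exact h (n + 1)
      · exact i.elim0
    exact ((sg).map_isZero hz).eq_of_src _ _
  | succ r ih =>
    intro F hF T hcomm hc B hB
    let t : ∀ n, F (n + 1) ⟶ F n := fun n => T (Fin.last r) n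
    let K : ℕ → X.Modules := fun n => kernel (t n)
    let C : ℕ → X.Modules := fun n => cokernel (t n)
    let I : ℕ → X.Modules := fun n => Abelian.image (t n)
    let TK : Fin r → ∀ n, K (n + 1) ⟶ K n := fun i n => kernel.map (t (n + 1)) (t n)
      (T i.castSucc (n + 1)) (T i.castSucc n) (hcomm _ _ n)
    let TC : Fin r → ∀ n, C (n + 1) ⟶ C n := fun i n => cokernel.map (t (n + 1)) (t n)
      (T i.castSucc (n + 1)) (T i.castSucc n) (hcomm _ _ n)
    have hTKι : ∀ i n, TK i n ≫ kernel.ι (t n) = kernel.ι (t (n + 1)) ≫ T i.castSucc (n + 1) :=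
      fun i n => kernel.lift_ι _ _ _
    have hTCπ : ∀ i n, cokernel.π (t (n + 1)) ≫ TC i n = T i.castSucc n ≫ cokernel.π (t n) :=
      fun i n => cokernel.π_desc _ _ _
    let TI : Fin r → ∀ n, I (n + 1) ⟶ I n := fun i n =>
      kernel.map (cokernel.π (t (n + 1))) (cokernel.π (t n)) (T i.castSucc n) (TC i n) (hTCπ i n)
    have hTIι : ∀ i n, TI i n ≫ Abelian.image.ι (t n) = Abelian.image.ι (t (n + 1)) ≫ T i.castSucc n :=
      fun i n => kernel.lift_ι _ _ _
    have hTIf : ∀ i n, Abelian.factorThruImage (t (n + 1)) ≫ TI i n =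
        T i.castSucc (n + 1) ≫ Abelian.factorThruImage (t n) := fun i n => by
      rw [← cancel_mono (Abelian.image.ι (t n)), Category.assoc, hTIι, Category.assoc,
        Abelian.image.fac, ← Category.assoc, Abelian.image.fac]
      exact hcomm _ _ n
    have hcommK : ∀ i j n, TK j (n + 1) ≫ TK i n = TK i (n + 1) ≫ TK j n := fun i j n => by
      rw [← cancel_mono (kernel.ι (t n)), Category.assoc, Category.assoc, hTKι, hTKι,
        ← Category.assoc, ← Category.assoc, hTKι, hTKι, Category.assoc, Category.assoc, hcomm]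
    have hcommC : ∀ i j n, TC j (n + 1) ≫ TC i n = TC i (n + 1) ≫ TC j n := fun i j n => by
      rw [← cancel_epi (cokernel.π (t (n + 1 + 1))), ← Category.assoc, ← Category.assoc, hTCπ, hTCπ,
        Category.assoc, Category.assoc, hTCπ, hTCπ, ← Category.assoc, ← Category.assoc, hcomm]
    have hKc : ∀ n, Coh.IsCoh (K n) := fun n => isCoh_kernel (t n) (hF (n + 1)) (hF n).1
    have hCc : ∀ n, Coh.IsCoh (C n) := fun n => isCoh_cokernel (t n) (hF (n + 1)).1 (hF n)
    -- short exact sequences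
    have hA : ∀ n, (ShortComplex.mk (kernel.ι (t n)) (Abelian.factorThruImage (t n))
        (by rw [← cancel_mono (Abelian.image.ι (t n)), Category.assoc, Abelian.image.fac, zero_comp,
          kernel.condition])).ShortExact := fun n => kerSeq_shortExact (t n)
    have hE : ∀ n, (ShortComplex.mk (Abelian.image.ι (t n)) (cokernel.π (t n))
        (kernel.condition (cokernel.π (t n)))).ShortExact := fun n => imSeq_shortExact (t n)
    let π' : ∀ n, ((sg).obj (F (n + 1)) ⟶ B) →ₗ[R] ((sg).obj (K n) ⟶ B) :=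
      fun n => Linear.leftComp R B ((sg).map (kernel.ι (t n)))
    let δ : ∀ n, ((sg).obj (I n) ⟶ B) →ₗ[R] ((sg).obj (C n) ⟶ B⟦(1 : ℤ)⟧) := fun n =>
      (Linear.leftComp R (B⟦(1 : ℤ)⟧) (hE n).singleδ).comp ((shiftFunctor (DCoh.D X) (1 : ℤ)).mapLinearMap R)
    have hπ : ∀ i n x, π' (n + 1) (Linear.leftComp R B ((sg).map (T i.castSucc (n + 1))) x) =
        Linear.leftComp R B ((sg).map (TK i n)) (π' n x) := fun i n x => by
      show (sg).map _ ≫ (sg).map _ ≫ x = (sg).map _ ≫ (sg).map _ ≫ x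
      rw [← Functor.map_comp_assoc, ← Functor.map_comp_assoc, hTKι]
    have hδ : ∀ i n x, δ (n + 1) (Linear.leftComp R B ((sg).map (TI i n)) x) =
        Linear.leftComp R (B⟦(1 : ℤ)⟧) ((sg).map (TC i n)) (δ n x) := fun i n x => by
      show (hE (n + 1)).singleδ ≫ ((sg).map (TI i n) ≫ x)⟦(1 : ℤ)⟧' = (sg).map (TC i n) ≫ (hE n).singleδ ≫ x⟦(1 : ℤ)⟧'
      have hn := (ShortComplex.ShortExact.singleTriangle.map (hE (n + 1)) (hE n)
        (ShortComplex.homMk (TI i n) (T i.castSucc n) (TC i n) (hTIι i n) (hTCπ i n).symm)).comm₃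
      dsimp at hn
      rw [Functor.map_comp, reassoc_of% hn]
    have hRK : EG (H := fun n => LinearMap.range (π' n)) (fun (i : Fin r) n =>
        (Linear.leftComp R B ((sg).map (TK i n))).restrict (p := LinearMap.range (π' n))
          (q := LinearMap.range (π' (n + 1))) (by rintro _ ⟨x, rfl⟩; exact ⟨_, hπ i n x⟩)) :=
      (ih K hKc TK hcommK (cond_ker hcomm hc) B hB).sub (fun n => hB.self (hKc n))
        (fun i j n x => by
          show (sg).map _ ≫ (sg).map _ ≫ x = (sg).map _ ≫ (sg).map _ ≫ x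
          rw [← Functor.map_comp_assoc, ← Functor.map_comp_assoc, hcommK])
        (fun n => (LinearMap.range (π' n)).subtype) (fun n => Subtype.val_injective) (fun i n x => rfl)
    have hRC : EG (H := fun n => LinearMap.range (δ n)) (fun (i : Fin r) n =>
        (Linear.leftComp R (B⟦(1 : ℤ)⟧) ((sg).map (TC i n))).restrict (p := LinearMap.range (δ n))
          (q := LinearMap.range (δ (n + 1))) (by rintro _ ⟨x, rfl⟩; exact ⟨_, hδ i n x⟩)) :=
      (ih C hCc TC hcommC (cond_coker hcomm hc) (B⟦(1 : ℤ)⟧) (hB.shift 1)).sub (fun n => (hB.shift 1).self (hCc n))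
        (fun i j n x => by
          show (sg).map _ ≫ (sg).map _ ≫ x = (sg).map _ ≫ (sg).map _ ≫ x
          rw [← Functor.map_comp_assoc, ← Functor.map_comp_assoc, hcommC])
        (fun n => (LinearMap.range (δ n)).subtype) (fun n => Subtype.val_injective) (fun i n x => rfl)
    obtain ⟨a, ha⟩ := hRK
    obtain ⟨b, hb⟩ := hRC
    refine ⟨a + b + 1, fun m hm x => ?_⟩
    obtain ⟨n, rfl⟩ : ∃ n, m = n + 1 := ⟨m - 1, by omega⟩
    obtain ⟨y₀, hy₀⟩ := ha n (by omega) ⟨π' (n + 1) x, x, rfl⟩
    choose y hy using fun i => (y₀ i).2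
    let x₁ := x - ∑ i : Fin r, Linear.leftComp R B ((sg).map (T i.castSucc (n + 1))) (y i)
    have hx₁ : π' (n + 1) x₁ = 0 := by
      have e := congrArg Subtype.val hy₀
      simp only [Submodule.coe_sum, LinearMap.restrict_apply] at e
      rw [map_sub, map_sum, sub_eq_zero]
      refine e.trans (Finset.sum_congr rfl fun i _ => ?_)
      rw [hπ, hy]
    obtain ⟨z, hz⟩ := Triangle.yoneda_exact₂ _ (hA (n + 1)).singleTriangle_distinguished x₁ hx₁
    change (sg).obj (I (n + 1)) ⟶ B at z
    change x₁ = (sg).map (Abelian.factorThruImage (t (n + 1))) ≫ z at hz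
    obtain ⟨w₀, hw₀⟩ := hb n (by omega) ⟨δ (n + 1) z, z, rfl⟩
    choose w hw using fun i => (w₀ i).2
    let z₁ := z - ∑ i : Fin r, Linear.leftComp R B ((sg).map (TI i n)) (w i)
    have hz₁ : δ (n + 1) z₁ = 0 := by
      have e := congrArg Subtype.val hw₀
      simp only [Submodule.coe_sum, LinearMap.restrict_apply] at e
      rw [map_sub, map_sum, sub_eq_zero]
      refine e.trans (Finset.sum_congr rfl fun i _ => ?_)
      rw [hδ, hw]
    obtain ⟨v, hv⟩ : ∃ v : (sg).obj (F (n + 1)) ⟶ B, z₁ = (sg).map (Abelian.image.ι (t (n + 1))) ≫ v := by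
      obtain ⟨q, hq⟩ := Triangle.yoneda_exact₂ _
        (rot_of_distTriang _ (rot_of_distTriang _ (hE (n + 1)).singleTriangle_distinguished)) (z₁⟦(1 : ℤ)⟧') hz₁
      change ((sg).obj (F (n + 1)))⟦(1 : ℤ)⟧ ⟶ B⟦(1 : ℤ)⟧ at q
      obtain ⟨v, rfl⟩ := (shiftFunctor (DCoh.D X) (1 : ℤ)).map_surjective q
      refine ⟨-v, (shiftFunctor (DCoh.D X) (1 : ℤ)).map_injective ?_⟩
      refine hq.trans ?_
      simp [Functor.map_comp]
    refine ⟨Fin.lastCases v fun i => y i + (sg).map (Abelian.factorThruImage (t n)) ≫ w i, ?_⟩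
    rw [Fin.sum_univ_castSucc]
    simp only [Fin.lastCases_last, Fin.lastCases_castSucc, map_add, Finset.sum_add_distrib]
    have h3 : x = (∑ i : Fin r, Linear.leftComp R B ((sg).map (T i.castSucc (n + 1))) (y i)) +
        (sg).map (Abelian.factorThruImage (t (n + 1))) ≫ z := by
      rw [← hz]; simp [x₁]
    have h4 : z = (∑ i : Fin r, Linear.leftComp R B ((sg).map (TI i n)) (w i)) + z₁ := by simp [z₁]
    have h1 : (sg).map (Abelian.factorThruImage (t (n + 1))) ≫ z₁ =
        Linear.leftComp R B ((sg).map (T (Fin.last r) (n + 1))) v := by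
      rw [hv, ← Functor.map_comp_assoc, Abelian.image.fac]
      rfl
    have h2 : ∀ i, (sg).map (Abelian.factorThruImage (t (n + 1))) ≫ Linear.leftComp R B ((sg).map (TI i n)) (w i) =
        Linear.leftComp R B ((sg).map (T i.castSucc (n + 1))) ((sg).map (Abelian.factorThruImage (t n)) ≫ w i) := fun i => by
      show (sg).map _ ≫ (sg).map _ ≫ w i = (sg).map _ ≫ (sg).map _ ≫ w i
      rw [← Functor.map_comp_assoc, ← Functor.map_comp_assoc, hTIf]
    rw [h3, h4, Preadditive.comp_add, Preadditive.comp_sum, h1, Finset.sum_congr rfl fun i _ => h2 i]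
    abel

end Groth.Agent.Dual22Lib.GradedHom
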