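import Groth.Agent.Dual22Lib.BCAlg
import Mathlib.CategoryTheory.Adjunction.Unique

/-!
# The adjoint of a base-changed adjunct
-/

set_option autoImplicit false
set_option linter.style.haveILetI false

universe v₁ v₂ v₃ v₄ u₁ u₂ u₃ u₄

open CategoryTheory

namespace Groth.Agent.Dual22Lib.H0SplitAlg

variable {A : Type u₁} [Category.{v₁} A] {B : Type u₂} [Category.{v₂} B]
  {A' : Type u₃} [Category.{v₃} A'] {B' : Type u₄} [Category.{v₄} B']
  {F : A ⥤ B} {F' : A' ⥤ B'} {L : B ⥤ B'} {R : B' ⥤ B} {L' : A ⥤ A'} {R' : A' ⥤ A}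
  {LF : B ⥤ A} {LF' : B' ⥤ A'}

/-- Base change carries adjuncts of isomorphisms to adjuncts of isomorphisms. -/
theorem isIso_adjunct_bc (adj : L ⊣ R) (adj' : L' ⊣ R') (adjF : LF ⊣ F) (adjF' : LF' ⊣ F')
    (e : R' ⋙ F ≅ F' ⋙ R) {B₀ : B} {E : A} (φ : LF.obj B₀ ⟶ E) [IsIso φ] :
    IsIso ((adjF'.homEquiv _ _).symm (L.map (adjF.homEquiv _ _ φ) ≫ (BCAlg.bc adj adj' e).app E)) := by
  let a₁ := adj.comp adjF'
  let a₂ := (adjF.comp adj').ofNatIsoRight e
  let lam := a₁.leftAdjointUniq a₂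
  have key : (adjF'.homEquiv _ _).symm (L.map (adjF.homEquiv _ _ φ) ≫ (BCAlg.bc adj adj' e).app E) =
      lam.hom.app B₀ ≫ L'.map φ := by
    apply (a₁.homEquiv _ _).injective
    have h1 : a₁.homEquiv _ _ (lam.hom.app B₀ ≫ L'.map φ) =
        a₂.unit.app B₀ ≫ (F' ⋙ R).map (L'.map φ) := by
      rw [Adjunction.homEquiv_naturality_right, Adjunction.homEquiv_leftAdjointUniq_hom_app]
    refine Eq.trans ?_ h1.symm
    have h2 : a₁.homEquiv B₀ (L'.obj E) ((adjF'.homEquiv _ _).symm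
        (L.map (adjF.homEquiv _ _ φ) ≫ (BCAlg.bc adj adj' e).app E)) =
        adjF.homEquiv _ _ φ ≫ F.map (adj'.unit.app E) ≫ e.hom.app (L'.obj E) := by
      show (adj.comp adjF').homEquiv B₀ (L'.obj E) _ = _
      rw [Adjunction.comp_homEquiv, Equiv.trans_apply, Equiv.apply_symm_apply,
        Adjunction.homEquiv_naturality_left, BCAlg.unit_bc]
    rw [h2]
    show _ = (a₂.homEquiv _ _) (L'.map φ)
    have h3 : a₂.homEquiv B₀ (L'.obj E) (L'.map φ) =
        (adjF.comp adj').homEquiv B₀ (L'.obj E) (L'.map φ) ≫ e.hom.app (L'.obj E) := by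
      simp only [a₂, Adjunction.homEquiv_unit, Adjunction.ofNatIsoRight]
      simp
      congr 2
      exact (e.hom.naturality (L'.map φ)).symm
    rw [h3, Adjunction.comp_homEquiv, Equiv.trans_apply]
    have h4 : adj'.homEquiv _ _ (L'.map φ) = φ ≫ adj'.unit.app E := by
      rw [Adjunction.homEquiv_unit]
      exact (adj'.unit.naturality φ).symm
    rw [h4, Adjunction.homEquiv_naturality_right, Category.assoc]
  rw [key]
  infer_instance

end Groth.Agent.Dual22Lib.H0SplitAlg
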