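import Groth.Agent.Dual22Lib.CohAdj
import Groth.Agent.Coherent.DevissageTwoThree
import Groth.Agent.DQCoh.BettiRank
import Groth.Agent.Coherent.CohBC.PushStructure

/-!
# Maps between coherent objects on a scheme proper over a Noetherian ring are finite
-/

set_option autoImplicit false
set_option backward.isDefEq.respectTransparency false
set_option backward.defeqAttrib.useBackward true
set_option linter.style.haveILetI false
set_option linter.unusedSectionVars false
set_option synthInstance.maxHeartbeats 100000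

universe u

open CategoryTheory CategoryTheory.Limits CategoryTheory.Pretriangulated AlgebraicGeometry Opposite TopologicalSpace
open Groth.Agent.DCat Groth.Agent.Coherent Groth.Agent.AssSch12
open scoped ZeroObject

attribute [local instance] HasDerivedCategory.standard
attribute [-instance] Int.instConditionallyCompleteLinearOrder
attribute [local instance] hasFiniteBiproducts

namespace Groth.Agent.Dual22Lib.HomFinite

variable {A : Type u} [CommRing A] [IsNoetherianRing A]

theorem surjective_toGlobal_id :
    letI : (Spec (CommRingCat.of A)).Over (Spec (CommRingCat.of A)) := ⟨𝟙 _⟩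
    Function.Surjective (Coh.toGlobal ((Spec (CommRingCat.of A)) ↘ Spec (CommRingCat.of A))) := fun x =>
  (ConcreteCategory.bijective_of_isIso ((Scheme.ΓSpecIso (CommRingCat.of A)).inv ≫
    (𝟙 (Spec (CommRingCat.of A)) : Spec (CommRingCat.of A) ⟶ _).appTop)).2 x

/-- Maps out of the structure sheaf are finite. -/
theorem finite_structure {X : Scheme.{u}} [X.Over (Spec (CommRingCat.of A))]
    [IsProper (X ↘ Spec (CommRingCat.of A))] :
    FinHom.FinOut (R := A) ((DerivedCategory.singleFunctor X.Modules 0).obj (Coh.structureModule X)) := by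
  intro M c hc hM
  haveI := hc
  let f := X ↘ Spec (CommRingCat.of A)
  let Y := Spec (CommRingCat.of A)
  letI : Y.Over (Spec (CommRingCat.of A)) := ⟨𝟙 _⟩
  haveI : f.IsOver (Spec (CommRingCat.of A)) := ⟨Category.comp_id _⟩
  haveI := DCat.hasRpush f
  haveI := DCat.hasLpull f
  haveI : IsLocallyNoetherian X := LocallyOfFiniteType.isLocallyNoetherian f
  obtain ⟨adj⟩ := DCat.nonempty_pullPushAdj f
  obtain ⟨e⟩ := DQCoh.nonempty_Lpull_inD f (CohBC.isFinLocFree_structureModule Y)
  let P := (DerivedCategory.singleFunctor Y.Modules 0).obj (Coh.structureModule Y)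
  let e' : (DCoh.Lpull f).obj P ≅ (DerivedCategory.singleFunctor X.Modules 0).obj (Coh.structureModule X) :=
    e ≪≫ (DerivedCategory.singleFunctor X.Modules 0).mapIso (PicLoc.pullbackStructureIso f)
  refine FinHom.finite_of_iso e' (Iso.refl M) ?_
  haveI := FinHom.finite_of_iso ((DerivedCategory.singleFunctor Y.Modules 0).mapIso (DQCoh.topStructIso Y))
    (Iso.refl ((DCoh.Rpush f).obj M))
    (FinHom.finite_unit (R := A) surjective_toGlobal_id ((DCoh.Rpush f).obj M) (SupportAdj.isCohD_Rpush f M c hM))
  let ν : ((DCoh.Lpull f).obj P ⟶ M) →ₗ[A] (P ⟶ (DCoh.Rpush f).obj M) :=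
    { toFun := fun g => adj.unit.app P ≫ (DCoh.Rpush f).map g
      map_add' := fun g g' => by
        haveI : (DCoh.Rpush f).Additive := by
          obtain ⟨_, _⟩ := DCat.exists_commShift_Rpush f
          infer_instance
        rw [Functor.map_add, Preadditive.comp_add]
      map_smul' := fun a g => by
        show adj.unit.app P ≫ (DCoh.Rpush f).map (a • g) = a • (adj.unit.app P ≫ (DCoh.Rpush f).map g)
        rw [show a • g = g ≫ (a • 𝟙 M) by rw [Linear.comp_smul, Category.comp_id], Functor.map_comp,
          ScalarD.Rpush_map_smul_id, ← Category.assoc, Linear.comp_smul, Category.comp_id] }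
  exact Module.Finite.of_injective ν fun g g' h => by
    apply (adj.homEquiv P M).injective
    rw [Adjunction.homEquiv_unit, Adjunction.homEquiv_unit]
    exact h

/-- Maps out of direct images of structure sheaves of closed subschemes are finite. -/
theorem finite_push_structure {X Z : Scheme.{u}} [X.Over (Spec (CommRingCat.of A))]
    [IsProper (X ↘ Spec (CommRingCat.of A))] (i : Z ⟶ X) [IsClosedImmersion i] :
    FinHom.FinOut (R := A)
      ((DerivedCategory.singleFunctor X.Modules 0).obj ((Coh.push i).obj (Coh.structureModule Z))) := by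
  intro M c hc hM
  haveI := hc
  haveI : IsLocallyNoetherian X := LocallyOfFiniteType.isLocallyNoetherian (X ↘ Spec (CommRingCat.of A))
  haveI : CompactSpace X := QuasiCompact.compactSpace_of_compactSpace (X ↘ Spec (CommRingCat.of A))
  haveI : IsNoetherian X := { }
  haveI : CompactSpace Z := QuasiCompact.compactSpace_of_compactSpace i
  haveI : IsLocallyNoetherian Z := LocallyOfFiniteType.isLocallyNoetherian i
  letI : Z.Over (Spec (CommRingCat.of A)) := ⟨i ≫ (X ↘ Spec (CommRingCat.of A))⟩
  haveI : i.IsOver (Spec (CommRingCat.of A)) := ⟨rfl⟩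
  haveI : IsProper (Z ↘ Spec (CommRingCat.of A)) :=
    inferInstanceAs (IsProper (i ≫ (X ↘ Spec (CommRingCat.of A))))
  haveI := DCat.hasRpush i
  haveI : QuasiSeparatedSpace Z := inferInstance
  obtain ⟨B, hB⟩ := RepLib.exists_repObj i M
  obtain ⟨c', hc'⟩ := RepLib.exists_isGE c hB
  haveI := finite_structure (A := A) B c' hc' (CohAdj.isCohD_of_rep i hB c hM)
  obtain ⟨hBq, ε, hε⟩ := hB.out
  let O := (DerivedCategory.singleFunctor Z.Modules 0).obj (Coh.structureModule Z)
  haveI hO : Coh.IsQCoh (Coh.structureModule Z) := Coherent.isQCoh_structureModule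
  have hOq : DCoh.IsQCohD O := fun p => by
    by_cases hp : p = 0
    · subst hp
      exact Coherent.isQCoh_of_iso ((DerivedCategory.singleFunctorCompHomologyFunctorIso _ 0).app _).symm (h := hO)
    · rcases lt_or_gt_of_ne hp with hlt | hlt
      · exact Coherent.isQCoh_of_isZero (DerivedCategory.isZero_of_isGE _ 0 p hlt)
      · exact Coherent.isQCoh_of_isZero (DerivedCategory.isZero_of_isLE _ 0 p hlt)
  let ν : (O ⟶ B) →ₗ[A] ((DCoh.Rpush i).obj O ⟶ M) :=
    { toFun := fun g => (DCoh.Rpush i).map g ≫ ε
      map_add' := fun g g' => by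
        haveI : (DCoh.Rpush i).Additive := by
          obtain ⟨_, _⟩ := DCat.exists_commShift_Rpush i
          infer_instance
        rw [Functor.map_add, Preadditive.add_comp]
      map_smul' := fun a g => by
        show (DCoh.Rpush i).map (a • g) ≫ ε = a • ((DCoh.Rpush i).map g ≫ ε)
        rw [show a • g = (a • 𝟙 _) ≫ g by rw [Linear.smul_comp, Category.id_comp], Functor.map_comp,
          ScalarD.Rpush_map_smul_id, Linear.smul_comp, Category.id_comp, Linear.smul_comp] }
  have hfin : Module.Finite A ((DCoh.Rpush i).obj O ⟶ M) := Module.Finite.of_surjective ν (hε O hOq).2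
  -- the direct image is the module direct image
  let E := (DCoh.Rpush i).obj O
  haveI := Coherent.hasInjectiveResolutions_modules Z
  haveI : E.IsGE 0 := RepLib.isGE_Rpush i O 0
  haveI : E.IsLE 0 := (DerivedCategory.isLE_iff _ _).2 fun p hp => by
    obtain ⟨p, rfl⟩ := Int.eq_ofNat_of_zero_le hp.le
    obtain ⟨η⟩ := SiteDer16.nonempty_iso_homology_single (modules_enoughKInj Z) (Scheme.Modules.pushforward i) (Coh.structureModule Z) p
    exact (DQCoh.isZero_rpush_affine i _ p (by omega)).of_iso η
  obtain ⟨E₀, ⟨eE⟩⟩ := DerivedCategory.exists_iso_singleFunctor_obj_of_isGE_of_isLE E 0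
  obtain ⟨η₀⟩ := SiteDer16.nonempty_iso_homology_single (modules_enoughKInj Z) (Scheme.Modules.pushforward i) (Coh.structureModule Z) 0
  let es : E₀ ≅ (Coh.push i).obj (Coh.structureModule Z) :=
    ((DerivedCategory.singleFunctorCompHomologyFunctorIso X.Modules 0).app E₀).symm ≪≫
      (DerivedCategory.homologyFunctor X.Modules 0).mapIso eE.symm ≪≫ η₀ ≪≫
      (Functor.rightDerivedZeroIsoSelf (Scheme.Modules.pushforward i)).app (Coh.structureModule Z)
  exact FinHom.finite_of_iso (eE ≪≫ (DerivedCategory.singleFunctor X.Modules 0).mapIso es) (Iso.refl M) hfin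

variable {X : Scheme.{u}} [X.Over (Spec (CommRingCat.of A))]

local notation "sg" => DerivedCategory.singleFunctor X.Modules 0

/-- Modules with finite maps into all bounded below coherent objects. -/
def K (A : Type u) [CommRing A] [X.Over (Spec (CommRingCat.of A))] (G : X.Modules) : Prop :=
  FinHom.FinOut (R := A) ((sg).obj G)

theorem finOut_shift [IsLocallyNoetherian X] {P : DCoh.D X} (h : FinHom.FinOut (R := A) P) (n : ℤ) :
    FinHom.FinOut (R := A) (P⟦n⟧) := fun L c hc hL => by
  haveI := hc
  haveI : (L⟦-n⟧).IsGE (c + n) := DerivedCategory.TStructure.t.isGE_shift L c (-n) (c + n) (by omega)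
  exact FinHom.finite_of_iso (Iso.refl _) ((shiftFunctorCompIsoId (DCoh.D X) (-n) n (by omega)).app L)
    (FinHom.finite_shift n (h (L⟦-n⟧) (c + n) ‹_› (FinHom.isCohD_shift hL (-n))))

theorem finOut_middle [IsLocallyNoetherian X] {T : Triangle (DCoh.D X)} (hT : T ∈ distTriang _)
    (h₁ : FinHom.FinOut (R := A) T.obj₁) (h₃ : FinHom.FinOut (R := A) T.obj₃) : FinHom.FinOut (R := A) T.obj₂ :=
  fun L c hc hL => FinHom.finite_middle hT (h₁ L c hc hL) (h₃ L c hc hL)

theorem finOut_of_isZero {P : DCoh.D X} (hP : IsZero P) : FinHom.FinOut (R := A) P := fun L _ _ _ => by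
  haveI : Subsingleton (P ⟶ L) := subsingleton_of_forall_eq 0 fun g => hP.eq_of_src _ _
  infer_instance

theorem devClass [IsLocallyNoetherian X] : DevClass (K A (X := X)) where
  iso e h := fun L c hc hL => FinHom.finite_of_iso ((sg).mapIso e) (Iso.refl L) (h L c hc hL)
  zero M hM := finOut_of_isZero ((sg).map_isZero hM)
  ses S hS _ _ _ := by
    have hT := hS.singleTriangle_distinguished
    refine ⟨fun h₁ h₂ => ?_, fun h₁ h₃ => finOut_middle hT h₁ h₃, fun h₂ h₃ => ?_⟩
    · exact finOut_middle (rot_of_distTriang _ hT) h₂ (finOut_shift h₁ 1)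
    · exact finOut_middle (inv_rot_of_distTriang _ hT) (finOut_shift h₃ (-1)) h₂

variable [IsProper (X ↘ Spec (CommRingCat.of A))]

theorem mem_K (G : X.Modules) (hG : Coh.IsCoh G) : K A G := by
  haveI : IsLocallyNoetherian X := LocallyOfFiniteType.isLocallyNoetherian (X ↘ Spec (CommRingCat.of A))
  haveI : CompactSpace X := QuasiCompact.compactSpace_of_compactSpace (X ↘ Spec (CommRingCat.of A))
  haveI : IsNoetherian X := { }
  have hK := devClass (A := A) (X := X)
  refine mem_of_support hK.toExt Set.univ (fun Z hZ _ _ y hy Z₀ hZ₀ hsm => ?_) ⊤ (Set.subset_univ _) G hG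
    (fun _ _ => trivial)
  refine oneK_of_summand hK hsm (fun M N i r hir _ _ hM => fun L c hc hL => ?_) (isCoh_clM y)
    (finite_push_structure (clI y).subschemeι) ?_ ?_ ?_
  · haveI := hM L c hc hL
    refine Module.Finite.of_surjective (Linear.leftComp A L ((sg).map i)) fun g => ⟨(sg).map r ≫ g, ?_⟩
    show (sg).map i ≫ (sg).map r ≫ g = g
    rw [← Functor.map_comp_assoc, hir, CategoryTheory.Functor.map_id, Category.id_comp]
  · exact (support_push_subset _ _).trans (by rw [range_clι, hy]; exact hZ₀)
  · refine killed_of_killedByIdeal (Z := closure {y}) isClosed_closure subset_rfl (isCoh_clM y) ?_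
    have := killedByIdeal_of_mono (clI y).subschemeι (Coh.structureModule (clI y).subscheme) (𝟙 (clM y))
    rwa [Scheme.IdealSheafData.ker_subschemeι] at this
  · intro hsub
    let i := (clI y).subschemeι
    obtain ⟨y', hy'⟩ : y ∈ Set.range i := by rw [range_clι]; exact subset_closure rfl
    have h0' : (clM y).presheaf.germ (⊤ : X.Opens) y trivial (clOne y ⊤) =
        (clM y).presheaf.germ (⊤ : X.Opens) y trivial 0 := hsub.elim _ _
    obtain ⟨W, hW, i₁, i₂, e₁⟩ :=
      TopCat.Presheaf.germ_eq _ y (U := (⊤ : X.Opens)) (V := (⊤ : X.Opens)) trivial trivial _ _ h0'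
    rw [map_zero] at e₁
    have e₂ : (clI y).subscheme.presheaf.map ((Opens.map i.base).map i₁).op
        (1 : Γ((clI y).subscheme, i ⁻¹ᵁ ⊤)) = 0 := e₁
    rw [map_one] at e₂
    have := congrArg ((clI y).subscheme.presheaf.germ (i ⁻¹ᵁ W) y'
      (show i y' ∈ W from hy'.symm ▸ hW)) e₂
    rw [map_one, map_zero] at this
    exact one_ne_zero this

theorem finOut_bounded (P : DCoh.D X) (a b : ℤ) (ha : P.IsGE a) (hb : P.IsLE b) (hP : DCoh.IsCohD P) :
    FinHom.FinOut (R := A) P := by
  haveI : IsLocallyNoetherian X := LocallyOfFiniteType.isLocallyNoetherian (X ↘ Spec (CommRingCat.of A))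
  have hz : ∀ Z : X.Modules, IsZero Z → DQCoh.coh X Z := (DQCoh.coh_ops X).1
  let t : Triangulated.TStructure (DCoh.D X) := DerivedCategory.TStructure.t
  obtain ⟨n, hn⟩ : ∃ n : ℕ, b < a + n := ⟨(b - a + 1).toNat, by omega⟩
  induction n generalizing P b with
  | zero => exact finOut_of_isZero (WayOut.isZero_of_isGE_of_isLE P a b (by push_cast at hn; omega))
  | succ n ih =>
    haveI := ha
    haveI := hb
    refine finOut_middle (t.triangleLTGE_distinguished b P)
      (ih _ (b - 1) (TwistSys.isGE_truncLT P b a) (t.isLE_truncLT_obj P b (b - 1) (by omega))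
        (WayOut.prop_homology_truncLT (DQCoh.coh X) hz P b hP) (by push_cast at hn ⊢; omega)) ?_
    obtain ⟨M, ⟨e⟩⟩ := DerivedCategory.exists_iso_singleFunctor_obj_of_isGE_of_isLE ((t.truncGE b).obj P) b
    have hM : Coh.IsCoh M := Coherent.isCoh_iso ((DerivedCategory.homologyFunctor X.Modules b).mapIso e ≪≫
      (DerivedCategory.singleFunctorCompHomologyFunctorIso X.Modules b).app M)
      (WayOut.prop_homology_truncGE (DQCoh.coh X) hz P b hP b)
    intro L c hc hL
    exact FinHom.finite_of_iso (e ≪≫ WayOut.singleIso M b).symm (Iso.refl L)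
      (finOut_shift (mem_K (A := A) M hM) (-b) L c hc hL)

/-- Maps from a bounded above coherent object to a bounded below one are finite. -/
theorem finite_hom (P L : DCoh.D X) (b c : ℤ) [P.IsLE b] [L.IsGE c] (hP : DCoh.IsCohD P) (hL : DCoh.IsCohD L) :
    Module.Finite A (P ⟶ L) := by
  haveI : IsLocallyNoetherian X := LocallyOfFiniteType.isLocallyNoetherian (X ↘ Spec (CommRingCat.of A))
  let t : Triangulated.TStructure (DCoh.D X) := DerivedCategory.TStructure.t
  let U := (t.truncGE c).obj P
  haveI : U.IsLE b := inferInstance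
  haveI := finOut_bounded (A := A) U c b inferInstance ‹_›
    (WayOut.prop_homology_truncGE (DQCoh.coh X) (DQCoh.coh_ops X).1 P c hP) L c ‹_› hL
  refine Module.Finite.of_surjective (Linear.leftComp A L ((t.truncGEπ c).app P)) fun g => ?_
  haveI : ((t.truncLT c).obj P).IsLE (c - 1) := t.isLE_truncLT_obj P c (c - 1) (by omega)
  obtain ⟨h, hh⟩ := Triangle.yoneda_exact₂ _ (t.triangleLTGE_distinguished c P) g
    (t.zero _ (c - 1) c (by omega))
  exact ⟨h, hh.symm⟩

end Groth.Agent.Dual22Lib.HomFinite
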