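import Groth.Agent.Dual22Lib.PscPush
import Groth.Agent.Dual22Lib.H0SplitAlg
import Groth.Agent.Dual22Lib.HomFinite
import Groth.Agent.DQCoh.Betti

/-!
# `H⁰` of the structure sheaf on a fibre
-/

set_option autoImplicit false
set_option backward.isDefEq.respectTransparency false
set_option backward.defeqAttrib.useBackward true
set_option linter.style.haveILetI false
set_option linter.unusedSectionVars false
set_option synthInstance.maxHeartbeats 100000

universe u

open CategoryTheory CategoryTheory.Limits CategoryTheory.Pretriangulated DerivedCategory AlgebraicGeometry Opposite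
open Groth.Agent.DCat Groth.Agent.SiteDer16

attribute [local instance] HasDerivedCategory.standard
attribute [-instance] Int.instConditionallyCompleteLinearOrder

namespace Groth.Agent.Dual22Lib.H0Fibre

/-- A nonzero map between quasi-coherent modules of rank one over a field is invertible. -/
theorem isIso_of_ne_zero {L : CommRingCat.{u}} (hL : IsField L) {M N : (Spec L).Modules}
    (hM : Coh.IsQCoh M) (hN : Coh.IsQCoh N)
    (dM : Module.finrank (Coh.Γtop (Spec L)) (M.val.obj (op ⊤)) = 1)
    (dN : Module.finrank (Coh.Γtop (Spec L)) (N.val.obj (op ⊤)) = 1) (φ : M ⟶ N) (hφ : φ ≠ 0) : IsIso φ := by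
  letI := hL.toField
  haveI := (isQuasicoherent_iff_isIso_fromTildeΓ M).1 hM
  haveI := (isQuasicoherent_iff_isIso_fromTildeΓ N).1 hN
  let G := moduleSpecΓFunctor (R := L)
  have h' := Scheme.Modules.fromTildeΓNatTrans.naturality φ
  have eM : Module.finrank L (G.obj M) = 1 :=
    ((DQCoh.finrank_top_tilde L (G.obj M)).symm.trans (DQCoh.finrank_top_congr (asIso M.fromTildeΓ))).trans dM
  have eN : Module.finrank L (G.obj N) = 1 :=
    ((DQCoh.finrank_top_tilde L (G.obj N)).symm.trans (DQCoh.finrank_top_congr (asIso N.fromTildeΓ))).trans dN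
  haveI : Module.Finite L (G.obj M) := Module.finite_of_finrank_eq_succ eM
  haveI : Module.Finite L (G.obj N) := Module.finite_of_finrank_eq_succ eN
  have hne : G.map φ ≠ 0 := fun h0 => hφ (by
    rw [← cancel_epi M.fromTildeΓ, comp_zero]
    refine h'.symm.trans ?_
    rw [Functor.comp_map, h0, Functor.map_zero, zero_comp])
  have hinj : Function.Injective (G.map φ).hom := by
    obtain ⟨x, hx⟩ : ∃ x, (G.map φ).hom x ≠ 0 := by
      by_contra hc
      push_neg at hc
      exact hne (ModuleCat.hom_ext (LinearMap.ext hc))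
    have hx0 : x ≠ 0 := fun h => hx (by rw [h, map_zero])
    refine (injective_iff_map_eq_zero _).2 fun y hy => ?_
    obtain ⟨c, rfl⟩ := (finrank_eq_one_iff_of_nonzero' x hx0).1 eM y
    rw [map_smul] at hy
    rw [(smul_eq_zero.1 hy).resolve_right hx, zero_smul]
  haveI : IsIso (G.map φ) := (ConcreteCategory.isIso_iff_bijective _).2
    ⟨hinj, (LinearMap.injective_iff_surjective_of_finrank_eq_finrank (eM.trans eN.symm)).1 hinj⟩
  haveI : IsIso ((G ⋙ tilde.functor L).map φ) := Functor.map_isIso (tilde.functor L) (G.map φ)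
  haveI : IsIso (M.fromTildeΓ ≫ φ) := by
    have : IsIso ((G ⋙ tilde.functor L).map φ ≫ N.fromTildeΓ) := inferInstance
    exact h' ▸ this
  exact IsIso.of_isIso_comp_left M.fromTildeΓ φ

/-- The rank of the direct image of the structure sheaf. -/
theorem finrank_push {S Z : Scheme.{u}} (f : Z ⟶ S) [IsIso f.appTop] [Nontrivial (Coh.Γtop S)] :
    Module.finrank (Coh.Γtop S) (((Scheme.Modules.pushforward f).obj (Coh.structureModule Z)).val.obj (op ⊤)) = 1 := by
  let M := ((Scheme.Modules.pushforward f).obj (Coh.structureModule Z)).val.obj (op ⊤)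
  let one : M := (1 : Coh.Γtop Z)
  have hb : Function.Bijective (LinearMap.toSpanSingleton (Coh.Γtop S) M one) := by
    have e : ∀ r : Coh.Γtop S, (LinearMap.toSpanSingleton (Coh.Γtop S) M one r : Coh.Γtop Z) =
        f.appTop.hom r := fun r => by
      show (f.appTop.hom r : Coh.Γtop Z) * 1 = _
      rw [mul_one]
    refine ⟨fun a b h => ?_, fun y => ?_⟩
    · exact (ConcreteCategory.bijective_of_isIso f.appTop).1 ((e a).symm.trans (h.trans (e b)))
    · obtain ⟨r, hr⟩ := (ConcreteCategory.bijective_of_isIso f.appTop).2 y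
      exact ⟨r, (e r).trans hr⟩
  exact (LinearEquiv.ofBijective _ hb).finrank_eq.symm.trans (Module.finrank_self _)

/-- The cone of the unit on a fibre. -/
theorem isZero_cone {L : CommRingCat.{u}} (hL : IsField L) {Z : Scheme.{u}} (f : Z ⟶ Spec L) [QuasiCompact f]
    [QuasiSeparated f] [IsIso f.appTop] [DCoh.HasRpush f] [DCoh.HasLpull f]
    (adj : DCoh.Lpull f ⊣ DCoh.Rpush f) {Q₀ : DCoh.D (Spec L)} {Z₀ : DCoh.D Z}
    (u₀ : Q₀ ≅ DCoh.inD (Spec L) (Coh.structureModule (Spec L)))
    (z₀ : Z₀ ≅ DCoh.inD Z (Coh.structureModule Z))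
    (ζ : Q₀ ⟶ (DCoh.Rpush f).obj Z₀) (hζ : IsIso ((adj.homEquiv _ _).symm ζ))
    {C : DCoh.D (Spec L)} {v : (DCoh.Rpush f).obj Z₀ ⟶ C} {w : C ⟶ Q₀⟦(1 : ℤ)⟧}
    (hT : Triangle.mk ζ v w ∈ distTriang _) (p : ℤ) (hp : p ≤ 0) : IsZero (DCoh.HD C p) := by
  letI := hL.toField
  let H := fun n : ℤ => homologyFunctor (Spec L).Modules n
  haveI : Nontrivial Γ(Spec L, ⊤) :=
    (Scheme.ΓSpecIso L).commRingCatIsoToRingEquiv.toEquiv.nontrivial
  haveI : Nontrivial (Coh.Γtop (Spec L)) := inferInstanceAs (Nontrivial Γ(Spec L, ⊤))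
  haveI := QCohLoc.isQCoh_structureModule Z
  haveI := QCohLoc.isQCoh_structureModule (Spec L)
  haveI := Coherent.hasInjectiveResolutions_modules Z
  haveI : Q₀.IsGE 0 := ⟨(DerivedCategory.TStructure.t.ge 0).prop_of_iso u₀.symm ((inferInstance :
    ((singleFunctor (Spec L).Modules 0).obj (Coh.structureModule (Spec L))).IsGE 0)).ge⟩
  haveI : Q₀.IsLE 0 := ⟨(DerivedCategory.TStructure.t.le 0).prop_of_iso u₀.symm ((inferInstance :
    ((singleFunctor (Spec L).Modules 0).obj (Coh.structureModule (Spec L))).IsLE 0)).le⟩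
  haveI : Z₀.IsGE 0 := ⟨(DerivedCategory.TStructure.t.ge 0).prop_of_iso z₀.symm ((inferInstance :
    ((singleFunctor Z.Modules 0).obj (Coh.structureModule Z)).IsGE 0)).ge⟩
  haveI : ((DCoh.Rpush f).obj Z₀).IsGE 0 := RepLib.isGE_Rpush f Z₀ 0
  -- both sides of `H⁰(ζ)` have rank one
  let a : DCoh.HD Q₀ 0 ≅ Coh.structureModule (Spec L) :=
    (H 0).mapIso u₀ ≪≫ (singleFunctorCompHomologyFunctorIso _ 0).app _
  obtain ⟨b₀⟩ := nonempty_iso_homology_single (modules_enoughKInj Z) (Scheme.Modules.pushforward f)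
    (Coh.structureModule Z) 0
  let b : DCoh.HD ((DCoh.Rpush f).obj Z₀) 0 ≅ (Scheme.Modules.pushforward f).obj (Coh.structureModule Z) :=
    (H 0).mapIso ((DCoh.Rpush f).mapIso z₀) ≪≫ b₀ ≪≫
      ((Scheme.Modules.pushforward f).rightDerivedZeroIsoSelf).app _
  have hne : (H 0).map ζ ≠ 0 := fun h0 => by
    have hζ0 : ζ = 0 := by
      let t : (DQCoh.sec (Spec L)).pt.obj (⊤ : (Spec L).Opens) ≅ Q₀ :=
        (singleFunctor (Spec L).Modules 0).mapIso (DQCoh.topStructIso (Spec L)) ≪≫ u₀.symm
      rw [← cancel_epi t.hom, comp_zero]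
      refine (DQCoh.bijective_θ_of_isGE (DQCoh.sec (Spec L)) _ _).1 ?_
      dsimp only [Sections.θ]
      simp only [Functor.map_comp, (show (homologyFunctor (Spec L).Modules 0).map ζ = 0 from h0), comp_zero, Functor.map_zero]
    have hz : IsIso (0 : (DCoh.Lpull f).obj Q₀ ⟶ Z₀) := by
      haveI : (DCoh.Lpull f).Additive := by
        obtain ⟨_, _⟩ := PullPerf.exists_commShift_Lpull f
        infer_instance
      have : (adj.homEquiv Q₀ Z₀).symm ζ = 0 := by rw [hζ0, Adjunction.homEquiv_counit]; simp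
      exact this ▸ hζ
    have hZ₀ : IsZero Z₀ := (isZero_zero _).of_iso (isIsoZeroEquivIsoZero _ _ hz).2
    have hO : IsZero (Coh.structureModule Z) := ((homologyFunctor Z.Modules 0).map_isZero hZ₀).of_iso
      ((homologyFunctor Z.Modules 0).mapIso z₀ ≪≫ (singleFunctorCompHomologyFunctorIso _ 0).app _).symm
    haveI : Subsingleton (((Scheme.Modules.pushforward f).obj (Coh.structureModule Z)).val.obj (op ⊤)) :=
      ModuleCat.subsingleton_of_isZero ((PresheafOfModules.evaluation _ (op ⊤)).map_isZero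
        ((SheafOfModules.forget _).map_isZero ((Scheme.Modules.pushforward f).map_isZero hO)))
    have h1 := finrank_push f
    rw [Module.finrank_zero_of_subsingleton] at h1
    exact zero_ne_one h1
  haveI hiso : IsIso ((H 0).map ζ) := by
    refine isIso_of_ne_zero hL (Coherent.isQCoh_of_iso a.symm) (Coherent.isQCoh_of_iso b.symm (h := ?_)) ?_ ?_ _ hne
    · exact Coherent.isQCoh_push f (Coh.structureModule Z)
    · exact (DQCoh.finrank_top_congr a).trans (Module.finrank_self _)
    · exact (DQCoh.finrank_top_congr b).trans (finrank_push f)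
  have h2 : (H p).map v = 0 := by
    rcases hp.lt_or_eq with hp' | rfl
    · exact (DerivedCategory.isZero_of_isGE _ 0 p hp').eq_of_src _ _
    · exact (HomologySequence.epi_homologyMap_mor₁_iff _ hT 0).1 (inferInstanceAs (Epi ((H 0).map ζ)))
  haveI : Mono ((H (p + 1)).map ζ) := by
    by_cases h : p + 1 = 0
    · rw [h]; infer_instance
    · constructor
      intro W g g' _
      refine IsZero.eq_of_tgt ?_ _ _
      rcases lt_or_gt_of_ne h with h | h
      · exact DerivedCategory.isZero_of_isGE _ 0 _ h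
      · exact DerivedCategory.isZero_of_isLE _ 0 _ h
  exact (HomologySequence.exact₃ _ hT p (p + 1) rfl).isZero_of_both_zeros h2
    ((HomologySequence.mono_homologyMap_mor₁_iff _ hT p (p + 1) rfl).1 (inferInstanceAs (Mono ((H (p + 1)).map ζ))))

end Groth.Agent.Dual22Lib.H0Fibre
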