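import Groth.Agent.Dual22Lib.H0Fibre
import Groth.Agent.Dual22Lib.PPFlat
import Groth.Agent.DQCoh.BettiRank
import Groth.Agent.DQCoh.TorAmpAffine
import Groth.Agent.DQCoh.PscFinite
import Groth.Agent.Dual22Lib.RdComp
import Groth.Agent.Coherent.CohBC.PushStructure
import Groth.Agent.KZeroLib.RegularPerfect

/-!
# Splitting off `O` from `Rf_* O`
-/

set_option autoImplicit false
set_option backward.isDefEq.respectTransparency false
set_option backward.defeqAttrib.useBackward true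
set_option linter.style.haveILetI false
set_option linter.unusedSectionVars false
set_option synthInstance.maxHeartbeats 100000
set_option maxHeartbeats 800000

universe u

open CategoryTheory CategoryTheory.Limits CategoryTheory.Pretriangulated DerivedCategory AlgebraicGeometry Opposite
open Groth.Agent.DCat Groth.Agent.Dual22Lib.BCSquare

attribute [local instance] HasDerivedCategory.standard
attribute [-instance] Int.instConditionallyCompleteLinearOrder

namespace Groth.Agent.Dual22Lib.H0Split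

variable {X S : Scheme.{u}} (f : X ⟶ S) [IsProper f] [Flat f] [LocallyOfFinitePresentation f]

/-- Fibre functions pass to restrictions over open subschemes. -/
theorem fibre_restrict (V : S.Opens) (h : ∀ s : S, IsIso (f.fiberToSpecResidueField s).appTop) (v : (V : Scheme.{u})) :
    IsIso ((f ∣_ V).fiberToSpecResidueField v).appTop := by
  have sq := AlgebraicGeometry.isPullback_fiberToSpecResidueField_of_isPullback
    (isPullback_morphismRestrict f V).flip v
  haveI : IsIso (V.ι.residueFieldMap v) := inferInstance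
  haveI := sq.isIso_fst_of_isIso
  have hw := congrArg Scheme.Hom.appTop sq.w
  rw [Scheme.Hom.comp_appTop, Scheme.Hom.comp_appTop] at hw
  haveI := h (V.ι v)
  exact IsIso.of_isIso_fac_left hw.symm

variable [DCoh.HasRpush f]

omit [IsProper f] [Flat f] [LocallyOfFinitePresentation f] [DCoh.HasRpush f] in
/-- Restriction along the identity, naturally. -/
theorem nonempty_rdId : Nonempty (PerfLocal.rd (𝟙 S) ≅ 𝟭 (DCoh.D S)) := by
  let R₀ := (Scheme.Modules.restrictFunctor (𝟙 S)).mapHomologicalComplex (ComplexShape.up ℤ) ⋙ DerivedCategory.Q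
  let cx : R₀ ≅ DerivedCategory.Q :=
    Functor.isoWhiskerRight ((NatIso.mapHomologicalComplex Scheme.Modules.restrictFunctorId (ComplexShape.up ℤ)) ≪≫
      Functor.mapHomologicalComplexIdIso _ _) DerivedCategory.Q ≪≫ Functor.leftUnitor _
  letI : Localization.Lifting DerivedCategory.Q (HomologicalComplex.quasiIso S.Modules (ComplexShape.up ℤ))
      R₀ (PerfLocal.rd (𝟙 S)) := ⟨(Scheme.Modules.restrictFunctor (𝟙 S)).mapDerivedCategoryFactors⟩
  letI : Localization.Lifting DerivedCategory.Q (HomologicalComplex.quasiIso S.Modules (ComplexShape.up ℤ))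
      DerivedCategory.Q (𝟭 (DCoh.D S)) := ⟨Functor.rightUnitor _⟩
  exact ⟨Localization.liftNatIso DerivedCategory.Q (HomologicalComplex.quasiIso S.Modules (ComplexShape.up ℤ))
    R₀ DerivedCategory.Q _ _ cx⟩

/-- The cone of `O ⟶ Rf_* O` has no fibre cohomology in degrees `≤ 0`. -/
theorem exists_cone (h : ∀ s : S, IsIso (f.fiberToSpecResidueField s).appTop) :
    ∃ (P : DCoh.D S) (η : DCoh.inD S (Coh.structureModule S) ⟶ (DCoh.Rpush f).obj (DCoh.inD X (Coh.structureModule X)))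
      (v : (DCoh.Rpush f).obj (DCoh.inD X (Coh.structureModule X)) ⟶ P)
      (w : P ⟶ (DCoh.inD S (Coh.structureModule S))⟦(1 : ℤ)⟧),
      Triangle.mk η v w ∈ distTriang _ ∧ DCoh.IsPerfect P ∧
      ∀ (t : S) [DCoh.HasLpull (S.fromSpecResidueField t)] (p : ℤ), p ≤ 0 → PerfD.betti P t p = 0 := by
  haveI := hasLpull f
  obtain ⟨adjf⟩ := nonempty_pullPushAdj f
  have hS := Coherent.CohBC.isFinLocFree_structureModule S
  have hX := Coherent.CohBC.isFinLocFree_structureModule X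
  have pS : DCoh.IsPerfect (DCoh.inD S (Coh.structureModule S)) := KZeroLib.isPerfect_inD_finLocFree hS
  have pX : DCoh.IsPerfect (DCoh.inD X (Coh.structureModule X)) := KZeroLib.isPerfect_inD_finLocFree hX
  obtain ⟨θ₀⟩ := DQCoh.nonempty_Lpull_inD f hS
  let θ : (DCoh.Lpull f).obj (DCoh.inD S (Coh.structureModule S)) ≅ DCoh.inD X (Coh.structureModule X) :=
    θ₀ ≪≫ (singleFunctor X.Modules 0).mapIso (PicLoc.pullbackStructureIso f)
  let η := adjf.homEquiv _ _ θ.hom
  obtain ⟨P, v, w, hT⟩ := distinguished_cocone_triangle η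
  refine ⟨P, η, v, w, hT, PCTriangle.perfect_cone hT pS (PPFlat.pp_flat f _ pX), fun t _ p hp => ?_⟩
  let g := S.fromSpecResidueField t
  let f' := f.fiberToSpecResidueField t
  let g' := f.fiberι t
  have sq : IsPullback g' f' f g := IsPullback.of_hasPullback f g
  haveI := h t
  haveI : QuasiCompact f' := MorphismProperty.pullback_snd _ _ (inferInstance : QuasiCompact f)
  haveI : QuasiSeparated f' := MorphismProperty.pullback_snd _ _ (inferInstance : QuasiSeparated f)
  haveI := hasRpush g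
  haveI := hasRpush f'
  haveI := hasRpush g'
  haveI := hasLpull g'
  haveI := hasLpull f'
  obtain ⟨adjg⟩ := nonempty_pullPushAdj g
  obtain ⟨adjg'⟩ := nonempty_pullPushAdj g'
  obtain ⟨adjf'⟩ := nonempty_pullPushAdj f'
  obtain ⟨e⟩ := exists_e (f := f) (g := g) sq.w
  haveI hbc : IsIso ((BCAlg.bc adjg adjg' e).app (DCoh.inD X (Coh.structureModule X))) :=
    BCMain.good_of_flat f g sq (Or.inl inferInstance) inferInstance inferInstance inferInstance inferInstance
      inferInstance inferInstance adjg adjg' e _ (SumAdj.isQCohD_perfect' pX)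
  let β := asIso ((BCAlg.bc adjg adjg' e).app (DCoh.inD X (Coh.structureModule X)))
  obtain ⟨u₁⟩ := DQCoh.nonempty_Lpull_inD g hS
  obtain ⟨z₁⟩ := DQCoh.nonempty_Lpull_inD g' hX
  obtain ⟨cs, tri⟩ := PullPerf.exists_commShift_Lpull g
  letI := cs
  haveI := tri
  have hT' := (DCoh.Lpull g).map_distinguished _ hT
  let T' := (DCoh.Lpull g).mapTriangle.obj (Triangle.mk η v w)
  have hT'' : Triangle.mk (T'.mor₁ ≫ β.hom) (β.inv ≫ T'.mor₂) T'.mor₃ ∈ distTriang _ :=
    isomorphic_distinguished _ hT' _ (Triangle.isoMk _ _ (Iso.refl _) β.symm (Iso.refl _) (by simp [T']) (by simp [T'])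
      (by simp [T']))
  have hz := H0Fibre.isZero_cone (Field.toIsField (S.residueField t)) f' adjf'
    (u₁ ≪≫ (singleFunctor _ 0).mapIso (PicLoc.pullbackStructureIso g))
    (z₁ ≪≫ (singleFunctor _ 0).mapIso (PicLoc.pullbackStructureIso g'))
    ((DCoh.Lpull g).map η ≫ β.hom) (H0SplitAlg.isIso_adjunct_bc adjg adjg' adjf adjf' e θ.hom) hT'' p hp
  haveI : Subsingleton ((DCoh.HD ((DCoh.Lpull g).obj P) p).val.obj (op ⊤)) :=
    ModuleCat.subsingleton_of_isZero ((PresheafOfModules.evaluation _ (op ⊤)).map_isZero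
      ((SheafOfModules.forget _).map_isZero hz))
  haveI : Nontrivial (Coh.Γtop (Spec (S.residueField t))) :=
    (inferInstanceAs (Nontrivial Γ(Spec (S.residueField t), ⊤)))
  exact Module.finrank_zero_of_subsingleton

/-- A perfect complex on an affine scheme without fibre cohomology in degrees `≤ 0`. -/
theorem exists_amp {P : DCoh.D S} [IsAffine S] (hP : DCoh.IsPerfect P)
    (h : ∀ (t : S) [DCoh.HasLpull (S.fromSpecResidueField t)] (p : ℤ), p ≤ 0 → PerfD.betti P t p = 0) :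
    ∃ b : ℤ, DCoh.HasTorAmplitudeIn 1 b P ∧ ∀ w : P ⟶ (DCoh.inD S (Coh.structureModule S))⟦(1 : ℤ)⟧, w = 0 := by
  haveI : ∀ t : S, DCoh.HasLpull (S.fromSpecResidueField t) := fun t => hasLpull _
  let R : CommRingCat.{u} := Γ(S, ⊤)
  haveI := AffSchLib.preservesFiniteLimits_tilde R
  haveI := DQCoh.preservesFiniteColimits_tilde R
  let k : Spec R ⟶ S := S.isoSpec.inv
  haveI := hasLpull k
  have hPk : DCoh.IsPerfect ((PerfLocal.rd k).obj P) := by
    obtain ⟨c⟩ := DQCoh.nonempty_Lpull_restrict k P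
    exact PCTriangle.perfect_iso c (PullPerf.isPerfect_Lpull k P hP)
  obtain ⟨M, ⟨eM⟩⟩ := ((DQCoh.tildeD_main R).2.2 _).1 (SumAdj.isQCohD_perfect' hPk)
  obtain ⟨P₀, a, b, hP₀, hp, ⟨eP⟩⟩ := DQCoh.perfect_of_isPerfect_tildeD (PCTriangle.perfect_iso eM.symm hPk)
  let e : (DCoh.tildeD R).obj (DRing.toD P₀) ≅ (PerfLocal.rd k).obj P := (DCoh.tildeD R).mapIso eP ≪≫ eM
  have hex : ∀ (m : Ideal R) [m.IsMaximal] (p : ℤ), p ≤ 0 →
      (((ModuleCat.extendScalars (Ideal.Quotient.mk m)).mapHomologicalComplex (ComplexShape.up ℤ)).obj P₀).ExactAt p := by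
    intro m hm p hp0
    letI : Field (R ⧸ m) := Ideal.Quotient.field m
    let ψ : R ⟶ CommRingCat.of (R ⧸ m) := CommRingCat.ofHom (Ideal.Quotient.mk m)
    let g : Spec (CommRingCat.of (R ⧸ m)) ⟶ S := Spec.map ψ ≫ k
    haveI := hasLpull g
    have h0 := DQCoh.fdim_chart P k P₀ (DQCoh.isKFlatFor_finiteProjective hP₀ hp) (p - 1) e.hom
      (PullPerf.apx_of_isIso _ _) (CommRingCat.of (R ⧸ m)) g ψ rfl p (by omega)
    rw [DQCoh.fdim_eq_betti P hP _ (Field.toIsField (R ⧸ m)) g (⊥ : PrimeSpectrum (R ⧸ m)) p, h _ p hp0] at h0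
    rw [HomologicalComplex.exactAt_iff_isZero_homology]
    let C := ((ModuleCat.extendScalars.{u, u, u} (Ideal.Quotient.mk m)).mapHomologicalComplex (ComplexShape.up ℤ)).obj P₀
    haveI : Module.Finite (R ⧸ m) (C.X p) := by
      haveI := (hp p).1
      letI := (Ideal.Quotient.mk m).toAlgebra
      exact Module.Finite.base_change R (R ⧸ m) (P₀.X p)
    haveI : Module.Finite (R ⧸ m) (C.homology p) :=
      DRingLib.finite_homology_of_finite_cycles p inferInstance
    exact @ModuleCat.isZero_of_subsingleton _ _ _ (Module.finrank_zero_iff.1 h0.symm)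
  haveI : ∀ N : ModuleCat.{u} R, DRing.HasLTensor R N := fun N => DCat.hasLTensor N
  have hamp : DRing.HasTorAmplitudeIn R 1 (max b 1) (DRing.toD P₀) := DCat.flatAmp_of_vanish fun N p hp0 => by
    rw [DCat.isZero_ltensor_iff N (DQCoh.isKFlatFor_finiteProjective hP₀ hp) (Iso.refl _) p]
    haveI := (hp p).1
    haveI := (hp p).2
    haveI := (hp (p + 1)).2
    rcases hp0 with hp0 | hp0
    · exact DRingLib.exactAt_tensor_of_fibres P₀ p (fun m hm => haveI := hm; hex m p (by omega)) N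
    · rw [HomologicalComplex.exactAt_iff]
      exact ShortComplex.exact_of_isZero_X₂ _ ((MonoidalCategory.tensorRight N).map_isZero
        (hP₀ p (Or.inr (lt_of_le_of_lt (le_max_left b 1) hp0))))
  obtain ⟨Q, hQ, hQp, ⟨eQ⟩⟩ := DRingLib.exists_finiteProjective (le_max_right b 1)
    (DRingLib.pc_of_pc' ((DRingLib.perfect_iff _).1 ⟨P₀, a, b, hP₀, hp, ⟨Iso.refl _⟩⟩).1 _) hamp
  let e' : (DCoh.tildeD R).obj (DRing.toD Q) ≅ (PerfLocal.rd k).obj P := (DCoh.tildeD R).mapIso eQ ≪≫ e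
  -- back along `S ≅ Spec R`
  obtain ⟨c₁⟩ := PerfLocal.rd_comp S.isoSpec.hom k P
  obtain ⟨c₂⟩ := DQCoh.nonempty_rd_congr (k := S.isoSpec.hom ≫ k) (k' := 𝟙 S) S.isoSpec.hom_inv_id
  obtain ⟨c₃⟩ := PCTriangle.rd_id P
  refine ⟨max b 1, torAmp_of_flatAmp ?_, fun w => ?_⟩
  · have hf : DCoh.HasFlatAmplitudeIn 1 (max b 1) ((PerfLocal.rd k).obj P) :=
      ⟨((tilde.functor R).mapHomologicalComplex (ComplexShape.up ℤ)).obj Q,
        fun i hi => (tilde.functor R).map_isZero (hQ i hi),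
        fun i => haveI := (hQp i).2; DQCoh.isFlat_tilde (Q.X i),
        ⟨((tilde.functor R).mapDerivedCategoryFactors.app Q).symm ≪≫ e'⟩⟩
    obtain ⟨F, hF, hfl, ⟨eF⟩⟩ := DQCoh.flatAmp_rd S.isoSpec.hom hf
    exact ⟨F, hF, hfl, ⟨eF ≪≫ c₁.symm ≪≫ c₂.app P ≪≫ c₃⟩⟩
  · obtain ⟨o⟩ := DQCoh.nonempty_rd_structure R k
    haveI := (DQCoh.tildeD_main R).1
    let O₁ := (((DerivedCategory.singleFunctor (ModuleCat.{u} R) 0).obj (ModuleCat.of R R))⟦(1 : ℤ)⟧)
    let eT : (DCoh.tildeD R).obj O₁ ≅ (PerfLocal.rd k).obj ((DCoh.inD S (Coh.structureModule S))⟦(1 : ℤ)⟧) :=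
      ((DCoh.tildeD R).commShiftIso (1 : ℤ)).app _ ≪≫ (shiftFunctor _ (1 : ℤ)).mapIso o ≪≫
        (((PerfLocal.rd k).commShiftIso (1 : ℤ)).app _).symm
    haveI : O₁.IsLE (-1) := DerivedCategory.TStructure.t.isLE_shift _ 0 1 (-1) (by omega)
    obtain ⟨w₀, hw₀⟩ := (DCoh.tildeD R).map_surjective (e'.hom ≫ (PerfLocal.rd k).map w ≫ eT.inv)
    rw [DRingLib.hom_eq_zero_of_isLE hQ (fun i => (hQp i).2) (-1) (by omega) w₀, Functor.map_zero] at hw₀
    have h1 : (PerfLocal.rd k).map w = 0 := by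
      rw [← cancel_epi e'.hom, ← cancel_mono eT.inv, Category.assoc, ← hw₀]
      simp
    obtain ⟨i₀⟩ := nonempty_rdId (S := S)
    obtain ⟨i₁⟩ := DQCoh.nonempty_rd_congr (k := S.isoSpec.hom ≫ k) (k' := 𝟙 S) S.isoSpec.hom_inv_id
    let i := RdComp.rdCompIso S.isoSpec.hom k ≪≫ i₁ ≪≫ i₀
    haveI : (PerfLocal.rd k ⋙ PerfLocal.rd S.isoSpec.hom).Faithful := Functor.Faithful.of_iso i.symm
    haveI : (PerfLocal.rd k).Faithful := Functor.Faithful.of_comp (PerfLocal.rd k) (PerfLocal.rd S.isoSpec.hom)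
    exact (PerfLocal.rd k).map_injective (h1.trans (Functor.map_zero _ _ _).symm)

/-- **Splitting off the structure sheaf.** -/
theorem exists_split [IsAffine S] (h : ∀ s : S, IsIso (f.fiberToSpecResidueField s).appTop)
    [∀ A B : DCoh.D S, HasBinaryBiproduct A B] :
    ∃ (P : DCoh.D S) (b : ℤ), DCoh.IsPerfect P ∧ DCoh.HasTorAmplitudeIn 1 b P ∧
      Nonempty ((DCoh.Rpush f).obj (DCoh.inD X (Coh.structureModule X)) ≅ DCoh.inD S (Coh.structureModule S) ⊞ P) := by
  obtain ⟨P, η, v, w, hT, hP, hb⟩ := exists_cone f h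
  obtain ⟨b, hb', hw⟩ := exists_amp hP hb
  obtain ⟨e, -⟩ := exists_iso_binaryBiproduct_of_distTriang _ hT (hw w)
  exact ⟨P, b, hP, hb', ⟨e⟩⟩

end Groth.Agent.Dual22Lib.H0Split
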