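import Groth.Agent.Dual22Lib.RelPerfPush
import Groth.Agent.DQCoh.Bound

/-!
# Locally constant fibre dimension on a reduced scheme makes `M ↦ H^p(M ⊗^L E)` exact
-/

set_option autoImplicit false
set_option backward.isDefEq.respectTransparency false
set_option backward.defeqAttrib.useBackward true
set_option linter.style.haveILetI false
set_option synthInstance.maxHeartbeats 100000
set_option backward.isDefEq.respectTransparency.types false

universe u

open CategoryTheory CategoryTheory.Limits CategoryTheory.Pretriangulated DerivedCategory AlgebraicGeometry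
open HomologicalComplex TensorProduct Function
open Groth.Agent.DCat Groth.Agent.Dual22Lib.HpFlatAlg Groth.Agent.Dual22Lib.HpTransfer Groth.Agent.Coherent

attribute [local instance] HasDerivedCategory.standard
attribute [-instance] Int.instConditionallyCompleteLinearOrder

namespace Groth.Agent.Dual22Lib.HpConv

section Algebra

variable {A : Type u} [CommRing A]

theorem mono_homologyMap_of_elements {S S' : ShortComplex (ModuleCat.{u} A)} (φ : S ⟶ S')
    (h : ∀ x : S.X₂, S.g x = 0 → (∃ w, S'.f w = φ.τ₂ x) → ∃ v, S.f v = x) : Mono (ShortComplex.homologyMap φ) := by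
  rw [ModuleCat.mono_iff_injective, injective_iff_map_eq_zero]
  intro a ha
  obtain ⟨c, rfl⟩ := (ModuleCat.epi_iff_surjective S.homologyπ).mp inferInstance a
  have hx : S.g (S.iCycles c) = 0 := by
    rw [← CategoryTheory.comp_apply, ShortComplex.iCycles_g]
    rfl
  obtain ⟨c', hc', hc''⟩ := mem_range_of_class hx
  obtain rfl : c' = c := (ModuleCat.mono_iff_injective S.iCycles).mp inferInstance hc'
  refine hc''.2 (h _ hx ?_)
  rw [← CategoryTheory.comp_apply, ShortComplex.homologyπ_naturality, CategoryTheory.comp_apply] at ha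
  have hx' : S'.g (φ.τ₂ (S.iCycles c')) = 0 := by
    rw [← CategoryTheory.comp_apply, φ.comm₂₃, CategoryTheory.comp_apply, hx, map_zero]
  obtain ⟨d, hd, hd'⟩ := mem_range_of_class hx'
  obtain rfl : ShortComplex.cyclesMap φ c' = d := (ModuleCat.mono_iff_injective S'.iCycles).mp inferInstance (by
    rw [← CategoryTheory.comp_apply, ShortComplex.cyclesMap_i, CategoryTheory.comp_apply, hd])
  exact hd'.1 ha

theorem epi_homologyMap_of_elements {S S' : ShortComplex (ModuleCat.{u} A)} (φ : S ⟶ S')
    (h : ∀ z : S'.X₂, S'.g z = 0 → ∃ y, S.g y = 0 ∧ φ.τ₂ y = z) : Epi (ShortComplex.homologyMap φ) := by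
  rw [ModuleCat.epi_iff_surjective]
  intro a
  obtain ⟨d, rfl⟩ := (ModuleCat.epi_iff_surjective S'.homologyπ).mp inferInstance a
  have hz : S'.g (S'.iCycles d) = 0 := by
    rw [← CategoryTheory.comp_apply, ShortComplex.iCycles_g]
    rfl
  obtain ⟨y, hy, hyz⟩ := h _ hz
  obtain ⟨c, hc, -⟩ := mem_range_of_class hy
  refine ⟨S.homologyπ c, ?_⟩
  rw [← CategoryTheory.comp_apply, ShortComplex.homologyπ_naturality, CategoryTheory.comp_apply]
  congr 1
  refine (ModuleCat.mono_iff_injective S'.iCycles).mp inferInstance ?_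
  rw [← CategoryTheory.comp_apply, ShortComplex.cyclesMap_i, CategoryTheory.comp_apply, hc, hyz]

variable (C : CochainComplex (ModuleCat.{u} A) ℤ)

theorem tenL_prev_next (p : ℤ) : (ComplexShape.up ℤ).prev p = p - 1 ∧ (ComplexShape.up ℤ).next p = p + 1 :=
  ⟨CochainComplex.prev ℤ p, CochainComplex.next ℤ p⟩

/-- A flat `C^p / im d` makes `m ↦ H^p(m ⊗ C)` preserve monomorphisms. -/
theorem mono_of_flat (p : ℤ) [Module.Flat A (C.X p ⧸ LinearMap.range (C.d (p - 1) p).hom)]
    {m m' : ModuleCat.{u} A} (f : m ⟶ m') [Mono f] : Mono (homologyMap ((tenL C).map f) p) := by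
  refine mono_homologyMap_of_elements ((shortComplexFunctor (ModuleCat.{u} A) (ComplexShape.up ℤ) p).map
    ((tenL C).map f)) fun x hx h => ?_
  have key : ∀ i, i = p - 1 → (∃ w, ((tenL C).obj m').d i p w = ((tenL C).map f).f p x) →
      ∃ v, ((tenL C).obj m).d i p v = x := by
    rintro i rfl ⟨w, hw⟩
    let π := (LinearMap.range (C.d (p - 1) p).hom).mkQ
    refine (lTensor_exact m (LinearMap.exact_map_mkQ_range (C.d (p - 1) p).hom) (Submodule.mkQ_surjective _) x).1 ?_
    refine Module.Flat.rTensor_preserves_injective_linearMap (M := C.X p ⧸ LinearMap.range (C.d (p - 1) p).hom) f.hom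
      ((ModuleCat.mono_iff_injective f).1 inferInstance) ?_
    rw [map_zero, ← LinearMap.comp_apply, LinearMap.rTensor_comp_lTensor, ← LinearMap.lTensor_comp_rTensor,
      LinearMap.comp_apply]
    change π.lTensor m' (((tenL C).map f).f p x) = 0
    rw [← hw]
    exact (lTensor_exact m' (LinearMap.exact_map_mkQ_range (C.d (p - 1) p).hom) (Submodule.mkQ_surjective _)).apply_apply_eq_zero w
  exact key _ (tenL_prev_next p).1 h

/-- A flat `C^{p+1} / im d` makes `m ↦ H^p(m ⊗ C)` preserve epimorphisms. -/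
theorem epi_of_flat (p : ℤ) [Module.Flat A (C.X (p + 1) ⧸ LinearMap.range (C.d p (p + 1)).hom)]
    {m m' : ModuleCat.{u} A} (g : m ⟶ m') [Epi g] : Epi (homologyMap ((tenL C).map g) p) := by
  refine epi_homologyMap_of_elements ((shortComplexFunctor (ModuleCat.{u} A) (ComplexShape.up ℤ) p).map
    ((tenL C).map g)) fun z hz => ?_
  have key : ∀ j, j = p + 1 → ((tenL C).obj m').d p j z = 0 →
      ∃ y, ((tenL C).obj m).d p j y = 0 ∧ ((tenL C).map g).f p y = z := by
    rintro j rfl hz
    have hg := (ModuleCat.epi_iff_surjective g).1 inferInstance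
    let d := (C.d p (p + 1)).hom
    let ι := (LinearMap.ker g.hom).subtype
    obtain ⟨b, rfl⟩ := LinearMap.rTensor_surjective (C.X p) hg z
    change d.lTensor m' (g.hom.rTensor (C.X p) b) = 0 at hz
    have hdb : g.hom.rTensor (C.X (p + 1)) (d.lTensor m b) = 0 := by
      rw [← LinearMap.comp_apply, LinearMap.rTensor_comp_lTensor, ← LinearMap.lTensor_comp_rTensor,
        LinearMap.comp_apply, hz]
    have hex := LinearMap.exact_subtype_ker_map g.hom
    obtain ⟨c, hc⟩ := (rTensor_exact (C.X (p + 1)) hex hg _).1 hdb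
    have hc0 : (LinearMap.range d).mkQ.lTensor (LinearMap.ker g.hom) c = 0 := by
      refine Module.Flat.rTensor_preserves_injective_linearMap (M := C.X (p + 1) ⧸ LinearMap.range d) ι
        (Submodule.injective_subtype _) ?_
      rw [map_zero, ← LinearMap.comp_apply, LinearMap.rTensor_comp_lTensor, ← LinearMap.lTensor_comp_rTensor,
        LinearMap.comp_apply, hc]
      exact (lTensor_exact m (LinearMap.exact_map_mkQ_range d) (Submodule.mkQ_surjective _)).apply_apply_eq_zero b
    obtain ⟨e, he⟩ := (lTensor_exact (LinearMap.ker g.hom) (LinearMap.exact_map_mkQ_range d)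
      (Submodule.mkQ_surjective _) c).1 hc0
    refine ⟨b - ι.rTensor (C.X p) e, ?_, ?_⟩
    · show d.lTensor m (b - ι.rTensor (C.X p) e) = 0
      rw [map_sub, ← LinearMap.comp_apply (d.lTensor m) (ι.rTensor (C.X p)), LinearMap.lTensor_comp_rTensor,
        ← LinearMap.rTensor_comp_lTensor, LinearMap.comp_apply, he, hc, sub_self]
    · show g.hom.rTensor (C.X p) (b - ι.rTensor (C.X p) e) = _
      rw [map_sub, (rTensor_exact (C.X p) hex hg).apply_apply_eq_zero e, sub_zero]
  exact key _ (tenL_prev_next p).2 hz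

end Algebra

section Qcoh

variable {X : Scheme.{u}}

instance closedUnderBinaryProducts_qcoh : (QCohCat.isQCoh X).IsClosedUnderBinaryProducts where
  limitsOfShape_le := by
    rintro M ⟨h⟩
    haveI : Coh.IsQCoh (h.diag.obj ⟨WalkingPair.left⟩) := h.prop_diag_obj _
    haveI : Coh.IsQCoh (h.diag.obj ⟨WalkingPair.right⟩) := h.prop_diag_obj _
    exact isQCoh_of_iso ((biprod.isoProd _ _) ≪≫ (HasLimit.isoOfNatIso (diagramIsoPair h.diag).symm) ≪≫
      (limit.isLimit h.diag).conePointUniqueUpToIso h.isLimit) (h := isQCoh_biprod _ _)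

instance closedUnderFiniteProducts_qcoh : (QCohCat.isQCoh X).IsClosedUnderFiniteProducts := by
  haveI : (QCohCat.isQCoh X).IsClosedUnderIsomorphisms := ⟨fun e h => isQCoh_of_iso e (h := h)⟩
  exact .mk'

theorem preservesFiniteLimits_ι : PreservesFiniteLimits (QCohCat.isQCoh X).ι := by
  haveI := fun {M N : QCohCat.QCoh X} (f : M ⟶ N) => (QCohCat.isQCoh X).preservesKernels_ι f
  exact (QCohCat.isQCoh X).ι.preservesFiniteLimits_of_preservesKernels

theorem preservesFiniteColimits_ι : PreservesFiniteColimits (QCohCat.isQCoh X).ι := by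
  haveI := fun {M N : QCohCat.QCoh X} (f : M ⟶ N) => (QCohCat.isQCoh X).preservesCokernels_ι f
  exact (QCohCat.isQCoh X).ι.preservesFiniteColimits_of_preservesCokernels

end Qcoh

variable {X : Scheme.{u}}

/-- On a reduced scheme locally constant fibre dimension gives flat cokernels. -/
theorem flat_of_isLocallyConstant [IsReduced X] [∀ x : X, DCoh.HasLpull (X.fromSpecResidueField x)] (E : DCoh.D X)
    (p : ℤ) (hc : IsLocallyConstant (fun x : X => PerfD.betti E x p)) {R : CommRingCat.{u}}
    [PreservesFiniteLimits (tilde.functor R)] (k : Spec R ⟶ X) [IsOpenImmersion k] {P : DRing.Cx R} {a b : ℤ}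
    (hP : DRing.VanishesOutside P a b) (hp : DRing.TermwiseFiniteProjective P)
    (α : (DCoh.tildeD R).obj (DRing.toD P) ⟶ (PerfLocal.rd k).obj E) (hα : PullPerf.Apx (p - 1) α) :
    Module.Flat R (P.X p ⧸ LinearMap.range (P.d (p - 1) p).hom) ∧
      Module.Flat R (P.X (p + 1) ⧸ LinearMap.range (P.d p (p + 1)).hom) := by
  haveI : _root_.IsReduced R := (affine_isReduced_iff R).1 (isReduced_of_isOpenImmersion k)
  haveI := fun i => (hp i).1
  haveI := fun i => (hp i).2
  haveI := Module.finitePresentation_of_projective R (P.X (p + 1))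
  let W := P.X p ⧸ LinearMap.range (P.d (p - 1) p).hom
  let W' := P.X (p + 1) ⧸ LinearMap.range (P.d p (p + 1)).hom
  have hsum : IsLocallyConstant fun y : PrimeSpectrum R =>
      FlatCxLib.fibreRank (A := R) W y + FlatCxLib.fibreRank (A := R) W' y := by
    have h := (hc.comp_continuous k.continuous).comp₂ (Module.isLocallyConstant_rankAtStalk (R := R) (M := P.X (p + 1)))
      (· + ·)
    have e : (fun y : PrimeSpectrum R => FlatCxLib.fibreRank (A := R) W y + FlatCxLib.fibreRank (A := R) W' y) =
        fun y : PrimeSpectrum R => PerfD.betti E (k y) p + Module.rankAtStalk (P.X (p + 1)) y :=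
      funext fun y => (DQCoh.betti_formula E k hP hp (p - 1) α hα p (by omega) y).symm
    rw [e]
    exact h
  obtain ⟨h₁, h₂⟩ := Coherent.CohBC.isLocallyConstant_of_usc_add (FlatCxLib.upperSemicontinuous_fibreRank W)
    (FlatCxLib.upperSemicontinuous_fibreRank W') hsum
  exact ⟨FlatCxLib.flat_of_isLocallyConstant_fibreRank W h₁, FlatCxLib.flat_of_isLocallyConstant_fibreRank W' h₂⟩

theorem isZero_stalk {U : Scheme.{u}} (j : U ⟶ X) [IsOpenImmersion j] {M : X.Modules}
    (h : IsZero ((Scheme.Modules.restrictFunctor j).obj M)) (u : U) :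
    IsZero ((DerSch.stalkFunctor X (j.base u)).obj M) := by
  have h₁ : IsZero ((ModuleCat.extendScalars (j.stalkMap u).hom).obj ((DerSch.stalkFunctor X (j.base u)).obj M)) :=
    ((DerSch.stalkFunctor U u).map_isZero (h.of_iso ((Scheme.Modules.restrictFunctorIsoPullback j).app M).symm)).of_iso
      ((ModStalk.pullbackStalkIso j u).app M).symm
  haveI := ModuleCat.subsingleton_of_isZero h₁
  haveI : Subsingleton ((DerSch.stalkFunctor X (j.base u)).obj M) := by
    letI := (j.stalkMap u).hom.toAlgebra
    let e : X.presheaf.stalk (j.base u) ≃ₗ[X.presheaf.stalk (j.base u)] U.presheaf.stalk u :=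
      LinearEquiv.ofBijective (Algebra.linearMap _ _) (ConcreteCategory.bijective_of_isIso (j.stalkMap u))
    haveI : Subsingleton (TensorProduct (X.presheaf.stalk (j.base u)) (U.presheaf.stalk u)
        ((DerSch.stalkFunctor X (j.base u)).obj M)) := ‹Subsingleton ((ModuleCat.extendScalars (j.stalkMap u).hom).obj
          ((DerSch.stalkFunctor X (j.base u)).obj M))›
    exact ((TensorProduct.lid (X.presheaf.stalk (j.base u)) ((DerSch.stalkFunctor X (j.base u)).obj M)).symm.trans
      (TensorProduct.congr e (LinearEquiv.refl _ _))).injective.subsingleton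
  exact ModuleCat.isZero_of_subsingleton _

/-- `M ↦ H^p(M ⊗^L F)` is additive. -/
theorem additive_G (F : CochainComplex X.Modules ℤ) [DCoh.HasLTensorCx F] (p : ℤ) : (HpExact.G F p).Additive := by
  obtain ⟨N, c, hN, -, hc, -⟩ := exists_kflat_sheaf F
  haveI := hc
  haveI := LTensorSheaf.hasLTensorCx N
  obtain ⟨t⟩ := TensorCongr.nonempty_congr (E := N) (E' := F) (asIso (Q.map c))
  haveI : ((DCoh.tensorCx (X := X)).flip.obj N).Additive := ⟨fun {K L} f g => by
    refine HomologicalComplex.hom_ext _ _ fun n => HomologicalComplex.mapBifunctor.hom_ext fun i j h => ?_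
    simp⟩
  exact Functor.additive_of_iso (F := CochainComplex.singleFunctor X.Modules 0 ⋙
      (DCoh.tensorCx (X := X)).flip.obj N ⋙ HomologicalComplex.homologyFunctor X.Modules (ComplexShape.up ℤ) p)
    (Functor.isoWhiskerLeft _ (Functor.isoWhiskerLeft _ (homologyFunctorFactors X.Modules p).symm ≪≫
      (Functor.associator _ _ _).symm ≪≫
      Functor.isoWhiskerRight (TensorCongr.fac hN).symm _ ≪≫ Functor.associator _ _ _ ≪≫
      Functor.isoWhiskerLeft _ (Functor.isoWhiskerRight t _)) ≪≫ (Functor.associator _ _ _).symm ≪≫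
      Functor.isoWhiskerRight (singleFunctorIsoCompQ X.Modules 0).symm _)

/-- Flat cokernels on the charts make `M ↦ H^p(M ⊗^L F)` exact. -/
theorem preserves_of_flat (F : CochainComplex X.Modules ℤ) (e : ℤ) [(DCoh.toD X F).IsLE e] [DCoh.HasLTensorCx F]
    (p : ℤ) (hE : DCoh.IsPseudoCoherentD (p - 1) (DCoh.toD X F))
    (hflat : ∀ {R : CommRingCat.{u}} [PreservesFiniteLimits (tilde.functor R)] (k : Spec R ⟶ X) [IsOpenImmersion k]
      {P : DRing.Cx R} {a b : ℤ}, DRing.VanishesOutside P a b → DRing.TermwiseFiniteProjective P →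
      ∀ α : (DCoh.tildeD R).obj (DRing.toD P) ⟶ (PerfLocal.rd k).obj (DCoh.toD X F), PullPerf.Apx (p - 1) α →
        Module.Flat R (P.X p ⧸ LinearMap.range (P.d (p - 1) p).hom) ∧
          Module.Flat R (P.X (p + 1) ⧸ LinearMap.range (P.d p (p + 1)).hom)) :
    PreservesFiniteLimits (HpExact.G F p) ∧ PreservesFiniteColimits (HpExact.G F p) := by
  have local0 : ∀ {M : X.Modules}, (∀ (R : CommRingCat.{u}) (_ : PreservesFiniteLimits (tilde.functor R))
      (k : Spec R ⟶ X) (_ : IsOpenImmersion k) (P : DRing.Cx R) (a b : ℤ)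
      (α : (DCoh.tildeD R).obj (DRing.toD P) ⟶ (PerfLocal.rd k).obj (DCoh.toD X F)),
      DRing.VanishesOutside P a b → DRing.TermwiseFiniteProjective P → PullPerf.Apx (p - 1) α →
      ∀ y, IsZero ((S k y).obj M)) → IsZero M := by
    intro M h
    refine ModStalk.isZero_of_stalks fun x => ?_
    obtain ⟨R, hR, k, hk, N, α, ⟨y, rfl⟩, ⟨P, a, b, hP, hp, ⟨eP⟩⟩, hα⟩ := DQCoh.exists_affine_approx hE x
    have hz : IsZero ((Scheme.Modules.restrictFunctor k).obj M) :=
      (ModStalk.isZero_of_stalks (M := (Scheme.Modules.pullback k).obj M) fun z =>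
        h R hR k hk P a b ((DCoh.tildeD R).map eP.hom ≫ α) hP hp ((PullPerf.apx_of_isIso _ _).comp hα) z).of_iso
        ((Scheme.Modules.restrictFunctorIsoPullback k).app M)
    exact isZero_stalk k hz y
  haveI := additive_G F p
  have hex : ∀ S₀ : ShortComplex X.Modules, S₀.ShortExact → (S₀.map (HpExact.G F p)).Exact := by
    intro S₀ hS
    obtain ⟨δ, hδ⟩ := TenLocal.triExact_LTensor F _ hS.singleTriangle_distinguished
    exact DerivedCategory.HomologySequence.exact₂ _ hδ p
  have hmono : ∀ {M M' : X.Modules} (f : M ⟶ M'), Mono f → Mono ((HpExact.G F p).map f) := by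
    intro M M' f hf
    refine Preadditive.mono_of_isZero_kernel _ (local0 fun R hR k hk P a b α hP hp hα y => ?_)
    obtain ⟨hW, -⟩ := hflat k hP hp α hα
    obtain ⟨t⟩ := HpExact.nonempty_chart F e p k y hP hp α hα
    let C := ((ModuleCat.extendScalars (stalkφ y)).mapHomologicalComplex (ComplexShape.up ℤ)).obj P
    haveI : Module.Flat ((Spec R).presheaf.stalk y) (C.X p ⧸ LinearMap.range (C.d (p - 1) p).hom) := by
      letI := (stalkφ y).toAlgebra
      haveI := hW
      exact (HpExact.flat_coker_ext_iff (stalkφ y) P (p - 1) p).2 inferInstance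
    haveI : Mono (homologyMap ((tenL C).map ((S k y).map f)) p) := mono_of_flat C p _
    haveI : Mono ((S k y).map ((HpExact.G F p).map f)) :=
      ((MorphismProperty.monomorphisms _).arrow_mk_iso_iff (Arrow.isoOfNatIso t (Arrow.mk f))).2 this
    exact (isZero_kernel_of_mono ((S k y).map ((HpExact.G F p).map f))).of_iso (PreservesKernel.iso (S k y) _)
  have hepi : ∀ {M M' : X.Modules} (f : M ⟶ M'), Epi f → Epi ((HpExact.G F p).map f) := by
    intro M M' f hf
    refine Preadditive.epi_of_isZero_cokernel _ (local0 fun R hR k hk P a b α hP hp hα y => ?_)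
    obtain ⟨-, hW⟩ := hflat k hP hp α hα
    obtain ⟨t⟩ := HpExact.nonempty_chart F e p k y hP hp α hα
    let C := ((ModuleCat.extendScalars (stalkφ y)).mapHomologicalComplex (ComplexShape.up ℤ)).obj P
    haveI : Module.Flat ((Spec R).presheaf.stalk y) (C.X (p + 1) ⧸ LinearMap.range (C.d p (p + 1)).hom) := by
      letI := (stalkφ y).toAlgebra
      haveI := hW
      exact (HpExact.flat_coker_ext_iff (stalkφ y) P p (p + 1)).2 inferInstance
    haveI : Epi (homologyMap ((tenL C).map ((S k y).map f)) p) := epi_of_flat C p _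
    haveI : Epi ((S k y).map ((HpExact.G F p).map f)) :=
      ((MorphismProperty.epimorphisms _).arrow_mk_iso_iff (Arrow.isoOfNatIso t (Arrow.mk f))).2 this
    exact (isZero_cokernel_of_epi ((S k y).map ((HpExact.G F p).map f))).of_iso (PreservesCokernel.iso (S k y) _)
  have e₁ := (Functor.preservesFiniteLimits_tfae (HpExact.G F p)).out 0 3
  have e₂ := (Functor.preservesFiniteColimits_tfae (HpExact.G F p)).out 0 3
  exact ⟨e₁.1 fun S₀ hS => ⟨hex S₀ hS, hmono _ hS.mono_f⟩, e₂.1 fun S₀ hS => ⟨hex S₀ hS, hepi _ hS.epi_g⟩⟩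

/-- Locally constant fibre dimension on a reduced scheme gives exactness on quasi-coherent modules. -/
theorem preserves_qcoh [IsReduced X] [∀ x : X, DCoh.HasLpull (X.fromSpecResidueField x)]
    (F : CochainComplex X.Modules ℤ) (e : ℤ) [(DCoh.toD X F).IsLE e] [DCoh.HasLTensorCx F]
    (p : ℤ) (hE : DCoh.IsPseudoCoherentD (p - 1) (DCoh.toD X F))
    (hc : IsLocallyConstant (fun x : X => PerfD.betti (DCoh.toD X F) x p)) :
    PreservesFiniteLimits ((QCohCat.isQCoh X).ι ⋙ HpExact.G F p) ∧
      PreservesFiniteColimits ((QCohCat.isQCoh X).ι ⋙ HpExact.G F p) := by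
  obtain ⟨h₁, h₂⟩ := preserves_of_flat F e p hE fun {R} _ k _ {P a b} hP hp α hα =>
    flat_of_isLocallyConstant (DCoh.toD X F) p hc k hP hp α hα
  haveI := preservesFiniteLimits_ι (X := X)
  haveI := preservesFiniteColimits_ι (X := X)
  exact ⟨comp_preservesFiniteLimits _ _, comp_preservesFiniteColimits _ _⟩

end Groth.Agent.Dual22Lib.HpConv
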