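import Groth.Agent.Dual22Lib.HpTransfer
import Groth.Agent.DCat.TildeStalk
import Groth.Agent.DQCoh.BettiPerf
import Groth.Agent.DQCoh.BettiRank
import Groth.Agent.Props12.TildeFin
import Groth.Agent.Dual22Lib.TenLocal
import Groth.Agent.FlatCxLib.DRank2
import Groth.Agent.FlatCxLib.CochainBetti
import Groth.Agent.DCat.Amplitude
import Groth.Agent.Coherent.CohBC.RankConst
import Groth.Prelude.Def_FlatMod2

/-!
# Exactness of `M ↦ H^p(M ⊗^L E)` against fibre dimensions

For a bounded above, `(p-1)`-pseudo-coherent `E`: exactness gives flatness of two cokernels of an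
approximation on every chart, hence a locally free `H^p(E)` with locally constant fibre dimension.
-/

set_option autoImplicit false
set_option backward.isDefEq.respectTransparency false
set_option backward.defeqAttrib.useBackward true
set_option linter.style.haveILetI false
set_option synthInstance.maxHeartbeats 100000
set_option backward.isDefEq.respectTransparency.types false

universe u

open CategoryTheory CategoryTheory.Limits CategoryTheory.Pretriangulated DerivedCategory Opposite AlgebraicGeometry
open HomologicalComplex TensorProduct Function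
open Groth.Agent.DCat Groth.Agent.ModStalk Groth.Agent.Dual22Lib.HpFlatAlg Groth.Agent.Dual22Lib.HpTransfer

attribute [local instance] HasDerivedCategory.standard
attribute [-instance] Int.instConditionallyCompleteLinearOrder

namespace Groth.Agent.Dual22Lib.HpExact

section Algebra

variable {A : Type u} [CommRing A] {B : Type u} [CommRing B]

/-- Cokernels of base changed complexes. -/
theorem flat_coker_ext_iff (φ : A →+* B) (P : CochainComplex (ModuleCat.{u} A) ℤ) (i j : ℤ) :
    letI := φ.toAlgebra
    Module.Flat B ((((ModuleCat.extendScalars φ).mapHomologicalComplex (ComplexShape.up ℤ)).obj P).X j ⧸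
        LinearMap.range ((((ModuleCat.extendScalars φ).mapHomologicalComplex (ComplexShape.up ℤ)).obj P).d i j).hom) ↔
      Module.Flat B (B ⊗[A] (P.X j ⧸ LinearMap.range (P.d i j).hom)) := by
  let _ := φ.toAlgebra
  let π := (LinearMap.range (P.d i j).hom).mkQ.baseChange B
  have hex : Exact ((P.d i j).hom.baseChange B) π :=
    lTensor_exact B (LinearMap.exact_map_mkQ_range _) (Submodule.mkQ_surjective _)
  exact Module.Flat.equiv_iff ((Submodule.quotEquivOfEq _ _ (LinearMap.exact_iff.mp hex).symm).trans
    (π.quotKerEquivOfSurjective (LinearMap.lTensor_surjective B (Submodule.mkQ_surjective _))))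

theorem flat_ext (φ : A →+* B) (P : CochainComplex (ModuleCat.{u} A) ℤ) (i : ℤ) [Module.Flat A (P.X i)] :
    Module.Flat B ((((ModuleCat.extendScalars φ).mapHomologicalComplex (ComplexShape.up ℤ)).obj P).X i) := by
  let _ := φ.toAlgebra
  exact (inferInstance : Module.Flat B (B ⊗[A] P.X i))

end Algebra

section Stalk

variable {R : CommRingCat.{u}}

theorem isLocalization_stalkφ (y : Spec R) : letI := (stalkφ y).toAlgebra
    IsLocalization.AtPrime ((Spec R).presheaf.stalk y) y.asIdeal :=
  StructureSheaf.IsLocalization.to_stalk R y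

/-- A module over the local ring is its own base change. -/
theorem nonempty_restrict_extend (y : Spec R) :
    Nonempty (ModuleCat.restrictScalars (stalkφ y) ⋙ ModuleCat.extendScalars.{u, u, u} (stalkφ y) ≅ 𝟭 _) := by
  haveI : ∀ N, IsIso ((ModuleCat.extendRestrictScalarsAdj.{u, u, u} (stalkφ y)).counit.app N) := fun N => by
    letI := (stalkφ y).toAlgebra
    haveI := isLocalization_stalkφ y
    letI : Module R (N : Type u) := Module.compHom (N : Type u) (stalkφ y)
    haveI : IsScalarTower R ((Spec R).presheaf.stalk y) (N : Type u) := IsScalarTower.of_algebraMap_smul fun _ _ => rfl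
    haveI := isLocalizedModule_id y.asIdeal.primeCompl (N : Type u) ((Spec R).presheaf.stalk y)
    have hb := IsLocalizedModule.isBaseChange y.asIdeal.primeCompl ((Spec R).presheaf.stalk y)
      (LinearMap.id : (N : Type u) →ₗ[R] (N : Type u))
    rw [ConcreteCategory.isIso_iff_bijective]
    have e : ∀ z, ((ModuleCat.extendRestrictScalarsAdj.{u, u, u} (stalkφ y)).counit.app N).hom z = hb.equiv z := by
      intro z
      induction z using TensorProduct.induction_on with
      | zero => exact (map_zero _).trans (map_zero hb.equiv).symm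
      | tmul a n => exact Eq.trans rfl (hb.equiv_tmul a n).symm
      | add u v hu hv => exact (map_add _ u v).trans ((congrArg₂ (· + ·) hu hv).trans (map_add hb.equiv u v).symm)
    exact ⟨fun a b h => hb.equiv.injective ((e a).symm.trans (h.trans (e b))),
      fun b => ⟨hb.equiv.symm b, (e _).trans (hb.equiv.apply_symm_apply b)⟩⟩
  haveI := NatIso.isIso_of_isIso_app (ModuleCat.extendRestrictScalarsAdj.{u, u, u} (stalkφ y)).counit
  exact ⟨asIso (ModuleCat.extendRestrictScalarsAdj.{u, u, u} (stalkφ y)).counit⟩

/-- Flatness is checked at the local rings. -/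
theorem flat_of_stalks (W : Type u) [AddCommGroup W] [Module R W]
    (h : ∀ y : Spec R, letI := (stalkφ y).toAlgebra
      Module.Flat ((Spec R).presheaf.stalk y) ((Spec R).presheaf.stalk y ⊗[R] W)) : Module.Flat R W := by
  refine Module.flat_of_localized_maximal W fun P hP => ?_
  let y : Spec R := (⟨P, hP.isPrime⟩ : PrimeSpectrum R)
  letI := (stalkφ y).toAlgebra
  haveI : IsLocalization P.primeCompl ((Spec R).presheaf.stalk y) := isLocalization_stalkφ y
  haveI := h y
  haveI := IsLocalization.flat ((Spec R).presheaf.stalk y) P.primeCompl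
  haveI : Module.Flat R ((Spec R).presheaf.stalk y ⊗[R] W) := Module.Flat.trans R ((Spec R).presheaf.stalk y) _
  exact Module.Flat.of_linearEquiv (IsLocalizedModule.iso P.primeCompl
    (TensorProduct.mk R ((Spec R).presheaf.stalk y) W 1))

end Stalk

section Generic

universe v v' v'' w w' w''

variable {A : Type w} [Category.{v} A] [Abelian A] [HasDerivedCategory A] {B : Type w'} [Category.{v'} B] [Abelian B]
  [HasDerivedCategory B] {C : Type w''} [Category.{v''} C] [Abelian C] [HasDerivedCategory C]

/-- Exact functors keep approximations. -/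
theorem exact_map_apx (st : B ⥤ C) [st.Additive] [PreservesFiniteLimits st] [PreservesFiniteColimits st] (q : ℤ)
    {K L : DerivedCategory B} (β : K ⟶ L) (h : ∀ i, q < i → IsIso ((homologyFunctor B i).map β))
    (h' : Epi ((homologyFunctor B q).map β)) :
    (∀ i, q < i → IsIso ((homologyFunctor C i).map (st.mapDerivedCategory.map β))) ∧
      Epi ((homologyFunctor C q).map (st.mapDerivedCategory.map β)) := by
  refine ⟨fun i hi => ?_, ?_⟩
  · obtain ⟨η⟩ := DQCoh.nonempty_homology_natIso st i
    haveI := h i hi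
    exact (NatIso.isIso_map_iff η β).2 (Functor.map_isIso st ((homologyFunctor B i).map β))
  · obtain ⟨η⟩ := DQCoh.nonempty_homology_natIso st q
    haveI := h'
    exact ((MorphismProperty.epimorphisms C).arrow_mk_iso_iff (Arrow.isoOfNatIso η (Arrow.mk β))).2
      (inferInstanceAs (Epi (st.map ((homologyFunctor B q).map β))))

/-- An approximation between chart complexes gives a chain map at a point. -/
theorem exists_map_generic {M : Type w} [Category.{v} M] [Abelian M] [HasDerivedCategory M]
    (T : A ⥤ B) (U : M ⥤ B) (st : B ⥤ C) (E : A ⥤ C) (S : M ⥤ C) [T.Additive] [U.Additive] [st.Additive]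
    [E.Additive] [S.Additive] [PreservesFiniteLimits T] [PreservesFiniteColimits T] [PreservesFiniteLimits U]
    [PreservesFiniteColimits U] [PreservesFiniteLimits st] [PreservesFiniteColimits st]
    (εT : E ≅ T ⋙ st) (εU : U ⋙ st ≅ S) {P : CochainComplex A ℤ} {F N : CochainComplex M ℤ}
    [CochainComplex.IsKProjective ((E.mapHomologicalComplex (ComplexShape.up ℤ)).obj P)]
    (e : Q.obj N ≅ Q.obj F) (q : ℤ) (α : T.mapDerivedCategory.obj (Q.obj P) ⟶ U.mapDerivedCategory.obj (Q.obj F))
    (hα : ∀ i, q < i → IsIso ((homologyFunctor B i).map α)) (hα' : Epi ((homologyFunctor B q).map α)) :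
    ∃ φ : (E.mapHomologicalComplex (ComplexShape.up ℤ)).obj P ⟶ (S.mapHomologicalComplex (ComplexShape.up ℤ)).obj N,
      (∀ i, q < i → IsIso (homologyMap φ i)) ∧ Epi (homologyMap φ q) := by
  let β : Q.obj ((T.mapHomologicalComplex (ComplexShape.up ℤ)).obj P) ⟶
      Q.obj ((U.mapHomologicalComplex (ComplexShape.up ℤ)).obj N) :=
    (T.mapDerivedCategoryFactors.app P).inv ≫ α ≫ U.mapDerivedCategory.map e.inv ≫
      (U.mapDerivedCategoryFactors.app N).hom
  obtain ⟨h₁, h₂⟩ := exact_map_apx st q β
    (fun i hi => by haveI := hα i hi; simp only [β, Functor.map_comp]; infer_instance)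
    (by haveI := hα'; simp only [β, Functor.map_comp]; infer_instance)
  let α' : Q.obj ((E.mapHomologicalComplex (ComplexShape.up ℤ)).obj P) ⟶
      Q.obj ((S.mapHomologicalComplex (ComplexShape.up ℤ)).obj N) :=
    Q.map ((NatIso.mapHomologicalComplex εT (ComplexShape.up ℤ)).app P).hom ≫
      (st.mapDerivedCategoryFactors.app ((T.mapHomologicalComplex (ComplexShape.up ℤ)).obj P)).inv ≫
      st.mapDerivedCategory.map β ≫
      (st.mapDerivedCategoryFactors.app ((U.mapHomologicalComplex (ComplexShape.up ℤ)).obj N)).hom ≫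
      Q.map ((NatIso.mapHomologicalComplex εU (ComplexShape.up ℤ)).app N).hom
  obtain ⟨φ, hφ⟩ := DCat.Amplitude.exists_Q_map_eq (CochainComplex.IsKProjective.Qh_map_bijective _ _) α'
  refine ⟨φ, fun i hi => (NatIso.isIso_map_iff (homologyFunctorFactors C i) φ).1 ?_,
    ((MorphismProperty.epimorphisms C).arrow_mk_iso_iff
      (Arrow.isoOfNatIso (homologyFunctorFactors C q) (Arrow.mk φ))).1 ?_⟩
  · haveI := h₁ i hi
    show IsIso ((homologyFunctor C i).map (Q.map φ))
    rw [hφ]
    simp only [α', Functor.map_comp]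
    infer_instance
  · haveI := h₂
    show Epi ((homologyFunctor C q).map (Q.map φ))
    rw [hφ]
    simp only [α', Functor.map_comp]
    infer_instance

end Generic

section Chart

variable {X : Scheme.{u}}

/-- The functor `M ↦ H^p(M ⊗^L F)`. -/
noncomputable abbrev G (F : CochainComplex X.Modules ℤ) [DCoh.HasLTensorCx F] (p : ℤ) : X.Modules ⥤ X.Modules :=
  DerivedCategory.singleFunctor X.Modules 0 ⋙ DCoh.LTensorCx F ⋙ DerivedCategory.homologyFunctor X.Modules p

/-- The stalk of the representative compared with the approximation. -/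
theorem exists_map {R : CommRingCat.{u}} [PreservesFiniteLimits (tilde.functor R)] (k : Spec R ⟶ X)
    [IsOpenImmersion k] (y : Spec R) {N : CochainComplex X.Modules ℤ} {P : DRing.Cx R} {a b : ℤ}
    (hP : DRing.VanishesOutside P a b) (hp : DRing.TermwiseFiniteProjective P) {F : CochainComplex X.Modules ℤ}
    (e : Q.obj N ≅ Q.obj F) (q : ℤ) (α : (DCoh.tildeD R).obj (DRing.toD P) ⟶ (PerfLocal.rd k).obj (DCoh.toD X F))
    (hα : PullPerf.Apx q α) :
    ∃ φ : ((ModuleCat.extendScalars (stalkφ y)).mapHomologicalComplex (ComplexShape.up ℤ)).obj P ⟶ (SK k y).obj N,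
      (∀ i, q < i → IsIso (homologyMap φ i)) ∧ Epi (homologyMap φ q) := by
  let O := (Spec R).presheaf.stalk y
  let st := DerSch.stalkFunctor (Spec R) y
  haveI : PreservesFiniteColimits st := by
    haveI := (stalkAdj y).leftAdjoint_preservesColimits (F := st)
    infer_instance
  haveI := DQCoh.preservesFiniteColimits_tilde R
  let C := ((ModuleCat.extendScalars.{u, u, u} (stalkφ y)).mapHomologicalComplex (ComplexShape.up ℤ)).obj P
  haveI : ∀ i, Projective (C.X i) := fun i => by
    letI := (stalkφ y).toAlgebra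
    haveI := (hp i).2
    exact (IsProjective.iff_projective (R := O) (O ⊗[R] P.X i)).1 inferInstance
  haveI : CochainComplex.IsStrictlyLE C b := (CochainComplex.isStrictlyLE_iff C b).2 fun i hi =>
    (ModuleCat.extendScalars.{u, u, u} (stalkφ y)).map_isZero (hP i (Or.inr hi))
  haveI : CochainComplex.IsKProjective C := CochainComplex.isKProjective_of_projective C b
  exact exists_map_generic (tilde.functor R) (Scheme.Modules.restrictFunctor k) st
    (ModuleCat.extendScalars.{u, u, u} (stalkφ y)) (S k y) (tildeStalkIso y)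
    (Functor.isoWhiskerRight (Scheme.Modules.restrictFunctorIsoPullback k) st) e q α hα.1 hα.2

/-- On a chart, `H^p(M ⊗^L F)` at a point is `H^p(M_y ⊗ P_y)`. -/
theorem nonempty_chart (F : CochainComplex X.Modules ℤ) (e : ℤ) [(DCoh.toD X F).IsLE e] [DCoh.HasLTensorCx F]
    (p : ℤ) {R : CommRingCat.{u}} [PreservesFiniteLimits (tilde.functor R)] (k : Spec R ⟶ X)
    [IsOpenImmersion k] (y : Spec R) {P : DRing.Cx R} {a b : ℤ}
    (hP : DRing.VanishesOutside P a b) (hp : DRing.TermwiseFiniteProjective P)
    (α : (DCoh.tildeD R).obj (DRing.toD P) ⟶ (PerfLocal.rd k).obj (DCoh.toD X F))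
    (hα : PullPerf.Apx (p - 1) α) :
    Nonempty (G F p ⋙ S k y ≅ S k y ⋙
      tenL (((ModuleCat.extendScalars (stalkφ y)).mapHomologicalComplex (ComplexShape.up ℤ)).obj P) ⋙
        HomologicalComplex.homologyFunctor (ModuleCat.{u} ((Spec R).presheaf.stalk y)) (ComplexShape.up ℤ) p) := by
  obtain ⟨L, hL, ⟨eL⟩⟩ := DerivedCategory.exists_iso_Q_obj_of_isLE (DCoh.toD X F) e
  obtain ⟨N, q, hN, hNf, hq, hNb⟩ := exists_kflat_sheaf_le L e fun n hn => L.isZero_of_isStrictlyLE e n hn
  let eN : Q.obj N ≅ Q.obj F := asIso (Q.map q) ≪≫ eL.symm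
  obtain ⟨t⟩ := nonempty_G_S k y F hN eN p
  obtain ⟨φ, hφ, hφ'⟩ := exists_map k y hP hp eN (p - 1) α hα
  haveI : ∀ m, IsIso (homologyMap ((tenLMap φ).app m) p) := fun m =>
    isIso_tenLMap φ (max b e) (p - 1) p (by omega)
      (fun n hn => (ModuleCat.extendScalars (stalkφ y)).map_isZero (hP n (Or.inr ((le_max_left b e).trans_lt hn))))
      (fun n hn => (S k y).map_isZero (hNb n ((le_max_right b e).trans_lt hn)))
      (fun n => haveI := (hp n).2; flat_ext (stalkφ y) P n)
      (fun n => by
        have h : Module.Flat _ ((DerSch.stalkFunctor (Spec R) y).obj ((Scheme.Modules.pullback k).obj (N.X n))) :=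
          DCat.isFlat_pullback k (hNf n) y
        exact h) hφ hφ' m
  haveI : IsIso (Functor.whiskerRight (tenLMap φ)
      (HomologicalComplex.homologyFunctor (ModuleCat.{u} ((Spec R).presheaf.stalk y)) (ComplexShape.up ℤ) p)) :=
    haveI : ∀ m, IsIso ((Functor.whiskerRight (tenLMap φ)
      (HomologicalComplex.homologyFunctor (ModuleCat.{u} ((Spec R).presheaf.stalk y)) (ComplexShape.up ℤ) p)).app m) :=
      fun m => by dsimp; infer_instance
    NatIso.isIso_of_isIso_app _
  exact ⟨t ≪≫ Functor.isoWhiskerLeft _ (asIso (Functor.whiskerRight (tenLMap φ) _)).symm⟩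

/-- The modules on `X` testing a chart. -/
theorem nonempty_test_S {R : CommRingCat.{u}} (k : Spec R ⟶ X) [IsOpenImmersion k] (y : Spec R) :
    Nonempty ((ModuleCat.restrictScalars (stalkφ y) ⋙ tilde.functor R ⋙ Scheme.Modules.pushforward k) ⋙ S k y ≅
      𝟭 _) := by
  obtain ⟨c⟩ := nonempty_restrict_extend y
  let t : (tilde.functor R ⋙ Scheme.Modules.pushforward k) ⋙ S k y ≅ ModuleCat.extendScalars.{u, u, u} (stalkφ y) :=
    Functor.associator _ _ _ ≪≫ Functor.isoWhiskerLeft _ ((Functor.associator _ _ _).symm ≪≫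
      Functor.isoWhiskerRight (Functor.isoWhiskerLeft (Scheme.Modules.pushforward k)
        (Scheme.Modules.restrictFunctorIsoPullback k).symm ≪≫ Scheme.Modules.restrictFunctorAdjCounitIso k) _ ≪≫
      Functor.leftUnitor _) ≪≫ (tildeStalkIso y).symm
  exact ⟨Functor.associator _ _ _ ≪≫ Functor.isoWhiskerLeft _ t ≪≫ c⟩

/-- The two cokernels of an approximation are flat if `M ↦ H^p(M ⊗^L F)` is exact on test modules. -/
theorem flat_of_exact (F : CochainComplex X.Modules ℤ) (e : ℤ) [(DCoh.toD X F).IsLE e] [DCoh.HasLTensorCx F]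
    (p : ℤ) (Pr : ObjectProperty X.Modules)
    (hIm : ∀ {M N : X.Modules} (f : M ⟶ N), Pr M → Pr N → Pr (Abelian.image f))
    (hmono : ∀ {M N : X.Modules} (f : M ⟶ N) [Mono f], Pr M → Pr N → Mono ((G F p).map f))
    (hepi : ∀ {M N : X.Modules} (f : M ⟶ N) [Epi f], Pr M → Pr N → Epi ((G F p).map f))
    {R : CommRingCat.{u}} [PreservesFiniteLimits (tilde.functor R)] (k : Spec R ⟶ X)
    [IsOpenImmersion k] (hT : ∀ M : ModuleCat.{u} R, Pr ((Scheme.Modules.pushforward k).obj (tilde M)))
    {P : DRing.Cx R} {a b : ℤ} (hP : DRing.VanishesOutside P a b) (hp : DRing.TermwiseFiniteProjective P)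
    (α : (DCoh.tildeD R).obj (DRing.toD P) ⟶ (PerfLocal.rd k).obj (DCoh.toD X F))
    (hα : PullPerf.Apx (p - 1) α) :
    Module.Flat R (P.X p ⧸ LinearMap.range (P.d (p - 1) p).hom) ∧
      Module.Flat R (P.X (p + 1) ⧸ LinearMap.range (P.d p (p + 1)).hom) := by
  haveI := fun i => (hp i).2
  have key : ∀ y : Spec R, letI := (stalkφ y).toAlgebra
      Module.Flat ((Spec R).presheaf.stalk y) ((Spec R).presheaf.stalk y ⊗[R] (P.X p ⧸ LinearMap.range (P.d (p - 1) p).hom)) ∧
        Module.Flat ((Spec R).presheaf.stalk y)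
          ((Spec R).presheaf.stalk y ⊗[R] (P.X (p + 1) ⧸ LinearMap.range (P.d p (p + 1)).hom)) := by
    intro y
    obtain ⟨t⟩ := nonempty_chart F e p k y hP hp α hα
    obtain ⟨c⟩ := nonempty_test_S k y
    let T := ModuleCat.restrictScalars (stalkφ y) ⋙ tilde.functor R ⋙ Scheme.Modules.pushforward k
    let C := ((ModuleCat.extendScalars (stalkφ y)).mapHomologicalComplex (ComplexShape.up ℤ)).obj P
    let Ψ := tenL C ⋙ HomologicalComplex.homologyFunctor _ (ComplexShape.up ℤ) p
    let u : T ⋙ G F p ⋙ S k y ≅ Ψ :=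
      Functor.isoWhiskerLeft T t ≪≫ (Functor.associator _ _ _).symm ≪≫ Functor.isoWhiskerRight c _ ≪≫ Functor.leftUnitor _
    haveI := flat_ext (stalkφ y) P (p + 1)
    haveI : PreservesFiniteLimits T := by
      haveI := (Scheme.Modules.pullbackPushforwardAdjunction k).rightAdjoint_preservesLimits
        (G := Scheme.Modules.pushforward k)
      infer_instance
    refine ⟨(flat_coker_ext_iff (stalkφ y) P (p - 1) p).1 (flat_of_mono C p fun f hf => ?_),
      (flat_coker_ext_iff (stalkφ y) P p (p + 1)).1 (flat_of_epi C p fun f hf => ?_)⟩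
    · haveI := hf
      haveI := hmono (T.map f) (hT _) (hT _)
      exact ((MorphismProperty.monomorphisms _).arrow_mk_iso_iff (Arrow.isoOfNatIso u (Arrow.mk f))).1
        (show Mono ((S k y).map ((G F p).map (T.map f))) by infer_instance)
    · haveI := hf
      let g := T.map f
      have hg : Epi ((S k y).map g) := ((MorphismProperty.epimorphisms _).arrow_mk_iso_iff
        (Arrow.isoOfNatIso c (Arrow.mk f))).2 hf
      rw [← Abelian.image.fac g, Functor.map_comp] at hg
      haveI : Epi ((S k y).map (Abelian.image.ι g)) :=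
        epi_of_epi ((S k y).map (Abelian.factorThruImage g)) _
      haveI : IsIso ((S k y).map (Abelian.image.ι g)) := isIso_of_mono_of_epi _
      haveI : IsIso ((S k y).map ((G F p).map (Abelian.image.ι g))) :=
        (NatIso.isIso_map_iff t _).2
          (Functor.map_isIso (tenL C ⋙ HomologicalComplex.homologyFunctor _ (ComplexShape.up ℤ) p) _)
      haveI := hepi (Abelian.factorThruImage g) (hT _) (hIm g (hT _) (hT _))
      refine ((MorphismProperty.epimorphisms _).arrow_mk_iso_iff (Arrow.isoOfNatIso u (Arrow.mk f))).1 ?_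
      show Epi ((S k y).map ((G F p).map g))
      rw [← Abelian.image.fac g, Functor.map_comp, Functor.map_comp]
      infer_instance
  exact ⟨flat_of_stalks _ fun y => (key y).1, flat_of_stalks _ fun y => (key y).2⟩

/-- With flat cokernels the cohomology is finite projective. -/
theorem projective_homology {R : Type u} [CommRing R] (P : CochainComplex (ModuleCat.{u} R) ℤ) (p : ℤ)
    [∀ i, Module.Finite R (P.X i)] [∀ i, Module.Projective R (P.X i)]
    [Module.Flat R (P.X p ⧸ LinearMap.range (P.d (p - 1) p).hom)]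
    [Module.Flat R (P.X (p + 1) ⧸ LinearMap.range (P.d p (p + 1)).hom)] :
    Module.Finite R (P.homology p) ∧ Module.Projective R (P.homology p) := by
  let f := (P.d (p - 1) p).hom
  let g := (P.d p (p + 1)).hom
  haveI := fun i => Module.finitePresentation_of_projective R (P.X i)
  have hfp : ∀ (M N : Type u) [AddCommGroup M] [Module R M] [AddCommGroup N] [Module R N]
      [Module.Finite R M] [Module.FinitePresentation R N] (φ : M →ₗ[R] N),
      Module.FinitePresentation R (N ⧸ LinearMap.range φ) := fun M N _ _ _ _ _ _ φ =>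
    Module.finitePresentation_of_surjective (LinearMap.range φ).mkQ (Submodule.mkQ_surjective _)
      (by rw [Submodule.ker_mkQ]; exact Module.Finite.iff_fg.mp inferInstance)
  haveI := hfp _ _ f
  haveI := hfp _ _ g
  haveI : Module.Projective R (P.X p ⧸ LinearMap.range f) := Module.Flat.projective_of_finitePresentation
  haveI : Module.Projective R (P.X (p + 1) ⧸ LinearMap.range g) := Module.Flat.projective_of_finitePresentation
  obtain ⟨s₂, hs₂⟩ := Module.projective_lifting_property (LinearMap.range g).mkQ LinearMap.id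
    (Submodule.mkQ_surjective _)
  haveI hproj : Module.Projective R (LinearMap.range g) := by
    let π : P.X (p + 1) →ₗ[R] LinearMap.range g :=
      (LinearMap.id - s₂ ∘ₗ (LinearMap.range g).mkQ).codRestrict _ fun z => by
        rw [← Submodule.Quotient.mk_eq_zero]
        have := LinearMap.congr_fun hs₂ ((LinearMap.range g).mkQ z)
        simp only [LinearMap.comp_apply, LinearMap.id_apply, Submodule.mkQ_apply] at this
        simp [Submodule.Quotient.mk_sub, this]
    refine Module.Projective.of_split (LinearMap.range g).subtype π ?_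
    ext z
    have : (LinearMap.range g).mkQ (z : P.X (p + 1)) = 0 := (Submodule.Quotient.mk_eq_zero _).mpr z.2
    simp [π, this]
  have hgf : g ∘ₗ f = 0 := congrArg ModuleCat.Hom.hom (P.d_comp_d (p - 1) p (p + 1))
  let q' : (P.X p ⧸ LinearMap.range f) →ₗ[R] LinearMap.range g := (LinearMap.range f).liftQ g.rangeRestrict (by
    rw [LinearMap.ker_rangeRestrict]; exact LinearMap.range_le_ker_iff.mpr hgf)
  have hq : Surjective q' := by
    rintro ⟨_, z, rfl⟩
    exact ⟨Submodule.Quotient.mk z, rfl⟩
  obtain ⟨s, hs⟩ := Module.projective_lifting_property q' LinearMap.id hq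
  let π : (P.X p ⧸ LinearMap.range f) →ₗ[R] LinearMap.ker q' := (LinearMap.id - s ∘ₗ q').codRestrict _ fun z => by
    have := LinearMap.congr_fun hs (q' z)
    simp only [LinearMap.comp_apply, LinearMap.id_apply] at this
    simp [this]
  have hπ : π ∘ₗ (LinearMap.ker q').subtype = LinearMap.id := by
    ext z
    simp [π, LinearMap.mem_ker.mp z.2]
  haveI : Module.Finite R (LinearMap.ker q') := Module.Finite.of_surjective π fun z => ⟨z, LinearMap.congr_fun hπ z⟩
  haveI : Module.Projective R (LinearMap.ker q') := Module.Projective.of_split (LinearMap.ker q').subtype π hπ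
  have hexq : LinearMap.ker q' = LinearMap.range (FlatCxLib.homologyToCoker f g) :=
    LinearMap.exact_iff.mp (FlatCxLib.exact_homologyToCoker hgf)
  let e' : LinearMap.ker q' ≃ₗ[R] P.homology p :=
    ((LinearEquiv.ofEq _ _ hexq).trans
      (LinearEquiv.ofInjective _ (FlatCxLib.homologyToCoker_injective (g := g) f)).symm).trans
      (FlatCxLib.cochainHomologyEquiv P (p - 1) p (p + 1) (by omega) rfl).symm
  exact ⟨Module.Finite.equiv e', Module.Projective.of_equiv e'⟩

/-- Flat cokernels make the fibre dimension locally constant and `H^p` locally free. -/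
theorem isFinLocFree_and_isLocallyConstant [∀ x : X, DCoh.HasLpull (X.fromSpecResidueField x)] (E : DCoh.D X) (p : ℤ)
    (hE : DCoh.IsPseudoCoherentD (p - 1) E)
    (hflat : ∀ {R : CommRingCat.{u}} [PreservesFiniteLimits (tilde.functor R)] (k : Spec R ⟶ X) [IsOpenImmersion k]
      {P : DRing.Cx R} {a b : ℤ}, DRing.VanishesOutside P a b → DRing.TermwiseFiniteProjective P →
      ∀ α : (DCoh.tildeD R).obj (DRing.toD P) ⟶ (PerfLocal.rd k).obj E, PullPerf.Apx (p - 1) α →
        Module.Flat R (P.X p ⧸ LinearMap.range (P.d (p - 1) p).hom) ∧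
          Module.Flat R (P.X (p + 1) ⧸ LinearMap.range (P.d p (p + 1)).hom)) :
    FlatMod.IsFinLocFree (DCoh.HD E p) ∧ IsLocallyConstant (fun x : X => PerfD.betti E x p) := by
  have key : ∀ x : X, (∃ (W : Scheme.{u}) (k : W ⟶ X) (_ : IsOpenImmersion k),
      x ∈ k.opensRange ∧ FlatMod.IsFinLocFree ((Scheme.Modules.restrictFunctor k).obj (DCoh.HD E p))) ∧
      ∀ᶠ z in nhds x, PerfD.betti E z p = PerfD.betti E x p := by
    intro x
    obtain ⟨R, _, k, _, M, α, hxk, ⟨P, a, b, hP, hp, ⟨eP⟩⟩, hα⟩ := DQCoh.exists_affine_approx hE x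
    let α₀ := (DCoh.tildeD R).map eP.hom ≫ α
    have hα₀ : PullPerf.Apx (p - 1) α₀ := (PullPerf.apx_of_isIso _ _).comp hα
    obtain ⟨hW, hW'⟩ := hflat k hP hp α₀ hα₀
    haveI := fun i => (hp i).1
    haveI := fun i => (hp i).2
    haveI := fun i => Module.finitePresentation_of_projective R (P.X i)
    haveI := hW
    haveI := hW'
    haveI : Module.FinitePresentation R (P.X p ⧸ LinearMap.range (P.d (p - 1) p).hom) :=
      Module.finitePresentation_of_surjective _ (Submodule.mkQ_surjective _)
        (by rw [Submodule.ker_mkQ, LinearMap.range_eq_map]; exact (Module.Finite.fg_top).map _)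
    haveI : Module.FinitePresentation R (P.X (p + 1) ⧸ LinearMap.range (P.d p (p + 1)).hom) :=
      Module.finitePresentation_of_surjective _ (Submodule.mkQ_surjective _)
        (by rw [Submodule.ker_mkQ, LinearMap.range_eq_map]; exact (Module.Finite.fg_top).map _)
    haveI := (hp p).1
    haveI := DQCoh.preservesFiniteColimits_tilde R
    obtain ⟨η⟩ := DQCoh.nonempty_homology_natIso (tilde.functor R) p
    obtain ⟨η'⟩ := DQCoh.nonempty_homology_natIso (Scheme.Modules.restrictFunctor k) p
    haveI := hα₀.1 p (by omega)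
    refine ⟨⟨_, k, inferInstance, hxk, ?_⟩, ?_⟩
    · let eH : (Scheme.Modules.restrictFunctor k).obj (DCoh.HD E p) ≅ tilde (P.homology p) :=
        (η'.app E).symm ≪≫ (asIso ((homologyFunctor (Spec R).Modules p).map α₀)).symm ≪≫ η.app _ ≪≫
          (tilde.functor R).mapIso (DRingLib.HQ _ p)
      have hfree := projective_homology P p
      exact PerfTensor.isFinLocFree_of_iso eH.symm ((Props12.isFinLocFree_tilde_iff _).2 hfree)
    · obtain ⟨y, rfl⟩ := hxk
      have h1 := (Module.isLocallyConstant_rankAtStalk (R := R) (M := P.X (p + 1))).eventually_eq y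
      have h2 := (Module.isLocallyConstant_rankAtStalk (R := R)
        (M := P.X p ⧸ LinearMap.range (P.d (p - 1) p).hom)).eventually_eq y
      have h3 := (Module.isLocallyConstant_rankAtStalk (R := R)
        (M := P.X (p + 1) ⧸ LinearMap.range (P.d p (p + 1)).hom)).eventually_eq y
      refine (k.isOpenEmbedding.map_nhds_eq y) ▸ Filter.eventually_map.2 ?_
      filter_upwards [h1, h2, h3] with z hz1 hz2 hz3
      have fy := DQCoh.betti_formula E k hP hp (p - 1) α₀ hα₀ p (by omega) y
      have fz := DQCoh.betti_formula E k hP hp (p - 1) α₀ hα₀ p (by omega) z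
      simp only [FlatCxLib.fibreRank_eq_rankAtStalk] at fy fz
      show PerfD.betti E (k z) p = PerfD.betti E (k y) p
      have hz1' : Module.rankAtStalk (R := R) (P.X (p + 1)) z = Module.rankAtStalk (R := R) (P.X (p + 1)) y := hz1
      have hz2' : Module.rankAtStalk (R := R) (P.X p ⧸ LinearMap.range (P.d (p - 1) p).hom) z =
          Module.rankAtStalk (R := R) (P.X p ⧸ LinearMap.range (P.d (p - 1) p).hom) y := hz2
      have hz3' : Module.rankAtStalk (R := R) (P.X (p + 1) ⧸ LinearMap.range (P.d p (p + 1)).hom) z =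
          Module.rankAtStalk (R := R) (P.X (p + 1) ⧸ LinearMap.range (P.d p (p + 1)).hom) y := hz3
      omega
  exact ⟨DQCoh.isFinLocFree_of_local _ fun x => (key x).1, (IsLocallyConstant.iff_eventually_eq _).2 fun x => (key x).2⟩

end Chart

end Groth.Agent.Dual22Lib.HpExact
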