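import Groth.Agent.DCat.KFlatModule
import Groth.Agent.FlatCxLib.Algebra
import Groth.Agent.DCat.KFlatRes
import Mathlib.Algebra.Category.ModuleCat.Biproducts
import Groth.Agent.DCat.LTensorModule
import Mathlib.RingTheory.Flat.Equalizer
import Mathlib.Algebra.Homology.DerivedCategory.HomologySequence

/-!
# Exactness of `m ↦ H^p(m ⊗ C)` and flatness of the cokernels of `C`

For a cochain complex `C` of flat modules, the functor `m ↦ H^p(m ⊗ C)` preserves monomorphisms only
if `C^p / im d` is flat, and epimorphisms only if `C^{p+1} / im d` is flat.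
-/

set_option autoImplicit false
set_option backward.isDefEq.respectTransparency false
set_option backward.defeqAttrib.useBackward true
set_option linter.style.haveILetI false

universe u v w

open CategoryTheory CategoryTheory.Limits HomologicalComplex TensorProduct Function
open Groth.Agent.DCat

attribute [local instance] HasDerivedCategory.standard

namespace Groth.Agent.Dual22Lib.HpFlatAlg

variable {A : Type u} [CommRing A]

section Element

variable {S S' : ShortComplex (ModuleCat.{u} A)} (φ : S ⟶ S')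

theorem mem_range_of_class {x : S.X₂} (hx : S.g x = 0) :
    ∃ c : S.cycles, S.iCycles c = x ∧ (S.homologyπ c = 0 ↔ ∃ v, S.f v = x) := by
  let l : ModuleCat.of A (LinearMap.ker S.g.hom) ⟶ S.X₂ := ModuleCat.ofHom (LinearMap.ker S.g.hom).subtype
  have hl : l ≫ S.g = 0 := ModuleCat.hom_ext (LinearMap.ext fun z => z.2)
  let c : S.cycles := S.liftCycles l hl ⟨x, hx⟩
  have hc : S.iCycles c = x := by
    rw [← CategoryTheory.comp_apply, ShortComplex.liftCycles_i]
    rfl
  have hex := ShortComplex.exact_of_g_is_cokernel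
    (ShortComplex.mk S.toCycles S.homologyπ S.toCycles_comp_homologyπ) S.homologyIsCokernel
  rw [ShortComplex.moduleCat_exact_iff] at hex
  refine ⟨c, hc, fun h => ?_, ?_⟩
  · obtain ⟨v, hv⟩ := hex c h
    refine ⟨v, ?_⟩
    rw [← hc, ← hv, ← CategoryTheory.comp_apply, ShortComplex.toCycles_i]
  · rintro ⟨v, hv⟩
    have : c = S.toCycles v := by
      apply (ModuleCat.mono_iff_injective S.iCycles).mp inferInstance
      rw [hc, ← CategoryTheory.comp_apply, ShortComplex.toCycles_i, hv]
    rw [this, ← CategoryTheory.comp_apply, ShortComplex.toCycles_comp_homologyπ]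
    rfl

theorem mem_range_of_mono [Mono (ShortComplex.homologyMap φ)] {x : S.X₂} (hx : S.g x = 0)
    (h : ∃ w, S'.f w = φ.τ₂ x) : ∃ v, S.f v = x := by
  have hx' : S'.g (φ.τ₂ x) = 0 := by
    rw [← CategoryTheory.comp_apply, φ.comm₂₃, CategoryTheory.comp_apply, hx, map_zero]
  obtain ⟨c, hc, hc'⟩ := mem_range_of_class hx
  obtain ⟨d, hd, hd'⟩ := mem_range_of_class hx'
  refine hc'.1 ((ModuleCat.mono_iff_injective (ShortComplex.homologyMap φ)).mp inferInstance ?_)
  rw [map_zero, ← CategoryTheory.comp_apply, ShortComplex.homologyπ_naturality, CategoryTheory.comp_apply,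
    show ShortComplex.cyclesMap φ c = d from (ModuleCat.mono_iff_injective S'.iCycles).mp inferInstance (by
      rw [← CategoryTheory.comp_apply, ShortComplex.cyclesMap_i, CategoryTheory.comp_apply, hc, hd])]
  exact hd'.2 h

theorem exists_cycle_of_epi [Epi (ShortComplex.homologyMap φ)] {z : S'.X₂} (hz : S'.g z = 0) :
    ∃ y, S.g y = 0 ∧ ∃ w, z = φ.τ₂ y + S'.f w := by
  obtain ⟨d, hd, -⟩ := mem_range_of_class hz
  obtain ⟨a, ha⟩ := (ModuleCat.epi_iff_surjective (ShortComplex.homologyMap φ)).mp inferInstance (S'.homologyπ d)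
  obtain ⟨c, rfl⟩ := (ModuleCat.epi_iff_surjective S.homologyπ).mp inferInstance a
  have hy : S.g (S.iCycles c) = 0 := by
    rw [← CategoryTheory.comp_apply, ShortComplex.iCycles_g]
    rfl
  rw [← CategoryTheory.comp_apply, ShortComplex.homologyπ_naturality, CategoryTheory.comp_apply, eq_comm,
    ← sub_eq_zero, ← map_sub] at ha
  have hex := ShortComplex.exact_of_g_is_cokernel
    (ShortComplex.mk S'.toCycles S'.homologyπ S'.toCycles_comp_homologyπ) S'.homologyIsCokernel
  rw [ShortComplex.moduleCat_exact_iff] at hex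
  obtain ⟨w, hw⟩ := hex _ ha
  refine ⟨S.iCycles c, hy, w, ?_⟩
  have := congrArg S'.iCycles hw
  rw [← CategoryTheory.comp_apply, ShortComplex.toCycles_i, map_sub, hd, ← CategoryTheory.comp_apply,
    ShortComplex.cyclesMap_i, CategoryTheory.comp_apply] at this
  rw [this]
  abel

end Element

section Cx

variable {ι : Type} {c : ComplexShape ι} {K L : HomologicalComplex (ModuleCat.{u} A) c} (φ : K ⟶ L) {i p k : ι}
  (hi : c.prev p = i) (hk : c.next p = k)

include hi hk

theorem cx_mem_range_of_mono [Mono (homologyMap φ p)] {x : K.X p} (hx : K.d p k x = 0)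
    (h : ∃ w, L.d i p w = φ.f p x) : ∃ v, K.d i p v = x := by
  subst hi hk
  haveI : Mono (ShortComplex.homologyMap ((shortComplexFunctor (ModuleCat.{u} A) c p).map φ)) :=
    inferInstanceAs (Mono (homologyMap φ p))
  exact mem_range_of_mono ((shortComplexFunctor (ModuleCat.{u} A) c p).map φ) hx h

theorem cx_exists_cycle_of_epi [Epi (homologyMap φ p)] {z : L.X p} (hz : L.d p k z = 0) :
    ∃ y, K.d p k y = 0 ∧ ∃ w, z = φ.f p y + L.d i p w := by
  subst hi hk
  haveI : Epi (ShortComplex.homologyMap ((shortComplexFunctor (ModuleCat.{u} A) c p).map φ)) :=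
    inferInstanceAs (Epi (homologyMap φ p))
  exact exists_cycle_of_epi ((shortComplexFunctor (ModuleCat.{u} A) c p).map φ) hz

end Cx

/-- `m ↦ m ⊗ C`. -/
noncomputable def tenL (C : CochainComplex (ModuleCat.{u} A) ℤ) :
    ModuleCat.{u} A ⥤ CochainComplex (ModuleCat.{u} A) ℤ where
  obj m := (((modT A).obj m).mapHomologicalComplex (ComplexShape.up ℤ)).obj C
  map f := (NatTrans.mapHomologicalComplex ((modT A).map f) (ComplexShape.up ℤ)).app C
  map_id m := by
    refine HomologicalComplex.hom_ext _ _ fun n => ?_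
    simp
  map_comp f g := by
    refine HomologicalComplex.hom_ext _ _ fun n => ?_
    simp

variable (C : CochainComplex (ModuleCat.{u} A) ℤ)

theorem tenL_d (m : ModuleCat.{u} A) (i j : ℤ) (z : m ⊗[A] C.X i) :
    ((tenL C).obj m).d i j z = (C.d i j).hom.lTensor m z := rfl

theorem tenL_f {m m' : ModuleCat.{u} A} (f : m ⟶ m') (i : ℤ) (z : m ⊗[A] C.X i) :
    ((tenL C).map f).f i z = f.hom.rTensor (C.X i) z := rfl

/-- Preservation of monomorphisms by `m ↦ H^p(m ⊗ C)` makes `C^p / im d` flat. -/
theorem flat_of_mono (p : ℤ) [Module.Flat A (C.X (p + 1))]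
    (h : ∀ {m m' : ModuleCat.{u} A} (f : m ⟶ m'), Mono f → Mono (homologyMap ((tenL C).map f) p)) :
    Module.Flat A (C.X p ⧸ LinearMap.range (C.d (p - 1) p).hom) := by
  rw [Module.Flat.iff_rTensor_preserves_injective_linearMap]
  intro N N' _ _ _ _ f hf
  let π := (LinearMap.range (C.d (p - 1) p).hom).mkQ
  haveI := h (ModuleCat.ofHom f) ((ModuleCat.mono_iff_injective _).2 hf)
  rw [injective_iff_map_eq_zero]
  intro z hz
  obtain ⟨b, rfl⟩ := LinearMap.lTensor_surjective N (Submodule.mkQ_surjective _) z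
  let dbar : (C.X p ⧸ LinearMap.range (C.d (p - 1) p).hom) →ₗ[A] C.X (p + 1) :=
    Submodule.liftQ _ (C.d p (p + 1)).hom (by
      rintro _ ⟨a, rfl⟩
      show C.d p (p + 1) (C.d (p - 1) p a) = 0
      rw [← CategoryTheory.comp_apply, C.d_comp_d]
      rfl)
  have hd : (C.d p (p + 1)).hom = dbar ∘ₗ π := (Submodule.liftQ_mkQ _ _ _).symm
  have hb : (C.d p (p + 1)).hom.lTensor N b = 0 := by
    refine Module.Flat.rTensor_preserves_injective_linearMap (M := C.X (p + 1)) f hf ?_
    rw [map_zero, hd, LinearMap.lTensor_comp, LinearMap.comp_apply, ← LinearMap.comp_apply,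
      LinearMap.rTensor_comp_lTensor, ← LinearMap.lTensor_comp_rTensor, LinearMap.comp_apply, hz, map_zero]
  have hex := lTensor_exact N' (LinearMap.exact_map_mkQ_range (C.d (p - 1) p).hom) (Submodule.mkQ_surjective _)
  have hfb : π.lTensor N' (f.rTensor _ b) = 0 := by
    rw [← LinearMap.comp_apply, LinearMap.lTensor_comp_rTensor, ← LinearMap.rTensor_comp_lTensor,
      LinearMap.comp_apply, hz]
  obtain ⟨w, hw⟩ := (hex _).1 hfb
  obtain ⟨v, hv⟩ := cx_mem_range_of_mono ((tenL C).map (ModuleCat.ofHom f)) (i := p - 1) (k := p + 1)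
    (CochainComplex.prev ℤ p) (CochainComplex.next ℤ p) (x := b) hb ⟨w, hw⟩
  exact (lTensor_exact N (LinearMap.exact_map_mkQ_range (C.d (p - 1) p).hom) (Submodule.mkQ_surjective _) b).2
    ⟨v, hv⟩

/-- Preservation of epimorphisms by `m ↦ H^p(m ⊗ C)` makes `C^{p+1} / im d` flat. -/
theorem flat_of_epi (p : ℤ) [Module.Flat A (C.X (p + 1))]
    (h : ∀ {m m' : ModuleCat.{u} A} (f : m ⟶ m'), Epi f → Epi (homologyMap ((tenL C).map f) p)) :
    Module.Flat A (C.X (p + 1) ⧸ LinearMap.range (C.d p (p + 1)).hom) := by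
  rw [Module.Flat.iff_rTensor_preserves_injective_linearMap]
  intro N N' _ _ _ _ f hf
  let π := (LinearMap.range (C.d p (p + 1)).hom).mkQ
  let g := (LinearMap.range f).mkQ
  haveI := h (ModuleCat.ofHom g) ((ModuleCat.epi_iff_surjective _).2 (Submodule.mkQ_surjective _))
  rw [injective_iff_map_eq_zero]
  intro z hz
  obtain ⟨c, rfl⟩ := LinearMap.lTensor_surjective N (Submodule.mkQ_surjective _) z
  have hfc : π.lTensor N' (f.rTensor _ c) = 0 := by
    rw [← LinearMap.comp_apply, LinearMap.lTensor_comp_rTensor, ← LinearMap.rTensor_comp_lTensor,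
      LinearMap.comp_apply, hz]
  obtain ⟨b', hb'⟩ := (lTensor_exact N' (LinearMap.exact_map_mkQ_range (C.d p (p + 1)).hom)
    (Submodule.mkQ_surjective _) _).1 hfc
  have hgf : g ∘ₗ f = 0 := LinearMap.range_le_ker_iff.1 (by simp [g])
  have hgb : (C.d p (p + 1)).hom.lTensor (N' ⧸ LinearMap.range f) (g.rTensor _ b') = 0 := by
    rw [← LinearMap.comp_apply, LinearMap.lTensor_comp_rTensor, ← LinearMap.rTensor_comp_lTensor,
      LinearMap.comp_apply, hb', ← LinearMap.comp_apply, ← LinearMap.rTensor_comp, hgf, LinearMap.rTensor_zero,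
      LinearMap.zero_apply]
  obtain ⟨(y : N' ⊗[A] C.X p), hy, w, hw⟩ := cx_exists_cycle_of_epi ((tenL C).map (ModuleCat.ofHom g)) (i := p - 1) (k := p + 1)
    (CochainComplex.prev ℤ p) (CochainComplex.next ℤ p) (z := g.rTensor (C.X p) b') hgb
  change g.rTensor _ b' = g.rTensor _ y + (C.d (p - 1) p).hom.lTensor _ w at hw
  obtain ⟨a, ha⟩ := LinearMap.rTensor_surjective (C.X (p - 1)) (Submodule.mkQ_surjective (LinearMap.range f)) w
  have hbe : g.rTensor (C.X p) (b' - y - (C.d (p - 1) p).hom.lTensor N' a) = 0 := by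
    have e : g.rTensor (C.X p) ((C.d (p - 1) p).hom.lTensor N' a) = (C.d (p - 1) p).hom.lTensor _ w := by
      rw [← ha, ← LinearMap.comp_apply, LinearMap.rTensor_comp_lTensor, ← LinearMap.lTensor_comp_rTensor,
        LinearMap.comp_apply]
    rw [map_sub, map_sub, e, hw]
    abel
  obtain ⟨e, he⟩ := (rTensor_exact (C.X p) (LinearMap.exact_map_mkQ_range f) (Submodule.mkQ_surjective _) _).1 hbe
  have hdd : ∀ t, (C.d p (p + 1)).hom.lTensor N' ((C.d (p - 1) p).hom.lTensor N' t) = 0 := fun t => by
    rw [← LinearMap.comp_apply, ← LinearMap.lTensor_comp, ← ModuleCat.hom_comp, C.d_comp_d, ModuleCat.hom_zero,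
      LinearMap.lTensor_zero, LinearMap.zero_apply]
  have hy' : (C.d p (p + 1)).hom.lTensor N' y = 0 := hy
  have hkey : f.rTensor _ ((C.d p (p + 1)).hom.lTensor N e) = f.rTensor _ c := by
    rw [← LinearMap.comp_apply, LinearMap.rTensor_comp_lTensor, ← LinearMap.lTensor_comp_rTensor,
      LinearMap.comp_apply, he, map_sub, map_sub, hb', hy', hdd, sub_zero, sub_zero]
  exact (lTensor_exact N (LinearMap.exact_map_mkQ_range (C.d p (p + 1)).hom) (Submodule.mkQ_surjective _) c).2
    ⟨e, Module.Flat.rTensor_preserves_injective_linearMap (M := C.X (p + 1)) f hf hkey⟩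

/-- Tensoring preserves exactness of bounded above complexes of flat modules in high degrees. -/
theorem exactAt_tenL (b q : ℤ) (hb : ∀ n, b < n → IsZero (C.X n)) (hflat : ∀ n, Module.Flat A (C.X n))
    (hex : ∀ n, q ≤ n → C.ExactAt n) (m : ModuleCat.{u} A) (n : ℤ) (hn : q ≤ n) : ((tenL C).obj m).ExactAt n := by
  have hle : ∀ i, C.d i (i + 1) ≫ C.d (i + 1) (i + 1 + 1) = 0 := fun i => C.d_comp_d _ _ _
  have key : ∀ k : ℕ, ∀ i, q ≤ i → b < i + k →
      Module.Flat A (C.X i ⧸ LinearMap.range (C.d (i - 1) i).hom) := by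
    intro k
    induction k with
    | zero =>
      intro i _ hi
      haveI := ModuleCat.subsingleton_of_isZero (hb i (by simpa using hi))
      infer_instance
    | succ k ih =>
      intro i hi hik
      haveI := ih (i + 1) (by omega) (by push_cast at hik ⊢; omega)
      haveI := hflat (i + 1)
      have e := (hex i hi)
      rw [C.exactAt_iff' (i - 1) i (i + 1) (by simp) (by simp), ShortComplex.ShortExact.moduleCat_exact_iff_function_exact] at e
      let dbar : (C.X i ⧸ LinearMap.range (C.d (i - 1) i).hom) →ₗ[A] C.X (i + 1) :=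
        Submodule.liftQ _ (C.d i (i + 1)).hom (LinearMap.exact_iff.1 e).ge
      have hinj : Injective dbar := LinearMap.ker_eq_bot.1
        (Submodule.ker_liftQ_eq_bot _ _ _ (LinearMap.exact_iff.1 e).le)
      have hex' : Exact dbar (LinearMap.range (C.d (i + 1 - 1) (i + 1)).hom).mkQ := by
        rw [LinearMap.exact_iff, Submodule.ker_mkQ, Submodule.range_liftQ]
        congr <;> omega
      exact FlatCxLib.flat_of_exact_left dbar _ hex' (Submodule.mkQ_surjective _) hinj
  obtain ⟨k, hk⟩ : ∃ k : ℕ, b < n + 1 + k := ⟨(b - n).toNat, by omega⟩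
  haveI := key k (n + 1) (by omega) hk
  have e := hex n hn
  rw [C.exactAt_iff' (n - 1) n (n + 1) (by simp) (by simp), ShortComplex.ShortExact.moduleCat_exact_iff_function_exact] at e
  let dbar : (C.X n ⧸ LinearMap.range (C.d (n - 1) n).hom) →ₗ[A] C.X (n + 1) :=
    Submodule.liftQ _ (C.d n (n + 1)).hom (LinearMap.exact_iff.1 e).ge
  have hinj : Injective dbar := LinearMap.ker_eq_bot.1
    (Submodule.ker_liftQ_eq_bot _ _ _ (LinearMap.exact_iff.1 e).le)
  have hex' : Exact dbar (LinearMap.range (C.d (n + 1 - 1) (n + 1)).hom).mkQ := by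
    rw [LinearMap.exact_iff, Submodule.ker_mkQ, Submodule.range_liftQ]
    congr <;> omega
  have hi := LinearMap.lTensor_injective_of_exact_of_flat _ (Submodule.mkQ_surjective _) dbar hinj hex' m
  rw [((tenL C).obj m).exactAt_iff' (n - 1) n (n + 1) (by simp) (by simp), ShortComplex.moduleCat_exact_iff]
  intro z hz
  change (C.d n (n + 1)).hom.lTensor m z = 0 at hz
  have h0 : (LinearMap.range (C.d (n - 1) n).hom).mkQ.lTensor m z = 0 := by
    refine hi ?_
    rw [map_zero, ← LinearMap.comp_apply, ← LinearMap.lTensor_comp, Submodule.liftQ_mkQ]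
    exact hz
  exact (lTensor_exact m (LinearMap.exact_map_mkQ_range (C.d (n - 1) n).hom) (Submodule.mkQ_surjective _) z).1 h0

section Cone

variable {B : Type v} [Category.{w} B] [Abelian B] {K L : CochainComplex B ℤ} (φ : K ⟶ L) (q : ℤ)

/-- The cone is exact in degrees where the map is invertible on cohomology. -/
theorem exactAt_mappingCone (h : ∀ i, q < i → IsIso (homologyMap φ i)) (h' : Epi (homologyMap φ q)) (n : ℤ)
    (hn : q ≤ n) : (CochainComplex.mappingCone φ).ExactAt n := by
  letI := HasDerivedCategory.standard B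
  let T := DerivedCategory.Q.mapTriangle.obj (CochainComplex.mappingCone.triangle φ)
  have hT : T ∈ Pretriangulated.distinguishedTriangles :=
    (DerivedCategory.mem_distTriang_iff _).2 ⟨K, L, φ, ⟨Iso.refl _⟩⟩
  have hm : ∀ i, q < i → IsIso ((DerivedCategory.homologyFunctor B i).map T.mor₁) := fun i hi =>
    (NatIso.isIso_map_iff (DerivedCategory.homologyFunctorFactors B i) φ).2 (h i hi)
  have he : Epi ((DerivedCategory.homologyFunctor B n).map T.mor₁) := by
    rcases eq_or_lt_of_le hn with rfl | hn'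
    · exact ((MorphismProperty.epimorphisms B).arrow_mk_iso_iff
        ((Arrow.isoOfNatIso (DerivedCategory.homologyFunctorFactors B q) (Arrow.mk φ)))).2 h'
    · haveI := hm n hn'; infer_instance
  haveI : Mono ((DerivedCategory.homologyFunctor B (n + 1)).map T.mor₁) := by
    haveI := hm (n + 1) (by omega); infer_instance
  have hd := (DerivedCategory.HomologySequence.mono_homologyMap_mor₁_iff T hT n (n + 1) rfl).1 inferInstance
  have hz := (DerivedCategory.HomologySequence.epi_homologyMap_mor₁_iff T hT n).1 he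
  exact (HomologicalComplex.exactAt_iff_isZero_homology _ _).2
    (((DerivedCategory.HomologySequence.exact₃ T hT n (n + 1) rfl).isZero_of_both_zeros hz hd).of_iso
      ((DerivedCategory.homologyFunctorFactors B n).app (CochainComplex.mappingCone φ)).symm)

/-- A map whose cone is exact around a degree is invertible on cohomology there. -/
theorem isIso_homologyMap (p : ℤ) (h₁ : (CochainComplex.mappingCone φ).ExactAt (p - 1))
    (h₂ : (CochainComplex.mappingCone φ).ExactAt p) : IsIso (homologyMap φ p) := by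
  letI := HasDerivedCategory.standard B
  let T := DerivedCategory.Q.mapTriangle.obj (CochainComplex.mappingCone.triangle φ)
  have hT : T ∈ Pretriangulated.distinguishedTriangles :=
    (DerivedCategory.mem_distTriang_iff _).2 ⟨K, L, φ, ⟨Iso.refl _⟩⟩
  have hz : ∀ i, (CochainComplex.mappingCone φ).ExactAt i → IsZero ((DerivedCategory.homologyFunctor B i).obj T.obj₃) :=
    fun i hi => ((HomologicalComplex.exactAt_iff_isZero_homology _ _).1 hi).of_iso
      ((DerivedCategory.homologyFunctorFactors B i).app (CochainComplex.mappingCone φ))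
  haveI := (DerivedCategory.HomologySequence.epi_homologyMap_mor₁_iff T hT p).2 ((hz p h₂).eq_of_tgt _ _)
  haveI := (DerivedCategory.HomologySequence.mono_homologyMap_mor₁_iff T hT (p - 1) p (by omega)).2
    ((hz _ h₁).eq_of_src _ _)
  haveI : IsIso ((DerivedCategory.homologyFunctor B p).map T.mor₁) := isIso_of_mono_of_epi _
  exact (NatIso.isIso_map_iff (DerivedCategory.homologyFunctorFactors B p) φ).1 this

end Cone

/-- Functoriality of `m ⊗ C` in `C`. -/
noncomputable def tenLMap {C D : CochainComplex (ModuleCat.{u} A) ℤ} (φ : C ⟶ D) : tenL C ⟶ tenL D where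
  app m := (((modT A).obj m).mapHomologicalComplex (ComplexShape.up ℤ)).map φ
  naturality m m' f := by
    refine HomologicalComplex.hom_ext _ _ fun n => ?_
    exact (((modT A).map f).naturality (φ.f n)).symm

/-- Change of complex. -/
theorem isIso_tenLMap {C D : CochainComplex (ModuleCat.{u} A) ℤ} (φ : C ⟶ D) (b q p : ℤ) (hqp : q < p)
    (hC : ∀ n, b < n → IsZero (C.X n)) (hD : ∀ n, b < n → IsZero (D.X n))
    (fC : ∀ n, Module.Flat A (C.X n)) (fD : ∀ n, Module.Flat A (D.X n))
    (h : ∀ i, q < i → IsIso (homologyMap φ i)) (h' : Epi (homologyMap φ q)) (m : ModuleCat.{u} A) :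
    IsIso (homologyMap ((tenLMap φ).app m) p) := by
  have hX : ∀ n, (CochainComplex.mappingCone φ).X n ≅ C.X (n + 1) ⊞ D.X n := fun n =>
    HomologicalComplex.homotopyCofiber.XIsoBiprod φ n (n + 1) (by simp)
  have hz : ∀ n, b < n → IsZero ((CochainComplex.mappingCone φ).X n) := fun n hn =>
    (biprod_isZero_iff _ _ |>.2 ⟨hC _ (by omega), hD n hn⟩).of_iso (hX n)
  have hf : ∀ n, Module.Flat A ((CochainComplex.mappingCone φ).X n) := fun n => by
    haveI := fC (n + 1)
    haveI := fD n
    haveI := flat_of_splitting _ (ShortComplex.Splitting.ofHasBinaryBiproduct (C.X (n + 1)) (D.X n)) (fC (n + 1)) (fD n)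
    exact Module.Flat.of_linearEquiv (M := (C.X (n + 1) ⊞ D.X n : ModuleCat.{u} A)) (hX n).toLinearEquiv
  have hex := exactAt_tenL _ b q hz hf (exactAt_mappingCone φ q h h') m
  refine isIso_homologyMap _ p ?_ ?_ <;>
    exact HomologicalComplex.ExactAt.of_iso (hex _ (by omega))
      (CochainComplex.mappingCone.mapHomologicalComplexIso φ ((modT A).obj m))

end Groth.Agent.Dual22Lib.HpFlatAlg
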