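import Groth.Agent.Dual22Lib.HpFlatAlg
import Groth.Agent.DCat.TensorCongr
import Groth.Agent.DCat.PullTot

/-!
# `M ↦ H^p(M ⊗^L F)` at the points of a chart
-/

set_option autoImplicit false
set_option backward.isDefEq.respectTransparency false
set_option backward.defeqAttrib.useBackward true
set_option linter.style.haveILetI false

universe u v₁ v₂ v₃ u₁ u₂ u₃

open CategoryTheory CategoryTheory.Limits AlgebraicGeometry HomologicalComplex MonoidalCategory
open Groth.Agent.DCat Groth.Agent.ModStalk Groth.Agent.Dual22Lib.HpFlatAlg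

attribute [local instance] HasDerivedCategory.standard

namespace Groth.Agent.Dual22Lib.HpTransfer

section Single

variable {A : Type u₁} [Category.{v₁} A] [Preadditive A] [HasZeroObject A] {B : Type u₂} [Category.{v₂} B]
  [Preadditive B] {D : Type u₃} [Category.{v₃} D] [Abelian D]
  (T : A ⥤ B ⥤ D) [T.Additive] [∀ a, (T.obj a).Additive]
  [∀ (K₁ : CochainComplex A ℤ) (K₂ : CochainComplex B ℤ), CochainComplex.HasMapBifunctor K₁ K₂ T]
  (K : CochainComplex B ℤ)

/-- An object in degree zero against `K`. -/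
noncomputable def singleTot (M : A) :
    ((T.obj M).mapHomologicalComplex (ComplexShape.up ℤ)).obj K ⟶
      tot T ((single A (ComplexShape.up ℤ) 0).obj M) K where
  f n := (T.map (singleObjXSelf (ComplexShape.up ℤ) 0 M).inv).app (K.X n) ≫
    ιMapBifunctor ((single A (ComplexShape.up ℤ) 0).obj M) K T (ComplexShape.up ℤ) 0 n n (by simp)
  comm' i j hij := by
    dsimp
    simp only [Category.assoc, mapBifunctor.d_eq, Preadditive.comp_add, mapBifunctor.ι_D₁, mapBifunctor.ι_D₂]
    rw [mapBifunctor.d₁_eq _ _ _ _ (show (ComplexShape.up ℤ).Rel 0 1 by simp) _ _ (by simp at hij ⊢; omega),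
      mapBifunctor.d₂_eq _ _ _ _ _ hij _ (by simpa using hij), single_obj_d (ComplexShape.up ℤ) 0 M 0 1]
    simp [(T.map (singleObjXSelf (ComplexShape.up ℤ) 0 M).inv).naturality_assoc]

instance isIso_singleTot (M : A) : IsIso (singleTot T K M) := by
  classical
  haveI : ∀ n, IsIso ((singleTot T K M).f n) := fun n => by
    let e := singleObjXSelf (ComplexShape.up ℤ) 0 M
    let S := (single A (ComplexShape.up ℤ) 0).obj M
    refine ⟨mapBifunctorDesc (fun p q h => if hp : p = 0 then
      (T.map ((S.XIsoOfEq hp).hom ≫ e.hom)).app (K.X q) ≫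
        (T.obj M).map (K.XIsoOfEq (show q = n by subst hp; simpa using h)).hom else 0), ?_, ?_⟩
    · change ((T.map e.inv).app (K.X n) ≫ ιMapBifunctor S K T (ComplexShape.up ℤ) 0 n n (by simp)) ≫ _ = _
      simp only [Category.assoc, ι_mapBifunctorDesc, dif_pos, XIsoOfEq_rfl, Iso.refl_hom, Category.id_comp,
        CategoryTheory.Functor.map_id, Category.comp_id]
      rw [← NatTrans.comp_app, ← T.map_comp, Iso.inv_hom_id, CategoryTheory.Functor.map_id]
      rfl
    · refine mapBifunctor.hom_ext fun p q h => ?_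
      change ιMapBifunctor S K T (ComplexShape.up ℤ) p q n h ≫ _ ≫
        ((T.map e.inv).app (K.X n) ≫ ιMapBifunctor S K T (ComplexShape.up ℤ) 0 n n (by simp)) =
          ιMapBifunctor S K T (ComplexShape.up ℤ) p q n h ≫ 𝟙 _
      rw [ι_mapBifunctorDesc_assoc, Category.comp_id]
      by_cases hp : p = 0
      · subst hp
        obtain rfl : q = n := by simpa using h
        simp [e, S, ← NatTrans.comp_app_assoc, ← T.map_comp]
      · exact IsZero.eq_of_src (Functor.map_isZero (T.flip.obj (K.X q))
          (isZero_single_obj_X (ComplexShape.up ℤ) 0 M p hp)) _ _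
  exact HomologicalComplex.Hom.isIso_of_components _

lemma singleTot_natural {M M' : A} (f : M ⟶ M') :
    (NatTrans.mapHomologicalComplex (T.map f) (ComplexShape.up ℤ)).app K ≫ singleTot T K M' =
      singleTot T K M ≫ totMap₁ T ((single A (ComplexShape.up ℤ) 0).map f) K := by
  refine HomologicalComplex.hom_ext _ _ fun n => ?_
  dsimp [singleTot]
  simp only [Category.assoc, ι_mapBifunctorMap, id_f, CategoryTheory.Functor.map_id, Category.id_comp]
  rw [single_map_f_self]
  simp only [← NatTrans.comp_app_assoc, ← T.map_comp, Iso.inv_hom_id_assoc]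

end Single

section Stalk

variable {X : Scheme.{u}} {U : Scheme.{u}} (k : U ⟶ X) (y : U)

/-- The stalk of the pullback along a chart. -/
noncomputable abbrev S : X.Modules ⥤ ModuleCat.{u} (U.presheaf.stalk y) :=
  Scheme.Modules.pullback k ⋙ DerSch.stalkFunctor U y

instance preservesColimits_S (n : ℤ) : PreservesColimitsOfShape (Discrete (TotIdx n)) (S k y) := by
  haveI := (stalkAdj y).leftAdjoint_preservesColimits (F := DerSch.stalkFunctor U y)
  infer_instance

/-- It commutes with tensor products. -/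
noncomputable def sTensorIso (M N : X.Modules) :
    (S k y).obj (((shT X).obj M).obj N) ≅ ((modT (U.presheaf.stalk y)).obj ((S k y).obj M)).obj ((S k y).obj N) :=
  (DerSch.stalkFunctor U y).mapIso (PullTensor.pullTensorIso k M N) ≪≫ stalkTensorIso y _ _

lemma sTensorIso_nat₁ {M M' : X.Modules} (φ : M ⟶ M') (N : X.Modules) :
    (S k y).map (((shT X).map φ).app N) ≫ (sTensorIso k y M' N).hom =
      (sTensorIso k y M N).hom ≫ ((modT (U.presheaf.stalk y)).map ((S k y).map φ)).app ((S k y).obj N) := by
  have h := PullTensor.pullTensorHom_nat₁ k φ N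
  have h' := stalkTensor_nat₁ y ((Scheme.Modules.pullback k).map φ) ((Scheme.Modules.pullback k).obj N)
  dsimp [sTensorIso, PullTensor.pullTensorIso] at h h' ⊢
  rw [← Functor.map_comp_assoc, h, Functor.map_comp, Category.assoc, h', Category.assoc]

lemma sTensorIso_nat₂ (M : X.Modules) {N N' : X.Modules} (ψ : N ⟶ N') :
    (S k y).map (((shT X).obj M).map ψ) ≫ (sTensorIso k y M N').hom =
      (sTensorIso k y M N).hom ≫ ((modT (U.presheaf.stalk y)).obj ((S k y).obj M)).map ((S k y).map ψ) := by
  have h := PullTensor.pullTensorHom_nat₂ k M ψ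
  have h' := stalkTensor_nat₂ y ((Scheme.Modules.pullback k).obj M) ((Scheme.Modules.pullback k).map ψ)
  dsimp [sTensorIso, PullTensor.pullTensorIso] at h h' ⊢
  rw [← Functor.map_comp_assoc, h, Functor.map_comp, Category.assoc, h', Category.assoc]

/-- The complex of stalks. -/
noncomputable abbrev SK : CochainComplex X.Modules ℤ ⥤ CochainComplex (ModuleCat.{u} (U.presheaf.stalk y)) ℤ :=
  (S k y).mapHomologicalComplex (ComplexShape.up ℤ)

/-- Stalks of `M ⊗ K`, for a module `M`. -/
theorem nonempty_SK_flip (K : CochainComplex X.Modules ℤ) :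
    Nonempty ((single X.Modules (ComplexShape.up ℤ) 0 ⋙ (DCoh.tensorCx (X := X)).flip.obj K) ⋙ SK k y ≅
      S k y ⋙ tenL ((SK k y).obj K)) := by
  let T := modT (U.presheaf.stalk y)
  refine ⟨NatIso.ofComponents (fun M =>
    mapTotIso (shT X) T (S k y) (S k y) (S k y) (sTensorIso k y) (sTensorIso_nat₁ k y) (sTensorIso_nat₂ k y) _ K ≪≫
      (T.map₂CochainComplex.flip.obj ((SK k y).obj K)).mapIso
        ((singleMapHomologicalComplex (S k y) (ComplexShape.up ℤ) 0).app M) ≪≫
      (asIso (singleTot T ((SK k y).obj K) ((S k y).obj M))).symm) fun {M M'} f => ?_⟩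
  have h₁ : (SK k y).map (mapBifunctorMap ((single X.Modules (ComplexShape.up ℤ) 0).map f) (𝟙 K) (shT X)
      (ComplexShape.up ℤ)) ≫ (mapTotIso (shT X) T (S k y) (S k y) (S k y) (sTensorIso k y) (sTensorIso_nat₁ k y)
        (sTensorIso_nat₂ k y) _ K).hom =
      (mapTotIso (shT X) T (S k y) (S k y) (S k y) (sTensorIso k y) (sTensorIso_nat₁ k y) (sTensorIso_nat₂ k y) _ K).hom ≫
        mapBifunctorMap ((SK k y).map ((single X.Modules (ComplexShape.up ℤ) 0).map f)) ((SK k y).map (𝟙 K)) T
          (ComplexShape.up ℤ) :=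
    mapTotHom_natural (sTensorIso_nat₁ k y) (sTensorIso_nat₂ k y) _ (𝟙 K)
  rw [CategoryTheory.Functor.map_id] at h₁
  have h₂ := congrArg ((T.map₂CochainComplex.flip.obj ((SK k y).obj K)).map)
    ((singleMapHomologicalComplex (S k y) (ComplexShape.up ℤ) 0).hom.naturality f)
  rw [Functor.map_comp, Functor.map_comp] at h₂
  have h₃ := singleTot_natural T ((SK k y).obj K) ((S k y).map f)
  simp only [Iso.trans_hom, Iso.symm_hom, asIso_inv, Functor.mapIso_hom, Iso.app_hom]
  erw [reassoc_of% h₁]
  erw [reassoc_of% h₂]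
  simp only [Category.assoc]
  congr 2
  rw [IsIso.eq_inv_comp, ← Category.assoc, IsIso.comp_inv_eq]
  exact h₃.symm

instance preservesFiniteLimits_S [IsOpenImmersion k] : PreservesFiniteLimits (S k y) := by
  haveI : PreservesFiniteLimits (Scheme.Modules.pullback k) :=
    preservesFiniteLimits_of_natIso (Scheme.Modules.restrictFunctorIsoPullback k)
  infer_instance

instance preservesFiniteColimits_S : PreservesFiniteColimits (S k y) := by
  haveI := (stalkAdj y).leftAdjoint_preservesColimits (F := DerSch.stalkFunctor U y)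
  haveI := (Scheme.Modules.pullbackPushforwardAdjunction k).leftAdjoint_preservesColimits
    (F := Scheme.Modules.pullback k)
  infer_instance

/-- Stalks of `H^p(M ⊗^L F)`. -/
theorem nonempty_G_S [IsOpenImmersion k] (F : CochainComplex X.Modules ℤ) [DCoh.HasLTensorCx F]
    {N : CochainComplex X.Modules ℤ} (hN : IsKFlatFor (shT X) N)
    (e : DerivedCategory.Q.obj N ≅ DerivedCategory.Q.obj F) (p : ℤ) :
    Nonempty ((DerivedCategory.singleFunctor X.Modules 0 ⋙ DCoh.LTensorCx F ⋙
        DerivedCategory.homologyFunctor X.Modules p) ⋙ S k y ≅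
      S k y ⋙ tenL ((SK k y).obj N) ⋙
        HomologicalComplex.homologyFunctor (ModuleCat.{u} (U.presheaf.stalk y)) (ComplexShape.up ℤ) p) := by
  haveI := LTensorSheaf.hasLTensorCx N
  obtain ⟨c⟩ := TensorCongr.nonempty_congr (E := N) (E' := F) e
  obtain ⟨t⟩ := nonempty_SK_flip k y N
  let h : HomologicalComplex.homologyFunctor X.Modules (ComplexShape.up ℤ) p ⋙ S k y ≅
      SK k y ⋙ HomologicalComplex.homologyFunctor (ModuleCat.{u} (U.presheaf.stalk y)) (ComplexShape.up ℤ) p :=
    (NatIso.ofComponents (fun K => (K.sc p).mapHomologyIso (S k y)) fun {K L} f =>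
      ShortComplex.mapHomologyIso_hom_naturality
        ((HomologicalComplex.shortComplexFunctor X.Modules _ p).map f) (S k y)).symm
  refine ⟨Functor.isoWhiskerRight (Functor.isoWhiskerRight (DerivedCategory.singleFunctorIsoCompQ X.Modules 0)
      (DCoh.LTensorCx F ⋙ DerivedCategory.homologyFunctor X.Modules p) ≪≫
    Functor.associator _ _ _ ≪≫
    Functor.isoWhiskerLeft (CochainComplex.singleFunctor X.Modules 0)
      ((Functor.associator _ _ _).symm ≪≫
        Functor.isoWhiskerRight (Functor.isoWhiskerLeft DerivedCategory.Q c.symm ≪≫ TensorCongr.fac hN) _ ≪≫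
        Functor.associator _ _ _ ≪≫
        Functor.isoWhiskerLeft _ (DerivedCategory.homologyFunctorFactors X.Modules p))) (S k y) ≪≫ ?_⟩
  exact Functor.associator _ _ _ ≪≫
    Functor.isoWhiskerLeft (CochainComplex.singleFunctor X.Modules 0)
      (Functor.associator _ _ _ ≪≫ Functor.isoWhiskerLeft _ h) ≪≫
    Functor.isoWhiskerLeft _ (Functor.associator _ _ _).symm ≪≫ (Functor.associator _ _ _).symm ≪≫
    Functor.isoWhiskerRight ((Functor.associator _ _ _).symm ≪≫ t) _ ≪≫ Functor.associator _ _ _

end Stalk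

end Groth.Agent.Dual22Lib.HpTransfer
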