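import Groth.Agent.Dual22Lib.GenEnv

/-!
# Classes closed under sums and cones containing a compact generator contain everything
-/

set_option autoImplicit false
set_option backward.isDefEq.respectTransparency false
set_option backward.defeqAttrib.useBackward true
set_option linter.style.haveILetI false
set_option linter.unusedSectionVars false
set_option synthInstance.maxHeartbeats 100000

universe v w u

open CategoryTheory CategoryTheory.Limits CategoryTheory.Pretriangulated AlgebraicGeometry Opposite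
open Groth.Agent.DCat Groth.Agent.Dual22Lib.GenEnv
open scoped ZeroObject

attribute [-instance] Int.instConditionallyCompleteLinearOrder

namespace Groth.Agent.Dual22Lib.LocGenQC

section Model

variable {A : Type (u + 1)} [Category.{u} A] [Abelian A] [IsGrothendieckAbelian.{u} A] [hs : HasDerivedCategory.{u} A]
  {D : Type w} [Category.{v} D] [Preadditive D] [HasZeroObject D] [HasShift D ℤ]
  [∀ n : ℤ, (shiftFunctor D n).Additive] [Pretriangulated D]
  (I : DerivedCategory A ⥤ D) [I.CommShift ℤ] [I.IsTriangulated] [I.IsEquivalence]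
  (qc : ObjectProperty D) [qc.IsTriangulated] [qc.IsClosedUnderIsomorphisms]

include I in
/-- Classes closed under sums and cones containing a compact generator of `qc` contain `qc`. -/
theorem localizing [IsTriangulated D] [HasCoproducts.{u} D]
    (hsum : ∀ (J : Type u) (K : J → D), (∀ j, qc (K j)) → qc (∐ K)) (G : D) (hGq : qc G)
    (hG : ∀ (J : Type u) (K : J → D), (∀ j, qc (K j)) → DQCoh.SumFac K G)
    (hgen : ∀ E : D, qc E → (∀ (n : ℤ) (φ : G⟦n⟧ ⟶ E), φ = 0) → IsZero E)
    (P : ObjectProperty D) (hiso : ∀ {K L : D}, (K ≅ L) → P K → P L)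
    (hcone : ∀ T ∈ distTriang D, qc T.obj₁ → qc T.obj₂ → P T.obj₁ → P T.obj₂ → P T.obj₃)
    (hPsum : ∀ (J : Type u) (K : J → D), (∀ j, qc (K j)) → (∀ j, P (K j)) → P (∐ K))
    (hPG : ∀ n : ℤ, P (G⟦n⟧)) (X : D) (hX : qc X) : P X := by
  haveI : HasCoproducts.{u} (DerivedCategory A) := fun J =>
    hasCoproductsOfShape_derived enoughKInj_of_isGrothendieckAbelian J
  haveI hclosed : ∀ J : Type u, (sqc I qc).IsClosedUnderColimitsOfShape (Discrete J) := fun J => by
    constructor
    rintro K ⟨c⟩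
    let F := c.diag ⋙ I
    have hc : IsColimit (I.mapCocone (Cocone.mk K c.ι)) := isColimitOfPreserves I c.isColimit
    refine qc.prop_of_iso ?_ (hsum J (fun j => F.obj ⟨j⟩) fun j => c.prop_diag_obj ⟨j⟩)
    exact (HasColimit.isoOfNatIso (Discrete.natIsoFunctor (F := F))).symm ≪≫
      (colimit.isColimit F).coconePointUniqueUpToIso hc
  haveI : HasCoproducts.{u} (QS I qc) := fun J =>
    hasColimitsOfShape_of_closedUnderColimits (sqc I qc) (J := Discrete J)
  haveI : HasColimitsOfShape (Discrete ℕ) (QS I qc) :=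
    hasColimitsOfShape_of_equivalence (Discrete.equivalence (Equiv.ulift.{u} : ULift.{u} ℕ ≃ ℕ))
  haveI : ∀ J : Type u, PreservesColimitsOfShape (Discrete J) (sqc I qc).ι := fun J => by
    haveI : CreatesColimitsOfShape (Discrete J) (sqc I qc).ι :=
      createsColimitsOfShapeFullSubcategoryInclusion (Discrete J) (sqc I qc)
    infer_instance
  have hfac : ∀ Q : QS I qc, (∀ (J : Type u) (K : J → D), (∀ j, qc (K j)) → DQCoh.SumFac K ((emb I qc).obj Q)) →
      FinFac Q := fun Q hQ κ K α => by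
    classical
    let c := PreservesCoproduct.iso (emb I qc) K
    obtain ⟨s, hs⟩ := hQ κ (fun k => (emb I qc).obj (K k)) (fun k => (K k).property) ((emb I qc).map α ≫ c.hom)
    refine ⟨s, (emb I qc).map_injective ?_⟩
    rw [← cancel_mono c.hom, Functor.map_comp, Category.assoc]
    refine Eq.trans (congrArg ((emb I qc).map α ≫ ·) ?_) ((Category.assoc _ _ _).symm.trans hs)
    rw [← cancel_epi c.inv]
    refine Sigma.hom_ext _ _ fun k => ?_
    rw [PreservesCoproduct.inv_hom, ι_comp_sigmaComparison_assoc, ι_comp_sigmaComparison_assoc,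
      ← Functor.map_comp_assoc, ι_finProj]
    have hk : (emb I qc).map (Sigma.ι K k) ≫ c.hom = Sigma.ι (fun k => (emb I qc).obj (K k)) k := by
      rw [← ι_comp_sigmaComparison (emb I qc) K k, ← PreservesCoproduct.inv_hom, Category.assoc, Iso.inv_hom_id,
        Category.comp_id]
    erw [reassoc_of% hk, DQCoh.ι_subSum]
    split_ifs
    · exact hk
    · simp
  obtain ⟨G', ⟨eG⟩⟩ := exists_preimage I qc G hGq
  obtain ⟨X', ⟨eX⟩⟩ := exists_preimage I qc X hX
  have hc : ∀ _ : PUnit.{u + 1}, CohDer.IsCompactObject G' := fun _ =>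
    (isCompactObject_iff _).2 (hfac G' fun J K hK => (hG J K hK).of_iso eG.symm)
  let F := emb I qc
  have hg : CohDer.Generates fun _ : PUnit.{u + 1} => G' := fun K hK => by
    refine (IsZero.iff_id_eq_zero K).2 (F.map_injective ?_)
    refine (hgen (F.obj K) K.property fun n φ => ?_).eq_of_src _ _
    let ψ : F.obj (G'⟦n⟧) ⟶ F.obj K := ((F.commShiftIso n).app G').hom ≫ eG.hom⟦n⟧' ≫ φ
    suffices hψ : ψ = 0 by
      rw [← cancel_epi (eG.hom⟦n⟧'), comp_zero, ← cancel_epi ((F.commShiftIso n).app G').hom, comp_zero]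
      exact hψ
    obtain ⟨ψ', hψ'⟩ := F.map_surjective ψ
    rw [← hψ']
    suffices hz : ψ' = 0 by rw [hz, F.map_zero]
    apply (shiftFunctor (QS I qc) (-n)).map_injective
    rw [Functor.map_zero, ← cancel_epi ((shiftFunctorCompIsoId (QS I qc) n (-n) (by omega)).app G').inv, comp_zero]
    exact hK ⟨⟩ (-n) _
  obtain ⟨Kn, f, i, hL, ⟨κ₀, a₀, m₀, ⟨e₀⟩⟩, hs'⟩ := exists_hocolim_presentation hc hg X'
  have hsum' : ∀ (κ : Type u) (Y : κ → QS I qc), (∀ k, P (F.obj (Y k))) → P (F.obj (∐ Y)) := fun κ Y hY =>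
    hiso (PreservesCoproduct.iso F Y).symm (hPsum κ _ (fun k => (Y k).property) hY)
  have hG' : ∀ m : ℤ, P (F.obj (G'⟦m⟧)) := fun m =>
    hiso (((shiftFunctor D m).mapIso eG.symm) ≪≫ ((F.commShiftIso m).app G').symm) (hPG m)
  have hq : ∀ Y : QS I qc, qc (F.obj Y) := fun Y => Y.property
  have hK : ∀ n, P (F.obj (Kn n)) := by
    intro n
    induction n with
    | zero => exact hiso (F.mapIso e₀.symm) (hsum' _ _ fun k => hG' _)
    | succ n ih =>
      obtain ⟨κ, a, m, y, z, hT⟩ := hs' n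
      exact hcone _ (F.map_distinguished _ hT) (hq _)
        (hq _) (hsum' _ _ fun k => hG' _) ih
  obtain ⟨c, hT⟩ := hL
  have hN : P (F.obj (∐ Kn)) := by
    refine hiso (F.mapIso ?_) (hsum' (ULift.{u} ℕ) (fun n => Kn n.down) fun n => hK n.down)
    exact Sigma.reindex Equiv.ulift.{u} Kn
  exact hiso eX (hcone _ (F.map_distinguished _ hT) (hq _)
    (hq _) hN hN)

end Model

attribute [local instance] HasDerivedCategory.standard

/-- The case of `D(O_X)`. -/
theorem localizing_D {X : Scheme.{u}} [HasCoproducts.{u} (DCoh.D X)] (qc : ObjectProperty (DCoh.D X))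
    [qc.IsTriangulated] [qc.IsClosedUnderIsomorphisms]
    (hsum : ∀ (J : Type u) (K : J → DCoh.D X), (∀ j, qc (K j)) → qc (∐ K)) (G : DCoh.D X) (hGq : qc G)
    (hG : ∀ (J : Type u) (K : J → DCoh.D X), (∀ j, qc (K j)) → DQCoh.SumFac K G)
    (hgen : ∀ E : DCoh.D X, qc E → (∀ (n : ℤ) (φ : G⟦n⟧ ⟶ E), φ = 0) → IsZero E)
    (P : ObjectProperty (DCoh.D X)) (hiso : ∀ {K L : DCoh.D X}, (K ≅ L) → P K → P L)
    (hcone : ∀ T ∈ distTriang (DCoh.D X), qc T.obj₁ → qc T.obj₂ → P T.obj₁ → P T.obj₂ → P T.obj₃)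
    (hPsum : ∀ (J : Type u) (K : J → DCoh.D X), (∀ j, qc (K j)) → (∀ j, P (K j)) → P (∐ K))
    (hPG : ∀ n : ℤ, P (G⟦n⟧)) (K : DCoh.D X) (hK : qc K) : P K := by
  let I := @Functor.mapDerivedCategory X.Modules _ _ (smallDerivedCategory X.Modules enoughKInj_of_isGrothendieckAbelian) X.Modules _ _ (HasDerivedCategory.standard _) (𝟭 _) _ _ _
  haveI : I.IsEquivalence := isEquivalence_mapDerivedCategory_id X.Modules
    (smallDerivedCategory X.Modules enoughKInj_of_isGrothendieckAbelian) (HasDerivedCategory.standard _)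
  exact @localizing X.Modules _ _ _ (smallDerivedCategory X.Modules enoughKInj_of_isGrothendieckAbelian) (DCoh.D X)
    _ _ _ _ _ _ I _ _ _ qc _ _ _ _ hsum G hGq hG hgen P hiso hcone hPsum hPG K hK

end Groth.Agent.Dual22Lib.LocGenQC
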