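import Groth.Agent.DCat.MayerVietoris
import Groth.Agent.DCat.GPDerived
import Groth.Prelude.Def_CxOX
import Mathlib.CategoryTheory.Adjunction.Mates
import Mathlib.CategoryTheory.Preadditive.Injective.Basic

/-!
# The Mayer–Vietoris triangle of extensions by zero
-/

set_option autoImplicit false
set_option backward.isDefEq.respectTransparency false
set_option backward.defeqAttrib.useBackward true
set_option linter.style.haveILetI false
set_option linter.unusedSectionVars false

universe u

open CategoryTheory CategoryTheory.Limits CategoryTheory.Pretriangulated AlgebraicGeometry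

attribute [local instance] HasDerivedCategory.standard

namespace Groth.Agent.Dual22Lib.MVShriek

open DCat.MV (R η res)

variable {X : Scheme.{u}}

/-- `M ↦ j_!(M|U)`. -/
noncomputable def L (U : X.Opens) : X.Modules ⥤ X.Modules :=
  Scheme.Modules.restrictFunctor U.ι ⋙ CxOX.extZero U.ι

instance (U : X.Opens) : (L U).Additive :=
  inferInstanceAs (Scheme.Modules.restrictFunctor U.ι ⋙ CxOX.extZero U.ι).Additive

/-- `j_! j^* ⊣ j_* j^*`. -/
noncomputable def adjL (U : X.Opens) : L U ⊣ R U :=
  (Scheme.Modules.restrictAdjunction U.ι).comp (CxOX.extZeroAdj U.ι)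

/-- `j_! j^* ⟶ id`. -/
noncomputable def ε (U : X.Opens) : L U ⟶ 𝟭 X.Modules :=
  (conjugateEquiv Adjunction.id (adjL U)).symm (η U)

/-- Functoriality in the open. -/
noncomputable def κ {U V : X.Opens} (h : V ≤ U) : L V ⟶ L U :=
  (conjugateEquiv (adjL U) (adjL V)).symm (res h)

theorem homEquiv_ε (U : X.Opens) {M N : X.Modules} (w : M ⟶ N) :
    (adjL U).homEquiv M N ((ε U).app M ≫ w) = w ≫ (η U).app N := by
  have h := unit_conjugateEquiv Adjunction.id (adjL U) (ε U) M
  simp only [ε, Equiv.apply_symm_apply] at h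
  rw [Adjunction.homEquiv_unit, Functor.map_comp, ← Category.assoc]
  erw [← h]
  simp only [Adjunction.id, NatTrans.id_app, Category.id_comp]
  exact ((η U).naturality w).symm

theorem homEquiv_κ {U V : X.Opens} (h : V ≤ U) {M N : X.Modules} (x : (L U).obj M ⟶ N) :
    (adjL V).homEquiv M N ((κ h).app M ≫ x) = (adjL U).homEquiv M N x ≫ (res h).app N := by
  have h' := unit_conjugateEquiv (adjL U) (adjL V) (κ h) M
  simp only [κ, Equiv.apply_symm_apply] at h'
  rw [Adjunction.homEquiv_unit, Functor.map_comp, ← Category.assoc]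
  erw [← h']
  rw [Adjunction.homEquiv_unit, Category.assoc, Category.assoc]
  exact congrArg _ ((res h).naturality x).symm

theorem homEquiv_add (U : X.Opens) {M N : X.Modules} (x y : (L U).obj M ⟶ N) :
    (adjL U).homEquiv M N (x + y) = (adjL U).homEquiv M N x + (adjL U).homEquiv M N y :=
  ((adjL U).homAddEquiv M N).map_add x y

variable (U V : X.Opens)

/-- The first map. -/
noncomputable def α (M : X.Modules) : (L (U ⊓ V)).obj M ⟶ (L U).obj M ⊞ (L V).obj M :=
  biprod.lift ((κ inf_le_left).app M) (-(κ inf_le_right).app M)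

/-- The second map. -/
noncomputable def β (M : X.Modules) : (L U).obj M ⊞ (L V).obj M ⟶ M :=
  biprod.desc ((ε U).app M) ((ε V).app M)

theorem homEquiv_α {M N : X.Modules} (x : (L U).obj M ⊞ (L V).obj M ⟶ N) :
    (adjL (U ⊓ V)).homEquiv M N (α U V M ≫ x) =
      biprod.lift ((adjL U).homEquiv M N (biprod.inl ≫ x)) ((adjL V).homEquiv M N (biprod.inr ≫ x)) ≫
        (DCat.MV.g U V).app N := by
  have e : α U V M ≫ x = (κ inf_le_left).app M ≫ (biprod.inl ≫ x) + (κ inf_le_right).app M ≫ (-(biprod.inr ≫ x)) := by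
    rw [show x = biprod.desc (biprod.inl ≫ x) (biprod.inr ≫ x) by apply biprod.hom_ext' <;> simp, α, biprod.lift_desc]
    simp
  rw [e, homEquiv_add, homEquiv_κ, homEquiv_κ]
  have hn : (adjL V).homEquiv M N (-(biprod.inr ≫ x)) = -(adjL V).homEquiv M N (biprod.inr ≫ x) :=
    map_neg ((adjL V).homAddEquiv M N) _
  rw [hn, Preadditive.neg_comp]
  show _ = biprod.lift _ _ ≫ biprod.desc ((res inf_le_left).app N) (-(res inf_le_right).app N)
  rw [biprod.lift_desc, Preadditive.comp_neg]

theorem homEquiv_zero (W : X.Opens) {M N : X.Modules} : (adjL W).homEquiv M N 0 = 0 :=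
  map_zero ((adjL W).homAddEquiv M N)

theorem homEquiv_β {M N : X.Modules} (w : M ⟶ N) :
    biprod.lift ((adjL U).homEquiv M N (biprod.inl ≫ β U V M ≫ w))
      ((adjL V).homEquiv M N (biprod.inr ≫ β U V M ≫ w)) = w ≫ (DCat.MV.f U V).app N := by
  show _ = w ≫ biprod.lift ((η U).app N) ((η V).app N)
  apply biprod.hom_ext <;>
    simp only [β, biprod.lift_fst, biprod.lift_snd, biprod.inl_desc_assoc, biprod.inr_desc_assoc, Category.assoc, homEquiv_ε]

theorem α_β (M : X.Modules) : α U V M ≫ β U V M = 0 := by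
  have e := homEquiv_α U V (β U V M)
  have e' := homEquiv_β U V (𝟙 M)
  simp only [Category.comp_id, Category.id_comp] at e'
  rw [e', ← NatTrans.comp_app, DCat.MV.f_g] at e
  refine ((adjL (U ⊓ V)).homEquiv M M).injective (e.trans ?_)
  rw [homEquiv_zero]
  rfl

variable {U V}

theorem shortExact (hUV : U ⊔ V = ⊤) (M : X.Modules) :
    (ShortComplex.mk (α U V M) (β U V M) (α_β U V M)).ShortExact := by
  let sp : ∀ (N : X.Modules) [Injective N], (DCat.MV.seq U V N).Splitting := fun N _ =>
    haveI : Injective (DCat.MV.seq U V N).X₁ := ‹Injective N›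
    (DCat.MV.shortExact_seq hUV N).splittingOfInjective
  haveI : Mono (α U V M) := by
    refine Preadditive.mono_of_kernel_zero ?_
    let N := Injective.under (kernel (α U V M))
    let y := Injective.factorThru (Injective.ι (kernel (α U V M))) (kernel.ι (α U V M))
    let z : M ⟶ (DCat.MV.Mid U V).obj N := (adjL (U ⊓ V)).homEquiv M N y ≫ (sp N).s
    let x : (L U).obj M ⊞ (L V).obj M ⟶ N :=
      biprod.desc (((adjL U).homEquiv M N).symm (z ≫ biprod.fst)) (((adjL V).homEquiv M N).symm (z ≫ biprod.snd))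
    have hx : α U V M ≫ x = y := by
      refine ((adjL (U ⊓ V)).homEquiv M N).injective ?_
      rw [homEquiv_α]
      simp only [x, biprod.inl_desc, biprod.inr_desc, Equiv.apply_symm_apply]
      rw [show biprod.lift (z ≫ biprod.fst) (z ≫ biprod.snd) = z from by apply biprod.hom_ext <;> simp]
      simp only [z, Category.assoc]
      erw [(sp N).s_g]
      exact Category.comp_id _
    have h0 : Injective.ι (kernel (α U V M)) = 0 := by
      rw [← Injective.comp_factorThru (Injective.ι (kernel (α U V M))) (kernel.ι (α U V M))]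
      show kernel.ι (α U V M) ≫ y = 0
      rw [← hx, kernel.condition_assoc, zero_comp]
    have h1 : 𝟙 (kernel (α U V M)) = 0 := by
      rw [← cancel_mono (Injective.ι (kernel (α U V M))), h0, comp_zero, comp_zero]
    rw [← Category.id_comp (kernel.ι (α U V M)), h1, zero_comp]
  haveI : Epi (β U V M) := by
    refine Preadditive.epi_of_cancel_zero _ fun {Z} w hw => ?_
    rw [← cancel_mono (Injective.ι Z), zero_comp]
    have h := homEquiv_β U V (w ≫ Injective.ι Z)
    simp only [reassoc_of% hw, zero_comp, comp_zero, homEquiv_zero] at h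
    haveI : Mono ((DCat.MV.f U V).app (Injective.under Z)) :=
      (DCat.MV.shortExact_seq hUV (Injective.under Z)).mono_f
    rw [← cancel_mono ((DCat.MV.f U V).app (Injective.under Z)), zero_comp, ← h]
    apply biprod.hom_ext <;> simp
  refine ShortComplex.ShortExact.mk' ?_ ‹_› ‹_›
  rw [ShortComplex.exact_iff_mono_cokernel_desc]
  refine Preadditive.mono_of_kernel_zero ?_
  let C := cokernel (α U V M)
  let c : C ⟶ M := cokernel.desc (α U V M) (β U V M) (α_β U V M)
  let N := Injective.under C
  let x := cokernel.π (α U V M) ≫ Injective.ι C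
  have hx : α U V M ≫ x = 0 := by simp [x]
  let z := biprod.lift ((adjL U).homEquiv M N (biprod.inl ≫ x)) ((adjL V).homEquiv M N (biprod.inr ≫ x))
  have hz : z ≫ (DCat.MV.g U V).app N = 0 := by
    have := homEquiv_α U V x
    rw [hx, homEquiv_zero] at this
    exact this.symm
  let w : M ⟶ N := z ≫ (sp N).r
  have hw : w ≫ (DCat.MV.f U V).app N = z := by
    have h1 := congrArg (z ≫ ·) (sp N).id
    simp only [Preadditive.comp_add] at h1
    simp only [DCat.MV.seq] at h1
    rw [reassoc_of% hz, zero_comp, add_zero] at h1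
    exact h1.trans (Category.comp_id _)
  have hβ : β U V M ≫ w = x := by
    have h := homEquiv_β U V w
    rw [hw] at h
    apply biprod.hom_ext'
    · refine ((adjL U).homEquiv M N).injective ?_
      simpa [z] using congrArg (· ≫ biprod.fst) h
    · refine ((adjL V).homEquiv M N).injective ?_
      simpa [z] using congrArg (· ≫ biprod.snd) h
  have hc : c ≫ w = Injective.ι C := coequalizer.hom_ext (by
    simpa [c] using hβ)
  change kernel.ι c = 0
  rw [← cancel_mono (Injective.ι C), zero_comp, ← hc, kernel.condition_assoc, zero_comp]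

/-- The triangle. -/
theorem exists_triangle (hUV : U ⊔ V = ⊤) [PreservesFiniteLimits (CxOX.extZero U.ι)]
    [PreservesFiniteLimits (CxOX.extZero V.ι)] [PreservesFiniteLimits (CxOX.extZero (U ⊓ V).ι)]
    [PreservesFiniteLimits (Scheme.Modules.restrictFunctor U.ι)]
    [PreservesFiniteLimits (Scheme.Modules.restrictFunctor V.ι)]
    [PreservesFiniteLimits (Scheme.Modules.restrictFunctor (U ⊓ V).ι)] (E : DCoh.D X) :
    ∃ (a : (CxOX.extZeroD (U ⊓ V).ι).obj ((DCoh.restrictD (U ⊓ V).ι).obj E) ⟶
        ((CxOX.extZeroD U.ι).obj ((DCoh.restrictD U.ι).obj E) ⊞ (CxOX.extZeroD V.ι).obj ((DCoh.restrictD V.ι).obj E)))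
      (b : ((CxOX.extZeroD U.ι).obj ((DCoh.restrictD U.ι).obj E) ⊞
        (CxOX.extZeroD V.ι).obj ((DCoh.restrictD V.ι).obj E)) ⟶ E)
      (c : E ⟶ ((CxOX.extZeroD (U ⊓ V).ι).obj ((DCoh.restrictD (U ⊓ V).ι).obj E))⟦(1 : ℤ)⟧),
      Triangle.mk a b c ∈ distinguishedTriangles := by
  let K := DerivedCategory.Q.objPreimage E
  let eK : DerivedCategory.Q.obj K ≅ E := DerivedCategory.Q.objObjPreimageIso E
  let Lc : X.Opens → CochainComplex X.Modules ℤ := fun W => ((L W).mapHomologicalComplex (ComplexShape.up ℤ)).obj K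
  let u : Lc (U ⊓ V) ⟶ Lc U ⊞ Lc V := biprod.lift
    ((NatTrans.mapHomologicalComplex (κ (inf_le_left : U ⊓ V ≤ U)) (ComplexShape.up ℤ)).app K)
    (-(NatTrans.mapHomologicalComplex (κ (inf_le_right : U ⊓ V ≤ V)) (ComplexShape.up ℤ)).app K)
  let v : Lc U ⊞ Lc V ⟶ K := biprod.desc
    { f := fun n => (ε U).app (K.X n), comm' := fun i j _ => ((ε U).naturality (K.d i j)).symm }
    { f := fun n => (ε V).app (K.X n), comm' := fun i j _ => ((ε V).naturality (K.d i j)).symm }
  have hb : ∀ n, u.f n ≫ v.f n = α U V (K.X n) ≫ β U V (K.X n) := fun n => by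
    simp only [α, β, biprod.lift_desc, u, v, ← HomologicalComplex.comp_f]
    rfl
  have huv : u ≫ v = 0 := HomologicalComplex.hom_ext _ _ fun n => by
    rw [HomologicalComplex.comp_f, hb, α_β]
    rfl
  let S := ShortComplex.mk u v huv
  have hS : S.ShortExact := HomologicalComplex.shortExact_of_degreewise_shortExact _ fun n => by
    haveI := preservesBinaryBiproducts_of_preservesBiproducts (HomologicalComplex.eval X.Modules (ComplexShape.up ℤ) n)
    refine ShortComplex.shortExact_of_iso (ShortComplex.isoMk (S₁ := ShortComplex.mk (α U V (K.X n)) (β U V (K.X n)) (α_β U V (K.X n)))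
      (S₂ := S.map (HomologicalComplex.eval X.Modules (ComplexShape.up ℤ) n)) (Iso.refl _)
      ((HomologicalComplex.eval X.Modules (ComplexShape.up ℤ) n).mapBiprod (Lc U) (Lc V)).symm (Iso.refl _) ?_ ?_)
      (shortExact hUV (K.X n))
    · refine (Category.id_comp _).trans ?_
      rw [Iso.symm_hom, Iso.eq_comp_inv, Functor.mapBiprod_hom]
      apply biprod.hom_ext
      · rw [Category.assoc]
        erw [biprod.lift_fst]
        show u.f n ≫ (biprod.fst : Lc U ⊞ Lc V ⟶ Lc U).f n = α U V (K.X n) ≫ biprod.fst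
        rw [← HomologicalComplex.comp_f]
        simp [u, α]
      · rw [Category.assoc]
        erw [biprod.lift_snd]
        show u.f n ≫ (biprod.snd : Lc U ⊞ Lc V ⟶ Lc V).f n = α U V (K.X n) ≫ biprod.snd
        rw [← HomologicalComplex.comp_f]
        simp [u, α]
    · refine Eq.trans ?_ (Category.comp_id _).symm
      apply biprod.hom_ext' <;>
        simp [S, β, v, ← HomologicalComplex.comp_f]
  let F := DerivedCategory.Q (C := X.Modules)
  haveI := preservesBinaryBiproducts_of_preservesBiproducts F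
  let eW : ∀ (W : X.Opens) [PreservesFiniteLimits (CxOX.extZero W.ι)]
      [PreservesFiniteLimits (Scheme.Modules.restrictFunctor W.ι)],
      F.obj (Lc W) ≅ (CxOX.extZeroD W.ι).obj ((DCoh.restrictD W.ι).obj E) := fun W _ _ =>
    ((CxOX.extZero W.ι).mapDerivedCategoryFactors.app
      (((Scheme.Modules.restrictFunctor W.ι).mapHomologicalComplex (ComplexShape.up ℤ)).obj K)).symm ≪≫
      (CxOX.extZeroD W.ι).mapIso (((Scheme.Modules.restrictFunctor W.ι).mapDerivedCategoryFactors.app K).symm ≪≫
        (DCoh.restrictD W.ι).mapIso eK)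
  let T := DerivedCategory.triangleOfSES hS
  have hT : T ∈ distinguishedTriangles := DerivedCategory.triangleOfSES_distinguished hS
  let e : T.obj₂ ≅ (CxOX.extZeroD U.ι).obj ((DCoh.restrictD U.ι).obj E) ⊞
      (CxOX.extZeroD V.ι).obj ((DCoh.restrictD V.ι).obj E) :=
    F.mapBiprod _ _ ≪≫ biprod.mapIso (eW U) (eW V)
  exact ⟨(eW (U ⊓ V)).inv ≫ T.mor₁ ≫ e.hom, e.inv ≫ T.mor₂ ≫ eK.hom,
    eK.inv ≫ T.mor₃ ≫ (eW (U ⊓ V)).hom⟦(1 : ℤ)⟧',
    isomorphic_distinguished _ hT _ (Triangle.isoMk _ _ (eW (U ⊓ V)).symm e.symm eK.symm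
      (by simp [T]) (by simp [T]) (by simp [T, ← Functor.map_comp]))⟩

end Groth.Agent.Dual22Lib.MVShriek
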