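import Groth.Agent.Dual22Lib.RpushBound
import Groth.Agent.Dual22Lib.PPFlat
import Groth.Agent.DQCoh.TorAmpAffine
import Groth.Agent.Coherent.CohBC.HomSheaf
import Groth.Prelude.Def_KSix

/-!
# Perfect amplitude of direct images
-/

set_option autoImplicit false
set_option backward.isDefEq.respectTransparency false
set_option backward.defeqAttrib.useBackward true
set_option linter.style.haveILetI false
set_option linter.unusedSectionVars false
set_option synthInstance.maxHeartbeats 100000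

universe u

open CategoryTheory CategoryTheory.Limits CategoryTheory.Pretriangulated AlgebraicGeometry TopologicalSpace Opposite
open scoped ZeroObject
open Groth.Agent.DCat Groth.Agent.Dual22Lib.BCSquare

attribute [local instance] HasDerivedCategory.standard
attribute [-instance] Int.instConditionallyCompleteLinearOrder

namespace Groth.Agent.Dual22Lib.PerfAmpPush

variable {X S : Scheme.{u}}

/-- Tor amplitude at the points of an open from a representative flat over the base there. -/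
theorem amp_stalk_of_open (f : X ⟶ S) (F : CochainComplex X.Modules ℤ) (V : X.Opens) (a b : ℤ)
    (C : CochainComplex (V : Scheme.{u}).Modules ℤ) (hC : DCoh.VanishesOutside C a b)
    (hCf : ∀ i, FlatMod.IsFlatOver (V.ι ≫ f) (C.X i))
    (eC : DerivedCategory.Q.obj C ≅ DerivedCategory.Q.obj ((DCoh.restrictCx V).obj F))
    (x' : X) (hx' : x' ∈ V) : DerSch.HasTorAmplitudeAt f a b F x' := by
  let k := V.ι
  let v : (V : Scheme.{u}) := ⟨x', hx'⟩
  show DerSch.HasTorAmplitudeAt f a b F (k v)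
  let φ := (k.stalkMap v).hom
  let ψ := (f.stalkMap (k v)).hom
  let adj := ModuleCat.extendRestrictScalarsAdj.{u, u, u} φ
  haveI : (ModuleCat.restrictScalars.{u} φ).IsEquivalence :=
    (ModuleCat.restrictScalarsEquivalenceOfRingEquiv
      (RingEquiv.ofBijective φ (ConcreteCategory.bijective_of_isIso (k.stalkMap v)))).isEquivalence_functor
  haveI := adj.isEquivalence_left_of_isEquivalence_right
  haveI := adj.unit_isIso_of_L_fully_faithful
  let F₀ : X.Modules ⥤ ModuleCat.{u} (X.presheaf.stalk (k v)) := DerSch.stalkFunctor X (k v)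
  let n₀ : F₀ ≅ Scheme.Modules.restrictFunctor k ⋙ DerSch.stalkFunctor _ v ⋙ ModuleCat.restrictScalars.{u} φ :=
    Functor.isoWhiskerLeft F₀ (asIso adj.unit) ≪≫
      Functor.isoWhiskerRight (ModStalk.pullbackStalkIso k v).symm (ModuleCat.restrictScalars.{u} φ) ≪≫
      Functor.isoWhiskerRight (Scheme.Modules.restrictFunctorIsoPullback k).symm
        (DerSch.stalkFunctor _ v ⋙ ModuleCat.restrictScalars.{u} φ)
  let σ := DerSch.stalkFunctor (V : Scheme.{u}) v ⋙ ModuleCat.restrictScalars.{u} φ ⋙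
    ModuleCat.restrictScalars.{u} ψ
  let n : F₀ ⋙ ModuleCat.restrictScalars.{u} ψ ≅ Scheme.Modules.restrictFunctor k ⋙ σ :=
    Functor.isoWhiskerRight n₀ (ModuleCat.restrictScalars.{u} ψ)
  refine ⟨(σ.mapHomologicalComplex (ComplexShape.up ℤ)).obj C, fun i hi => σ.map_isZero (hC i hi), fun i => ?_,
    ⟨(σ.mapDerivedCategoryFactors.app C).symm ≪≫ σ.mapDerivedCategory.mapIso eC ≪≫
      σ.mapDerivedCategoryFactors.app _ ≪≫
      DerivedCategory.Q.mapIso ((NatIso.mapHomologicalComplex n (ComplexShape.up ℤ)).app F).symm⟩⟩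
  have hflat : Module.Flat (S.presheaf.stalk ((k ≫ f) v))
      ((ModuleCat.restrictScalars.{u} ((k ≫ f).stalkMap v).hom).obj
        ((DerSch.stalkFunctor (V : Scheme.{u}) v).obj (C.X i))) := hCf i v
  refine DQCoh.flat_of_iso ?_ hflat
  exact (ModuleCat.restrictScalarsComp'App ψ φ ((k ≫ f).stalkMap v).hom
    (by rw [Scheme.Hom.stalkMap_comp]; rfl) _)

/-- Tor amplitude of direct images, from a bound on modules. -/
theorem torAmplitude_Rpush_bound (f : X ⟶ S) [QuasiCompact f] [QuasiSeparated f] [CompactSpace S]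
    [QuasiSeparatedSpace S] [DCoh.HasRpush f] (N : ℕ)
    (hN : ∀ M : X.Modules, Coh.IsQCoh M → ∀ i : ℤ, (N : ℤ) < i → IsZero (DCoh.HD ((DCoh.Rpush f).obj (DCoh.inD X M)) i))
    (F : CochainComplex X.Modules ℤ)
    (hq : DCoh.IsQCohD (DCoh.toD X F)) (a b : ℤ) (hab : a ≤ b + N) (hF : DerSch.HasTorAmplitude f a b F) :
    DCoh.HasTorAmplitudeIn a (b + N) ((DCoh.Rpush f).obj (DCoh.toD X F)) := by
  let E := DCoh.toD X F
  have hRq : DCoh.IsQCohD ((DCoh.Rpush f).obj E) := DQCoh.isQCohD_Rpush f E hq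
  refine (S1073.result S _ hRq a (b + N) hab).2 fun G hG _ i hi => ?_
  obtain ⟨P, c, hP, hc⟩ := RelTorDim.exists_resolution G
  haveI := hc
  haveI := LTensorSheaf.hasLTensorCx P
  haveI := hasLpull f
  let M := ((Scheme.Modules.pullback f).mapHomologicalComplex (ComplexShape.up ℤ)).obj P
  haveI := LTensorSheaf.hasLTensorCx M
  have hPq : DCoh.IsQCohD (DCoh.toD S P) := by
    haveI : IsIso (DerivedCategory.Q.map c) := (DerivedCategory.isIso_Q_map_iff_quasiIso _ c).2 hc
    refine DQCoh.isQCohD_of_iso (asIso (DerivedCategory.Q.map c)).symm ?_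
    exact DQCoh.isQCohD_of_iso ((DerivedCategory.singleFunctorIsoCompQ S.Modules 0).app G)
      (fun k => by
        by_cases hk : k = 0
        · subst hk
          exact Coherent.isQCoh_of_iso ((DerivedCategory.singleFunctorCompHomologyFunctorIso S.Modules 0).app G).symm (h := hG)
        · exact Coherent.isQCoh_of_isZero (by
            rcases lt_or_gt_of_ne hk with hk | hk
            · exact DerivedCategory.isZero_of_isGE _ 0 k hk
            · exact DerivedCategory.isZero_of_isLE _ 0 k hk))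
  obtain ⟨T⟩ := RelTorDim.nonempty_LTensorMod_iso G hP c ((DCoh.Rpush f).obj E)
  let eM : DerivedCategory.Q.obj M ≅ (DCoh.Lpull f).obj (DerivedCategory.Q.obj P) := (PullPerf.lpullIso f hP).symm
  obtain ⟨π⟩ := ProjQCoh.nonempty_projection_qcoh f E hq P hPq M ⟨eM⟩
  let L := (DCoh.LTensorCx M).obj E
  have hz : ∀ k, (k < a ∨ b < k) → IsZero (DCoh.HD L k) := fun k hk =>
    RelTorDim.isZero_HD f F a b hF G hP c k hk
  haveI hge : L.IsGE a := (DerivedCategory.isGE_iff _ _).2 fun k hk => hz k (Or.inl hk)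
  haveI hle : L.IsLE b := (DerivedCategory.isLE_iff _ _).2 fun k hk => hz k (Or.inr hk)
  have hLq : DCoh.IsQCohD L :=
    DQCoh.isQCohD_LTensorCx M (DQCoh.isQCohD_of_iso eM.symm (DQCoh.isQCohD_Lpull f _ hPq)) _ hq
  haveI : ((DCoh.Rpush f).obj L).IsGE a := RepLib.isGE_Rpush f L a
  haveI : ((DCoh.Rpush f).obj L).IsLE (b + N) := RpushBound.isLE_Rpush_of_modules f N hN L a b hLq
  refine IsZero.of_iso ?_ ((DerivedCategory.homologyFunctor S.Modules i).mapIso (T ≪≫ π))
  rcases hi with hi | hi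
  · exact DerivedCategory.isZero_of_isGE _ a i hi
  · exact DerivedCategory.isZero_of_isLE _ (b + N) i hi

/-- Perfect amplitude from flat amplitude and pseudo-coherence, on affine schemes. -/
theorem perfAmp_of_flatAmp [IsAffine S] (K : DCoh.D S) (a b : ℤ) (hab : a ≤ b)
    (h1 : DCoh.HasFlatAmplitudeIn a b K) (h2 : DCoh.IsPerfect K) : KSix.HasPerfectAmplitudeIn a b K := by
  let R : CommRingCat.{u} := Γ(S, ⊤)
  haveI := AffSchLib.preservesFiniteLimits_tilde R
  haveI := DQCoh.preservesFiniteColimits_tilde R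
  let k : Spec R ⟶ S := S.isoSpec.inv
  haveI := hasLpull k
  have hF := DQCoh.flatAmp_rd k h1
  have hPk : DCoh.IsPerfect ((PerfLocal.rd k).obj K) := by
    obtain ⟨c⟩ := DQCoh.nonempty_Lpull_restrict k K
    exact PCTriangle.perfect_iso c (PullPerf.isPerfect_Lpull k K h2)
  obtain ⟨M, ⟨e⟩⟩ := ((DQCoh.tildeD_main R).2.2 _).1 (SumAdj.isQCohD_perfect' hPk)
  have hM : DCoh.HasFlatAmplitudeIn a b ((DCoh.tildeD R).obj M) := by
    obtain ⟨F, hF', hf, ⟨eF⟩⟩ := hF
    exact ⟨F, hF', hf, ⟨eF ≪≫ e.symm⟩⟩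
  obtain ⟨P, hP, hp, ⟨eP⟩⟩ := DRingLib.exists_finiteProjective hab
    (DRingLib.pc_of_pc' ((DRingLib.perfect_iff _).1 (DQCoh.perfect_of_isPerfect_tildeD (PCTriangle.perfect_iso e.symm hPk))).1 _)
    ((DQCoh.flatAmp_tildeD_iff M a b).1 hM)
  let C := ((tilde.functor R).mapHomologicalComplex (ComplexShape.up ℤ)).obj P
  have hC : DCoh.IsStrictlyPerfect C := DQCoh.strictlyPerfect_tilde hP hp
  let eC : DerivedCategory.Q.obj C ≅ (PerfLocal.rd k).obj K :=
    ((tilde.functor R).mapDerivedCategoryFactors.app P).symm ≪≫ (DCoh.tildeD R).mapIso eP ≪≫ e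
  intro x
  let h := k.isoOpensRange.inv
  obtain ⟨c₁⟩ := PerfLocal.rd_comp h k K
  obtain ⟨c₂⟩ := DQCoh.nonempty_rd_congr (k := h ≫ k) (k' := k.opensRange.ι) k.isoOpensRange_inv_comp
  refine ⟨k.opensRange, ⟨S.isoSpec.hom x, ((Scheme.Hom.comp_apply S.isoSpec.hom k x).symm.trans (by rw [show S.isoSpec.hom ≫ k = 𝟙 S from S.isoSpec.hom_inv_id]; rfl))⟩, fun F ⟨eF⟩ =>
    ⟨((Scheme.Modules.restrictFunctor h).mapHomologicalComplex (ComplexShape.up ℤ)).obj C,
      fun i hi => (Scheme.Modules.restrictFunctor h).map_isZero ((tilde.functor R).map_isZero (hP i hi)),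
      (PerfLocal.strictlyPerfect_restrict h hC).2, ⟨?_⟩⟩⟩
  exact ((Scheme.Modules.restrictFunctor _).mapDerivedCategoryFactors.app F).symm ≪≫
    (PerfLocal.rd k.opensRange.ι).mapIso eF ≪≫ (c₂.app K).symm ≪≫ c₁ ≪≫ (PerfLocal.rd h).mapIso eC.symm ≪≫
    (Scheme.Modules.restrictFunctor h).mapDerivedCategoryFactors.app C

/-- An object of perfect amplitude in an empty interval vanishes. -/
theorem isZero_of_perfAmp {K : DCoh.D X} {a b : ℤ} (hba : b < a) (h : KSix.HasPerfectAmplitudeIn a b K) : IsZero K := by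
  suffices hall : ∀ i, IsZero (DCoh.HD K i) by
    haveI : K.IsGE 1 := (DerivedCategory.isGE_iff _ _).2 fun i _ => hall i
    haveI : K.IsLE 0 := (DerivedCategory.isLE_iff _ _).2 fun i _ => hall i
    exact WayOut.isZero_of_isGE_of_isLE K 1 0 (by omega)
  intro i
  choose V hxV hV using h
  refine DQCoh.isZero_of_restrict_cover _ V (fun x => ⟨x, hxV x⟩) fun x => ?_
  obtain ⟨E, hE, -, ⟨eE⟩⟩ := hV x (DerivedCategory.Q.objPreimage K) ⟨DerivedCategory.Q.objObjPreimageIso K⟩
  have hzE : IsZero (DerivedCategory.Q.obj E) := DerivedCategory.Q.map_isZero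
    (by rw [IsZero.iff_id_eq_zero]; ext n : 1
        exact (hE n (by omega)).eq_of_src _ _)
  have hzK : IsZero ((PerfLocal.rd (V x).ι).obj K) := hzE.of_iso
    ((PerfLocal.rd (V x).ι).mapIso (DerivedCategory.Q.objObjPreimageIso K).symm ≪≫
      (Scheme.Modules.restrictFunctor (V x).ι).mapDerivedCategoryFactors.app _ ≪≫ eE)
  exact ((DerivedCategory.homologyFunctor _ i).map_isZero hzK).of_iso
    (SuppOpen.hdMapIso (Scheme.Modules.restrictFunctor (V x).ι) K i).symm

/-- **Perfect amplitude of direct images along proper flat morphisms to affine schemes.** -/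
theorem perfAmp_Rpush [IsAffine S] (f : X ⟶ S) [IsProper f] [Flat f] [LocallyOfFinitePresentation f]
    [DCoh.HasRpush f] (N : ℕ)
    (hN : ∀ M : X.Modules, Coh.IsQCoh M → ∀ i : ℤ, (N : ℤ) < i → IsZero (DCoh.HD ((DCoh.Rpush f).obj (DCoh.inD X M)) i))
    (K : DCoh.D X) (a b : ℤ) (hK : KSix.HasPerfectAmplitudeIn a b K) :
    KSix.HasPerfectAmplitudeIn a (b + N) ((DCoh.Rpush f).obj K) := by
  obtain ⟨_, _⟩ := exists_commShift_Rpush f
  rcases lt_or_ge b a with hba | hab
  · have hz := (DCoh.Rpush f).map_isZero (isZero_of_perfAmp hba hK)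
    intro s
    refine ⟨⊤, trivial, fun F ⟨eF⟩ => ⟨0, fun i _ => (HomologicalComplex.eval _ _ i).map_isZero (isZero_zero _),
      fun i => PerfTensor.isFinLocFree_of_isZero ((HomologicalComplex.eval _ _ i).map_isZero (isZero_zero _)), ⟨?_⟩⟩⟩
    exact (((PerfLocal.rd (⊤ : S.Opens).ι).map_isZero (hz.of_iso eF)).of_iso
      ((Scheme.Modules.restrictFunctor (⊤ : S.Opens).ι).mapDerivedCategoryFactors.app F).symm).iso
      (DerivedCategory.Q.map_isZero (isZero_zero _))
  obtain ⟨F, ⟨eF⟩⟩ : ∃ F, Nonempty (DCoh.toD X F ≅ K) :=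
    ⟨DerivedCategory.Q.objPreimage K, ⟨DerivedCategory.Q.objObjPreimageIso K⟩⟩
  have hperf : DCoh.IsPerfect K := fun x => by
    obtain ⟨V, hx, hV⟩ := hK x
    refine ⟨V, hx, fun F hF => ?_⟩
    obtain ⟨E, hE, hEf, hiso⟩ := hV F hF
    exact ⟨E, ⟨⟨a, b, hE⟩, hEf⟩, hiso⟩
  have hF : DerSch.HasTorAmplitude f a b F := fun x => by
    obtain ⟨V, hx, hV⟩ := hK x
    obtain ⟨E, hE, hEf, ⟨eE⟩⟩ := hV F ⟨eF⟩
    exact amp_stalk_of_open f F V a b E hE
      (fun i => Coherent.CohBC.isFlatOver_of_isFinLocFree (V.ι ≫ f) (hEf i)) eE.symm x hx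
  have hperfR := PPFlat.pp_flat f K hperf
  refine perfAmp_of_flatAmp _ a (b + N) (by omega) ?_ hperfR
  refine DCat.flatAmp_of_torAmp (by omega) ?_
  intro G _ i hi
  exact (torAmplitude_Rpush_bound f N hN F (DQCoh.isQCohD_of_iso eF.symm (SumAdj.isQCohD_perfect' hperf)) a b
    (by omega) hF G i hi).of_iso ((DerivedCategory.homologyFunctor S.Modules i).mapIso
      ((DCoh.LTensorMod G).mapIso ((DCoh.Rpush f).mapIso eF.symm)))

end Groth.Agent.Dual22Lib.PerfAmpPush
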