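import Groth.Agent.DCat.TotSymm
import Groth.Agent.DCat.RHomEvalDual

/-!
# The dual of a perfect complex, naturally: `RHom(K, -) ≅ - ⊗^L K^∨`
-/

set_option autoImplicit false
set_option backward.isDefEq.respectTransparency false
set_option backward.defeqAttrib.useBackward true
set_option linter.style.haveILetI false

universe u

open CategoryTheory CategoryTheory.Limits AlgebraicGeometry HomologicalComplex
open Groth.Agent.DCat Groth.Agent.DCat.RHomEval

attribute [local instance] HasDerivedCategory.standard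
attribute [-instance] Int.instConditionallyCompleteLinearOrder

namespace Groth.Agent.Dual22Lib.PerfDualNat

variable {X : Scheme.{u}}

/-- Iterated tensor products on complexes. -/
noncomputable def cxComp (B C : CochainComplex X.Modules ℤ) : rT B ⋙ rT C ≅ rT (tot (shT X) B C) :=
  RHomEvalDual.compOf (shT X) (TensorAssoc.associator X) (DCoh.tensorCx (X := X)) rfl B C

section Generic

universe v₀ u₀

variable {C₀ : Type u₀} [Category.{v₀} C₀] [Abelian C₀] (T : C₀ ⥤ C₀ ⥤ C₀) [T.Additive] [∀ a, (T.obj a).Additive]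
  [∀ (K₁ : CochainComplex C₀ ℤ) (K₂ : CochainComplex C₀ ℤ), CochainComplex.HasMapBifunctor K₁ K₂ T]
  (α : bifunctorComp₁₂ T T ≅ bifunctorComp₂₃ T T)
  [∀ (A B C : CochainComplex C₀ ℤ), HasGoodTrifunctor₁₂Obj T T A B C (ComplexShape.up ℤ) (ComplexShape.up ℤ)]
  [∀ (A B C : CochainComplex C₀ ℤ),
    HasGoodTrifunctor₂₃Obj T T A B C (ComplexShape.up ℤ) (ComplexShape.up ℤ) (ComplexShape.up ℤ)]

theorem commOf_eq_compOf (A B C : CochainComplex C₀ ℤ) :
    (AssocNat.commOf T α T.map₂CochainComplex rfl A C).hom.app B =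
      (RHomEvalDual.compOf T α T.map₂CochainComplex rfl B C).hom.app A := by
  simp [AssocNat.commOf, AssocNat.comm, RHomEvalDual.compOf]

end Generic

/-- The associator used by `kappa` is the one used by `cxComp`. -/
theorem kappa_eq (A B C : CochainComplex X.Modules ℤ) :
    (kappa A C).hom.app B = (cxComp B C).hom.app A :=
  commOf_eq_compOf (shT X) (TensorAssoc.associator X) A B C

/-- Iterated derived tensor products. -/
noncomputable def compIso {B C : CochainComplex X.Modules ℤ} (hB : IsKFlatFor (shT X) B)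
    (hC : IsKFlatFor (shT X) C) : RHomNat.LT B ⋙ RHomNat.LT C ≅ RHomNat.LT (tot (shT X) B C) :=
  letI : Localization.Lifting DerivedCategory.Q (HomologicalComplex.quasiIso X.Modules (ComplexShape.up ℤ))
      (rT B ⋙ rT C ⋙ DerivedCategory.Q) (RHomNat.LT B ⋙ RHomNat.LT C) :=
    ⟨AssocNat.srcIso DerivedCategory.Q (rTIso hB) (rTIso hC)⟩
  letI : Localization.Lifting DerivedCategory.Q (HomologicalComplex.quasiIso X.Modules (ComplexShape.up ℤ))
      (rT (tot (shT X) B C) ⋙ DerivedCategory.Q) (RHomNat.LT (tot (shT X) B C)) :=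
    ⟨rTIso (LTensorSheaf.isKFlatFor_tot hB hC)⟩
  Localization.liftNatIso DerivedCategory.Q (HomologicalComplex.quasiIso X.Modules (ComplexShape.up ℤ))
    (rT B ⋙ rT C ⋙ DerivedCategory.Q) (rT (tot (shT X) B C) ⋙ DerivedCategory.Q)
    (RHomNat.LT B ⋙ RHomNat.LT C) (RHomNat.LT (tot (shT X) B C))
    ((Functor.associator _ _ _).symm ≪≫ Functor.isoWhiskerRight (cxComp B C) DerivedCategory.Q)

theorem compIso_app {B C : CochainComplex X.Modules ℤ} (hB : IsKFlatFor (shT X) B) (hC : IsKFlatFor (shT X) C)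
    (A : CochainComplex X.Modules ℤ) :
    (compIso hB hC).hom.app (DerivedCategory.Q.obj A) =
      (RHomNat.LT C).map ((rTIso hB).hom.app A) ≫ (rTIso hC).hom.app ((rT B).obj A) ≫
        DerivedCategory.Q.map ((cxComp B C).hom.app A) ≫
          (rTIso (LTensorSheaf.isKFlatFor_tot hB hC)).inv.app A := by
  simp [compIso, AssocNat.srcIso]

variable {P : CochainComplex X.Modules ℤ} (hP : IsKFlatFor (shT X) P)

/-- `T ↦ P ⊗^L T` as a functor of `T`. -/
noncomputable def flipC :
    DerivedCategory.Q ⋙ (TotSymm.LTD (X := X)).flip.obj (DerivedCategory.Q.obj P) ≅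
      lT P ⋙ DerivedCategory.Q :=
  haveI : ∀ A, IsIso ((RHomNat.cu A).app P) := fun A =>
    @LTensorSheaf.isIso_counit _ A (LTensorSheaf.hasLTensorCx A) _ hP
  NatIso.ofComponents (fun A => (TotSymm.LTDIso.app A).app (DerivedCategory.Q.obj P) ≪≫
      asIso ((RHomNat.cu A).app P))
    fun {A B} f => by
      have h₁ := congr_app ((TotSymm.LTDIso (X := X)).hom.naturality f) (DerivedCategory.Q.obj P)
      have h₂ := RHomNat.lhat_fac f P
      simp only [Functor.comp_map, NatTrans.comp_app, Functor.whiskerRight_app, TotSymm.lhatF] at h₁ h₂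
      simp only [Functor.comp_map, Functor.flip_obj_map, Iso.trans_hom, asIso_hom, Iso.app_hom]
      rw [reassoc_of% h₁, h₂, Category.assoc]
      rfl

/-- `T ↦ P ⊗^L T` is `leftT`. -/
noncomputable def flipIso :
    (TotSymm.LTD (X := X)).flip.obj (DerivedCategory.Q.obj P) ≅ leftT hP :=
  letI : Localization.Lifting DerivedCategory.Q (HomologicalComplex.quasiIso X.Modules (ComplexShape.up ℤ))
      (lT P ⋙ DerivedCategory.Q) (leftT hP) := ⟨leftTIso hP⟩
  letI : Localization.Lifting DerivedCategory.Q (HomologicalComplex.quasiIso X.Modules (ComplexShape.up ℤ))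
      (lT P ⋙ DerivedCategory.Q) ((TotSymm.LTD (X := X)).flip.obj (DerivedCategory.Q.obj P)) := ⟨flipC hP⟩
  Localization.liftNatIso DerivedCategory.Q (HomologicalComplex.quasiIso X.Modules (ComplexShape.up ℤ))
    (lT P ⋙ DerivedCategory.Q) (lT P ⋙ DerivedCategory.Q) _ _ (Iso.refl _)

theorem flipIso_app (B : CochainComplex X.Modules ℤ) :
    (flipIso hP).hom.app (DerivedCategory.Q.obj B) =
      (TotSymm.LTDIso.hom.app B).app (DerivedCategory.Q.obj P) ≫ (RHomNat.cu B).app P ≫
        (leftTIso hP).inv.app B := by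
  simp [flipIso, flipC]

theorem rTIso_hom {E : CochainComplex X.Modules ℤ} (hE : IsKFlatFor (shT X) E) (A : CochainComplex X.Modules ℤ) :
    (rTIso hE).hom.app A = (RHomNat.cu E).app A := rfl

/-- The evaluation transformation of a dual. -/
theorem exists_iso (K D : CochainComplex X.Modules ℤ) (hK : IsKFlatFor (shT X) K)
    (hKp : DCoh.IsPerfect (DerivedCategory.Q.obj K)) (hD : IsKFlatFor (shT X) D)
    (eD : DerivedCategory.Q.obj D ≅
      (RHomNat.RH K).obj ((DerivedCategory.singleFunctor X.Modules 0).obj (Coh.structureModule X))) :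
    Nonempty (RHomNat.LT D ≅ RHomNat.RH K) := by
  let O₀ := (DerivedCategory.singleFunctor X.Modules 0).obj (Coh.structureModule X)
  let Os := (single X.Modules (ComplexShape.up ℤ) 0).obj (Coh.structureModule X)
  let eS : O₀ ≅ DerivedCategory.Q.obj Os := (DerivedCategory.singleFunctorIsoCompQ X.Modules 0).app _
  let hT := LTensorSheaf.isKFlatFor_tot hD hK
  let v : (RHomNat.LT K).obj (DerivedCategory.Q.obj D) ⟶ O₀ := ((RHomNat.adjE K).homEquiv _ _).symm eD.hom
  let w : DerivedCategory.Q.obj (tot (shT X) D K) ⟶ DerivedCategory.Q.obj Os :=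
    (rTIso hK).inv.app D ≫ v ≫ eS.hom
  haveI := LTensorSheaf.hasLTensorCx Os
  obtain ⟨eU⟩ := RHomLeft.nonempty_LTensor_structure (X := X)
  let ψ : RHomNat.LT D ⋙ RHomNat.LT K ⟶ 𝟭 (DCoh.D X) :=
    (compIso hD hK).hom ≫ (TotSymm.LTDIso.app (tot (shT X) D K)).inv ≫ TotSymm.LTD.map w ≫
      (TotSymm.LTDIso.app Os).hom ≫ eU.hom
  let θ : RHomNat.LT D ⟶ RHomNat.RH K :=
    { app := fun T => (RHomNat.adjE K).homEquiv _ _ (ψ.app T)
      naturality := fun {T T'} g => by
        rw [← Adjunction.homEquiv_naturality_left, ← Adjunction.homEquiv_naturality_right]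
        exact congrArg _ (ψ.naturality g) }
  suffices h : ∀ T, IsIso (θ.app T) by
    haveI := NatIso.isIso_of_isIso_app θ
    exact ⟨asIso θ⟩
  intro T
  obtain ⟨A, hA, ⟨eT⟩⟩ := PullPerf.exists_kflat_rep T
  refine (NatTrans.isIso_app_iff_of_iso θ eT).1 ?_
  let c : (RHomNat.LT D).obj (DerivedCategory.Q.obj A) ≅ (leftT hA).obj (DerivedCategory.Q.obj D) :=
    (rTIso hD).app A ≪≫ ((leftTIso hA).app D).symm
  let y : (leftT hA).obj O₀ ⟶ DerivedCategory.Q.obj A :=
    (leftT hA).map eS.hom ≫ (flipIso hA).inv.app (DerivedCategory.Q.obj Os) ≫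
      (TotSymm.LTDIso.hom.app Os).app (DerivedCategory.Q.obj A) ≫ eU.hom.app (DerivedCategory.Q.obj A)
  haveI : IsIso y := by dsimp only [y]; infer_instance
  have key : ψ.app (DerivedCategory.Q.obj A) =
      (RHomNat.LT K).map c.hom ≫ (sig hA hK).hom.app (DerivedCategory.Q.obj D) ≫ (leftT hA).map v ≫ y := by
    have hw : (leftT hA).map v ≫ (leftT hA).map eS.hom =
        (leftT hA).map ((rTIso hK).hom.app D) ≫ (leftT hA).map w := by
      rw [← Functor.map_comp, ← Functor.map_comp]
      simp [w]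
    have hn := (flipIso hA).inv.naturality w
    have hi : (leftTIso hA).hom.app (tot (shT X) D K) ≫ (rTIso hT).inv.app A ≫
        (TotSymm.LTDIso.inv.app (tot (shT X) D K)).app (DerivedCategory.Q.obj A) =
          (flipIso hA).inv.app (DerivedCategory.Q.obj (tot (shT X) D K)) := by
      rw [← cancel_mono ((flipIso hA).hom.app (DerivedCategory.Q.obj (tot (shT X) D K))), Iso.inv_hom_id_app,
        flipIso_app, ← rTIso_hom hT]
      simp
    simp only [y, reassoc_of% hw]
    simp only [ψ, c, sig, NatTrans.comp_app, AssocNat.sigma_app, compIso_app, Category.assoc,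
      Iso.trans_hom, Iso.app_hom, Iso.app_inv, Iso.symm_hom, Functor.map_comp]
    rw [← (RHomNat.LT K).map_comp_assoc ((leftTIso hA).inv.app D), Iso.inv_hom_id_app]
    simp only [CategoryTheory.Functor.map_id, Category.id_comp]
    rw [kappa_eq, ← (leftT hA).map_comp_assoc ((rTIso hK).inv.app D), Iso.inv_hom_id_app]
    simp only [CategoryTheory.Functor.map_id, Category.id_comp]
    rw [reassoc_of% hn]
    simp only [← reassoc_of% hi]
    simp
  show IsIso ((RHomNat.adjE K).homEquiv _ _ (ψ.app (DerivedCategory.Q.obj A)))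
  rw [key, Adjunction.homEquiv_naturality_left, ← Category.assoc ((sig hA hK).hom.app _),
    Adjunction.homEquiv_naturality_right]
  have h2 : (RHomNat.adjE K).homEquiv _ _ ((sig hA hK).hom.app (DerivedCategory.Q.obj D) ≫ (leftT hA).map v) =
      (leftT hA).map eD.hom ≫ Phi hA hK O₀ :=
    ((RHomNat.adjE K).homEquiv _ _).symm.injective (by rw [tr_Phi, Equiv.symm_apply_apply])
  rw [h2]
  haveI := isIso_Phi hA hK hKp O₀
  infer_instance

end Groth.Agent.Dual22Lib.PerfDualNat
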