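import Groth.Agent.Dual22Lib.GammaDetect
import Groth.Agent.DCat.PullPush
import Groth.Agent.DQCoh.PerfectClass

/-!
# Direct images of K-injective complexes compute derived sections on opens
-/

set_option autoImplicit false
set_option backward.isDefEq.respectTransparency false
set_option backward.defeqAttrib.useBackward true
set_option linter.style.haveILetI false
set_option linter.unusedSectionVars false
set_option synthInstance.maxHeartbeats 100000

universe u

open CategoryTheory CategoryTheory.Limits CategoryTheory.Pretriangulated AlgebraicGeometry Opposite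
open Groth.Agent.Coherent Groth.Agent.DCat

attribute [local instance] HasDerivedCategory.standard
attribute [-instance] Int.instConditionallyCompleteLinearOrder

namespace Groth.Agent.Dual22Lib.PushAcyclic

variable {X Y : Scheme.{u}} (f : X ⟶ Y)

local notation "qY" => HomotopyCategory.quotient (Scheme.Modules Y) (ComplexShape.up ℤ)

/-- Maps from K-flat complexes into direct images of K-injective ones. -/
theorem bijective_Qh_push (B : CochainComplex X.Modules ℤ) [B.IsKInjective]
    {P : HomotopyCategory Y.Modules (ComplexShape.up ℤ)} (hP : kflatObj Y P) :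
    Function.Bijective (DerivedCategory.Qh.map :
      (P ⟶ ((Scheme.Modules.pushforward f).mapHomotopyCategory (ComplexShape.up ℤ)).obj
        ((HomotopyCategory.quotient X.Modules (ComplexShape.up ℤ)).obj B)) → _) := by
  let W := HomotopyCategory.quasiIso Y.Modules (ComplexShape.up ℤ)
  let adj := adjHot (ComplexShape.up ℤ) (Scheme.Modules.pullbackPushforwardAdjunction f)
  let B' := (HomotopyCategory.quotient X.Modules (ComplexShape.up ℤ)).obj B
  let Fh := (Scheme.Modules.pushforward f).mapHomotopyCategory (ComplexShape.up ℤ)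
  let Gh := (Scheme.Modules.pullback f).mapHomotopyCategory (ComplexShape.up ℤ)
  haveI : W.HasLeftCalculusOfFractions := by
    dsimp [W]
    rw [HomotopyCategory.quasiIso_eq_trW_subcategoryAcyclic]
    infer_instance
  haveI : W.HasRightCalculusOfFractions := by
    dsimp [W]
    rw [HomotopyCategory.quasiIso_eq_trW_subcategoryAcyclic]
    infer_instance
  -- precomposition with quasi-isomorphisms of K-flat complexes
  have key : ∀ {P' : HomotopyCategory Y.Modules (ComplexShape.up ℤ)} (s : P' ⟶ P), W s → kflatObj Y P' →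
      Function.Bijective (fun g : P ⟶ Fh.obj B' => s ≫ g) := by
    intro P' s hs hP'
    haveI : IsIso ((DCoh.pullKh f).map s) := isIso_pullKh_of_kflat f s hP' hP hs
    have hb : Function.Bijective (fun g : Gh.obj P ⟶ B' => Gh.map s ≫ g) := by
      have hq := CochainComplex.IsKInjective.Qh_map_bijective (Gh.obj P) B
      have hq' := CochainComplex.IsKInjective.Qh_map_bijective (Gh.obj P') B
      refine (Function.Bijective.of_comp_iff' hq' _).1 ?_
      have e : DerivedCategory.Qh.map ∘ (fun g : Gh.obj P ⟶ B' => Gh.map s ≫ g) =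
          (fun z => (DCoh.pullKh f).map s ≫ z) ∘ DerivedCategory.Qh.map := by
        funext g
        exact DerivedCategory.Qh.map_comp _ _
      rw [e]
      exact ((asIso ((DCoh.pullKh f).map s)).symm.homFromEquiv.bijective).comp hq
    have e : (fun g : P ⟶ Fh.obj B' => s ≫ g) =
        (adj.homEquiv P' B') ∘ (fun g => Gh.map s ≫ g) ∘ (adj.homEquiv P B').symm := by
      funext g
      show _ = adj.homEquiv P' B' (Gh.map s ≫ (adj.homEquiv P B').symm g)
      rw [adj.homEquiv_naturality_left, Equiv.apply_symm_apply]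
    rw [e]
    exact (adj.homEquiv P' B').bijective.comp (hb.comp (adj.homEquiv P B').symm.bijective)
  constructor
  · intro g₁ g₂ hg
    obtain ⟨Z, t, ht, hcomp⟩ := (MorphismProperty.map_eq_iff_precomp DerivedCategory.Qh W g₁ g₂).1 hg
    obtain ⟨P', s, hP', hs⟩ := exists_kflat_hot Z
    refine (key (s ≫ t) (W.comp_mem s t hs ht) hP').1 ?_
    simp only [Category.assoc, hcomp]
  · intro φ
    obtain ⟨z, hz⟩ := Localization.exists_rightFraction DerivedCategory.Qh W φ
    obtain ⟨P', s, hP', hs⟩ := exists_kflat_hot z.X'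
    obtain ⟨g, hg⟩ := (key (s ≫ z.s) (W.comp_mem s z.s hs z.hs) hP').2 (s ≫ z.f)
    refine ⟨g, ?_⟩
    haveI := Localization.inverts DerivedCategory.Qh W _ hs
    haveI := Localization.inverts DerivedCategory.Qh W _ z.hs
    rw [← cancel_epi (DerivedCategory.Qh.map z.s), ← cancel_epi (DerivedCategory.Qh.map s), ← Functor.map_comp,
      ← Functor.map_comp, ← Category.assoc, show (s ≫ z.s) ≫ g = s ≫ z.f from hg, hz,
      MorphismProperty.RightFraction.map_s_comp_map, ← Functor.map_comp]

/-- The comparison with a K-injective resolution is bijective on maps out of K-flat complexes. -/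
theorem bijective_comp (B : CochainComplex X.Modules ℤ) [B.IsKInjective]
    (J : CochainComplex Y.Modules ℤ) [J.IsKInjective]
    (η : ((Scheme.Modules.pushforward f).mapHomologicalComplex (ComplexShape.up ℤ)).obj B ⟶ J) [QuasiIso η]
    (P : HomotopyCategory Y.Modules (ComplexShape.up ℤ)) (hP : kflatObj Y P) :
    Function.Bijective (fun g : P ⟶ (qY).obj (((Scheme.Modules.pushforward f).mapHomologicalComplex
      (ComplexShape.up ℤ)).obj B) => g ≫ (qY).map η) := by
  haveI : IsIso (DerivedCategory.Qh.map ((qY).map η)) := Localization.inverts DerivedCategory.Qh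
    (HomotopyCategory.quasiIso Y.Modules (ComplexShape.up ℤ)) _
    ((HomotopyCategory.quotient_map_mem_quasiIso_iff η).2 (by
      rw [HomologicalComplex.mem_quasiIso_iff]; infer_instance))
  refine (Function.Bijective.of_comp_iff' (CochainComplex.IsKInjective.Qh_map_bijective P J) _).1 ?_
  have e : DerivedCategory.Qh.map ∘ (fun g : P ⟶ (qY).obj (((Scheme.Modules.pushforward f).mapHomologicalComplex
      (ComplexShape.up ℤ)).obj B) => g ≫ (qY).map η) =
      (fun z => z ≫ DerivedCategory.Qh.map ((qY).map η)) ∘ DerivedCategory.Qh.map := by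
    funext g
    exact DerivedCategory.Qh.map_comp _ _
  rw [e]
  exact ((asIso (DerivedCategory.Qh.map ((qY).map η))).homToEquiv.bijective).comp (bijective_Qh_push f B hP)

theorem kflat_single (U : Y.Opens) (i : ℤ) :
    IsKFlatFor (shT Y) ((HomologicalComplex.single Y.Modules (ComplexShape.up ℤ) i).obj ((freeModOn Y).obj U)) := by
  refine isKFlatFor_sheaf_of_flat _ i (fun n hn => HomologicalComplex.isZero_single_obj_X _ _ _ _ (by omega)) fun n => ?_
  by_cases hn : n = i
  · subst hn
    intro x
    haveI h : Module.Flat (Y.presheaf.stalk x) ((DerSch.stalkFunctor Y x).obj ((freeModOn Y).obj U)) :=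
      DQCoh.isFlat_freeModOn U x
    exact Module.Flat.of_linearEquiv ((DerSch.stalkFunctor Y x).mapIso
      (HomologicalComplex.singleObjXSelf (ComplexShape.up ℤ) n _)).toLinearEquiv
  · intro x
    show Module.Flat (Y.presheaf.stalk x) ((DerSch.stalkFunctor Y x).obj
        (((HomologicalComplex.single Y.Modules (ComplexShape.up ℤ) i).obj ((freeModOn Y).obj U)).X n))
    haveI : Subsingleton ((DerSch.stalkFunctor Y x).obj
        (((HomologicalComplex.single Y.Modules (ComplexShape.up ℤ) i).obj ((freeModOn Y).obj U)).X n)) :=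
      ModuleCat.subsingleton_of_isZero ((DerSch.stalkFunctor Y x).map_isZero
        (HomologicalComplex.isZero_single_obj_X _ _ _ _ hn))
    infer_instance

theorem freeEquiv_zero (U : Y.Opens) (M : Y.Modules) : freeModOnEquiv U M 0 = 0 := by
  simpa using freeModOnEquiv_comp U (0 : (freeModOn Y).obj U ⟶ M) (0 : M ⟶ M)

/-- Sections of a K-injective resolution of a direct image. -/
theorem isIso_gammaOn_resolution (B : CochainComplex X.Modules ℤ) [B.IsKInjective]
    (J : CochainComplex Y.Modules ℤ) [J.IsKInjective]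
    (η : ((Scheme.Modules.pushforward f).mapHomologicalComplex (ComplexShape.up ℤ)).obj B ⟶ J) [QuasiIso η]
    (U : Y.Opens) : IsIso (DerivedCategory.Q.map ((GammaDetect.gammaOn U).map η)) := by
  let C := CochainComplex.mappingCone η
  suffices h : ∀ i, ((GammaDetect.gammaOn U).obj C).ExactAt i by
    refine (Triangle.isZero₃_iff_isIso₁ _
      (DerivedCategory.mappingCone_triangle_distinguished ((GammaDetect.gammaOn U).map η))).1 ?_
    refine IsZero.of_iso ?_ (DerivedCategory.Q.mapIso
      (((DCoh.gammaAb (U : Scheme.{u})).mapHomologicalComplex _).mapIso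
      (CochainComplex.mappingCone.mapHomologicalComplexIso η _) ≪≫
      CochainComplex.mappingCone.mapHomologicalComplexIso _ _)).symm
    have key : ∀ K : DerivedCategory AddCommGrpCat.{u},
        (∀ n : ℤ, IsZero ((DerivedCategory.homologyFunctor AddCommGrpCat.{u} n).obj K)) → IsZero K := fun K hK => by
      haveI : K.IsLE 0 := (DerivedCategory.isLE_iff _ _).2 fun n _ => hK n
      haveI : K.IsGE 1 := (DerivedCategory.isGE_iff _ _).2 fun n _ => hK n
      exact (IsZero.iff_id_eq_zero _).2 (DerivedCategory.TStructure.t.zero (𝟙 K) 0 1 (by omega))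
    exact key _ fun n =>
      ((h n).isZero_homology).of_iso ((DerivedCategory.homologyFunctorFactors AddCommGrpCat.{u} n).app _)
  intro i
  let T := (qY).obj C
  let P : HomotopyCategory Y.Modules (ComplexShape.up ℤ) :=
    (qY).obj ((HomologicalComplex.single Y.Modules (ComplexShape.up ℤ) i).obj ((freeModOn Y).obj U))
  have hz : ∀ g : P ⟶ (qY).obj C, g = 0 := by
    intro g
    have hTd := HomotopyCategory.mappingCone_triangleh_distinguished η
    let T' := CochainComplex.mappingCone.triangleh η
    have hb₁ := bijective_comp f B J η P (kflat_single U i)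
    have h3 : g ≫ T'.mor₃ = 0 := by
      let P' := (HomotopyCategory.quotient Y.Modules (ComplexShape.up ℤ)).obj
        ((HomologicalComplex.single Y.Modules (ComplexShape.up ℤ) (i + 1)).obj ((freeModOn Y).obj U))
      let c : P' ≅ P⟦(-1 : ℤ)⟧ :=
        (((HomotopyCategory.singleFunctors Y.Modules).shiftIso (-1) (i + 1) i (by omega)).app ((freeModOn Y).obj U)).symm
      let d := (shiftFunctorCompIsoId (HomotopyCategory Y.Modules (ComplexShape.up ℤ)) (1 : ℤ) (-1) (by omega))
      have he : c.hom ≫ (g ≫ T'.mor₃)⟦(-1 : ℤ)⟧' ≫ d.hom.app T'.obj₁ = 0 := by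
        refine (bijective_comp f B J η P' (kflat_single U (i + 1))).1 ?_
        have hn := d.hom.naturality T'.mor₁
        dsimp at hn ⊢
        change (c.hom ≫ (g ≫ T'.mor₃)⟦(-1 : ℤ)⟧' ≫ d.hom.app T'.obj₁) ≫ T'.mor₁ = 0 ≫ T'.mor₁
        rw [zero_comp, Category.assoc, Category.assoc, ← hn, ← Functor.map_comp_assoc, Category.assoc,
          show T'.mor₃ ≫ T'.mor₁⟦(1 : ℤ)⟧' = 0 from comp_distTriang_mor_zero₃₁ _ hTd, comp_zero, Functor.map_zero,
          zero_comp, comp_zero]
      refine (shiftFunctor (HomotopyCategory Y.Modules (ComplexShape.up ℤ)) (-1 : ℤ)).map_injective ?_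
      rw [Functor.map_zero, ← cancel_epi c.hom, ← cancel_mono (d.hom.app T'.obj₁), Category.assoc, comp_zero, zero_comp]
      exact he
    obtain ⟨h', rfl⟩ := Triangle.coyoneda_exact₃ T' hTd g h3
    obtain ⟨g₁, rfl⟩ := hb₁.2 h'
    change (g₁ ≫ T'.mor₁) ≫ T'.mor₂ = 0
    rw [Category.assoc, comp_distTriang_mor_zero₁₂ T' hTd, comp_zero]
  rw [((GammaDetect.gammaOn U).obj C).exactAt_iff' (i - 1) i (i + 1) (by simp) (by simp), ShortComplex.ab_exact_iff]
  intro t ht
  have hle : U ≤ U.ι ''ᵁ ⊤ := by rw [Scheme.Opens.ι_image_top]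
  have hle' : U.ι ''ᵁ ⊤ ≤ U := by rw [Scheme.Opens.ι_image_top]
  let s : Γ(C.X i, U) := resM (C.X i) hle t
  let x : (freeModOn Y).obj U ⟶ C.X i := (freeModOnEquiv U (C.X i)).symm s
  have hx : x ≫ C.d i (i + 1) = 0 := by
    refine (freeModOnEquiv U _).injective ?_
    rw [freeModOnEquiv_comp, Equiv.apply_symm_apply, freeEquiv_zero, app_resM]
    exact (congrArg (resM _ hle) ht).trans (map_zero _)
  let φ := HomologicalComplex.mkHomFromSingle (K := C) x (fun k hk => by
    obtain rfl : k = i + 1 := by simpa using hk.symm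
    exact hx)
  obtain ⟨H⟩ : Nonempty (Homotopy φ 0) := ⟨HomotopyCategory.homotopyOfEq φ 0 (by rw [hz ((qY).map φ), Functor.map_zero])⟩
  let a : (freeModOn Y).obj U ⟶ C.X (i - 1) :=
    (HomologicalComplex.singleObjXSelf (ComplexShape.up ℤ) i ((freeModOn Y).obj U)).inv ≫ H.hom i (i - 1)
  have ha : a ≫ C.d (i - 1) i = x := by
    have h := H.comm i
    rw [dNext_eq _ (show (ComplexShape.up ℤ).Rel i (i + 1) by simp), prevD_eq _ (show (ComplexShape.up ℤ).Rel (i - 1) i by simp)] at h
    simp only [HomologicalComplex.single_obj_d, zero_comp, zero_add, HomologicalComplex.zero_f, add_zero] at h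
    simp only [a, Category.assoc, ← h]
    simp [φ]
  refine ⟨resM (C.X (i - 1)) hle' (freeModOnEquiv U _ a), ?_⟩
  change (C.d (i - 1) i).app (U.ι ''ᵁ ⊤) (resM (C.X (i - 1)) hle' (freeModOnEquiv U _ a)) = t
  rw [app_resM, ← freeModOnEquiv_comp, ha, Equiv.apply_symm_apply]
  exact (resM_resM _ _ _ _).trans (resM_refl _ _)

end Groth.Agent.Dual22Lib.PushAcyclic
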