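import Groth.Agent.Dual22Lib.RelAmpStalk
import Groth.Agent.Dual22Lib.PerfAmpPush
import Groth.Agent.Dual22Lib.PscPush
import Groth.Agent.DCat.PullComp
import Groth.Agent.DQCoh.TildePush

/-!
# Tor amplitude over a base of direct images
-/

set_option autoImplicit false
set_option backward.isDefEq.respectTransparency false
set_option backward.defeqAttrib.useBackward true
set_option linter.style.haveILetI false
set_option linter.unusedSectionVars false
set_option synthInstance.maxHeartbeats 100000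

universe u

open CategoryTheory CategoryTheory.Limits CategoryTheory.Pretriangulated AlgebraicGeometry TopologicalSpace
open Groth.Agent.DCat Groth.Agent.Dual22Lib.BCSquare Groth.Agent.Dual22Lib.RelAmpStalk

attribute [local instance] HasDerivedCategory.standard
attribute [-instance] Int.instConditionallyCompleteLinearOrder

namespace Groth.Agent.Dual22Lib.RelAmpPush

variable {X Y S : Scheme.{u}}

/-- Stalk complexes of objects bounded above are exact above the bound. -/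
theorem exactAt_stalkCx (q : Y ⟶ S) (G : CochainComplex Y.Modules ℤ) (b : ℤ) [(DCoh.toD Y G).IsLE b] (y : Y) (i : ℤ)
    (hi : b < i) : ((DerSch.stalkCxOver q y).obj G).ExactAt i := by
  have h : G.ExactAt i := (isZero_HD_toD_iff G i).1 (DerivedCategory.isZero_of_isLE (DCoh.toD Y G) b i hi)
  have h1 := DCat.exactAt_iff_stalks.2 h y
  have h2 := h1.map (ModuleCat.restrictScalars.{u} (q.stalkMap y).hom)
  exact h2

/-- Stalkwise tor amplitude bounds the cohomology. -/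
theorem isLE_of_amp (p : X ⟶ S) (F : CochainComplex X.Modules ℤ) {a b : ℤ} (hF : DerSch.HasTorAmplitude p a b F) :
    (DCoh.toD X F).IsLE b := by
  refine (DerivedCategory.isLE_iff _ _).2 fun i hi => (isZero_HD_toD_iff F i).2 (DCat.exactAt_iff_stalks.1 fun x => ?_)
  obtain ⟨E, hE, -, ⟨e⟩⟩ := hF x
  have h : ((DerSch.stalkCxOver p x).obj F).ExactAt i := by
    rw [← DCat.isZero_homology_toD_iff]
    refine IsZero.of_iso ?_ ((DerivedCategory.homologyFunctor _ i).mapIso e.symm)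
    rw [DCat.isZero_homology_toD_iff]
    exact HomologicalComplex.ExactAt.of_isZero (hE i (Or.inr hi))
  rw [HomologicalComplex.exactAt_iff] at h ⊢
  exact (ShortComplex.exact_map_iff_of_faithful _ (ModuleCat.restrictScalars.{u} (p.stalkMap x).hom)).1 h

/-- The affine case. -/
theorem amp_push_affine {W : Scheme.{u}} {A B : CommRingCat.{u}} (ψ : A ⟶ B) (f : W ⟶ Spec B) [QuasiCompact f]
    [QuasiSeparated f] [DCoh.HasRpush f] (F : CochainComplex W.Modules ℤ) (hq : DCoh.IsQCohD (DCoh.toD W F))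
    (a b : ℤ) (hF : DerSch.HasTorAmplitude (f ≫ Spec.map ψ) a b F) (G : CochainComplex (Spec B).Modules ℤ)
    (eG : DCoh.toD (Spec B) G ≅ (DCoh.Rpush f).obj (DCoh.toD W F)) :
    ∃ c : ℤ, DerSch.HasTorAmplitude (Spec.map ψ) a c G := by
  haveI := hasRpush (Spec.map ψ)
  haveI := hasRpush (f ≫ Spec.map ψ)
  haveI := AffSchLib.preservesFiniteLimits_tilde A
  haveI := AffSchLib.preservesFiniteLimits_tilde B
  obtain ⟨c, hac, hc⟩ := PscPush.exists_torAmplitude_Rpush (f ≫ Spec.map ψ) F hq a b hF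
  obtain ⟨M, ⟨eM⟩⟩ := ((DQCoh.tildeD_main B).2.2 _).1 (DQCoh.isQCohD_Rpush f (DCoh.toD W F) hq)
  obtain ⟨γ⟩ := DCat.nonempty_RpushComp f (Spec.map ψ)
  obtain ⟨t⟩ := DQCoh.nonempty_tildeD_Rpush ψ
  let e : (DCoh.Rpush (f ≫ Spec.map ψ)).obj (DCoh.toD W F) ≅
      (DCoh.tildeD A).obj ((DRing.restrictD ψ.hom).obj M) :=
    (γ.app _).symm ≪≫ (DCoh.Rpush (Spec.map ψ)).mapIso eM.symm ≪≫ t.app M
  obtain ⟨E₀, h1, h2, ⟨e₀⟩⟩ := DCat.flatAmp_of_torAmp hac hc
  have hM := (DQCoh.flatAmp_tildeD_iff ((DRing.restrictD ψ.hom).obj M) a c).1 ⟨E₀, h1, h2, ⟨e₀ ≪≫ e⟩⟩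
  obtain ⟨E, ⟨eE⟩⟩ : ∃ E, Nonempty (DRing.toD E ≅ M) :=
    ⟨DerivedCategory.Q.objPreimage M, ⟨DerivedCategory.Q.objObjPreimageIso M⟩⟩
  have hE := FlatCx12.TorAmpComp.amp_iso ((DRing.restrictD ψ.hom).mapIso eE.symm ≪≫
    (ModuleCat.restrictScalars.{u} ψ.hom).mapDerivedCategoryFactors.app E) hM
  refine ⟨c, fun x => FlatCx12.AmpThick.amp_congr _ x ?_ (amp_tilde ψ E hE x)⟩
  exact ((tilde.functor B).mapDerivedCategoryFactors.app E).symm ≪≫ (DCoh.tildeD B).mapIso eE ≪≫ eM ≪≫ eG.symm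

/-- Tor amplitude over `S` of a direct image, on an affine open of `Y` over an affine open of `S`. -/
theorem amp_push_open (q : Y ⟶ S) (f : X ⟶ Y) [QuasiCompact f] [QuasiSeparated f] [DCoh.HasRpush f]
    (F : CochainComplex X.Modules ℤ) (hq : DCoh.IsQCohD (DCoh.toD X F)) (U : Y.Opens) (hU : IsAffineOpen U)
    (V : S.Opens) (hV : IsAffineOpen V) (hUV : U ≤ q ⁻¹ᵁ V) (a b : ℤ)
    (hF : ∀ x : X, f x ∈ U → DerSch.HasTorAmplitudeAt (f ≫ q) a b F x)
    (G : CochainComplex Y.Modules ℤ) (eG : DCoh.toD Y G ≅ (DCoh.Rpush f).obj (DCoh.toD X F)) :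
    ∃ c : ℤ, ∀ y ∈ U, DerSch.HasTorAmplitudeAt q a c G y := by
  let j := hU.fromSpec
  let v := hV.fromSpec
  have hr : Set.range (j ≫ q) ⊆ Set.range v := by
    rintro _ ⟨z, rfl⟩
    rw [hV.range_fromSpec]
    exact hUV (by rw [← SetLike.mem_coe, ← hU.range_fromSpec]; exact ⟨z, rfl⟩)
  obtain ⟨ψ, hψ⟩ := Spec.map_surjective (IsOpenImmersion.lift v (j ≫ q) hr)
  have hw : Spec.map ψ ≫ v = j ≫ q := by rw [hψ, IsOpenImmersion.lift_fac]
  have hU0 := IsPullback.of_hasPullback f j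
  let k := pullback.fst f j
  let f' := pullback.snd f j
  haveI := hasRpush j
  haveI := hasRpush k
  haveI := hasRpush f'
  haveI := hasLpull j
  haveI := hasLpull k
  obtain ⟨ab⟩ := nonempty_pullPushAdj j
  obtain ⟨abX⟩ := nonempty_pullPushAdj k
  obtain ⟨eb⟩ := exists_e hU0.w
  haveI := good_of_open hU0 inferInstance inferInstance inferInstance inferInstance inferInstance inferInstance
    ab abX eb (DCoh.toD X F) hq
  obtain ⟨β⟩ := nonempty_Lpull_rd j
  obtain ⟨βX⟩ := nonempty_Lpull_rd k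
  let F' := ((Scheme.Modules.restrictFunctor k).mapHomologicalComplex (ComplexShape.up ℤ)).obj F
  let G' := ((Scheme.Modules.restrictFunctor j).mapHomologicalComplex (ComplexShape.up ℤ)).obj G
  let eF : DCoh.toD _ F' ≅ (DCoh.Lpull k).obj (DCoh.toD X F) :=
    ((Scheme.Modules.restrictFunctor k).mapDerivedCategoryFactors.app F).symm ≪≫ (βX.app _).symm
  have hF' : DerSch.HasTorAmplitude (f' ≫ Spec.map ψ) a b F' := fun w => by
    refine (amp_post_iff (f' ≫ Spec.map ψ) v F' a b w).1 (amp_congr_hom ?_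
      ((amp_restrict_iff (f ≫ q) k F a b w).2 (hF _ ?_)))
    · rw [Category.assoc, hw, ← Category.assoc, ← Category.assoc, hU0.w]
    · have h1 : f (k w) = j (f' w) := by
        rw [← Scheme.Hom.comp_apply, ← Scheme.Hom.comp_apply, hU0.w]
      rw [h1, ← SetLike.mem_coe, ← hU.range_fromSpec]
      exact ⟨f' w, rfl⟩
  let eG' : DCoh.toD _ G' ≅ (DCoh.Rpush f').obj (DCoh.toD _ F') :=
    ((Scheme.Modules.restrictFunctor j).mapDerivedCategoryFactors.app G).symm ≪≫ (PerfLocal.rd j).mapIso eG ≪≫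
      (β.app _).symm ≪≫ asIso ((BCAlg.bc ab abX eb).app (DCoh.toD X F)) ≪≫ (DCoh.Rpush f').mapIso eF.symm
  obtain ⟨c, hc⟩ := amp_push_affine ψ f' F' (DQCoh.isQCohD_of_iso eF.symm (DQCoh.isQCohD_Lpull k _ hq)) a b hF' G' eG'
  refine ⟨c, fun y hy => ?_⟩
  rw [← SetLike.mem_coe, ← hU.range_fromSpec] at hy
  obtain ⟨z, rfl⟩ := hy
  exact (amp_restrict_iff q j G a c z).1 (amp_congr_hom hw ((amp_post_iff (Spec.map ψ) v G' a c z).2 (hc z)))

/-- Tor amplitude over `S` of a direct image, with the upper bound given by the cohomology. -/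
theorem amp_push (q : Y ⟶ S) (f : X ⟶ Y) [QuasiCompact f] [QuasiSeparated f] [DCoh.HasRpush f] (N : ℕ)
    (hN : ∀ M : X.Modules, Coh.IsQCoh M → ∀ i : ℤ, (N : ℤ) < i → IsZero (DCoh.HD ((DCoh.Rpush f).obj (DCoh.inD X M)) i))
    (F : CochainComplex X.Modules ℤ) (hq : DCoh.IsQCohD (DCoh.toD X F)) (c : ℤ) [(DCoh.toD X F).IsGE c] (a b : ℤ)
    (hF : DerSch.HasTorAmplitude (f ≫ q) a b F) (G : CochainComplex Y.Modules ℤ)
    (eG : DCoh.toD Y G ≅ (DCoh.Rpush f).obj (DCoh.toD X F)) :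
    DerSch.HasTorAmplitude q a (b + N) G := by
  haveI := isLE_of_amp (f ≫ q) F hF
  haveI : (DCoh.toD Y G).IsLE (b + N) := by
    haveI := RpushBound.isLE_Rpush_of_modules f N hN (DCoh.toD X F) c b hq
    exact @Triangulated.TStructure.isLE_of_iso _ _ _ _ _ _ _ DerivedCategory.TStructure.t _ _ eG.symm (b + N) ‹_›
  intro y
  obtain ⟨V, hV, hy, -⟩ := exists_isAffineOpen_mem_and_subset (show q y ∈ (⊤ : S.Opens) from trivial)
  obtain ⟨U, hU, hyU, hUV⟩ := exists_isAffineOpen_mem_and_subset (show y ∈ q ⁻¹ᵁ V from hy)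
  obtain ⟨e, he⟩ := amp_push_open q f F hq U hU V hV hUV a b (fun x _ => hF x) G eG
  exact amp_le _ (he y hyU) fun i hi => exactAt_stalkCx q G (b + N) y i hi

/-- Locally uniform tor amplitude over `S` of a direct image. -/
theorem locAmp_push (q : Y ⟶ S) (f : X ⟶ Y) [QuasiCompact f] [QuasiSeparated f] [DCoh.HasRpush f]
    (F : CochainComplex X.Modules ℤ) (hq : DCoh.IsQCohD (DCoh.toD X F))
    (hF : DerSch.LocFiniteTorAmplitude (f ≫ q) F) (G : CochainComplex Y.Modules ℤ)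
    (eG : DCoh.toD Y G ≅ (DCoh.Rpush f).obj (DCoh.toD X F)) : DerSch.LocFiniteTorAmplitude q G := by
  classical
  intro y
  obtain ⟨V, hV, hy, -⟩ := exists_isAffineOpen_mem_and_subset (show q y ∈ (⊤ : S.Opens) from trivial)
  obtain ⟨U, hU, hyU, hUV⟩ := exists_isAffineOpen_mem_and_subset (show y ∈ q ⁻¹ᵁ V from hy)
  choose W A B hxW hW using hF
  obtain ⟨t, ht⟩ := (QuasiCompact.isCompact_preimage (f := f) U U.2 hU.isCompact).elim_finite_subcover
    (fun x : X => (W x : Set X)) (fun x => (W x).2) (fun x _ => Set.mem_iUnion.2 ⟨x, hxW x⟩)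
  obtain ⟨a, ha⟩ := (t.image A).bddBelow
  obtain ⟨b, hb⟩ := (t.image B).bddAbove
  obtain ⟨c, hc⟩ := amp_push_open q f F hq U hU V hV hUV a b (fun x hx => by
    obtain ⟨z, hz, hxz⟩ := Set.mem_iUnion₂.1 (ht hx)
    obtain ⟨T, hT, hTf, e⟩ := hW z x hxz
    refine ⟨T, fun i hi => hT i ?_, hTf, e⟩
    have h1 : a ≤ A z := ha (Finset.mem_coe.2 (Finset.mem_image_of_mem A hz))
    have h2 : B z ≤ b := hb (Finset.mem_coe.2 (Finset.mem_image_of_mem B hz))
    omega) G eG
  exact ⟨U, a, c, hyU, hc⟩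

end Groth.Agent.Dual22Lib.RelAmpPush
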