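import Groth.Agent.FlatCx12.AmpFlatBC
import Groth.Agent.FlatCx12.AmpFibre
import Groth.Agent.FlatCx12.AmpThick
import Groth.Agent.FlatMorTorAmp.WEt
import Groth.Agent.DCat.TildeStalk

/-!
# Tor amplitude over the base at stalks: charts, open immersions, upper bounds
-/

set_option autoImplicit false
set_option backward.isDefEq.respectTransparency false
set_option backward.defeqAttrib.useBackward true
set_option linter.style.haveILetI false
set_option linter.unusedSectionVars false
set_option synthInstance.maxHeartbeats 100000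

universe u

open CategoryTheory CategoryTheory.Limits AlgebraicGeometry TopologicalSpace HomologicalComplex
open Groth.Agent.DCat

attribute [local instance] HasDerivedCategory.standard
attribute [-instance] Int.instConditionallyCompleteLinearOrder

namespace Groth.Agent.Dual22Lib.RelAmpStalk

section Ring

variable {R : Type u} [CommRing R]

/-- Tor amplitude `[a, c]` and vanishing above `b` give tor amplitude `[a, b]`. -/
theorem amp_le {a b c : ℤ} (C : DRing.Cx R) (h : DRing.HasTorAmplitudeIn R a c (DRing.toD C))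
    (hb : ∀ i, b < i → C.ExactAt i) : DRing.HasTorAmplitudeIn R a b (DRing.toD C) := by
  refine FlatCx12.TorAmpComp.amp_iff_vanish.2 fun N i hi => ?_
  by_cases hia : i < a
  · exact FlatCx12.TorAmpComp.amp_iff_vanish.1 h N i (Or.inl hia)
  haveI := DCat.hasLTensor N
  obtain ⟨P, hP, -, hPb, ⟨e⟩⟩ := DCat.exists_flat_rep (b := b) (K := DRing.toD C)
    fun n hn => (isZero_homology_toD_iff C n).2 (hb n hn)
  refine (DCat.isZero_ltensor_iff N hP e i).2 ?_
  exact HomologicalComplex.ExactAt.of_isZero
    ((MonoidalCategory.tensorRight N).map_isZero (hPb i (by omega)))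

/-- Flatness over a ring isomorphic to the base. -/
theorem flat_of_bijective {R' : Type u} [CommRing R'] (φ : R →+* R') (hφ : Function.Bijective φ)
    (M : ModuleCat.{u} R') (h : Module.Flat R ((ModuleCat.restrictScalars.{u} φ).obj M)) : Module.Flat R' M := by
  let e := RingEquiv.ofBijective φ hφ
  have h1 : Module.Flat R' ((ModuleCat.restrictScalars.{u} e.symm.toRingHom).obj
      ((ModuleCat.restrictScalars.{u} φ).obj M)) :=
    @FlatMorTorAmp.flat_restrict R' R _ _ e.symm.toRingHom (RingHom.Flat.of_bijective e.symm.bijective) _ h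
  let M₂ := (ModuleCat.restrictScalars.{u} e.symm.toRingHom).obj ((ModuleCat.restrictScalars.{u} φ).obj M)
  let l : (M₂ : Type u) ≃ₗ[R'] (M : Type u) :=
    { toFun := id
      invFun := id
      map_add' := fun _ _ => rfl
      map_smul' := fun r m => congrArg (fun t : R' => t • (show (M : Type u) from m)) (e.apply_symm_apply r)
      left_inv := fun _ => rfl
      right_inv := fun _ => rfl }
  exact @Module.Flat.of_linearEquiv _ _ _ _ _ _ _ _ h1 l.symm

end Ring

variable {X Y S : Scheme.{u}}

/-- A stalk complex of a composite is the restriction of scalars of the first one. -/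
theorem nonempty_stalkComp (f : X ⟶ Y) (g : Y ⟶ S) (F : CochainComplex X.Modules ℤ) (x : X) :
    Nonempty ((DRing.restrictD (g.stalkMap (f.base x)).hom).obj (DRing.toD ((DerSch.stalkCxOver f x).obj F)) ≅
      DRing.toD ((DerSch.stalkCxOver (f ≫ g) x).obj F)) := by
  let φ := (g.stalkMap (f.base x)).hom
  let r := (ModuleCat.restrictScalars.{u} φ).mapHomologicalComplex (ComplexShape.up ℤ)
  have hc : ((f ≫ g).stalkMap x).hom = (f.stalkMap x).hom.comp φ := by
    rw [Scheme.Hom.stalkMap_comp]
    rfl
  let η : DerSch.stalkOver f x ⋙ ModuleCat.restrictScalars.{u} φ ≅ DerSch.stalkOver (f ≫ g) x :=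
    Functor.associator _ _ _ ≪≫ Functor.isoWhiskerLeft (DerSch.stalkFunctor X x)
      (ModuleCat.restrictScalarsComp' φ (f.stalkMap x).hom ((f ≫ g).stalkMap x).hom hc).symm
  let e' : r.obj ((DerSch.stalkCxOver f x).obj F) ≅ (DerSch.stalkCxOver (f ≫ g) x).obj F :=
    HomologicalComplex.Hom.isoOfComponents (fun i => η.app (F.X i)) (fun p q _ => (η.hom.naturality (F.d p q)).symm)
  exact ⟨(ModuleCat.restrictScalars.{u} φ).mapDerivedCategoryFactors.app _ ≪≫ DerivedCategory.Q.mapIso e'⟩

/-- Tor amplitude over a base and over an open subscheme of it. -/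
theorem amp_post_iff (g : X ⟶ Y) (v : Y ⟶ S) [IsOpenImmersion v] (F : CochainComplex X.Modules ℤ) (a b : ℤ) (x : X) :
    DerSch.HasTorAmplitudeAt (g ≫ v) a b F x ↔ DerSch.HasTorAmplitudeAt g a b F x := by
  obtain ⟨e⟩ := nonempty_stalkComp g v F x
  let φ := (v.stalkMap (g.base x)).hom
  have hb : Function.Bijective φ := ConcreteCategory.bijective_of_isIso (v.stalkMap (g.base x))
  refine ⟨fun h => ?_, fun h => ?_⟩
  · exact FlatMorTorAmp.amp_of_restrict φ (RingHom.Flat.of_bijective hb) (fun M => flat_of_bijective φ hb M)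
      (FlatCx12.TorAmpComp.amp_iso e.symm h)
  · exact FlatCx12.TorAmpComp.amp_iso e (FlatMorTorAmp.amp_restrict φ (RingHom.Flat.of_bijective hb) h)

/-- Transport along an equality of morphisms. -/
theorem amp_congr_hom {g g' : X ⟶ S} (w : g = g') {F : CochainComplex X.Modules ℤ} {a b : ℤ} {x : X}
    (h : DerSch.HasTorAmplitudeAt g a b F x) : DerSch.HasTorAmplitudeAt g' a b F x := by
  subst w
  exact h

/-- Tor amplitude at the points of an open subscheme. -/
theorem amp_restrict_iff {W : Scheme.{u}} (f : X ⟶ S) (k : W ⟶ X) [IsOpenImmersion k]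
    (G : CochainComplex X.Modules ℤ) (a b : ℤ) (w : W) :
    DerSch.HasTorAmplitudeAt (k ≫ f) a b
      (((Scheme.Modules.restrictFunctor k).mapHomologicalComplex (ComplexShape.up ℤ)).obj G) w ↔
      DerSch.HasTorAmplitudeAt f a b G (k w) := by
  obtain ⟨s⟩ := FlatCx12.AmpFibre.nonempty_stalk_restrict f k G w
  exact ⟨FlatCx12.TorAmpComp.amp_iso s.symm, FlatCx12.TorAmpComp.amp_iso s⟩

/-- The affine chart: tor amplitude over the base ring gives tor amplitude at the stalks. -/
theorem amp_tilde {A B : CommRingCat.{u}} (ψ : A ⟶ B) (E : DRing.Cx B) {a b : ℤ}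
    (h : DRing.HasTorAmplitudeIn A a b
      (DRing.toD (((ModuleCat.restrictScalars.{u} ψ.hom).mapHomologicalComplex (ComplexShape.up ℤ)).obj E)))
    (x : Spec B) :
    DerSch.HasTorAmplitudeAt (Spec.map ψ) a b
      (((tilde.functor B).mapHomologicalComplex (ComplexShape.up ℤ)).obj E) x := by
  let s : Spec A := (Spec.map ψ) x
  let A' := (Spec A).presheaf.stalk s
  let O := (Spec B).presheaf.stalk x
  let σ : A' →+* O := ((Spec.map ψ).stalkMap x).hom
  have hσ : σ.comp (stalkφ s) = (stalkφ x).comp ψ.hom := RingHom.ext fun r => stalkMap_toStalk_apply ψ x r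
  letI := ψ.hom.toAlgebra
  letI : Algebra B O := (stalkφ x).toAlgebra
  letI : Algebra A O := ((stalkφ x).comp ψ.hom).toAlgebra
  haveI : IsScalarTower A B O := .of_algebraMap_eq fun _ => rfl
  haveI : IsLocalization x.asIdeal.primeCompl O := StructureSheaf.IsLocalization.to_stalk B x
  haveI : Algebra.IsPushout A A B B := inferInstance
  have h1 := FlatCx12.AmpFlatBC.amp_bc (A := A) (A' := A) (B := B) (T := B) (O := O) x.asIdeal.primeCompl
    (stalkφ x) (fun _ => rfl) E h
  let Ex := ((ModuleCat.extendScalars.{u, u, u} (stalkφ x)).mapHomologicalComplex (ComplexShape.up ℤ)).obj E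
  let res := ((ModuleCat.restrictScalars.{u} σ).mapHomologicalComplex (ComplexShape.up ℤ)).obj Ex
  let et : res ≅ (DerSch.stalkCxOver (Spec.map ψ) x).obj
      (((tilde.functor B).mapHomologicalComplex (ComplexShape.up ℤ)).obj E) :=
    ((ModuleCat.restrictScalars.{u} σ).mapHomologicalComplex (ComplexShape.up ℤ)).mapIso
      ((NatIso.mapHomologicalComplex (tildeStalkIso x) (ComplexShape.up ℤ)).app E)
  refine FlatCx12.TorAmpComp.amp_iso (DerivedCategory.Q.mapIso et) ?_
  letI : Algebra A A' := (stalkφ s).toAlgebra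
  haveI : IsLocalization s.asIdeal.primeCompl A' := StructureSheaf.IsLocalization.to_stalk A s
  haveI : Module.Flat A A' := IsLocalization.flat A' s.asIdeal.primeCompl
  refine FlatMorTorAmp.amp_of_restrict (stalkφ s) (RingHom.flat_algebraMap_iff.2 inferInstance) (fun M hM => ?_) ?_
  · letI : Module A M := Module.compHom M (stalkφ s)
    haveI : IsScalarTower A A' M := IsScalarTower.of_algebraMap_smul fun _ _ => rfl
    exact (Module.flat_iff_of_isLocalization A' s.asIdeal.primeCompl M).2 hM
  let c := ModuleCat.restrictScalarsComp' (stalkφ s) σ ((stalkφ x).comp ψ.hom) hσ.symm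
  let η := Functor.isoWhiskerLeft (ModuleCat.extendScalars.{u, u, u} (stalkφ x)) c
  let src := (((ModuleCat.extendScalars.{u, u, u} (stalkφ x)) ⋙
    ModuleCat.restrictScalars.{u} ((stalkφ x).comp ψ.hom)).mapHomologicalComplex (ComplexShape.up ℤ)).obj E
  let ec : src ≅ ((ModuleCat.restrictScalars.{u} (stalkφ s)).mapHomologicalComplex (ComplexShape.up ℤ)).obj res :=
    HomologicalComplex.Hom.isoOfComponents (fun i => η.app (E.X i)) (fun p q _ => (η.hom.naturality (E.d p q)).symm)
  exact FlatCx12.TorAmpComp.amp_iso (DerivedCategory.Q.mapIso ec ≪≫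
    ((ModuleCat.restrictScalars.{u} (stalkφ s)).mapDerivedCategoryFactors.app res).symm) h1

end Groth.Agent.Dual22Lib.RelAmpStalk
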