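import Groth.Agent.Dual22Lib.HpQCoh
import Groth.Agent.Dual22Lib.ProjQCoh
import Groth.Agent.Dual22Lib.SupportAdj
import Groth.Agent.Dual22Lib.PscPushApps
import Groth.Agent.FlatCx12.RelPCQCoh
import Groth.Agent.FlatCx12.RelPCFinite
import Groth.Agent.FlatCx12.RelPCOps
import Groth.Agent.SerreDual.ExtShProj
import Groth.Agent.DQCoh.PscNoeth
import Groth.Agent.RelVALib.ChowPn
import Groth.Agent.FlatBC14.Main
import Groth.Agent.Coherent.ProjSpaceFlat

/-!
# `M ↦ H^p(Rf_*(Lf^* M ⊗^L F))` as `M ↦ H^p(M ⊗^L Rf_* F)`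
-/

set_option autoImplicit false
set_option backward.isDefEq.respectTransparency false
set_option backward.defeqAttrib.useBackward true
set_option linter.style.haveILetI false
set_option synthInstance.maxHeartbeats 100000

universe u

open CategoryTheory CategoryTheory.Limits CategoryTheory.Pretriangulated DerivedCategory AlgebraicGeometry
open Groth.Agent.DCat Groth.Agent.Coherent Groth.Agent.FlatCx12.RelPCOps Groth.Agent.SiteDer16

attribute [local instance] HasDerivedCategory.standard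

namespace Groth.Agent.Dual22Lib.RelPerfPush

variable {X Y : Scheme.{u}}

/-- Relatively pseudo-coherent objects over a locally Noetherian base have coherent cohomology. -/
theorem isCohD_of_rel [IsLocallyNoetherian Y] (f : X ⟶ Y) (K : DCoh.D X)
    (h : DerSch.IsPseudoCoherentRelAll f K) : DCoh.IsCohD K := by
  intro i
  haveI := (h i).1
  haveI : IsLocallyNoetherian X := LocallyOfFiniteType.isLocallyNoetherian f
  refine ⟨FlatCx12.RelPCQCoh.isQCoh_HD_of_rel f (i - 1) K (h _) i (by omega), DQCoh.isFT_of_local _ fun x => ?_⟩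
  obtain ⟨U, V, hle, hx⟩ := exists_affine_pair f x
  algebraize [(f.appLE V U hle).hom]
  obtain ⟨n, π, hπ⟩ := Algebra.FiniteType.iff_quotient_mvPolynomial''.1
    (show Algebra.FiniteType Γ(Y, V.1) Γ(X, U.1) from f.finiteType_appLE V.2 U.2 hle)
  let c : Chart f := ⟨U, V, hle, n, π.toRingHom, hπ, RingHom.ext fun a => π.commutes a⟩
  haveI : IsNoetherianRing Γ(Y, V.1) := IsLocallyNoetherian.component_noetherian V
  haveI : IsNoetherianRing (CommRingCat.of (MvPolynomial (Fin c.n) Γ(Y, c.V.1))) :=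
    inferInstanceAs (IsNoetherianRing (MvPolynomial (Fin n) Γ(Y, V.1)))
  have hq : DCoh.IsQCohD (c.fn.obj K) := fun j =>
    FlatCx12.RelPCQCoh.isQCoh_HD_of_psc ((rel_iff_chart (j - 1) K).1 (h _) c) j (by omega)
  have hcoh := DQCoh.isCoh_HD_of_psc (c.fn.obj K) hq i ((rel_iff_chart i K).1 (h _) c) i le_rfl
  exact ⟨_, U.1.ι, inferInstance, by simpa using hx,
    (@SerreDual.isCoh_of_push _ _ inferInstance c.imm (FlatCx12.RelPCChart.isClosedImmersion_along c.U.2 c.isChart.1) _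
      (Coherent.isCoh_iso (FlatCx12.RelPCTri.fnHomIso c K i) hcoh)).2⟩

/-- The functor seen through the derived direct image. -/
theorem exists_rep (f : X ⟶ Y) [QuasiCompact f] [QuasiSeparated f] [DCoh.HasRpush f] [DCoh.HasLpull f]
    (F : CochainComplex X.Modules ℤ) [DCoh.HasLTensorCx F] (hF : DCoh.IsQCohD (DCoh.toD X F)) (p : ℤ) :
    ∃ (K : CochainComplex Y.Modules ℤ) (_ : DCoh.HasLTensorCx K),
      Nonempty (DCoh.toD Y K ≅ (DCoh.Rpush f).obj (DCoh.toD X F)) ∧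
      Nonempty ((QCohCat.isQCoh Y).ι ⋙ DerivedCategory.singleFunctor Y.Modules 0 ⋙ DCoh.Lpull f ⋙
          DCoh.LTensorCx F ⋙ DCoh.Rpush f ⋙ DerivedCategory.homologyFunctor Y.Modules p ≅
        (QCohCat.isQCoh Y).ι ⋙ HpExact.G K p) := by
  obtain ⟨I, s, hI, hs⟩ := modules_enoughKInj X F
  haveI := hI
  haveI : IsIso (Q.map s) := (isIso_Q_map_iff_quasiIso _ s).2 hs
  have hqI : DCoh.IsQCohD (Q.obj I) := DQCoh.isQCohD_of_iso (asIso (Q.map s)) hF
  haveI := LTensorSheaf.hasLTensorCx I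
  haveI := LTensorSheaf.hasLTensorCx ((ProjPerf.pushC f).obj I)
  refine ⟨(ProjPerf.pushC f).obj I, inferInstance, ?_, ?_⟩
  · haveI := ProjPerf.isIso_unitD f I
    exact ⟨asIso ((ProjPerf.unitD f).app I) ≪≫ (DCoh.Rpush f).mapIso (asIso (Q.map s)).symm⟩
  obtain ⟨τ, hτ⟩ := ProjQCoh.exists_tau f I
  obtain ⟨b⟩ := TensorCongr.nonempty_congr (E := F) (E' := I) (asIso (Q.map s))
  let L := (QCohCat.isQCoh Y).ι ⋙ DerivedCategory.singleFunctor Y.Modules 0
  haveI : ∀ M : QCohCat.QCoh Y, IsIso ((Functor.whiskerLeft L τ).app M) := fun M => by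
    obtain ⟨P, hP, ⟨e⟩⟩ := PullPerf.exists_kflat_rep (L.obj M)
    haveI : Coh.IsQCoh M.obj := M.property
    have hM : DCoh.IsQCohD (L.obj M) := FlatBC14.isQCohD_inD M.obj
    haveI := ProjQCoh.isIso_eta_qcoh f I hqI hP (DQCoh.isQCohD_of_iso e.symm hM)
    haveI : IsIso (τ.app (Q.obj P)) := by rw [hτ P hP]; infer_instance
    exact (NatTrans.isIso_app_iff_of_iso τ e).1 inferInstance
  haveI := NatIso.isIso_of_isIso_app (Functor.whiskerLeft L τ)
  refine ⟨?_⟩
  let H := DerivedCategory.homologyFunctor Y.Modules p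
  exact (Functor.associator _ _ _).symm ≪≫
    Functor.isoWhiskerLeft L (Functor.isoWhiskerLeft (DCoh.Lpull f) (Functor.isoWhiskerRight b (DCoh.Rpush f ⋙ H))) ≪≫
    (Functor.associator L (ProjQCoh.tgtF f I) H).symm ≪≫
    Functor.isoWhiskerRight (asIso (Functor.whiskerLeft L τ)).symm H ≪≫
    Functor.associator L _ H ≪≫ Functor.associator _ _ _

theorem betti_congr {E E' : DCoh.D Y} (e : E ≅ E') (y : Y) [DCoh.HasLpull (Y.fromSpecResidueField y)] (p : ℤ) :
    PerfD.betti E y p = PerfD.betti E' y p :=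
  DQCoh.finrank_top_congr ((homologyFunctor _ p).mapIso ((DCoh.Lpull (Y.fromSpecResidueField y)).mapIso e))

/-- Exactness of `M ↦ H^p(Rf_*(Lf^* M ⊗^L F))` on quasi-coherent modules. -/
theorem of_exact [QuasiSeparatedSpace Y] (f : X ⟶ Y) [QuasiCompact f] [QuasiSeparated f] [DCoh.HasRpush f]
    [DCoh.HasLpull f] (F : CochainComplex X.Modules ℤ) [DCoh.HasLTensorCx F] (hF : DCoh.IsQCohD (DCoh.toD X F))
    (e : ℤ) [((DCoh.Rpush f).obj (DCoh.toD X F)).IsLE e] (p : ℤ)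
    (hE : DCoh.IsPseudoCoherentD (p - 1) ((DCoh.Rpush f).obj (DCoh.toD X F)))
    [PreservesFiniteLimits ((QCohCat.isQCoh Y).ι ⋙ DerivedCategory.singleFunctor Y.Modules 0 ⋙ DCoh.Lpull f ⋙
      DCoh.LTensorCx F ⋙ DCoh.Rpush f ⋙ DerivedCategory.homologyFunctor Y.Modules p)]
    [PreservesFiniteColimits ((QCohCat.isQCoh Y).ι ⋙ DerivedCategory.singleFunctor Y.Modules 0 ⋙ DCoh.Lpull f ⋙
      DCoh.LTensorCx F ⋙ DCoh.Rpush f ⋙ DerivedCategory.homologyFunctor Y.Modules p)]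
    [∀ y : Y, DCoh.HasLpull (Y.fromSpecResidueField y)] :
    FlatMod.IsFinLocFree (DCoh.HD ((DCoh.Rpush f).obj (DCoh.toD X F)) p) ∧
      IsLocallyConstant (fun y : Y => PerfD.betti ((DCoh.Rpush f).obj (DCoh.toD X F)) y p) := by
  obtain ⟨K, hK, ⟨eK⟩, ⟨eG⟩⟩ := exists_rep f F hF p
  haveI := hK
  haveI : (DCoh.toD Y K).IsLE e := DerivedCategory.TStructure.t.isLE_of_iso eK.symm e
  haveI : PreservesFiniteLimits ((QCohCat.isQCoh Y).ι ⋙ HpExact.G K p) := preservesFiniteLimits_of_natIso eG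
  haveI : PreservesFiniteColimits ((QCohCat.isQCoh Y).ι ⋙ HpExact.G K p) := preservesFiniteColimits_of_natIso eG
  obtain ⟨h₁, h₂⟩ := HpQCoh.isFinLocFree_of_exact K e p (PCTriangle.psc_iso eK.symm hE)
  refine ⟨PerfTensor.isFinLocFree_of_iso ((homologyFunctor _ p).mapIso eK) h₁, ?_⟩
  simpa only [betti_congr eK] using h₂

/-- The Noetherian proper case. -/
theorem noetherian [IsNoetherian Y] (f : X ⟶ Y) [IsProper f] [DCoh.HasRpush f] (F : CochainComplex X.Modules ℤ)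
    (a b : ℤ) [(DCoh.toD X F).IsGE a] [(DCoh.toD X F).IsLE b]
    (hF : DerSch.IsPseudoCoherentRelAll f (DCoh.toD X F)) :
    DCoh.IsQCohD (DCoh.toD X F) ∧ ∃ e : ℤ, ((DCoh.Rpush f).obj (DCoh.toD X F)).IsLE e ∧
      ∀ m : ℤ, DCoh.IsPseudoCoherentD m ((DCoh.Rpush f).obj (DCoh.toD X F)) := by
  haveI : IsLocallyNoetherian X := LocallyOfFiniteType.isLocallyNoetherian f
  have hcoh := isCohD_of_rel f _ hF
  have hc := SupportAdj.isCohD_Rpush f _ a hcoh
  obtain ⟨N, hN⟩ := SupportAdj.exists_isLE_Rpush f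
  have hle := hN _ b (fun i => (hcoh i).1) inferInstance
  haveI := hle
  exact ⟨fun i => (hcoh i).1, b + N, hle,
    fun m => DQCoh.psc_of_isCoh _ (fun i => (hc i).1) (b + N) m fun i _ => hc i⟩

/-- The projective case over a quasi-compact quasi-separated base. -/
theorem projective [CompactSpace Y] (r : ℕ) (i : X ⟶ CohB1.ProjSpaceOver r Y) [IsClosedImmersion i]
    [DCoh.HasRpush (i ≫ CohB1.ProjSpaceOver.toBase r Y)] (F : CochainComplex X.Modules ℤ)
    (b : ℤ) [(DCoh.toD X F).IsLE b]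
    (hF : DerSch.IsPseudoCoherentRelAll (i ≫ CohB1.ProjSpaceOver.toBase r Y) (DCoh.toD X F)) :
    DCoh.IsQCohD (DCoh.toD X F) ∧ ∃ e : ℤ,
      ((DCoh.Rpush (i ≫ CohB1.ProjSpaceOver.toBase r Y)).obj (DCoh.toD X F)).IsLE e ∧
      ∀ m : ℤ, DCoh.IsPseudoCoherentD m ((DCoh.Rpush (i ≫ CohB1.ProjSpaceOver.toBase r Y)).obj (DCoh.toD X F)) := by
  haveI := RelVALib.isProper_toBase r Y
  haveI := Coherent.flat_toBase (n := r) Y
  haveI := PscPushApps.locallyOfFinitePresentation_toBase r Y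
  have hq : DCoh.IsQCohD (DCoh.toD X F) := fun j =>
    FlatCx12.RelPCQCoh.isQCoh_HD_of_rel _ (j - 1) _ (hF _) j (by omega)
  haveI := DCat.hasRpush i
  obtain ⟨N, hN⟩ := SupportAdj.exists_isLE_Rpush (i ≫ CohB1.ProjSpaceOver.toBase r Y)
  refine ⟨hq, b + N, hN _ b hq inferInstance, fun m => PscPushApps.psc_Rpush_projSpace r i _ (fun n => ?_) m⟩
  have h₁ : DerSch.IsPseudoCoherentRel i n (DCoh.toD X F) := (rel_comp_iff i _ n _).1 (hF n)
  exact (rel_iff_psc (𝟙 (CohB1.ProjSpaceOver r Y)) n _).1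
    ((FlatCx12.RelPCFinite.rel_Rpush_iff i (𝟙 _) i (Category.comp_id i) n _ hq).1 h₁)

end Groth.Agent.Dual22Lib.RelPerfPush
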