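import Groth.Agent.Dual22Lib.Torsion
import Groth.Agent.Dual22Lib.GammaApps
import Groth.Agent.DCat.RDUnbounded

/-!
# Scalars on derived categories: restriction and direct image
-/

set_option autoImplicit false
set_option backward.isDefEq.respectTransparency false
set_option backward.defeqAttrib.useBackward true
set_option linter.style.haveILetI false
set_option linter.unusedSectionVars false

universe u

open CategoryTheory CategoryTheory.Limits AlgebraicGeometry Opposite

attribute [local instance] HasDerivedCategory.standard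
attribute [-instance] Int.instConditionallyCompleteLinearOrder

namespace Groth.Agent.Dual22Lib.ScalarD

variable {A : Type u} [CommRing A] {X T : Scheme.{u}} [X.Over (Spec (CommRingCat.of A))]
  [T.Over (Spec (CommRingCat.of A))]

/-- Restriction is linear. -/
theorem restrict_map_smul_id (j : T ⟶ X) [IsOpenImmersion j] [j.IsOver (Spec (CommRingCat.of A))] (M : X.Modules)
    (a : A) : (Scheme.Modules.restrictFunctor j).map (a • 𝟙 M) = a • 𝟙 ((Scheme.Modules.restrictFunctor j).obj M) := by
  refine Scheme.Modules.hom_ext _ _ fun U => ?_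
  ext m
  change ((a • 𝟙 M).app (j ''ᵁ U)) m = (a • 𝟙 ((Scheme.Modules.restrictFunctor j).obj M)).app U m
  rw [KLin.smul_app_apply, KLin.smul_app_apply, Scheme.Modules.Hom.id_app, Scheme.Modules.Hom.id_app]
  have h : T.presheaf.map (homOfLE (le_top : U ≤ ⊤)).op (Coh.toGlobal (T ↘ Spec (CommRingCat.of A)) a) =
      (j.appIso U).hom (X.presheaf.map (homOfLE (le_top : j ''ᵁ U ≤ ⊤)).op
        (Coh.toGlobal (X ↘ Spec (CommRingCat.of A)) a)) := by
    rw [Scheme.Hom.appIso_hom, CommRingCat.comp_apply, ← KLin.res_toGlobal_eq_app j a (j ''ᵁ U),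
      ← CommRingCat.comp_apply, ← Functor.map_comp]
    rfl
  have h' : (j.appIso U).inv (T.presheaf.map (homOfLE (le_top : U ≤ ⊤)).op (Coh.toGlobal (T ↘ Spec (CommRingCat.of A)) a)) =
      X.presheaf.map (homOfLE (le_top : j ''ᵁ U ≤ ⊤)).op (Coh.toGlobal (X ↘ Spec (CommRingCat.of A)) a) := by
    rw [h, Iso.hom_inv_id_apply]
  rw [← h']
  rfl

/-- Scalars on the derived category are images of scalars on complexes. -/
theorem Q_map_smul_id (C : CochainComplex X.Modules ℤ) (a : A) :
    DerivedCategory.Q.map (a • 𝟙 C) = a • 𝟙 (DerivedCategory.Q.obj C) := by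
  rw [Functor.map_smul, CategoryTheory.Functor.map_id]

/-- Derived restriction is linear. -/
theorem restrictD_map_smul_id (j : T ⟶ X) [IsOpenImmersion j] [j.IsOver (Spec (CommRingCat.of A))] (K : DCoh.D X)
    (a : A) : (DCoh.restrictD j).map (a • 𝟙 K) = a • 𝟙 ((DCoh.restrictD j).obj K) := by
  let C := DerivedCategory.Q.objPreimage K
  let e : DerivedCategory.Q.obj C ≅ K := DerivedCategory.Q.objObjPreimageIso K
  let η := (Scheme.Modules.restrictFunctor j).mapDerivedCategoryFactors
  have h1 : a • 𝟙 K = e.inv ≫ DerivedCategory.Q.map (a • 𝟙 C) ≫ e.hom := by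
    rw [Q_map_smul_id, Linear.smul_comp, Linear.comp_smul, Category.id_comp, Iso.inv_hom_id]
  have h2 : (DCoh.restrictD j).map (DerivedCategory.Q.map (a • 𝟙 C)) =
      a • 𝟙 ((DCoh.restrictD j).obj (DerivedCategory.Q.obj C)) := by
    have hn := η.hom.naturality (a • 𝟙 C)
    dsimp at hn
    rw [← cancel_mono (η.hom.app C), hn, Linear.smul_comp, Category.id_comp]
    rw [show ((Scheme.Modules.restrictFunctor j).mapHomologicalComplex (ComplexShape.up ℤ)).map (a • 𝟙 C) = a • 𝟙 _ from
      HomologicalComplex.hom_ext _ _ fun n => restrict_map_smul_id j (C.X n) a, Q_map_smul_id, Linear.comp_smul,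
      Category.comp_id]
  rw [h1, Functor.map_comp, Functor.map_comp, h2, Linear.smul_comp, Linear.comp_smul, Category.id_comp,
    ← Functor.map_comp, Iso.inv_hom_id, CategoryTheory.Functor.map_id]

/-- A scalar which is a unit on the scheme acts invertibly. -/
theorem isIso_smul_id (K : DCoh.D T) (a : A) (ha : IsUnit (Coh.toGlobal (T ↘ Spec (CommRingCat.of A)) a)) :
    IsIso (a • 𝟙 K) := by
  let C := DerivedCategory.Q.objPreimage K
  let e : DerivedCategory.Q.obj C ≅ K := DerivedCategory.Q.objObjPreimageIso K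
  obtain ⟨v, hv⟩ := ha
  haveI : IsIso (a • 𝟙 C) := by
    haveI : ∀ n, IsIso ((a • 𝟙 C).f n) := fun n => by
      show IsIso (a • 𝟙 (C.X n))
      rw [KLin.smul_id]
      exact ⟨⟨Formal.smulModΓ (C.X n) ↑v⁻¹,
        by rw [Formal.smulMod, ← hv, ← KLin.smulModΓ_mul, Units.mul_inv, KLin.smulModΓ_one],
        by rw [Formal.smulMod, ← hv, ← KLin.smulModΓ_mul, Units.inv_mul, KLin.smulModΓ_one]⟩⟩
    exact HomologicalComplex.Hom.isIso_of_components _
  rw [show a • 𝟙 K = e.inv ≫ DerivedCategory.Q.map (a • 𝟙 C) ≫ e.hom by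
    rw [Q_map_smul_id, Linear.smul_comp, Linear.comp_smul, Category.id_comp, Iso.inv_hom_id]]
  infer_instance

/-- `Rf_*` is linear. -/
theorem Rpush_map_smul_id (f : X ⟶ T) [f.IsOver (Spec (CommRingCat.of A))] [DCoh.HasRpush f] (K : DCoh.D X) (a : A) :
    (DCoh.Rpush f).map (a • 𝟙 K) = a • 𝟙 ((DCoh.Rpush f).obj K) := by
  obtain ⟨I, hI, -, ⟨e⟩⟩ := DCat.MV.exists_rep K
  let q := HomotopyCategory.quotient X.Modules (ComplexShape.up ℤ)
  let u := (DCoh.pushKh f).totalRightDerivedUnit DerivedCategory.Qh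
    (HomotopyCategory.quasiIso X.Modules (ComplexShape.up ℤ))
  haveI : IsIso (u.app (q.obj I)) := DCat.isIso_unit_of_kInj (DCat.modules_enoughKInj X) (DCoh.pushKh f) I hI
  have hp : (DCoh.pushKh f).map (q.map (a • 𝟙 I)) = a • 𝟙 ((DCoh.pushKh f).obj (q.obj I)) := by
    have hc : ((Scheme.Modules.pushforward f).mapHomologicalComplex (ComplexShape.up ℤ)).map (a • 𝟙 I) =
        a • 𝟙 _ := HomologicalComplex.hom_ext _ _ fun n => by
      show (Scheme.Modules.pushforward f).map (a • 𝟙 (I.X n)) = _
      rw [Functor.map_smul, CategoryTheory.Functor.map_id]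
      rfl
    have hn := (DerivedCategory.quotientCompQhIso T.Modules).hom.naturality
      (((Scheme.Modules.pushforward f).mapHomologicalComplex (ComplexShape.up ℤ)).map (a • 𝟙 I))
    dsimp at hn
    rw [← cancel_mono ((DerivedCategory.quotientCompQhIso T.Modules).hom.app
      (((Scheme.Modules.pushforward f).mapHomologicalComplex (ComplexShape.up ℤ)).obj I))]
    refine hn.trans ?_
    rw [hc, Q_map_smul_id, Linear.comp_smul, Category.comp_id, Linear.smul_comp]
    exact congrArg (a • ·) (Category.id_comp _).symm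
  have hR : (DCoh.Rpush f).map (DerivedCategory.Qh.map (q.map (a • 𝟙 I))) = a • 𝟙 _ := by
    have hn := u.naturality (q.map (a • 𝟙 I))
    rw [hp] at hn
    rw [← cancel_epi (u.app (q.obj I)), ← Functor.comp_map, ← hn, Linear.smul_comp, Category.id_comp,
      Linear.comp_smul]
    exact congrArg (a • ·) (Category.comp_id _).symm
  let d : DerivedCategory.Qh.obj (q.obj I) ≅ K := (DerivedCategory.quotientCompQhIso X.Modules).app I ≪≫ e
  have h1 : a • 𝟙 K = d.inv ≫ DerivedCategory.Qh.map (q.map (a • 𝟙 I)) ≫ d.hom := by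
    have hq : DerivedCategory.Qh.map (q.map (a • 𝟙 I)) ≫ d.hom = a • d.hom := by
      have hn := (DerivedCategory.quotientCompQhIso X.Modules).hom.naturality (a • 𝟙 I)
      dsimp at hn
      simp only [d, Iso.trans_hom, Iso.app_hom]
      rw [reassoc_of% hn, Q_map_smul_id, Linear.smul_comp, Category.id_comp, Linear.comp_smul]
    rw [hq, Linear.comp_smul, Iso.inv_hom_id]
  rw [h1, Functor.map_comp, Functor.map_comp, hR, Linear.smul_comp, Linear.comp_smul, Category.id_comp,
    ← Functor.map_comp, Iso.inv_hom_id, CategoryTheory.Functor.map_id]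

end Groth.Agent.Dual22Lib.ScalarD
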