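import Groth.Agent.Dual22Lib.SuppFactor
import Groth.Agent.Dual22Lib.PushPerf
import Groth.Agent.Dual22Lib.SupportAdj
import Groth.Agent.Dual22Lib.SumAdj
import Groth.Agent.Dual22Lib.PerfLiftMap
import Groth.Agent.S1098
import Groth.Agent.S1008

/-!
# The right adjoint of `Rf_*` respects supports when `Rf_*` preserves perfect objects
-/

set_option autoImplicit false
set_option backward.isDefEq.respectTransparency false
set_option backward.defeqAttrib.useBackward true
set_option linter.style.haveILetI false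
set_option linter.unusedSectionVars false
set_option synthInstance.maxHeartbeats 100000

universe u

open CategoryTheory CategoryTheory.Limits CategoryTheory.Pretriangulated AlgebraicGeometry
open Groth.Agent.DCat Groth.Agent.Dual22Lib.AdjGeom

attribute [local instance] HasDerivedCategory.standard
attribute [-instance] Int.instConditionallyCompleteLinearOrder

namespace Groth.Agent.Dual22Lib.SuppAdjPP

variable {X Y : Scheme.{u}}

/-- **Supports.** -/
theorem killed_rightAdjoint [IsNoetherian Y] (f : X ⟶ Y) [IsProper f] [DCoh.HasRpush f] (hpp : SumAdj.PP f)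
    (hf : DCoh.RpushPreservesQCoh f) (a : DCoh.DQCoh Y ⥤ DCoh.DQCoh X) (adj : DCoh.RpushQ f hf ⊣ a)
    (V : Y.Opens) (Q : DCoh.DQCoh Y) (hQ : killed V.ι Q.obj) : killed (f ⁻¹ᵁ V).ι (a.obj Q).obj := by
  haveI : IsLocallyNoetherian X := LocallyOfFiniteType.isLocallyNoetherian f
  haveI : CompactSpace X := QuasiCompact.compactSpace_of_compactSpace f
  haveI : IsNoetherian X := { }
  let U := f ⁻¹ᵁ V
  have hV : IsCompact (V : Set Y) := TopologicalSpace.NoetherianSpace.isCompact _
  have hU : IsCompact (U : Set X) := TopologicalSpace.NoetherianSpace.isCompact _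
  haveI : CompactSpace (U : Scheme.{u}) := isCompact_iff_compactSpace.1 hU
  haveI : QuasiCompact U.ι := quasiCompact_of_compactSpace U.ι
  haveI := DCat.hasRpush U.ι
  haveI := PullPerf.preservesFiniteLimits_restrict U.ι
  obtain ⟨au, hau⟩ := exists_adj U.ι
  haveI := hau
  obtain ⟨P, hP, hgen⟩ := S1008.result X
  let A := (a.obj Q).obj
  have hN : DCoh.IsQCohD ((DCoh.restrictD U.ι).obj A) := AdjGeom.isQCohD_restrictD U.ι (a.obj Q).property
  have key : ∀ (P₀ : DCoh.D X), DCoh.IsPerfect P₀ →
      ∀ φ : (DCoh.restrictD U.ι).obj P₀ ⟶ (DCoh.restrictD U.ι).obj A, φ = 0 := by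
    intro P₀ hP₀ φ
    obtain ⟨R, β, i, p, hR, -, -, hiβ⟩ := S1098.result X U hU Set.univ isClosed_univ (by simp) A
      (a.obj Q).property _ (PerfLift.isPerfect_restrictD U.ι hP₀) (fun _ _ _ => Set.mem_univ _) φ
    let R' : DCoh.DQCoh X := ⟨R, PerfLift.isQCohD_perfect hR⟩
    let β' : R' ⟶ a.obj Q := ObjectProperty.homMk β
    obtain ⟨S, g, h, hS, hSk, hgh⟩ := SuppFactor.exists_factor V hV (hpp R hR) Q.property hQ
      ((adj.homEquiv _ _).symm β').hom
    let S' : DCoh.DQCoh Y := ⟨S, PerfLift.isQCohD_perfect hS⟩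
    let g' : (DCoh.RpushQ f hf).obj R' ⟶ S' := ObjectProperty.homMk g
    let h' : S' ⟶ Q := ObjectProperty.homMk h
    have hβ : adj.homEquiv _ _ g' ≫ a.map h' = β' := by
      rw [← adj.homEquiv_naturality_right, show g' ≫ h' = (adj.homEquiv _ _).symm β' from
        ObjectProperty.hom_ext _ hgh, Equiv.apply_symm_apply]
    obtain ⟨c, hc⟩ := PushPerf.exists_isGE_perfect hS
    haveI := hc
    have hz : IsZero ((DCoh.restrictD U.ι).obj (a.obj S').obj) := SupportAdj.killed_rep f V S c
      S'.property hSk (a.obj S').obj (adj.counit.app S').hom (a.obj S').property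
      (fun K hK => SupportAdj.rep_counit f hf a adj S' K hK)
    rw [← hiβ]
    have hb : β = (adj.homEquiv _ _ g').hom ≫ (a.map h').hom := congrArg InducedCategory.Hom.hom hβ.symm
    rw [hb, Functor.map_comp, show (DCoh.restrictD U.ι).map (adj.homEquiv _ _ g').hom = 0 from hz.eq_of_tgt _ _,
      zero_comp, comp_zero]
  let N := (DCoh.restrictD U.ι).obj A
  have hz : IsZero ((DCoh.Rpush U.ι).obj N) :=
    (hgen _ (DQCoh.isQCohD_Rpush U.ι N hN)).2 fun n φ => by
      apply (au.homEquiv _ _).symm.injective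
      rw [key _ (PCTriangle.perfect_shift hP n) ((au.homEquiv _ _).symm φ)]
      exact (key _ (PCTriangle.perfect_shift hP n) _).symm
  exact ((DCoh.restrictD U.ι).map_isZero hz).of_iso (asIso (au.counit.app N)).symm

end Groth.Agent.Dual22Lib.SuppAdjPP
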