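import Groth.Agent.Dual22Lib.LocGenQC
import Groth.Agent.Dual22Lib.CompactPerf
import Groth.Agent.Dual22Lib.PerfGen
import Groth.Agent.Dual22Lib.PerfSupp

/-!
# Maps from perfect objects to supported objects factor through supported perfect objects
-/

set_option autoImplicit false
set_option backward.isDefEq.respectTransparency false
set_option backward.defeqAttrib.useBackward true
set_option linter.style.haveILetI false
set_option linter.unusedSectionVars false
set_option synthInstance.maxHeartbeats 100000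

universe u

open CategoryTheory CategoryTheory.Limits CategoryTheory.Pretriangulated AlgebraicGeometry
open Groth.Agent.DCat Groth.Agent.Dual22Lib.AdjGeom

attribute [local instance] HasDerivedCategory.standard
attribute [-instance] Int.instConditionallyCompleteLinearOrder
open scoped ZeroObject

namespace Groth.Agent.Dual22Lib.SuppFactor

variable {X : Scheme.{u}}

/-- Quasi-coherent objects killed on an open. -/
def suppQ (V : X.Opens) : ObjectProperty (DCoh.D X) := fun K => DCoh.IsQCohD K ∧ killed V.ι K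

/-- Perfect objects killed on an open. -/
def suppP (V : X.Opens) : ObjectProperty (DCoh.D X) := fun K => DCoh.IsPerfect K ∧ killed V.ι K

theorem killed_obj₂ (V : X.Opens) {T : Triangle (DCoh.D X)} (hT : T ∈ distTriang _) (h₁ : killed V.ι T.obj₁)
    (h₃ : killed V.ι T.obj₃) : killed V.ι T.obj₂ := by
  haveI := PullPerf.preservesFiniteLimits_restrict V.ι
  exact Triangle.isZero₂_of_isZero₁₃ _ ((DCoh.restrictD V.ι).map_distinguished _ hT) h₁ h₃

instance isClosedUnderIsomorphisms_suppQ (V : X.Opens) : (suppQ V).IsClosedUnderIsomorphisms :=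
  ⟨fun e h => ⟨DQCoh.isQCohD_of_iso e h.1, PerfSupp.killed_iso e h.2⟩⟩

instance isTriangulated_suppQ (V : X.Opens) : (suppQ V).IsTriangulated := by
  haveI : (suppQ V).IsStableUnderShift ℤ :=
    ⟨fun n => ⟨fun K h => ⟨DQCoh.isQCohD_shift h.1 n, PerfSupp.killed_shift V.ι h.2 n⟩⟩⟩
  haveI : (suppQ V).ContainsZero :=
    ⟨⟨0, isZero_zero _, isQCohD_isZero (isZero_zero _), (DCoh.restrictD V.ι).map_isZero (isZero_zero _)⟩⟩
  haveI : (suppQ V).IsTriangulatedClosed₂ := ObjectProperty.IsTriangulatedClosed₂.mk' fun T hT h₁ h₃ =>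
    ⟨DQCoh.isQCohD_obj₃ (inv_rot_of_distTriang T hT) (DQCoh.isQCohD_shift h₃.1 (-1)) h₁.1,
      killed_obj₂ V hT h₁.2 h₃.2⟩
  exact { }

instance isClosedUnderIsomorphisms_suppP (V : X.Opens) : (suppP V).IsClosedUnderIsomorphisms :=
  ⟨fun e h => ⟨PCTriangle.perfect_iso e h.1, PerfSupp.killed_iso e h.2⟩⟩

instance isTriangulated_suppP (V : X.Opens) : (suppP V).IsTriangulated := by
  haveI : (suppP V).IsStableUnderShift ℤ :=
    ⟨fun n => ⟨fun K h => ⟨PCTriangle.perfect_shift h.1 n, PerfSupp.killed_shift V.ι h.2 n⟩⟩⟩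
  haveI : (suppP V).ContainsZero :=
    ⟨⟨0, isZero_zero _, PerfLift.isPerfect_isZero (isZero_zero _), (DCoh.restrictD V.ι).map_isZero (isZero_zero _)⟩⟩
  haveI : (suppP V).IsTriangulatedClosed₂ := ObjectProperty.IsTriangulatedClosed₂.mk' fun T hT h₁ h₃ =>
    ⟨(PCTriangle.perfect_two_out_of_three hT).2.1 h₁.1 h₃.1, killed_obj₂ V hT h₁.2 h₃.2⟩
  exact { }

/-- `α` factors through a perfect object killed on `V`. -/
def Fac (V : X.Opens) {R Q : DCoh.D X} (α : R ⟶ Q) : Prop :=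
  ∃ (S : DCoh.D X) (g : R ⟶ S) (h : S ⟶ Q), suppP V S ∧ g ≫ h = α

theorem Fac.add {V : X.Opens} {R Q : DCoh.D X} {α β : R ⟶ Q} (hα : Fac V α) (hβ : Fac V β) : Fac V (α + β) := by
  obtain ⟨S, g, h, hS, rfl⟩ := hα
  obtain ⟨S', g', h', hS', rfl⟩ := hβ
  exact ⟨S ⊞ S', biprod.lift g g', biprod.desc h h',
    ObjectProperty.ext_of_isTriangulatedClosed₂ _ _ (binaryBiproductTriangle_distinguished S S') hS hS',
    biprod.lift_desc⟩

theorem fac_zero (V : X.Opens) (R Q : DCoh.D X) : Fac V (0 : R ⟶ Q) :=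
  ⟨0, 0, 0, ⟨PerfLift.isPerfect_isZero (isZero_zero _), (DCoh.restrictD V.ι).map_isZero (isZero_zero _)⟩, comp_zero⟩

/-- All maps from perfect objects into `Q` factor through supported perfect objects. -/
def AllFac (V : X.Opens) (Q : DCoh.D X) : Prop :=
  ∀ R : DCoh.D X, DCoh.IsPerfect R → ∀ α : R ⟶ Q, Fac V α

theorem allFac_iso {V : X.Opens} {Q Q' : DCoh.D X} (e : Q ≅ Q') (h : AllFac V Q) : AllFac V Q' := fun R hR α => by
  obtain ⟨S, g, q, hS, hgq⟩ := h R hR (α ≫ e.inv)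
  exact ⟨S, g, q ≫ e.hom, hS, by simp [reassoc_of% hgq]⟩

theorem allFac_shift {V : X.Opens} {Q : DCoh.D X} (h : AllFac V Q) (n : ℤ) : AllFac V (Q⟦n⟧) := fun R hR φ => by
  let i := (shiftFunctorCompIsoId (DCoh.D X) n (-n) (by omega)).app Q
  obtain ⟨S, g, q, hS, hgq⟩ := h _ (PCTriangle.perfect_shift hR (-n)) (φ⟦-n⟧' ≫ i.hom)
  let jR := (shiftFunctorCompIsoId (DCoh.D X) (-n) n (by omega)).app R
  refine ⟨S⟦n⟧, jR.inv ≫ g⟦n⟧', q⟦n⟧', (suppP V).le_shift n _ hS, ?_⟩
  rw [Category.assoc, ← Functor.map_comp, hgq, Functor.map_comp, Iso.inv_comp_eq]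
  have := (shiftFunctorCompIsoId (DCoh.D X) (-n) n (by omega)).hom.naturality φ
  dsimp at this
  simp only [i, jR, Iso.app_hom]
  rw [shift_shiftFunctorCompIsoId_hom_app]
  exact this

theorem allFac_obj₂ {V : X.Opens} {T : Triangle (DCoh.D X)} (hT : T ∈ distTriang _) (h₁ : AllFac V T.obj₁)
    (h₃ : AllFac V T.obj₃) : AllFac V T.obj₂ := fun C hC φ => by
  obtain ⟨W', c, d, hW, hcd⟩ := h₃ C hC (φ ≫ T.mor₂)
  obtain ⟨C', u, w, hu⟩ := distinguished_cocone_triangle₁ c
  obtain ⟨g, hg⟩ := Triangle.coyoneda_exact₂ _ hT (u ≫ φ) (by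
    rw [Category.assoc, ← hcd, ← Category.assoc,
      show u ≫ c = 0 from comp_distTriang_mor_zero₁₂ _ hu, zero_comp])
  obtain ⟨E', g₁, g₂, hE', hgg⟩ := h₁ C' (PerfLift.isPerfect_fibre hu hC hW.1) g
  let v := biprod.lift g₁ u
  obtain ⟨E'', e, δ, hv⟩ := distinguished_cocone_triangle v
  obtain ⟨ψ, hψ⟩ := Triangle.yoneda_exact₂ _ hv (biprod.desc (g₂ ≫ T.mor₁) (-φ)) (by
    simp [v, ← hg, reassoc_of% hgg])
  have h23 := rot_of_distTriang _ (binaryBiproductTriangle_distinguished E' C)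
  let o := Triangulated.someOctahedron (show v ≫ biprod.snd = u from biprod.lift_snd _ _) hv h23 hu
  refine ⟨E'', -(biprod.inr ≫ e), ψ, ?_, ?_⟩
  · exact ObjectProperty.ext_of_isTriangulatedClosed₁ _ _ o.mem hW ((suppP V).le_shift 1 _ hE')
  · dsimp at hψ
    rw [Preadditive.neg_comp, Category.assoc, ← hψ, biprod.inr_desc, neg_neg]

theorem allFac_obj₃ {V : X.Opens} {T : Triangle (DCoh.D X)} (hT : T ∈ distTriang _) (h₁ : AllFac V T.obj₁)
    (h₂ : AllFac V T.obj₂) : AllFac V T.obj₃ :=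
  allFac_obj₂ (rot_of_distTriang _ hT) h₂ (allFac_shift h₁ 1)

/-- **Factorisation.** -/
theorem exists_factor [CompactSpace X] [QuasiSeparatedSpace X] (V : X.Opens) (hV : IsCompact (V : Set X))
    {R Q : DCoh.D X} (hR : DCoh.IsPerfect R) (hQ : DCoh.IsQCohD Q) (hk : killed V.ι Q) (α : R ⟶ Q) :
    ∃ (S : DCoh.D X) (g : R ⟶ S) (h : S ⟶ Q), DCoh.IsPerfect S ∧ killed V.ι S ∧ g ≫ h = α := by
  classical
  haveI : HasCoproducts.{u} (DCoh.D X) := fun J => hasCoproductsOfShape_derived enoughKInj_of_isGrothendieckAbelian J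
  haveI : CompactSpace (V : Scheme.{u}) := isCompact_iff_compactSpace.1 hV
  haveI : QuasiCompact V.ι := quasiCompact_of_compactSpace V.ι
  haveI := DCat.hasRpush V.ι
  haveI := PullPerf.preservesFiniteLimits_restrict V.ι
  obtain ⟨adj, hadj⟩ := exists_adj V.ι
  obtain ⟨G, hG, hGk, hgen⟩ := PerfGen.gen V hV
  have key : AllFac V Q := LocGenQC.localizing_D (suppQ V) (fun J K hK => ?_) G ⟨PerfLift.isQCohD_perfect hG, hGk⟩
    (fun J K hK => GenEnv.sumFac_perfect hG J K fun j => (hK j).1)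
    (fun E hE h => hgen E hE.1 hE.2 h) (AllFac V) (fun e h => allFac_iso e h)
    (fun T hT _ _ h₁ h₂ => allFac_obj₃ hT h₁ h₂) (fun J K hK hP R' hR' β => ?_)
    (fun n R' _ β => ⟨_, β, 𝟙 _, ⟨PCTriangle.perfect_shift hG n, PerfSupp.killed_shift V.ι hGk n⟩, Category.comp_id _⟩)
    Q ⟨hQ, hk⟩
  · obtain ⟨S, g, h, hS, hgh⟩ := key R hR α
    exact ⟨S, g, h, hS.1, hS.2, hgh⟩
  · refine ⟨DQCoh.isQCohD_sigma K fun j => (hK j).1, ?_⟩
    refine (IsZero.iff_id_eq_zero _).2 ((adj.homEquiv _ _).injective (Sigma.hom_ext _ _ fun j => ?_))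
    apply (adj.homEquiv _ _).symm.injective
    exact (hK j).2.eq_of_src _ _
  · obtain ⟨s, hs⟩ := GenEnv.sumFac_perfect hR' J K (fun j => (hK j).1) β
    let π : ∀ k, ∐ K ⟶ K k := fun k => Sigma.desc fun j => if hjk : j = k then eqToHom (congrArg K hjk) else 0
    have hπ : ∀ j k, Sigma.ι K j ≫ π k = if hjk : j = k then eqToHom (congrArg K hjk) else 0 := fun j k =>
      Sigma.ι_desc _ _
    have hπ' : ∀ j k, Sigma.ι K j ≫ π k ≫ Sigma.ι K k = if j = k then Sigma.ι K j else 0 := fun j k => by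
      rw [← Category.assoc, hπ]
      split_ifs with h
      · subst h
        simp
      · simp
    have e : DQCoh.subSum K s = ∑ k ∈ s, π k ≫ Sigma.ι K k := Sigma.hom_ext _ _ fun j => by
      rw [DQCoh.ι_subSum, Preadditive.comp_sum, Finset.sum_congr rfl fun k _ => hπ' j k, Finset.sum_ite_eq]
    rw [← hs, e, Preadditive.comp_sum]
    refine Finset.sum_induction _ (Fac V) (fun _ _ h h' => h.add h') (fac_zero V _ _) fun k _ => ?_
    obtain ⟨S, g, h, hS, hgh⟩ := hP k R' hR' (β ≫ π k)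
    exact ⟨S, g, h ≫ Sigma.ι K k, hS, by rw [reassoc_of% hgh]⟩

end Groth.Agent.Dual22Lib.SuppFactor
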