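import Groth.Agent.Dual22Lib.TorAmpRestrict
import Groth.Agent.DCat.LTensorCx

/-!
# Tor amplitude of a tensor product over a bigger ring
-/

set_option autoImplicit false
set_option backward.isDefEq.respectTransparency false
set_option backward.defeqAttrib.useBackward true
set_option linter.style.haveILetI false
set_option synthInstance.maxHeartbeats 100000

universe u

open CategoryTheory CategoryTheory.Limits MonoidalCategory HomologicalComplex
open Groth.Agent.DCat

attribute [local instance] HasDerivedCategory.standard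
attribute [-instance] Int.instConditionallyCompleteLinearOrder

namespace Groth.Agent.Dual22Lib.TorAmpTensor

variable {R R' : Type u} [CommRing R] [CommRing R'] (φ : R →+* R')

theorem amp_tensor (T L : DRing.Cx R') (a b c d : ℤ) (hT : DRing.VanishesOutside T a b) (hTf : DRing.TermwiseFlat T)
    (hL : DRing.HasTorAmplitudeIn R c d
      (DRing.toD (((ModuleCat.restrictScalars.{u} φ).mapHomologicalComplex (ComplexShape.up ℤ)).obj L))) :
    DRing.HasTorAmplitudeIn R (a + c) (b + d)
      (DRing.toD (((ModuleCat.restrictScalars.{u} φ).mapHomologicalComplex (ComplexShape.up ℤ)).obj (tot (modT R') T L))) := by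
  haveI : ∀ M : ModuleCat.{u} R, DRing.HasLTensor R M := fun M => DCat.hasLTensor M
  haveI : (ModuleCat.extendScalars.{u, u, u} φ).Additive :=
    (ModuleCat.extendRestrictScalarsAdj φ).left_adjoint_additive
  let r := ModuleCat.restrictScalars.{u} φ
  let K := (r.mapHomologicalComplex (ComplexShape.up ℤ)).obj (tot (modT R') T L)
  refine DCat.flatAmp_of_vanish fun M i hi => ?_
  obtain ⟨N, q, hN, -, hq, -⟩ := exists_kflat K
  haveI := hq
  rw [DCat.isZero_ltensor_iff M hN (asIso (DerivedCategory.Q.map q)) i]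
  obtain ⟨s⟩ := exists_tot_single_iso (T := modT R) N M
  obtain ⟨Q, g, hQ, -, hg, hQb⟩ := exists_kflat_le ((single (ModuleCat.{u} R) (ComplexShape.up ℤ) 0).obj M) 0
    (fun n hn => isZero_single_obj_X _ _ _ _ (by omega))
  haveI := hg
  refine HomologicalComplex.ExactAt.of_iso ?_ s.symm
  haveI := RelTorDim.quasiIso_totMap₂ g hN
  refine (quasiIsoAt_iff_exactAt (totMap₂ (modT R) N g) i ?_).1 inferInstance
  haveI := RelTorDim.quasiIso_totMap₁ q hQ
  refine (quasiIsoAt_iff_exactAt' (totMap₁ (modT R) q Q) i ?_).1 inferInstance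
  let E : DRing.Cx R' := ((ModuleCat.extendScalars.{u, u, u} φ).mapHomologicalComplex (ComplexShape.up ℤ)).obj Q
  suffices h : (tot (modT R') (tot (modT R') T L) E).ExactAt i by
    have h' : ((r.mapHomologicalComplex (ComplexShape.up ℤ)).obj (tot (modT R') (tot (modT R') T L) E)).ExactAt i := by
      rw [HomologicalComplex.exactAt_iff] at h ⊢
      exact (ShortComplex.exact_map_iff_of_faithful _ r).2 h
    exact h'.of_iso (totExtIso φ (tot (modT R') T L) Q)
  refine HomologicalComplex.ExactAt.of_iso ?_ (α_ T L E).symm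
  let W : DRing.Cx R' := tot (modT R') L E
  have hWz : ∀ k, (k < c ∨ d < k) → W.ExactAt k := fun k hk =>
    RelTorDim.exactAt_tot_ext φ L c d hL hQ g (fun n hn => isZero_single_obj_X _ _ _ _ hn) k hk
  haveI : W.IsGE c := (CochainComplex.isGE_iff _ _).2 fun n hn => hWz n (Or.inl hn)
  haveI : W.IsLE d := (CochainComplex.isLE_iff _ _).2 fun n hn => hWz n (Or.inr hn)
  haveI : (W.truncGE c).IsLE d := (CochainComplex.isLE_iff _ _).2 fun n hn =>
    (quasiIsoAt_iff_exactAt (W.πTruncGE c) n (hWz n (Or.inr hn))).1 inferInstance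
  have hTk : IsKFlatFor (modT R') T := DCat.isKFlatFor_of_vanishesAbove T b (fun n hn => hT n (Or.inr hn)) hTf
  haveI := RelTorDim.quasiIso_totMap₂ (W.πTruncGE c) hTk
  refine (quasiIsoAt_iff_exactAt' (totMap₂ (modT R') T (W.πTruncGE c)) i ?_).1 inferInstance
  haveI := RelTorDim.quasiIso_totMap₂ ((W.truncGE c).ιTruncLE d) hTk
  refine (quasiIsoAt_iff_exactAt (totMap₂ (modT R') T ((W.truncGE c).ιTruncLE d)) i ?_).1 inferInstance
  rw [HomologicalComplex.exactAt_iff]
  refine ShortComplex.exact_of_isZero_X₂ _ ((IsZero.iff_id_eq_zero _).2 ?_)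
  refine HomologicalComplex.mapBifunctor.hom_ext fun p q' hpq => IsZero.eq_of_src ?_ _ _
  have hpq' : p + q' = i := hpq
  by_cases hp : p < a ∨ b < p
  · exact Functor.map_isZero ((modT R').flip.obj _) (hT p hp)
  · refine Functor.map_isZero ((modT R').obj (T.X p)) ?_
    by_cases hq' : q' < c
    · exact CochainComplex.isZero_of_isStrictlyGE _ c q' hq'
    · exact CochainComplex.isZero_of_isStrictlyLE _ d q' (by omega)

end Groth.Agent.Dual22Lib.TorAmpTensor
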