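import Groth.Agent.Dual22Lib.TorAmpRestrict
import Groth.Agent.FlatCx12.PerfectHom
import Mathlib.CategoryTheory.Abelian.Projective.Extend

/-!
# Tor dimension of a module is tor amplitude
-/

set_option autoImplicit false
set_option backward.isDefEq.respectTransparency false
set_option backward.defeqAttrib.useBackward true
set_option linter.style.haveILetI false
set_option synthInstance.maxHeartbeats 100000

universe u

open CategoryTheory CategoryTheory.Limits MonoidalCategory HomologicalComplex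
open Groth.Agent.DCat

attribute [local instance] HasDerivedCategory.standard
attribute [-instance] Int.instConditionallyCompleteLinearOrder

namespace Groth.Agent.Dual22Lib.TorDimEquiv

variable {R : Type u} [CommRing R]

theorem exactAt_iff_of_iso {K L : DRing.Cx R} (e : K ≅ L) (i : ℤ) : K.ExactAt i ↔ L.ExactAt i :=
  ⟨fun h => h.of_iso e, fun h => h.of_iso e.symm⟩

theorem exactAt_iff_of_qis {K L : DRing.Cx R} (f : K ⟶ L) [QuasiIso f] (i : ℤ) : K.ExactAt i ↔ L.ExactAt i :=
  ⟨fun h => (quasiIsoAt_iff_exactAt f i h).1 inferInstance, fun h => (quasiIsoAt_iff_exactAt' f i h).1 inferInstance⟩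

/-- `Tor_p(M, N)` vanishes iff `H^{-p}(M ⊗^L N)` does, for `p ≥ 1`. -/
theorem isZero_iff_tor (M N : Type u) [AddCommGroup M] [Module R M] [AddCommGroup N] [Module R N]
    [DRing.HasLTensor R (ModuleCat.of R N)] (k : ℕ) :
    IsZero ((DerivedCategory.homologyFunctor (ModuleCat.{u} R) (-((k + 1 : ℕ) : ℤ))).obj
        ((DRing.LTensor R (ModuleCat.of R N)).obj (Dual.inD R M))) ↔
      Subsingleton (DRing.Tor R (k + 1) M N) := by
  let Pr := projectiveResolution (ModuleCat.of R N)
  let F₁ := (MonoidalCategory.tensoringLeft (ModuleCat.{u} R)).obj (ModuleCat.of R M)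
  let Q : DRing.Cx R := Pr.cochainComplex
  let sM : DRing.Cx R := (single (ModuleCat.{u} R) (ComplexShape.up ℤ) 0).obj (ModuleCat.of R M)
  let sN : DRing.Cx R := (single (ModuleCat.{u} R) (ComplexShape.up ℤ) 0).obj (ModuleCat.of R N)
  have hQf : DRing.TermwiseFlat Q := fun i => by
    have : Module.Projective R (Q.X i) :=
      (IsProjective.iff_projective _).2 (inferInstanceAs (Projective (Pr.cochainComplex.X i)))
    infer_instance
  have hQ : IsKFlatFor (modT R) Q := DCat.isKFlatFor_of_vanishesAbove Q 0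
    (fun i hi => CochainComplex.isZero_of_isStrictlyLE Pr.cochainComplex 0 i hi) hQf
  let g : Q ⟶ sN := Pr.π'
  haveI : QuasiIso g := inferInstanceAs (QuasiIso Pr.π')
  obtain ⟨T, c, hT, -, hc, -⟩ := exists_kflat sM
  haveI := hc
  rw [DCat.isZero_ltensor_iff _ hT (asIso (DerivedCategory.Q.map c) ≪≫
    ((DerivedCategory.singleFunctorIsoCompQ (ModuleCat.{u} R) 0).app (ModuleCat.of R M)).symm)]
  obtain ⟨s⟩ := exists_tot_single_iso (T := modT R) T (ModuleCat.of R N)
  obtain ⟨s'⟩ := exists_tot_single_iso (T := modT R) Q (ModuleCat.of R M)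
  haveI := RelTorDim.quasiIso_totMap₂ g hT
  haveI := RelTorDim.quasiIso_totMap₁ c hQ
  rw [exactAt_iff_of_iso (L := tot (modT R) T sN)]
  swap
  · first | exact s | exact s.symm
  rw [← exactAt_iff_of_qis (totMap₂ (modT R) T g), exactAt_iff_of_qis (totMap₁ (modT R) c Q),
    exactAt_iff_of_iso (totSymm sM Q), exactAt_iff_of_iso (L := DRing.tensorCx Q (ModuleCat.of R M))]
  swap
  · first | exact s' | exact s'.symm
  have hTor : Subsingleton (DRing.Tor R (k + 1) M N) ↔ IsZero ((F₁.leftDerived (k + 1)).obj (ModuleCat.of R N)) :=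
    ⟨fun h => @ModuleCat.isZero_of_subsingleton R _ _ h, fun h => ModuleCat.subsingleton_of_isZero h⟩
  rw [hTor, Iso.isZero_iff (Pr.isoLeftDerivedObj F₁ (k + 1)), HomologicalComplex.homologyFunctor_obj,
    ← HomologicalComplex.exactAt_iff_isZero_homology,
    HomologicalComplex.exactAt_iff' _ (k + 2) (k + 1) k (by simp) (by simp),
    HomologicalComplex.exactAt_iff' (i := -((k + 2 : ℕ) : ℤ)) (j := -((k + 1 : ℕ) : ℤ))
      (k := -((k : ℕ) : ℤ)) _ (by simp; omega) (by simp)]
  refine ShortComplex.exact_iff_of_iso ?_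
  refine (tensorRight (ModuleCat.of R M)).mapShortComplex.mapIso
    (ShortComplex.isoMk (S₁ := Pr.cochainComplex.sc' (-((k + 2 : ℕ) : ℤ)) (-((k + 1 : ℕ) : ℤ)) (-((k : ℕ) : ℤ)))
      (S₂ := Pr.complex.sc' (k + 2) (k + 1) k)
      (Pr.cochainComplexXIso _ (k + 2)) (Pr.cochainComplexXIso _ (k + 1)) (Pr.cochainComplexXIso _ k)
      ?_ ?_) ≪≫ ?_
  · show _ ≫ Pr.complex.d (k + 2) (k + 1) = Pr.cochainComplex.d _ _ ≫ _
    rw [Pr.cochainComplex_d _ _ (k + 2) (k + 1)]
    simp
  · show _ ≫ Pr.complex.d (k + 1) k = Pr.cochainComplex.d _ _ ≫ _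
    rw [Pr.cochainComplex_d _ _ (k + 1) k]
    simp
  · exact ShortComplex.mapNatIso _ (BraidedCategory.tensorLeftIsoTensorRight (ModuleCat.of R M)).symm

/-- Tor dimension `≤ d` is tor amplitude in `[-d, 0]`. -/
theorem torDimLE_iff (M : Type u) [AddCommGroup M] [Module R M] (d : ℕ) :
    DRing.HasTorDimLE R d M ↔ DRing.HasTorAmplitudeIn R (-(d : ℤ)) 0 (Dual.inD R M) := by
  haveI : ∀ N : ModuleCat.{u} R, DRing.HasLTensor R N := fun N => DCat.hasLTensor N
  constructor
  · intro h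
    refine DCat.flatAmp_of_vanish fun N i hi => ?_
    obtain hi | hi := hi
    · obtain ⟨k, rfl, hk⟩ : ∃ k : ℕ, i = -((k + 1 : ℕ) : ℤ) ∧ d < k + 1 := ⟨(-i - 1).toNat, by omega, by omega⟩
      exact (isZero_iff_tor M N k).2 (h N (k + 1) hk)
    · let T₀ : DRing.Cx R := (single (ModuleCat.{u} R) (ComplexShape.up ℤ) 0).obj (ModuleCat.of R M)
      obtain ⟨P, c, hP, -, hc, hPb⟩ := exists_kflat_le T₀ 0 (fun n hn => isZero_single_obj_X _ _ _ _ (by omega))
      haveI := hc
      rw [DCat.isZero_ltensor_iff _ hP (asIso (DerivedCategory.Q.map c) ≪≫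
        ((DerivedCategory.singleFunctorIsoCompQ (ModuleCat.{u} R) 0).app (ModuleCat.of R M)).symm)]
      exact HomologicalComplex.ExactAt.of_isZero ((tensorRight N).map_isZero (hPb i hi))
  · intro h N _ _ p hp
    obtain ⟨k, rfl⟩ : ∃ k, p = k + 1 := ⟨p - 1, by omega⟩
    obtain ⟨T, hT, hTf, ⟨e⟩⟩ := h
    refine (isZero_iff_tor M N k).1 ?_
    rw [DCat.isZero_ltensor_iff _ (DCat.isKFlatFor_of_vanishesAbove T 0 (fun n hn => hT n (Or.inr hn)) hTf) e]
    exact HomologicalComplex.ExactAt.of_isZero ((tensorRight _).map_isZero (hT _ (Or.inl (by omega))))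

/-- A module of amplitude `[0, 0]` is flat. -/
theorem flat_of_amp_zero (M : Type u) [AddCommGroup M] [Module R M]
    (h : DRing.HasTorAmplitudeIn R 0 0 (Dual.inD R M)) : Module.Flat R M := by
  obtain ⟨E, hE, hEf, ⟨e⟩⟩ := h
  haveI : E.IsStrictlyLE 0 := (CochainComplex.isStrictlyLE_iff _ _).2 fun n hn => hE n (Or.inr hn)
  haveI : E.IsStrictlyGE 0 := (CochainComplex.isStrictlyGE_iff _ _).2 fun n hn => hE n (Or.inl hn)
  obtain ⟨Z, ⟨i⟩⟩ := CochainComplex.exists_iso_single E 0
  let a : (DerivedCategory.singleFunctor (ModuleCat.{u} R) 0).obj (ModuleCat.of R M) ≅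
      (DerivedCategory.singleFunctor (ModuleCat.{u} R) 0).obj Z :=
    e.symm ≪≫ DerivedCategory.Q.mapIso i ≪≫ ((DerivedCategory.singleFunctorIsoCompQ (ModuleCat.{u} R) 0).app Z).symm
  let b := (DerivedCategory.singleFunctor (ModuleCat.{u} R) 0).preimageIso a ≪≫
    ((singleObjXSelf (ComplexShape.up ℤ) 0 Z).symm ≪≫ (HomologicalComplex.Hom.isoApp i 0).symm)
  haveI := hEf 0
  exact Module.Flat.of_linearEquiv b.toLinearEquiv

end Groth.Agent.Dual22Lib.TorDimEquiv
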