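import Groth.Agent.DQCoh.PerfectHom
import Groth.Agent.QCohLoc.Basic
import Groth.Agent.Coherent.QcohSections
import Groth.Prelude.Def_KLin
import Mathlib.Algebra.Homology.ShortComplex.Linear
import Groth.Prelude.Def_CohB1

/-!
# Maps from perfect objects into objects supported on a zero locus are torsion
-/

set_option autoImplicit false
set_option backward.isDefEq.respectTransparency false
set_option backward.defeqAttrib.useBackward true
set_option linter.style.haveILetI false
set_option linter.unusedSectionVars false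
set_option synthInstance.maxHeartbeats 100000

universe u

open CategoryTheory CategoryTheory.Limits CategoryTheory.Pretriangulated AlgebraicGeometry Opposite TopologicalSpace
open Groth.Agent.SiteDer16 Groth.Agent.DCat Groth.Agent.Coherent

attribute [local instance] HasDerivedCategory.standard
attribute [-instance] Int.instConditionallyCompleteLinearOrder

namespace Groth.Agent.Dual22Lib.Torsion

variable (A : Type u) [CommRing A] {X : Scheme.{u}} [X.Over (Spec (CommRingCat.of A))]

/-- Cohomology sheaves are linear in the scalars. -/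
theorem homologyMap_smul_id (a : A) (K : DCoh.D X) (i : ℤ) :
    (DerivedCategory.homologyFunctor X.Modules i).map (a • 𝟙 K) =
      a • 𝟙 ((DerivedCategory.homologyFunctor X.Modules i).obj K) := by
  let C := DerivedCategory.Q.objPreimage K
  let e : DerivedCategory.Q.obj C ≅ K := DerivedCategory.Q.objObjPreimageIso K
  let η := DerivedCategory.homologyFunctorFactors X.Modules i
  have h1 : a • 𝟙 K = e.inv ≫ DerivedCategory.Q.map (a • 𝟙 C) ≫ e.hom := by
    rw [Functor.map_smul, CategoryTheory.Functor.map_id, Linear.smul_comp, Linear.comp_smul, Category.id_comp,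
      Iso.inv_hom_id]
  have h2 : (DerivedCategory.homologyFunctor X.Modules i).map (DerivedCategory.Q.map (a • 𝟙 C)) =
      a • 𝟙 _ := by
    have hn := η.hom.naturality (a • 𝟙 C)
    dsimp at hn
    rw [← cancel_mono (η.hom.app C), hn, Linear.smul_comp, Category.id_comp]
    rw [show HomologicalComplex.homologyMap (a • 𝟙 C) i = a • 𝟙 (C.homology i) from by
      rw [← HomologicalComplex.homologyMap_id C i]
      exact ShortComplex.homologyMap_smul ((HomologicalComplex.shortComplexFunctor X.Modules _ i).map (𝟙 C)) a]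
    rw [Linear.comp_smul, Category.comp_id]
  rw [h1, Functor.map_comp, Functor.map_comp, h2, Linear.smul_comp, Linear.comp_smul, Category.id_comp,
    ← Functor.map_comp, Iso.inv_hom_id, CategoryTheory.Functor.map_id]

/-- The scalar, as a function on an open. -/
noncomputable def res (a : A) (U : X.Opens) : Γ(X, U) :=
  X.presheaf.map (homOfLE (le_top : U ≤ ⊤)).op (Coh.toGlobal (X ↘ Spec (CommRingCat.of A)) a)

theorem res_pow (a : A) (n : ℕ) (U : X.Opens) : res A (a ^ n) U = (res A a U) ^ n := by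
  rw [res, res, map_pow]
  exact map_pow _ _ _

/-- Sections of a quasi-coherent module supported in the zero locus are torsion. -/
theorem exists_pow_smul_section (a : A) (M : X.Modules) (hM : Coh.IsQCoh M)
    (hsupp : CohB1.support M ⊆ (X.zeroLocus (U := ⊤) {Coh.toGlobal (X ↘ Spec (CommRingCat.of A)) a} : Set X))
    {U : X.Opens} (hU : IsAffineOpen U) (t : Γ(M, U)) : ∃ n : ℕ, res A (a ^ n) U • t = 0 := by
  haveI := hM
  obtain ⟨n, hn⟩ := QCohLoc.exists_pow_smul_eq_zero M hU (res A a U) t (by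
    have hs : ∀ x ∈ X.basicOpen (res A a U), Subsingleton (M.presheaf.stalk x) := by
      intro x hx
      by_contra hns
      have := (X.mem_zeroLocus_iff _ x).1 (hsupp hns) _ (Set.mem_singleton _)
      refine this ?_
      have hle : X.basicOpen (res A a U) ≤ X.basicOpen (Coh.toGlobal (X ↘ Spec (CommRingCat.of A)) a) := by
        rw [res, Scheme.basicOpen_res]
        exact inf_le_right
      exact hle hx
    refine TopCat.Presheaf.section_ext ((SheafOfModules.toSheaf _).obj M) _ _ _ fun x hx => ?_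
    haveI := hs x hx
    exact @Subsingleton.elim _ (hs x hx) _ _)
  exact ⟨n, by rwa [res_pow]⟩

/-- All shifts of `P` only have torsion maps to `E'`. -/
def Tors (a : A) (E' P : DCoh.D X) : Prop :=
  ∀ (k : ℤ) (φ : P⟦k⟧ ⟶ E'), ∃ n : ℕ, (a ^ n) • φ = 0

theorem isDev_tors (a : A) (E' : DCoh.D X) : DQCoh.IsDev (Tors A a E') where
  iso := fun {K L} e h k φ => by
    obtain ⟨n, hn⟩ := h k ((shiftFunctor (DCoh.D X) k).map e.hom ≫ φ)
    refine ⟨n, ?_⟩
    rw [← cancel_epi ((shiftFunctor (DCoh.D X) k).map e.hom), comp_zero, Linear.comp_smul]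
    exact hn
  zero := fun K hK k φ => ⟨0, ((shiftFunctor (DCoh.D X) k).map_isZero hK).eq_of_src _ _⟩
  shift := fun K m h k φ => by
    obtain ⟨n, hn⟩ := h (m + k) (((shiftFunctorAdd (DCoh.D X) m k).app K).hom ≫ φ)
    refine ⟨n, ?_⟩
    rw [← cancel_epi ((shiftFunctorAdd (DCoh.D X) m k).app K).hom, comp_zero, Linear.comp_smul]
    exact hn
  ext := fun T hT h₁ h₃ k φ => by
    have hT' := Triangle.shift_distinguished T hT k
    obtain ⟨n, hn⟩ := h₁ k (((Triangle.shiftFunctor (DCoh.D X) k).obj T).mor₁ ≫ φ)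
    obtain ⟨ψ, hψ⟩ := Triangle.yoneda_exact₂ _ hT' ((a ^ n) • φ) (by rw [Linear.comp_smul]; exact hn)
    obtain ⟨m, hm⟩ := h₃ k ψ
    refine ⟨m + n, ?_⟩
    rw [pow_add, mul_smul, hψ]
    rw [← Linear.comp_smul, hm, comp_zero]

theorem tors_affine (a : A) (E' : DCoh.D X) (hE' : DCoh.IsQCohD E')
    (hsupp : ∀ i : ℤ, CohB1.support (DCoh.HD E' i) ⊆
      (X.zeroLocus (U := ⊤) {Coh.toGlobal (X ↘ Spec (CommRingCat.of A)) a} : Set X))
    {U : X.Opens} (hU : IsAffineOpen U) : Tors A a E' ((DQCoh.sec X).pt.obj U) := by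
  intro k φ
  let e := shiftFunctorCompIsoId (DCoh.D X) (-k) k (by omega)
  obtain ⟨y, hy⟩ := (shiftFunctor (DCoh.D X) k).map_surjective (φ ≫ e.inv.app E')
  obtain ⟨n, hn⟩ : ∃ n : ℕ, (a ^ n) • y = 0 := by
    let M := (DerivedCategory.homologyFunctor X.Modules 0).obj (E'⟦-k⟧)
    have hq : Coh.IsQCoh M := DQCoh.isQCohD_shift hE' (-k) 0
    have hs : CohB1.support M ⊆ (X.zeroLocus (U := ⊤) {Coh.toGlobal (X ↘ Spec (CommRingCat.of A)) a} : Set X) := by
      intro x hx
      refine hsupp (-k) fun hss => hx ?_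
      let i := ((DerivedCategory.homologyFunctor X.Modules 0).shiftIso (-k) 0 (-k) (by omega)).app E'
      haveI : Subsingleton ((((DerivedCategory.homologyFunctor X.Modules 0).shift (-k)).obj E').presheaf.stalk x) := hss
      exact DCat.SuppOpen.subsingleton_of_isZero_stalkFunctor M x
        ((DCat.SuppOpen.isZero_stalkFunctor _ x).of_iso ((DerSch.stalkFunctor X x).mapIso i))
    let θy : (freeModOn X).obj U ⟶ M := (DQCoh.sec X).θ y
    obtain ⟨n, hn⟩ := exists_pow_smul_section A a M hq hs hU (freeModOnEquiv U M θy)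
    refine ⟨n, (DQCoh.bijective_θ _ (DQCoh.isQCohD_shift hE' (-k)) hU).1 ?_⟩
    have h0 : θy ≫ ((a ^ n) • 𝟙 M) = 0 := by
      refine (freeModOnEquiv U M).injective ?_
      rw [freeModOnEquiv_comp, KLin.smul_app_apply, show freeModOnEquiv U M (0 : (freeModOn X).obj U ⟶ M) = 0 from by
        simpa using freeModOnEquiv_comp U (0 : (freeModOn X).obj U ⟶ M) (0 : M ⟶ M), Scheme.Modules.Hom.id_app]
      exact hn
    show (DQCoh.sec X).θ ((a ^ n) • y) = (DQCoh.sec X).θ 0
    rw [show (a ^ n) • y = y ≫ ((a ^ n) • 𝟙 _) from by rw [Linear.comp_smul, Category.comp_id],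
      Sections.θ_comp, homologyMap_smul_id]
    rw [show (DQCoh.sec X).θ y ≫ (a ^ n • 𝟙 ((DerivedCategory.homologyFunctor X.Modules 0).obj (E'⟦-k⟧))) = 0 from h0,
      show (0 : (DQCoh.sec X).pt.obj U ⟶ E'⟦-k⟧) = 0 ≫ (0 : E'⟦-k⟧ ⟶ E'⟦-k⟧) from zero_comp.symm,
      Sections.θ_comp, Functor.map_zero, comp_zero]
  refine ⟨n, ?_⟩
  rw [← cancel_mono (e.inv.app E'), zero_comp, Linear.smul_comp, ← hy, ← Functor.map_smul, hn, Functor.map_zero]

/-- A map from a perfect object is torsion. -/
theorem exists_pow_smul_eq_zero [CompactSpace X] [QuasiSeparatedSpace X] (a : A) {E E' : DCoh.D X}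
    (hE : DCoh.IsPerfect E) (hE' : DCoh.IsQCohD E')
    (hsupp : ∀ i : ℤ, CohB1.support (DCoh.HD E' i) ⊆
      (X.zeroLocus (U := ⊤) {Coh.toGlobal (X ↘ Spec (CommRingCat.of A)) a} : Set X))
    (φ : E ⟶ E') : ∃ n : ℕ, (a ^ n) • φ = 0 := by
  have h := DQCoh.perfect_induction (isDev_tors A a E')
    ((isDev_tors A a E').of_affine fun _ hU => tors_affine A a E' hE' hsupp hU) E hE
  obtain ⟨n, hn⟩ := h 0 (((shiftFunctorZero (DCoh.D X) ℤ).app E).hom ≫ φ)
  refine ⟨n, ?_⟩
  rw [← cancel_epi ((shiftFunctorZero (DCoh.D X) ℤ).app E).hom, comp_zero, Linear.comp_smul]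
  exact hn

end Groth.Agent.Dual22Lib.Torsion
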