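import Groth.Agent.Dual22Lib.TwistSys

/-!
# Coherence of representing objects on schemes with twisting systems
-/

set_option autoImplicit false
set_option backward.isDefEq.respectTransparency false
set_option backward.defeqAttrib.useBackward true
set_option linter.style.haveILetI false
set_option linter.unusedSectionVars false
set_option synthInstance.maxHeartbeats 100000

universe u

open CategoryTheory CategoryTheory.Limits CategoryTheory.Pretriangulated AlgebraicGeometry Opposite
open Groth.Agent.DCat Groth.Agent.Coherent Groth.Agent.PicLib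
open scoped ZeroObject

attribute [local instance] HasDerivedCategory.standard
attribute [-instance] Int.instConditionallyCompleteLinearOrder

namespace Groth.Agent.Dual22Lib.TwistSys

variable {X : Scheme.{u}}

local notation "sg" => DerivedCategory.singleFunctor X.Modules 0
local notation "H" => DerivedCategory.homologyFunctor X.Modules
local notation "σ" => DerivedCategory.singleFunctorCompHomologyFunctorIso X.Modules 0

/-- Below the cut the truncation has the same cohomology. -/
theorem isIso_H_truncLTι (P : DCoh.D X) (b i : ℤ) (hi : i < b) :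
    IsIso ((H i).map (((DerivedCategory.TStructure.t).truncLTι b).app P)) := by
  let t : Triangulated.TStructure (DCoh.D X) := DerivedCategory.TStructure.t
  haveI := DCat.mono_homology_truncLTι P b i
  haveI : Epi ((H i).map ((t.truncLTι b).app P)) :=
    (DerivedCategory.HomologySequence.epi_homologyMap_mor₁_iff _ (t.triangleLTGE_distinguished b P) i).2
      ((DerivedCategory.isZero_of_isGE ((t.truncGE b).obj P) b i hi).eq_of_tgt _ _)
  exact isIso_of_mono_of_epi _

theorem isQCohD_truncLT (P : DCoh.D X) (b : ℤ) (hP : DCoh.IsQCohD P) :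
    DCoh.IsQCohD (((DerivedCategory.TStructure.t).truncLT b).obj P) := fun i => by
  let t : Triangulated.TStructure (DCoh.D X) := DerivedCategory.TStructure.t
  rcases lt_or_ge i b with hi | hi
  · haveI := isIso_H_truncLTι P b i hi
    exact Coherent.isQCoh_of_iso (asIso ((H i).map ((t.truncLTι b).app P))).symm (h := hP i)
  · haveI : ((t.truncLT b).obj P).IsLE (b - 1) := t.isLE_truncLT_obj P b (b - 1) (by omega)
    exact Coherent.isQCoh_of_isZero (DerivedCategory.isZero_of_isLE ((t.truncLT b).obj P) (b - 1) i (by omega))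

theorem isGE_truncLT (P : DCoh.D X) (b a : ℤ) [P.IsGE a] :
    (((DerivedCategory.TStructure.t).truncLT b).obj P).IsGE a := by
  let t : Triangulated.TStructure (DCoh.D X) := DerivedCategory.TStructure.t
  refine (DerivedCategory.isGE_iff _ _).2 fun i hi => ?_
  rcases lt_or_ge i b with hib | hib
  · haveI := isIso_H_truncLTι P b i hib
    exact (DerivedCategory.isZero_of_isGE P a i hi).of_iso (asIso ((H i).map ((t.truncLTι b).app P)))
  · haveI : ((t.truncLT b).obj P).IsLE (b - 1) := t.isLE_truncLT_obj P b (b - 1) (by omega)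
    exact DerivedCategory.isZero_of_isLE ((t.truncLT b).obj P) (b - 1) i (by omega)

/-- The top piece of an object bounded above. -/
theorem exists_top (P : DCoh.D X) (b : ℤ) [P.IsLE b] : ∃ M : X.Modules,
    Nonempty (((DerivedCategory.TStructure.t).truncGE b).obj P ≅ (DerivedCategory.singleFunctor X.Modules b).obj M) ∧
    IsIso ((H b).map (((DerivedCategory.TStructure.t).truncGEπ b).app P)) := by
  let t : Triangulated.TStructure (DCoh.D X) := DerivedCategory.TStructure.t
  have hT := t.triangleLTGE_distinguished b P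
  let L := (t.truncLT b).obj P
  let U := (t.truncGE b).obj P
  haveI : L.IsLE (b - 1) := t.isLE_truncLT_obj P b (b - 1) (by omega)
  haveI : U.IsLE b := (DerivedCategory.isLE_iff _ _).2 fun i hi =>
    (DerivedCategory.HomologySequence.exact₂ _ (rot_of_distTriang _ hT) i).isZero_of_both_zeros
      ((DerivedCategory.isZero_of_isLE P b i hi).eq_of_src _ _)
      (IsZero.eq_of_tgt ((DerivedCategory.isZero_of_isLE L (b - 1) (i + 1) (by omega)).of_iso
        (((H 0).shiftIso 1 i (i + 1) (by omega)).app L)) _ _)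
  haveI : Mono ((H b).map ((t.truncGEπ b).app P)) :=
    (DerivedCategory.HomologySequence.mono_homologyMap_mor₂_iff _ hT b).2
      ((DerivedCategory.isZero_of_isLE L (b - 1) b (by omega)).eq_of_src _ _)
  haveI : Epi ((H b).map ((t.truncGEπ b).app P)) :=
    (DerivedCategory.HomologySequence.epi_homologyMap_mor₂_iff _ hT b (b + 1) rfl).2
      ((DerivedCategory.isZero_of_isLE L (b - 1) (b + 1) (by omega)).eq_of_tgt _ _)
  obtain ⟨M, hM⟩ := DerivedCategory.exists_iso_singleFunctor_obj_of_isGE_of_isLE U b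
  exact ⟨M, hM, isIso_of_mono_of_epi _⟩

variable {C : PowCover X} {L : ℕ → X.Modules} {G : ∀ N, C.Gens (L N) N} {i₀ : C.ι} [X.IsSeparated]

/-- Maps from twists into objects of negative amplitude are killed. -/
theorem killed_of_amp : ∀ (d : ℕ) (b : ℤ) (E : DCoh.D X), DCoh.IsQCohD E → E.IsLE b → E.IsGE (b + 1 - d) →
    b ≤ -1 → ∀ (N : ℕ) (e : (sg).obj (L N) ⟶ E), Killed C G i₀ N e := by
  intro d
  induction d with
  | zero =>
    intro b E _ h1 h2 _ N e
    have hz : IsZero E := DCat.SuppOpen.isZero_of_hd _ fun i => by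
      rcases lt_or_ge i (b + 1 - ((0 : ℕ) : ℤ)) with h | h
      · exact DerivedCategory.isZero_of_isGE E _ i h
      · exact DerivedCategory.isZero_of_isLE E b i (by push_cast at h; omega)
    rw [hz.eq_of_tgt e 0]
    exact Killed.zero N
  | succ d ih =>
    intro b E hq h1 h2 hb N e
    let t : Triangulated.TStructure (DCoh.D X) := DerivedCategory.TStructure.t
    have hT := t.triangleLTGE_distinguished b E
    obtain ⟨M, ⟨eM⟩, hiso⟩ := exists_top E b
    haveI : Coh.IsQCoh M := Coherent.isQCoh_of_iso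
      ((@asIso _ _ _ _ ((H b).map ((t.truncGEπ b).app E)) hiso) ≪≫ (H b).mapIso eM ≪≫
        (DerivedCategory.singleFunctorCompHomologyFunctorIso X.Modules b).app M) (h := hq b)
    obtain ⟨q, hqb⟩ : ∃ q : ℕ, ((q + 1 : ℕ) : ℤ) + b = 0 := ⟨(-b - 1).toNat, by push_cast; omega⟩
    let c : (t.truncGE b).obj E ≅ ((sg).obj M)⟦((q + 1 : ℕ) : ℤ)⟧ :=
      eM ≪≫ (((DerivedCategory.singleFunctors X.Modules).shiftIso _ b 0 hqb).app M).symm
    refine Killed.bind (π := (t.truncGEπ b).app E) ?_ fun M' e' he' => ?_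
    · have h := (killed_class (C := C) (G := G) (i₀ := i₀) q M ‹_› N (e ≫ (t.truncGEπ b).app E ≫ c.hom)).comp c.inv
      simpa using h
    · obtain ⟨e'', rfl⟩ := Triangle.coyoneda_exact₂ _ hT e' he'
      exact (ih (b - 1) _ (isQCohD_truncLT E b hq) (t.isLE_truncLT_obj E b (b - 1) (by omega))
        (by
          haveI := isGE_truncLT E b (b + 1 - ((d + 1 : ℕ) : ℤ))
          convert this using 1
          push_cast; ring) (by omega) M' e'').comp _

theorem Killed.exists_map {E : DCoh.D X} {N : ℕ} {e : (sg).obj (L N) ⟶ E} (h : Killed C G i₀ N e) :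
    ∃ (M : ℕ) (q : L M ⟶ L N), q.app (C.D i₀) ((G M).τ i₀) = (G N).τ i₀ ∧ (sg).map q ≫ e = 0 := by
  induction h with
  | zero N => exact ⟨N, 𝟙 _, rfl, comp_zero⟩
  | @step N e _ ih =>
    obtain ⟨M, q, hq, he⟩ := ih
    refine ⟨M, q ≫ op C G i₀ N, ?_, by rw [Functor.map_comp, Category.assoc, he]⟩
    rw [Scheme.Modules.Hom.comp_app, ConcreteCategory.comp_apply, hq, op_self]

/-- The map on degree zero cohomology of a map out of a module. -/
noncomputable def θ {M : X.Modules} {B : DCoh.D X} (v : (sg).obj M ⟶ B) : M ⟶ DCoh.HD B 0 :=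
  (σ).inv.app M ≫ (H 0).map v

theorem θ_comp {M : X.Modules} {B B' : DCoh.D X} (v : (sg).obj M ⟶ B) (g : B ⟶ B') :
    θ (v ≫ g) = θ v ≫ (H 0).map g := by
  simp [θ]

theorem θ_map {M M' : X.Modules} {B : DCoh.D X} (q : M' ⟶ M) (v : (sg).obj M ⟶ B) :
    θ ((sg).map q ≫ v) = q ≫ θ v := by
  have h := (σ).inv.naturality q
  dsimp at h
  simp only [θ, Functor.map_comp]
  rw [← Category.assoc, ← h, Category.assoc]

theorem θ_add {M : X.Modules} {B : DCoh.D X} (v w : (sg).obj M ⟶ B) : θ (v + w) = θ v + θ w := by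
  simp [θ]

/-- Sections of degree zero cohomology on a chart come from maps out of twists. -/
theorem exists_lift {B : DCoh.D X} (hB : DCoh.IsQCohD B) (a : ℤ) [hBa : B.IsGE a] (m : Γ(DCoh.HD B 0, C.D i₀)) :
    ∃ (M : ℕ) (v : (sg).obj (L M) ⟶ B), (θ v).app (C.D i₀) ((G M).τ i₀) = m := by
  let t : Triangulated.TStructure (DCoh.D X) := DerivedCategory.TStructure.t
  haveI : Coh.IsQCoh (DCoh.HD B 0) := hB 0
  obtain ⟨N₀, hN₀⟩ := C.exists_compat (M := DCoh.HD B 0) i₀ m
  obtain ⟨s, hs, hs₀⟩ := hN₀ N₀ le_rfl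
  obtain ⟨ψ, hψ⟩ := C.exists_hom (G N₀) s hs
  let B' := (t.truncLT 1).obj B
  haveI : B'.IsLE 0 := t.isLE_truncLT_obj B 1 0 (by omega)
  haveI := isGE_truncLT B 1 a
  haveI := isIso_H_truncLTι B 1 0 (by omega)
  let hι := asIso ((H 0).map ((t.truncLTι 1).app B))
  have hT := t.triangleLTGE_distinguished 0 B'
  obtain ⟨M, ⟨eM⟩, hiso⟩ := exists_top B' 0
  let hπ := @asIso _ _ _ _ ((H 0).map ((t.truncGEπ 0).app B')) hiso
  let φ : (sg).obj (L N₀) ⟶ (t.truncGE 0).obj B' :=
    (sg).map (ψ ≫ hι.inv ≫ hπ.hom ≫ (H 0).map eM.hom ≫ (σ).hom.app M) ≫ eM.inv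
  have hφ : θ φ = ψ ≫ hι.inv ≫ hπ.hom := by
    have h1 : θ eM.inv = (σ).inv.app M ≫ (H 0).map eM.inv := rfl
    rw [show θ φ = _ from θ_map _ _, h1]
    simp
  let B'' := (t.truncLT 0).obj B'
  haveI : B''.IsLE (-1) := t.isLE_truncLT_obj B' 0 (-1) (by omega)
  haveI := isGE_truncLT B' 0 a
  have hk : Killed C G i₀ N₀ (φ ≫ ((t.triangleLTGE 0).obj B').mor₃) := by
    obtain ⟨d, hd⟩ : ∃ d : ℕ, (-2 : ℤ) + 1 - d ≤ a - 1 := ⟨(-a).toNat, by omega⟩
    haveI : (B''⟦(1 : ℤ)⟧).IsLE (-2) := t.isLE_shift B'' (-1) 1 (-2) (by omega)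
    haveI : (B''⟦(1 : ℤ)⟧).IsGE (a - 1) := t.isGE_shift B'' a 1 (a - 1) (by omega)
    exact killed_of_amp d (-2) _ (DQCoh.isQCohD_shift (isQCohD_truncLT B' 0 (isQCohD_truncLT B 1 hB)) 1) ‹_›
      (t.isGE_of_ge (B''⟦(1 : ℤ)⟧) _ _ hd) (by omega) N₀ _
  obtain ⟨K, q, hq, hqe⟩ := hk.exists_map
  obtain ⟨v, hv⟩ := Triangle.coyoneda_exact₃ _ hT ((sg).map q ≫ φ) (by rw [Category.assoc]; exact hqe)
  change (sg).obj (L K) ⟶ B' at v
  change (sg).map q ≫ φ = v ≫ (t.truncGEπ 0).app B' at hv
  refine ⟨K, v ≫ (t.truncLTι 1).app B, ?_⟩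
  have h2 : θ v ≫ hπ.hom = q ≫ ψ ≫ hι.inv ≫ hπ.hom := by
    rw [← hφ, ← θ_map, hv, θ_comp]
    rfl
  have h3 : θ (v ≫ (t.truncLTι 1).app B) = q ≫ ψ := by
    rw [θ_comp, show θ v = q ≫ ψ ≫ hι.inv from (cancel_mono hπ.hom).1 (h2.trans (by simp))]
    show (q ≫ ψ ≫ hι.inv) ≫ hι.hom = _
    simp
  rw [h3, Scheme.Modules.Hom.comp_app, ConcreteCategory.comp_apply, hq, hψ, hs₀]

section Coherence

variable {R : Type u} [CommRing R] [IsNoetherianRing R] [X.Over (Spec (CommRingCat.of R))]

/-- Evaluation is semilinear. -/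
theorem θ_smul_app {M : X.Modules} {B : DCoh.D X} (r : R) (v : (sg).obj M ⟶ B) (U : X.Opens) (x : Γ(M, U)) :
    (θ (r • v)).app U x =
      X.presheaf.map (homOfLE (le_top : U ≤ ⊤)).op (Coh.toGlobal (X ↘ Spec (CommRingCat.of R)) r) • (θ v).app U x := by
  rw [show r • v = v ≫ (r • 𝟙 B) by rw [Linear.comp_smul, Category.comp_id], θ_comp, Torsion.homologyMap_smul_id,
    Linear.comp_smul, Category.comp_id, KLin.smul_app_apply]

variable {Y : Scheme.{u}} [IsAffine Y] [IsNoetherian Y] [Y.Over (Spec (CommRingCat.of R))]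

/-- Representing objects on a scheme with a twisting system are coherent. -/
theorem isCohD_of_rep_twistSys [IsLocallyNoetherian X]
    (hsurj : Function.Surjective (Coh.toGlobal (Y ↘ Spec (CommRingCat.of R)))) (f : X ⟶ Y) [IsProper f]
    [f.IsOver (Spec (CommRingCat.of R))] (C : PowCover X) {L : ℕ → X.Modules} (G : ∀ N, C.Gens (L N) N)
    (hL : ∀ N, Coh.IsCoh (L N)) {Q : DCoh.D Y} {A : DCoh.D X} (h : RepLib.RepObj f Q A) (c : ℤ) [Q.IsGE c]
    (hQ : DCoh.IsCohD Q) : DCoh.IsCohD A := by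
  have := C.finite
  obtain ⟨r, ⟨eι⟩⟩ := Finite.exists_equiv_fin C.ι
  haveI : CompactSpace Y := inferInstance
  obtain ⟨a, ha⟩ := RepLib.exists_isGE c h
  have hfin : GradedHom.FinAll R A := fun F hF q =>
    FinHom.finite_of_iso (((DerivedCategory.singleFunctors X.Modules).shiftIso q 0 q (by omega)).app F) (Iso.refl _)
      (FinHom.finite_shift q (FinHom.finite_rep hsurj f h c hQ F hF q))
  intro p
  let B := A⟦p⟧
  have hB : DCoh.IsQCohD B := DQCoh.isQCohD_shift h.mem p
  have hBf : GradedHom.FinAll R B := hfin.shift p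
  let t : Triangulated.TStructure (DCoh.D X) := DerivedCategory.TStructure.t
  haveI : B.IsGE (a - p) := t.isGE_shift A a p (a - p) (by omega)
  refine Coherent.isCoh_iso (((H 0).shiftIso p 0 p (by omega)).app A) ?_
  change Coh.IsCoh (DCoh.HD B 0)
  let T : Fin r → ∀ n, L (n + 1) ⟶ L n := fun l n => op C G (eι.symm l) n
  have hcond : GradedHom.Cond L T := fun x => by
    obtain ⟨i, hi⟩ := TopologicalSpace.Opens.mem_iSup.1 (C.cover.ge (Set.mem_univ x))
    refine Or.inr ⟨eι i, fun n => ?_⟩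
    simp only [T, Equiv.symm_apply_apply]
    exact isIso_stalk_op C G i n hi
  obtain ⟨n₀, hn₀⟩ := GradedHom.eg_hom (R := R) r L hL T (fun l m n => op_comm C G _ _ n) hcond B hBf
  haveI := hBf.self (hL n₀)
  obtain ⟨s, hs⟩ := Module.Finite.fg_top (R := R) (M := (sg).obj (L n₀) ⟶ B)
  refine isCoh_of_finite_sections_cover _ (hB 0) (fun i : ULift.{u} C.ι => C.D i.down)
    (fun i => C.isAffine i.down) (fun x => ?_) fun ⟨i⟩ => ?_
  · obtain ⟨i, hi⟩ := TopologicalSpace.Opens.mem_iSup.1 (C.cover.ge (Set.mem_univ x))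
    exact ⟨⟨i⟩, hi⟩
  · classical
    let ev : ∀ M, ((sg).obj (L M) ⟶ B) → Γ(DCoh.HD B 0, C.D i) := fun M v => (θ v).app (C.D i) ((G M).τ i)
    let S : Submodule Γ(X, C.D i) Γ(DCoh.HD B 0, C.D i) :=
      Submodule.span Γ(X, C.D i) ((s.image (ev n₀) : Finset Γ(DCoh.HD B 0, C.D i)) : Set Γ(DCoh.HD B 0, C.D i))
    have hop : ∀ (l : C.ι) M (v : (sg).obj (L M) ⟶ B), ev (M + 1) ((sg).map (op C G l M) ≫ v) = C.g i l • ev M v := by
      intro l M v
      show (θ _).app _ _ = _
      rw [θ_map, Scheme.Modules.Hom.comp_app, ConcreteCategory.comp_apply, op_spec, Scheme.Modules.Hom.app_smul]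
    let evh : ∀ M, ((sg).obj (L M) ⟶ B) →+ Γ(DCoh.HD B 0, C.D i) := fun M => AddMonoidHom.mk' (ev M) fun v w => by
      show (θ (v + w)).app _ _ = _
      rw [θ_add, Scheme.Modules.Hom.add_app]
      rfl
    have hbase : ∀ v, ev n₀ v ∈ S := fun v => by
      have hv : v ∈ Submodule.span R (s : Set ((sg).obj (L n₀) ⟶ B)) := hs.ge trivial
      induction hv using Submodule.span_induction with
      | mem y hy => exact Submodule.subset_span (Finset.mem_coe.2 (Finset.mem_image_of_mem _ hy))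
      | zero =>
        show evh n₀ 0 ∈ S
        rw [map_zero]
        exact S.zero_mem
      | add y z _ _ hy hz =>
        show evh n₀ (y + z) ∈ S
        rw [map_add]
        exact S.add_mem hy hz
      | smul c' y _ hy =>
        show (θ (c' • y)).app _ _ ∈ S
        rw [θ_smul_app]
        exact S.smul_mem _ hy
    have hup : ∀ k v, ev (n₀ + k) v ∈ S := by
      intro k
      induction k with
      | zero => exact hbase
      | succ k ih =>
        intro v
        obtain ⟨y, hy⟩ := hn₀ (n₀ + k) (by omega) v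
        rw [hy, show ev (n₀ + (k + 1)) = evh (n₀ + k + 1) from rfl, map_sum]
        refine S.sum_mem fun l _ => ?_
        show ev (n₀ + k + 1) ((sg).map (op C G (eι.symm l) (n₀ + k)) ≫ y l) ∈ S
        rw [hop]
        exact S.smul_mem _ (ih _)
    have hall : ∀ M v, ev M v ∈ S := by
      intro M
      obtain ⟨k, hk⟩ : ∃ k, n₀ ≤ M + k := ⟨n₀, by omega⟩
      induction k generalizing M with
      | zero =>
        obtain ⟨k, rfl⟩ := Nat.exists_eq_add_of_le hk
        exact hup k
      | succ k ih =>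
        intro v
        have h1 := ih (M + 1) (by omega) ((sg).map (op C G i M) ≫ v)
        rwa [hop, C.g_self, one_smul] at h1
    refine ⟨⟨s.image (ev n₀), eq_top_iff.2 fun m _ => ?_⟩⟩
    obtain ⟨M, v, hv⟩ := exists_lift (G := G) (i₀ := i) hB (a - p) m
    exact hv ▸ hall M v

end Coherence

end Groth.Agent.Dual22Lib.TwistSys
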