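import Groth.Agent.Dual22Lib.GradedHom
import Groth.Agent.Coherent.TwistGen
import Groth.Agent.DQCoh.TildePush
import Groth.Agent.DQCoh.Local
import Groth.Agent.DCat.SuppOpen
import Groth.Agent.Coherent.ProjSpaceFinite
import Groth.Agent.H8Constr.TwistFrac

/-!
# Twisting systems: lifting and generation of cohomology on the charts
-/

set_option autoImplicit false
set_option backward.isDefEq.respectTransparency false
set_option backward.defeqAttrib.useBackward true
set_option linter.style.haveILetI false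
set_option linter.unusedSectionVars false
set_option synthInstance.maxHeartbeats 100000

universe u

open CategoryTheory CategoryTheory.Limits CategoryTheory.Pretriangulated AlgebraicGeometry Opposite
open Groth.Agent.DCat Groth.Agent.Coherent Groth.Agent.PicLib
open scoped ZeroObject

attribute [local instance] HasDerivedCategory.standard
attribute [-instance] Int.instConditionallyCompleteLinearOrder
attribute [local instance] hasFiniteBiproducts

namespace Groth.Agent.Dual22Lib.TwistSys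

variable {X : Scheme.{u}} (C : PowCover X) {L : ℕ → X.Modules} (G : ∀ N, C.Gens (L N) N)

theorem hom_ext {N : ℕ} {M : X.Modules} {φ ψ : L N ⟶ M}
    (h : ∀ i, φ.app (C.D i) ((G N).τ i) = ψ.app (C.D i) ((G N).τ i)) : φ = ψ :=
  PicLib.hom_ext_gen (fun i : ULift.{u} C.ι => C.D i.down)
    (by rw [← C.cover]; exact Equiv.ulift.surjective.iSup_comp C.D)
    (fun i => (G N).τ i.down) (fun i => (G N).isGen i.down) φ ψ (fun i => h i.down)

theorem exists_op (l : C.ι) (N : ℕ) :
    ∃ φ : L (N + 1) ⟶ L N, ∀ j, φ.app (C.D j) ((G (N + 1)).τ j) = C.g j l • (G N).τ j := by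
  refine C.exists_hom (G (N + 1)) _ fun i j => ?_
  rw [resM_smul, resM_smul, (G N).rel i j, smul_smul, smul_smul, pow_succ, mul_assoc, C.cocycle i j l,
    mul_comm (PicLib.res _ (C.g i j) ^ N)]

/-- The coordinate operators. -/
noncomputable def op (l : C.ι) (N : ℕ) : L (N + 1) ⟶ L N := (exists_op C G l N).choose

theorem op_spec (l : C.ι) (N : ℕ) (j : C.ι) :
    (op C G l N).app (C.D j) ((G (N + 1)).τ j) = C.g j l • (G N).τ j :=
  (exists_op C G l N).choose_spec j

theorem op_self (i : C.ι) (N : ℕ) : (op C G i N).app (C.D i) ((G (N + 1)).τ i) = (G N).τ i := by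
  rw [op_spec, C.g_self, one_smul]

theorem op_comm (l m : C.ι) (N : ℕ) : op C G m (N + 1) ≫ op C G l N = op C G l (N + 1) ≫ op C G m N := by
  refine hom_ext C G fun j => ?_
  simp only [Scheme.Modules.Hom.comp_app, ConcreteCategory.comp_apply, op_spec, Scheme.Modules.Hom.app_smul,
    smul_smul, mul_comm]

/-- The operator of a chart is invertible on that chart. -/
theorem bijective_op_app (i : C.ι) (N : ℕ) {V : X.Opens} (h : V ≤ C.D i) :
    Function.Bijective ((op C G i N).app V) := by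
  have e : (op C G i N).app V (resM (L (N + 1)) h ((G (N + 1)).τ i)) = resM (L N) h ((G N).τ i) := by
    rw [app_resM, op_self]
  have hc : (op C G i N).app V ∘ (fun r : Γ(X, V) => r • resM (L (N + 1)) h ((G (N + 1)).τ i)) =
      fun r => r • resM (L N) h ((G N).τ i) := by
    funext r
    simp only [Function.comp_apply, Scheme.Modules.Hom.app_smul, e]
  exact (Function.Bijective.of_comp_iff _ ((G (N + 1)).isGen i V h)).1 (hc ▸ (G N).isGen i V h)

/-- A map bijective on the small opens around a point is bijective on the stalk there. -/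
theorem isIso_stalk_of_app {M M' : X.Modules} (φ : M ⟶ M') {U : X.Opens} {x : X} (hx : x ∈ U)
    (h : ∀ V : X.Opens, V ≤ U → Function.Bijective (φ.app V)) :
    IsIso ((DerSch.stalkFunctor X x).map φ) := by
  refine (ConcreteCategory.isIso_iff_bijective _).2 ⟨?_, fun t => ?_⟩
  · refine (injective_iff_map_eq_zero _).2 fun s hs => ?_
    obtain ⟨V, hxV, s, rfl⟩ := TopCat.Presheaf.exists_germ_eq M.presheaf s
    change (TopCat.Presheaf.stalkFunctor Ab x).map (Scheme.Modules.Hom.mapPresheaf φ) (M.presheaf.germ V x hxV s) = 0 at hs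
    erw [TopCat.Presheaf.stalkFunctor_map_germ_apply] at hs
    obtain ⟨W, hxW, i₁, i₂, hW⟩ := TopCat.Presheaf.germ_eq M'.presheaf x hxV hxV
      (φ.app V s) 0 (hs.trans (map_zero _).symm)
    let W' := W ⊓ U
    have hle : W' ≤ V := inf_le_left.trans i₁.le
    rw [← TopCat.Presheaf.germ_res_apply M.presheaf (homOfLE hle) x ⟨hxW, hx⟩ s]
    have h0 : (M.presheaf.map (homOfLE hle).op) s = 0 := by
      apply (h W' inf_le_right).1
      rw [map_zero]
      have e := congrArg (M'.presheaf.map (homOfLE (inf_le_left : W' ≤ W)).op) hW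
      rw [map_zero, map_zero] at e
      refine ((app_resM φ hle s).trans ?_)
      refine Eq.trans ?_ e
      exact (resM_resM M' i₁.le inf_le_left (φ.app V s)).symm
    rw [h0, map_zero]
  · obtain ⟨V, hxV, t, rfl⟩ := TopCat.Presheaf.exists_germ_eq M'.presheaf t
    obtain ⟨s, hs⟩ := (h (V ⊓ U) inf_le_right).2 (M'.presheaf.map (homOfLE (inf_le_left : V ⊓ U ≤ V)).op t)
    refine ⟨M.presheaf.germ (V ⊓ U) x ⟨hxV, hx⟩ s, ?_⟩
    change (TopCat.Presheaf.stalkFunctor Ab x).map (Scheme.Modules.Hom.mapPresheaf φ) _ = _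
    erw [TopCat.Presheaf.stalkFunctor_map_germ_apply]
    change M'.presheaf.germ _ x _ (φ.app (V ⊓ U) s) = _
    rw [hs]
    exact TopCat.Presheaf.germ_res_apply M'.presheaf _ x _ t

theorem isIso_stalk_op (i : C.ι) (N : ℕ) {x : X} (hx : x ∈ C.D i) :
    IsIso ((DerSch.stalkFunctor X x).map (op C G i N)) :=
  isIso_stalk_of_app _ hx fun _ h => bijective_op_app C G i N h

local notation "sg" => DerivedCategory.singleFunctor X.Modules 0

/-- Vanishing after precomposition with powers of one operator. -/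
inductive Killed (i₀ : C.ι) {E : DCoh.D X} : ∀ N : ℕ, ((sg).obj (L N) ⟶ E) → Prop
  | zero (N : ℕ) : Killed i₀ N 0
  | step {N : ℕ} {e : (sg).obj (L N) ⟶ E} : Killed i₀ (N + 1) ((sg).map (op C G i₀ N) ≫ e) → Killed i₀ N e

variable {C G} {i₀ : C.ι} {E : DCoh.D X}

theorem Killed.comp {E' : DCoh.D X} {N : ℕ} {e : (sg).obj (L N) ⟶ E} (h : Killed C G i₀ N e) (f : E ⟶ E') :
    Killed C G i₀ N (e ≫ f) := by
  induction h with
  | zero N => rw [zero_comp]; exact .zero N
  | step _ ih => exact .step (by rwa [← Category.assoc])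

theorem Killed.bind {E' : DCoh.D X} {N : ℕ} {e : (sg).obj (L N) ⟶ E} {π : E ⟶ E'}
    (h : Killed C G i₀ N (e ≫ π))
    (hk : ∀ (M : ℕ) (e : (sg).obj (L M) ⟶ E), e ≫ π = 0 → Killed C G i₀ M e) : Killed C G i₀ N e := by
  generalize hx : e ≫ π = y at h
  induction h with
  | zero N => exact hk N e hx
  | step _ ih => exact .step (ih (by rw [Category.assoc, hx]))

/-- Iterated operator. -/
noncomputable def pw (C : PowCover X) (G : ∀ N, C.Gens (L N) N) (i₀ : C.ι) (N : ℕ) : ∀ k, L (N + k) ⟶ L N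
  | 0 => 𝟙 _
  | k + 1 => op C G i₀ (N + k) ≫ pw C G i₀ N k

theorem pw_spec (N k : ℕ) (j : C.ι) :
    (pw C G i₀ N k).app (C.D j) ((G (N + k)).τ j) = C.g j i₀ ^ k • (G N).τ j := by
  induction k with
  | zero => rw [pow_zero, one_smul]; rfl
  | succ k ih =>
    show (op C G i₀ (N + k) ≫ pw C G i₀ N k).app (C.D j) _ = _
    rw [Scheme.Modules.Hom.comp_app, ConcreteCategory.comp_apply]
    erw [op_spec]
    rw [Scheme.Modules.Hom.app_smul, ih, smul_smul, pow_succ, mul_comm]

theorem killed_of_pw {N : ℕ} {e : (sg).obj (L N) ⟶ E} (k : ℕ)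
    (h : Killed C G i₀ (N + k) ((sg).map (pw C G i₀ N k) ≫ e)) : Killed C G i₀ N e := by
  induction k with
  | zero =>
    rw [show pw C G i₀ N 0 = 𝟙 _ from rfl] at h
    erw [CategoryTheory.Functor.map_id, Category.id_comp] at h
    exact h
  | succ k ih =>
    refine ih (.step ?_)
    rwa [show pw C G i₀ N (k + 1) = op C G i₀ (N + k) ≫ pw C G i₀ N k from rfl, Functor.map_comp,
      Category.assoc] at h

theorem killed_of_pw_eq_zero {N : ℕ} {e : (sg).obj (L N) ⟶ E} (k : ℕ)
    (h : (sg).map (pw C G i₀ N k) ≫ e = 0) : Killed C G i₀ N e :=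
  killed_of_pw k (by rw [h]; exact .zero _)

/-- A map to a quasi-coherent module vanishing on the chart is killed. -/
theorem exists_pw_eq_zero {M : X.Modules} [Coh.IsQCoh M] {N : ℕ} (d : L N ⟶ M)
    (h : d.app (C.D i₀) ((G N).τ i₀) = 0) : ∃ k, pw C G i₀ N k ≫ d = 0 := by
  have := C.finite
  cases nonempty_fintype C.ι
  have key : ∀ j, ∃ k, C.g j i₀ ^ k • d.app (C.D j) ((G N).τ j) = 0 := fun j => by
    refine qcoh_exists_pow_smul_eq_zero (C.isAffine j) M (C.g j i₀) _ ?_
    have h1 : X.basicOpen (C.g j i₀) ≤ C.D j ⊓ C.D i₀ := (C.basicOpen_g j i₀).le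
    rw [← app_resM, ← resM_resM (L N) (inf_le_left : C.D j ⊓ C.D i₀ ≤ C.D j) h1, (G N).rel j i₀, resM_smul, resM_resM,
      Scheme.Modules.Hom.app_smul, app_resM, h, map_zero, smul_zero]
  choose k hk using key
  refine ⟨Finset.univ.sup k, hom_ext C G fun j => ?_⟩
  obtain ⟨e, he⟩ := Nat.exists_eq_add_of_le (Finset.le_sup (f := k) (Finset.mem_univ j))
  rw [Scheme.Modules.Hom.comp_app, ConcreteCategory.comp_apply, pw_spec, Scheme.Modules.Hom.app_smul, he, pow_add,
    mul_comm, mul_smul, hk, smul_zero]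
  rfl

variable [X.IsSeparated]

theorem isAffineHom_ι {W : X.Opens} (hW : IsAffineOpen W) : IsAffineHom W.ι := by
  haveI : IsAffine W := hW
  haveI : IsAffineHom (W.ι ≫ terminal.from X) := inferInstance
  exact IsAffineHom.of_comp W.ι (terminal.from X)

/-- No higher maps from twists into the direct image from a chart. -/
theorem eq_zero_push (G : ∀ N, C.Gens (L N) N) (i : C.ι) (M : X.Modules) [Coh.IsQCoh M] {N : ℕ} (q : ℤ) (hq : q ≠ 0)
    (e : (sg).obj (L N) ⟶ ((sg).obj ((Scheme.Modules.pushforward (C.D i).ι).obj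
      ((Scheme.Modules.restrictFunctor (C.D i).ι).obj M)))⟦q⟧) : e = 0 := by
  let j := (C.D i).ι
  haveI : IsAffine (C.D i) := C.isAffine i
  haveI := isAffineHom_ι (C.isAffine i)
  haveI := DCat.hasRpush j
  haveI := PullPerf.preservesFiniteLimits_restrict j
  haveI := Coherent.hasInjectiveResolutions_modules (C.D i : Scheme.{u})
  let M' := (Scheme.Modules.restrictFunctor j).obj M
  haveI hM' : Coh.IsQCoh M' := (inferInstance : Coh.IsQCoh (M.restrict j))
  let E := (DCoh.Rpush j).obj ((DerivedCategory.singleFunctor _ 0).obj M')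
  haveI : E.IsGE 0 := RepLib.isGE_Rpush j _ 0
  haveI : E.IsLE 0 := (DerivedCategory.isLE_iff _ _).2 fun p hp => by
    obtain ⟨p, rfl⟩ := Int.eq_ofNat_of_zero_le hp.le
    obtain ⟨η⟩ := SiteDer16.nonempty_iso_homology_single (modules_enoughKInj (C.D i : Scheme.{u})) (Scheme.Modules.pushforward j) M' p
    exact (DQCoh.isZero_rpush_affine j M' p (by omega)).of_iso η
  obtain ⟨E₀, ⟨eE⟩⟩ := DerivedCategory.exists_iso_singleFunctor_obj_of_isGE_of_isLE E 0
  obtain ⟨η₀⟩ := SiteDer16.nonempty_iso_homology_single (modules_enoughKInj (C.D i : Scheme.{u})) (Scheme.Modules.pushforward j) M' 0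
  let es : E₀ ≅ (Scheme.Modules.pushforward j).obj M' :=
    ((DerivedCategory.singleFunctorCompHomologyFunctorIso X.Modules 0).app E₀).symm ≪≫
      (DerivedCategory.homologyFunctor X.Modules 0).mapIso eE.symm ≪≫ η₀ ≪≫
      (Functor.rightDerivedZeroIsoSelf (Scheme.Modules.pushforward j)).app M'
  obtain ⟨_, _⟩ := DCat.exists_commShift_Rpush j
  let E' := ((DerivedCategory.singleFunctor (C.D i : Scheme.{u}).Modules 0).obj M')⟦q⟧
  let eq : ((sg).obj ((Scheme.Modules.pushforward j).obj M'))⟦q⟧ ≅ (DCoh.Rpush j).obj E' :=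
    (shiftFunctor (DCoh.D X) q).mapIso ((sg).mapIso es.symm ≪≫ eE.symm) ≪≫
      (((DCoh.Rpush j).commShiftIso q).app _).symm
  obtain ⟨adj, -⟩ := AdjGeom.exists_adj j
  rw [← cancel_mono eq.hom, zero_comp]
  apply (adj.homEquiv _ _).symm.injective
  -- the source is the unit object
  let U := (C.D i : Scheme.{u})
  let P := (DQCoh.sec U).pt.obj (⊤ : U.Opens)
  suffices H : Subsingleton ((DCoh.restrictD j).obj ((sg).obj (L N)) ⟶ E') from Subsingleton.elim _ _
  obtain ⟨η⟩ := H8Constr.nonempty_restrict_iso_of_isGen ((G N).isGen i)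
  let e₁ : P ≅ (DCoh.restrictD j).obj ((sg).obj (L N)) :=
    (DerivedCategory.singleFunctor U.Modules 0).mapIso (DQCoh.topStructIso U ≪≫ η.symm) ≪≫
      ((Scheme.Modules.restrictFunctor j).mapDerivedCategorySingleFunctor 0).symm.app (L N)
  suffices Subsingleton (P ⟶ E') from e₁.homFromEquiv.symm.subsingleton
  have hqc : DCoh.IsQCohD ((DerivedCategory.singleFunctor U.Modules 0).obj M') := fun p => by
    by_cases hp : p = 0
    · subst hp
      exact Coherent.isQCoh_of_iso ((DerivedCategory.singleFunctorCompHomologyFunctorIso U.Modules 0).app M').symm (h := hM')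
    · rcases lt_or_gt_of_ne hp with hlt | hlt
      · exact Coherent.isQCoh_of_isZero (DerivedCategory.isZero_of_isGE _ 0 p hlt)
      · exact Coherent.isQCoh_of_isZero (DerivedCategory.isZero_of_isLE _ 0 p hlt)
  have hz : IsZero (DCoh.HD E' 0) := by
    refine IsZero.of_iso ?_ (((DerivedCategory.homologyFunctor U.Modules 0).shiftIso q 0 q (by omega)).app _)
    rcases lt_or_gt_of_ne hq with hlt | hlt
    · exact DerivedCategory.isZero_of_isGE _ 0 q hlt
    · exact DerivedCategory.isZero_of_isLE _ 0 q hlt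
  refine subsingleton_of_forall_eq 0 fun y => (DQCoh.bijective_θ E' (DQCoh.isQCohD_shift hqc q) (isAffineOpen_top U)).1 ?_
  exact hz.eq_of_tgt _ _

theorem mono_lift_units (F : C.ι → X.Modules) (M : X.Modules) [HasBiproduct F]
    (η : ∀ i, M ⟶ F i) (hη : ∀ i, Mono ((Scheme.Modules.restrictFunctor (C.D i).ι).map (η i))) :
    Mono (biproduct.lift η) := by
  refine Preadditive.mono_of_kernel_zero ((ModStalk.isZero_of_stalks fun x => ?_).eq_of_src _ _)
  obtain ⟨i, hi⟩ := TopologicalSpace.Opens.mem_iSup.1 (C.cover.ge (Set.mem_univ x))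
  haveI := PullPerf.preservesFiniteLimits_restrict (C.D i).ι
  haveI := hη i
  let R := Scheme.Modules.restrictFunctor (C.D i).ι
  haveI : Mono (R.map (kernel.ι (biproduct.lift η))) := Functor.map_mono _ _
  have hz : IsZero (R.obj (kernel (biproduct.lift η))) := by
    refine IsZero.of_mono_eq_zero (R.map (kernel.ι (biproduct.lift η))) ?_
    rw [← cancel_mono (R.map (η i)), zero_comp, ← R.map_comp, ← biproduct.lift_π η i, ← Category.assoc,
      kernel.condition, zero_comp, R.map_zero]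
  haveI := DCat.SuppOpen.subsingleton_of_isZero_stalkFunctor _ (⟨x, hi⟩ : (C.D i : Scheme.{u}))
    ((DerSch.stalkFunctor _ _).map_isZero hz)
  haveI := DCat.SuppOpen.subsingleton_stalk_of_restrict (C.D i).ι (kernel (biproduct.lift η)) ⟨x, hi⟩ this
  exact DCat.SuppOpen.isZero_stalkFunctor (h := this) _ x

/-- A quasi-coherent module embeds into one without higher maps from the twists. -/
theorem exists_embed (G : ∀ N, C.Gens (L N) N) (M : X.Modules) [Coh.IsQCoh M] :
    ∃ (P M'' : X.Modules) (m : M ⟶ P) (p : P ⟶ M'') (w : m ≫ p = 0), (ShortComplex.mk m p w).ShortExact ∧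
      Coh.IsQCoh P ∧ Coh.IsQCoh M'' ∧
      ∀ (N : ℕ) (q : ℤ), q ≠ 0 → ∀ e : (sg).obj (L N) ⟶ ((sg).obj P)⟦q⟧, e = 0 := by
  have := C.finite
  cases nonempty_fintype C.ι
  classical
  let F : C.ι → X.Modules := fun i => (Scheme.Modules.pushforward (C.D i).ι).obj
    ((Scheme.Modules.restrictFunctor (C.D i).ι).obj M)
  let η : ∀ i, M ⟶ F i := fun i => (Scheme.Modules.restrictAdjunction (C.D i).ι).unit.app M
  have hη : ∀ i, Mono ((Scheme.Modules.restrictFunctor (C.D i).ι).map (η i)) := fun i =>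
    mono_of_mono_fac ((Scheme.Modules.restrictAdjunction (C.D i).ι).left_triangle_components M)
  haveI := mono_lift_units F M η hη
  have hF : ∀ i, Coh.IsQCoh (F i) := fun i => by
    haveI := isAffineHom_ι (C.isAffine i)
    haveI : Coh.IsQCoh ((Scheme.Modules.restrictFunctor (C.D i).ι).obj M) :=
      (inferInstance : Coh.IsQCoh (M.restrict (C.D i).ι))
    exact Coherent.isQCoh_push (C.D i).ι _
  haveI := Coherent.isQCoh_biproduct F hF
  refine ⟨⨁ F, cokernel (biproduct.lift η), biproduct.lift η, cokernel.π _, cokernel.condition _,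
    { exact := ShortComplex.exact_cokernel _ }, inferInstance, Coherent.isQCoh_cokernel_of_mono _,
    fun N q hq e => ?_⟩
  have h : e = ∑ i, e ≫ ((sg).map (biproduct.π F i ≫ biproduct.ι F i))⟦q⟧' := by
    rw [← Preadditive.comp_sum, ← Functor.map_sum, ← Functor.map_sum, biproduct.total, CategoryTheory.Functor.map_id,
      CategoryTheory.Functor.map_id, Category.comp_id]
  rw [h]
  refine Finset.sum_eq_zero fun i _ => ?_
  rw [Functor.map_comp, Functor.map_comp, ← Category.assoc,
    eq_zero_push G i M q hq (e ≫ ((sg).map (biproduct.π F i))⟦q⟧'), zero_comp]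

/-- Higher classes of quasi-coherent modules are killed. -/
theorem killed_class : ∀ (q : ℕ) (M : X.Modules) (_ : Coh.IsQCoh M) (N : ℕ)
    (e : (sg).obj (L N) ⟶ ((sg).obj M)⟦((q + 1 : ℕ) : ℤ)⟧), Killed C G i₀ N e := by
  intro q
  induction q with
  | zero =>
    intro M hM N e
    obtain ⟨P, M'', m, p, w, hS, hP, hM'', hv⟩ := exists_embed G M
    have h1 : e ≫ ((sg).map m)⟦(1 : ℤ)⟧' = 0 := hv N 1 one_ne_zero _
    obtain ⟨e', he⟩ := Triangle.coyoneda_exact₁ _ hS.singleTriangle_distinguished e h1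
    change (sg).obj (L N) ⟶ (sg).obj M'' at e'
    obtain ⟨ψ, rfl⟩ := (sg).map_surjective e'
    haveI : Coh.IsQCoh (ShortComplex.mk m p w).X₁ := hM
    obtain ⟨y, hy⟩ := Coherent.sections_surjective hS (C.isAffine i₀) (ψ.app _ ((G N).τ i₀))
    obtain ⟨N₀, hN₀⟩ := C.exists_compat (M := P) i₀ y
    obtain ⟨t, ht, ht₀⟩ := hN₀ (N + N₀) (Nat.le_add_left _ _)
    obtain ⟨φ, hφ⟩ := C.exists_hom (G (N + N₀)) t ht
    obtain ⟨k, hk⟩ := exists_pw_eq_zero (i₀ := i₀) (φ ≫ p - pw C G i₀ N N₀ ≫ ψ) (by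
      rw [Scheme.Modules.Hom.sub_app]
      change (φ ≫ p).app _ _ - (pw C G i₀ N N₀ ≫ ψ).app _ _ = 0
      rw [Scheme.Modules.Hom.comp_app,
        Scheme.Modules.Hom.comp_app, ConcreteCategory.comp_apply, ConcreteCategory.comp_apply, hφ, ht₀, pw_spec,
        C.g_self, one_pow, one_smul, sub_eq_zero]
      exact hy)
    rw [Preadditive.comp_sub, sub_eq_zero] at hk
    refine killed_of_pw N₀ (killed_of_pw_eq_zero k ?_)
    have hz : (sg).map p ≫ hS.singleδ = 0 := comp_distTriang_mor_zero₂₃ _ hS.singleTriangle_distinguished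
    rw [he]
    change (sg).map _ ≫ (sg).map _ ≫ (sg).map ψ ≫ hS.singleδ = 0
    rw [← Functor.map_comp_assoc, ← Functor.map_comp_assoc, Category.assoc, ← hk, ← Category.assoc,
      Functor.map_comp_assoc, hz, comp_zero]
  | succ q ih =>
    intro M hM N e
    obtain ⟨P, M'', m, p, w, hS, hP, hM'', hv⟩ := exists_embed G M
    let j : ℤ := ((q + 1 : ℕ) : ℤ)
    let T := (Triangle.shiftFunctor (DCoh.D X) j).obj hS.singleTriangle
    have hT : T ∈ distTriang _ := Triangle.shift_distinguished _ hS.singleTriangle_distinguished j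
    let c : ((sg).obj M)⟦((q + 1 + 1 : ℕ) : ℤ)⟧ ≅ (((sg).obj M)⟦j⟧)⟦(1 : ℤ)⟧ :=
      (shiftFunctorAdd' (DCoh.D X) j 1 _ (by simp only [j]; push_cast; ring)).app _
    let c' : ((sg).obj P)⟦((q + 1 + 1 : ℕ) : ℤ)⟧ ≅ (((sg).obj P)⟦j⟧)⟦(1 : ℤ)⟧ :=
      (shiftFunctorAdd' (DCoh.D X) j 1 _ (by simp only [j]; push_cast; ring)).app _
    have h1 : (e ≫ c.hom) ≫ T.mor₁⟦(1 : ℤ)⟧' = 0 := by
      rw [← cancel_mono c'.inv, zero_comp]
      exact hv N _ (by omega) _
    obtain ⟨e', he⟩ := Triangle.coyoneda_exact₁ _ hT (e ≫ c.hom) h1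
    have h2 := (ih M'' hM'' N e').comp (T.mor₃ ≫ c.inv)
    rwa [← Category.assoc, ← he, Category.assoc, c.hom_inv_id, Category.comp_id] at h2

end Groth.Agent.Dual22Lib.TwistSys
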