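import Groth.Agent.Dual22Lib.BCMain
import Groth.Prelude.Def_Dual3
import Mathlib.CategoryTheory.Adjunction.Mates

/-!
# The map `xi` is the mate of base change
-/

set_option autoImplicit false
set_option backward.isDefEq.respectTransparency false
set_option backward.defeqAttrib.useBackward true
set_option linter.style.haveILetI false
set_option linter.unusedSectionVars false
set_option synthInstance.maxHeartbeats 100000

universe u

open CategoryTheory CategoryTheory.Limits AlgebraicGeometry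
open Groth.Agent.DCat Groth.Agent.Dual22Lib.BCSquare

attribute [local instance] HasDerivedCategory.standard

namespace Groth.Agent.Dual22Lib.XiIso

variable {X Y X' Y' : Scheme.{u}} {f : X ⟶ Y} {g : Y' ⟶ Y} {f' : X' ⟶ Y'} {g' : X' ⟶ X}
  [DCoh.HasRpush f] [DCoh.HasRpush f'] [DCoh.HasRpush g] [DCoh.HasRpush g']
  {hf : DCoh.RpushPreservesQCoh f} {hf' : DCoh.RpushPreservesQCoh f'}
  {hg : DCoh.RpushPreservesQCoh g} {hg' : DCoh.RpushPreservesQCoh g'}

theorem lpullPreservesQCoh {Z W : Scheme.{u}} (h : Z ⟶ W) [DCoh.HasLpull h] : Dual3.LpullPreservesQCoh h :=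
  fun K hK => DQCoh.isQCohD_Lpull h K hK

/-- Base change on `DQCoh`: some `e` and some adjunctions. -/
theorem exists_bcQ [DCoh.HasLpull g] [DCoh.HasLpull g'] (hLg : Dual3.LpullPreservesQCoh g)
    (hLg' : Dual3.LpullPreservesQCoh g') (w : g' ≫ f = f' ≫ g) (hgood : Good f g f' g') :
    ∃ (adjg : Dual3.LpullQ g hLg ⊣ DCoh.RpushQ g hg) (adjg' : Dual3.LpullQ g' hLg' ⊣ DCoh.RpushQ g' hg')
      (e : DCoh.RpushQ g' hg' ⋙ DCoh.RpushQ f hf ≅ DCoh.RpushQ f' hf' ⋙ DCoh.RpushQ g hg),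
      ∀ E, IsIso ((BCAlg.bc adjg adjg' e).app E) := by
  obtain ⟨a⟩ := nonempty_pullPushAdj g
  obtain ⟨a'⟩ := nonempty_pullPushAdj g'
  obtain ⟨e₀⟩ := exists_e w
  have ff : ∀ S : Scheme.{u}, (ObjectProperty.ι (DCoh.IsQCohD (X := S))).FullyFaithful :=
    fun S => ObjectProperty.fullyFaithfulι _
  let cF : ObjectProperty.ι _ ⋙ DCoh.Rpush f ≅ DCoh.RpushQ f hf ⋙ ObjectProperty.ι _ := Iso.refl _
  let cF' : ObjectProperty.ι _ ⋙ DCoh.Rpush f' ≅ DCoh.RpushQ f' hf' ⋙ ObjectProperty.ι _ := Iso.refl _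
  let cR : ObjectProperty.ι _ ⋙ DCoh.Rpush g ≅ DCoh.RpushQ g hg ⋙ ObjectProperty.ι _ := Iso.refl _
  let cR' : ObjectProperty.ι _ ⋙ DCoh.Rpush g' ≅ DCoh.RpushQ g' hg' ⋙ ObjectProperty.ι _ := Iso.refl _
  let cL : ObjectProperty.ι _ ⋙ DCoh.Lpull g ≅ Dual3.LpullQ g hLg ⋙ ObjectProperty.ι _ := Iso.refl _
  let cL' : ObjectProperty.ι _ ⋙ DCoh.Lpull g' ≅ Dual3.LpullQ g' hLg' ⋙ ObjectProperty.ι _ := Iso.refl _
  refine ⟨a.restrictFullyFaithful (ff Y) (ff Y') cL cR, a'.restrictFullyFaithful (ff X) (ff X') cL' cR',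
    BCAlg.conjE (ff Y) cF cF' cR cR' e₀, fun E => ?_⟩
  exact (BCAlg.isIso_bc_conj_iff (ff X) (ff X') (ff Y) (ff Y') a a' cF cF' cL cR cL' cR' e₀ E).1
    (hgood inferInstance inferInstance inferInstance inferInstance inferInstance inferInstance a a' e₀ E.obj E.property)

variable {a : DCoh.DQCoh Y ⥤ DCoh.DQCoh X} {a' : DCoh.DQCoh Y' ⥤ DCoh.DQCoh X'}

/-- `xi` is the conjugate of base change. -/
theorem isIso_xi [DCoh.HasLpull g] [DCoh.HasLpull g'] {hLg : Dual3.LpullPreservesQCoh g}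
    {hLg' : Dual3.LpullPreservesQCoh g'} (adj : DCoh.RpushQ f hf ⊣ a) (adj' : DCoh.RpushQ f' hf' ⊣ a')
    (adjg : Dual3.LpullQ g hLg ⊣ DCoh.RpushQ g hg) (adjg' : Dual3.LpullQ g' hLg' ⊣ DCoh.RpushQ g' hg')
    (e : DCoh.RpushQ g' hg' ⋙ DCoh.RpushQ f hf ≅ DCoh.RpushQ f' hf' ⋙ DCoh.RpushQ g hg)
    (h : ∀ E, IsIso ((BCAlg.bc adjg adjg' e).app E)) (M : DCoh.DQCoh Y') : IsIso (Dual3.xi adj adj' e M) := by
  haveI := h
  let τ := BCAlg.bc adjg adjg' e
  haveI : IsIso τ := NatIso.isIso_of_isIso_app _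
  have key : (conjugateEquiv (adjg'.comp adj') (adj.comp adjg) τ).app M = Dual3.xi adj adj' e M := by
    rw [conjugateEquiv_apply_app, Dual3.xi, adj.homEquiv_unit]
    simp only [Adjunction.comp_unit_app, Adjunction.comp_counit_app, Functor.comp_map, Functor.comp_obj,
      Category.assoc]
    congr 1
    simp only [← Functor.map_comp]
    congr 1
    let E := (DCoh.RpushQ g' hg').obj (a'.obj M)
    have h1 : adjg.unit.app ((DCoh.RpushQ f hf).obj E) ≫ (DCoh.RpushQ g hg).map (τ.app E) =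
        (DCoh.RpushQ f hf).map (adjg'.unit.app E) ≫ e.hom.app ((Dual3.LpullQ g' hLg').obj E) :=
      (adjg.homEquiv_unit _ _ _).symm.trans (BCAlg.unit_bc adjg adjg' e E)
    have h2 := e.hom.naturality (adjg'.counit.app (a'.obj M))
    simp only [Functor.comp_map, Functor.comp_obj] at h2
    simp only [Functor.map_comp]
    rw [reassoc_of% h1, ← reassoc_of% h2, ← Functor.map_comp_assoc, adjg'.right_triangle_components]
    erw [CategoryTheory.Functor.map_id, Category.id_comp]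
  rw [← key]
  infer_instance

/-- `xi` is invertible when base change holds. -/
theorem exists_isIso_xi (w : g' ≫ f = f' ≫ g) (hgood : Good f g f' g') (adj : DCoh.RpushQ f hf ⊣ a)
    (adj' : DCoh.RpushQ f' hf' ⊣ a') :
    ∃ e : (DCoh.RpushQ g' hg' ⋙ DCoh.RpushQ f hf ≅ DCoh.RpushQ f' hf' ⋙ DCoh.RpushQ g hg),
      ∀ M : DCoh.DQCoh Y', IsIso (Dual3.xi adj adj' e M) := by
  haveI := hasLpull g
  haveI := hasLpull g'
  obtain ⟨adjg, adjg', e, he⟩ := exists_bcQ (hf := hf) (hf' := hf') (hg := hg) (hg' := hg')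
    (lpullPreservesQCoh g) (lpullPreservesQCoh g') w hgood
  exact ⟨e, isIso_xi adj adj' adjg adjg' e he⟩

end Groth.Agent.Dual22Lib.XiIso
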